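import Mathlib
import Cfsg.Prelude.Def_GeometricClasses
import Cfsg.Agent.Lib.Helper15.MonoA
import Cfsg.Agent.Lib.Helper15.SLNormal
import Cfsg.Agent.Lib.Helper21.BlkTV

/-!
Corollaries of the hub S5630 (rows S5775, S5781, ...): general-`n` lemmas, part (a) (helper29):
`SL_n` perfect, `hproper` from maximality, `eq_of_le_member`, and PROPERNESS: `SL_n` lies in no member of the
geometric classes (subspace stabilisers, decomposition stabilisers, subfield groups, symplectic-type normalisers,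
similarity groups).
-/

set_option autoImplicit false
set_option linter.unusedSectionVars false
set_option linter.unusedVariables false

namespace Cfsg.Agent.Lib.Helper29.AschCor

open Matrix Cfsg.Geo
open Cfsg.Agent.Lib.Helper15.MonoMax
open scoped commutatorElement

variable {F : Type*} [Field F] {n : ℕ}

/-! ### `SL_n` as a subgroup of `GL_n` -/

theorem range_toGL : (Matrix.SpecialLinearGroup.toGL : Matrix.SpecialLinearGroup (Fin n) F →* GL (Fin n) F).range =
    specialLinear (Fin n) F := by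
  ext g
  rw [mem_SL_iff]
  constructor
  · rintro ⟨A, rfl⟩
    exact A.2
  · intro h
    exact ⟨⟨(g : Matrix (Fin n) (Fin n) F), h⟩, Units.ext rfl⟩

theorem sl_normal : (specialLinear (Fin n) F).Normal := by
  unfold specialLinear
  exact MonoidHom.normal_ker _

/-- G-PERF (a) -/
theorem sl_perfect (hn : 3 ≤ n) :
    ⁅specialLinear (Fin n) F, specialLinear (Fin n) F⁆ = specialLinear (Fin n) F := by
  have h := Cfsg.Agent.Lib.Helper15.SLn_commutator_eq_top (F := F) (ι := Fin n) (by rw [Fintype.card_fin]; exact hn)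
  have h2 := Subgroup.map_commutator (⊤ : Subgroup (Matrix.SpecialLinearGroup (Fin n) F)) ⊤
    (Matrix.SpecialLinearGroup.toGL : Matrix.SpecialLinearGroup (Fin n) F →* GL (Fin n) F)
  rw [← MonoidHom.range_eq_map, range_toGL] at h2
  rw [← h2]
  have h3 : ⁅(⊤ : Subgroup (Matrix.SpecialLinearGroup (Fin n) F)), ⊤⁆ = ⊤ := h
  rw [h3, ← MonoidHom.range_eq_map, range_toGL]

theorem scalar_comm (z g : GL (Fin n) F) (hz : z ∈ scalars (Fin n) F) : z * g = g * z := by
  rw [mem_scalars_iff] at hz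
  obtain ⟨c, hc⟩ := hz
  apply Units.ext
  rw [Units.val_mul, Units.val_mul, hc, Matrix.smul_mul, Matrix.mul_smul, Matrix.one_mul, Matrix.mul_one]

/-- G-PERF (b) -/
theorem hproper_of_max (hn : 3 ≤ n) (H : Subgroup (GL (Fin n) F))
    (hH : IsMaximalIn (specialLinear (Fin n) F) H) :
    H ⊔ (scalars (Fin n) F ⊓ specialLinear (Fin n) F) ≠ specialLinear (Fin n) F := by
  intro heq
  haveI : (specialLinear (Fin n) F).Normal := sl_normal
  haveI : (scalars (Fin n) F ⊓ specialLinear (Fin n) F).Normal := Subgroup.normal_inf_normal _ _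
  have hle : ⁅specialLinear (Fin n) F, specialLinear (Fin n) F⁆ ≤ H := by
    rw [Subgroup.commutator_le]
    intro g₁ hg₁ g₂ hg₂
    rw [← heq, Subgroup.mem_sup_of_normal_right] at hg₁ hg₂
    obtain ⟨h₁, hh₁, z₁, hz₁, rfl⟩ := hg₁
    obtain ⟨h₂, hh₂, z₂, hz₂, rfl⟩ := hg₂
    have c1 : ∀ g : GL (Fin n) F, z₁ * g = g * z₁ := fun g => scalar_comm z₁ g hz₁.1
    have c2 : ∀ g : GL (Fin n) F, z₂ * g = g * z₂ := fun g => scalar_comm z₂ g hz₂.1
    have : ⁅h₁ * z₁, h₂ * z₂⁆ = ⁅h₁, h₂⁆ := by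
      rw [commutatorElement_def, commutatorElement_def, _root_.mul_inv_rev, _root_.mul_inv_rev]
      have e1 : h₁ * z₁ * (h₂ * z₂) * (z₁⁻¹ * h₁⁻¹) * (z₂⁻¹ * h₂⁻¹) =
          h₁ * (z₁ * (h₂ * z₂) * z₁⁻¹) * h₁⁻¹ * (z₂⁻¹ * h₂⁻¹) := by group
      rw [e1, c1 (h₂ * z₂), mul_inv_cancel_right]
      have e2 : h₁ * (h₂ * z₂) * h₁⁻¹ * (z₂⁻¹ * h₂⁻¹) = h₁ * h₂ * (z₂ * (h₁⁻¹ * z₂⁻¹)) * h₂⁻¹ := by group
      rw [e2, c2 (h₁⁻¹ * z₂⁻¹)]
      group
    rw [this]
    exact H.mul_mem (H.mul_mem (H.mul_mem hh₁ hh₂) (H.inv_mem hh₁)) (H.inv_mem hh₂)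
  rw [sl_perfect hn] at hle
  exact absurd hle (not_le_of_gt hH.1)

/-- G-EQ -/
theorem eq_of_le_member (H M : Subgroup (GL (Fin n) F))
    (hH : IsMaximalIn (specialLinear (Fin n) F) H) (hHM : H ≤ M)
    (hM : ¬ specialLinear (Fin n) F ≤ M) : H = M ⊓ specialLinear (Fin n) F := by
  have h1 : H ≤ M ⊓ specialLinear (Fin n) F := le_inf hHM hH.1.le
  rcases hH.2 _ h1 inf_le_right with h | h
  · exact h.symm
  · exact absurd (h ▸ inf_le_left) hM

end Cfsg.Agent.Lib.Helper29.AschCor
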