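import Mathlib
import Cfsg.Prelude.Def_GeometricClasses
import Cfsg.Agent.Lib.Helper15.MonoA
import Cfsg.Agent.Lib.Helper15.SLNormal
import Cfsg.Agent.Lib.Helper21.BlkTV
import Cfsg.Agent.Lib.Helper29.AschCorA

/-!
Corollaries of the hub S5630: PROPERNESS, part 1 (helper29): `SL_n` lies in no subspace stabiliser, decomposition
stabiliser, subfield group, symplectic-type normaliser.
-/

set_option autoImplicit false
set_option linter.unusedSectionVars false
set_option linter.unusedVariables false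

namespace Cfsg.Agent.Lib.Helper29.AschCor

open Matrix Cfsg.Geo
open Cfsg.Agent.Lib.Helper15.MonoMax
open scoped commutatorElement

variable {F : Type*} [Field F] {n : ℕ}

/-- a functional separating `w` from `a` when `w ∉ span {a}` -/
theorem exists_sep (a w : Fin n → F) (hw : w ∉ Submodule.span F {a}) :
    ∃ φ : Fin n → F, φ ⬝ᵥ w = 1 ∧ φ ⬝ᵥ a = 0 := by
  obtain ⟨φ, h1, h2⟩ := Cfsg.Agent.Lib.Helper21.BlkTV.exists_dual_vec (Submodule.span F {a}) w hw
  exact ⟨φ, h1, h2 a (Submodule.mem_span_singleton_self a)⟩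

/-- (G-b1) -/
theorem not_sl_le_subspaceStabilizer (hn : 2 ≤ n) (W : Submodule F (Fin n → F))
    (h0 : W ≠ ⊥) (h1 : W ≠ ⊤) : ¬ specialLinear (Fin n) F ≤ subspaceStabilizer W := by
  intro hle
  obtain ⟨w, hwW, hw0⟩ := Submodule.exists_mem_ne_zero_of_ne_bot h0
  obtain ⟨a, -, haW⟩ := SetLike.exists_of_lt (lt_top_iff_ne_top.mpr h1)
  have hwa : w ∉ Submodule.span F {a} := by
    intro h
    obtain ⟨c, rfl⟩ := Submodule.mem_span_singleton.mp h
    have hc : c ≠ 0 := by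
      rintro rfl
      exact hw0 (zero_smul _ _)
    apply haW
    have : a = c⁻¹ • (c • a) := by rw [smul_smul, inv_mul_cancel₀ hc, one_smul]
    rw [this]
    exact W.smul_mem _ hwW
  obtain ⟨φ, hφw, hφa⟩ := exists_sep a w hwa
  have ht := hle (tvGL_mem_SL a φ hφa)
  have h2 : w ∈ W ↔ ((tvGL a φ hφa : GL (Fin n) F) : Matrix (Fin n) (Fin n) F) *ᵥ w ∈ W := ht w
  rw [tvGL_val, tv_mulVec, hφw, one_smul] at h2
  have h3 := h2.mp hwW
  apply haW
  have : a = (w + a) - w := by abel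
  rw [this]
  exact W.sub_mem h3 hwW

/-- (G-b2) -/
theorem not_sl_le_decompositionStabilizer {t m : ℕ} (D : Fin t → Submodule F (Fin n → F))
    (hD : IsMDecomposition m D) : ¬ specialLinear (Fin n) F ≤ decompositionStabilizer D := by
  intro hle
  have ht2 := hD.two_le
  let i₀ : Fin t := ⟨0, by omega⟩
  let i₁ : Fin t := ⟨1, by omega⟩
  have h01 : i₀ ≠ i₁ := by
    intro h
    have := congrArg Fin.val h
    simp [i₀, i₁] at this
  have hne : ∀ i, D i ≠ ⊥ := by
    intro i h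
    have := hD.finrank_eq i
    rw [h, finrank_bot] at this
    have := hD.pos
    omega
  obtain ⟨a, haD, ha0⟩ := Submodule.exists_mem_ne_zero_of_ne_bot (hne i₀)
  obtain ⟨w, hwD, hw0⟩ := Submodule.exists_mem_ne_zero_of_ne_bot (hne i₁)
  have hdisj := hD.indep i₁
  have ha_sup : a ∈ ⨆ (j) (_ : j ≠ i₁), D j :=
    (le_iSup₂ (f := fun j (_ : j ≠ i₁) => D j) i₀ h01) haD
  have hwa : w ∉ Submodule.span F {a} := by
    intro h
    obtain ⟨c, rfl⟩ := Submodule.mem_span_singleton.mp h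
    have : c • a ∈ D i₁ ⊓ ⨆ (j) (_ : j ≠ i₁), D j := ⟨hwD, Submodule.smul_mem _ _ ha_sup⟩
    rw [hdisj.eq_bot] at this
    exact hw0 ((Submodule.mem_bot F).mp this)
  obtain ⟨φ, hφw, hφa⟩ := exists_sep a w hwa
  obtain ⟨σ, hσ⟩ := hle (tvGL_mem_SL a φ hφa)
  have himg : w + a ∈ D (σ i₁) := by
    rw [← hσ i₁]
    refine ⟨w, hwD, ?_⟩
    rw [Matrix.toLin'_apply, tvGL_val, tv_mulVec, hφw, one_smul]
  by_cases hj : σ i₁ = i₁
  · rw [hj] at himg
    have haD1 : a ∈ D i₁ := by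
      have : a = (w + a) - w := by abel
      rw [this]
      exact (D i₁).sub_mem himg hwD
    have : a ∈ D i₁ ⊓ ⨆ (j) (_ : j ≠ i₁), D j := ⟨haD1, ha_sup⟩
    rw [hdisj.eq_bot] at this
    exact ha0 ((Submodule.mem_bot F).mp this)
  · have hwa_sup : w + a ∈ ⨆ (j) (_ : j ≠ i₁), D j :=
      (le_iSup₂ (f := fun j (_ : j ≠ i₁) => D j) (σ i₁) hj) himg
    have hw_sup : w ∈ ⨆ (j) (_ : j ≠ i₁), D j := by
      have : w = (w + a) - a := by abel
      rw [this]
      exact Submodule.sub_mem _ hwa_sup ha_sup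
    have : w ∈ D i₁ ⊓ ⨆ (j) (_ : j ≠ i₁), D j := ⟨hwD, hw_sup⟩
    rw [hdisj.eq_bot] at this
    exact hw0 ((Submodule.mem_bot F).mp this)

/-- (G-b5) -/
theorem not_sl_le_subfieldSubgroup (hn : 2 ≤ n) (F₀ : Subfield F) (h : F₀ ≠ ⊤)
    (P : GL (Fin n) F) : ¬ specialLinear (Fin n) F ≤ subfieldSubgroup F₀ P := by
  intro hle
  haveI : (specialLinear (Fin n) F).Normal := sl_normal
  obtain ⟨c, -, hc⟩ := SetLike.exists_of_lt (lt_top_iff_ne_top.mpr h)
  let i0 : Fin n := ⟨0, by omega⟩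
  let i1 : Fin n := ⟨1, by omega⟩
  have h01 : i0 ≠ i1 := by
    intro h
    have := congrArg Fin.val h
    simp [i0, i1] at this
  have hφa : (Pi.single i1 c : Fin n → F) ⬝ᵥ (Pi.single i0 1) = 0 := by
    rw [single_dotProduct, Pi.single_eq_of_ne h01.symm, mul_zero]
  set t : GL (Fin n) F := tvGL (Pi.single i0 1) (Pi.single i1 c) hφa with ht
  have htSL : t ∈ specialLinear (Fin n) F := tvGL_mem_SL _ _ hφa
  have hconj : P * t * P⁻¹ ∈ specialLinear (Fin n) F := ‹(specialLinear (Fin n) F).Normal›.conj_mem t htSL P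
  have hmem := hle hconj
  unfold subfieldSubgroup at hmem
  rw [Subgroup.mem_map] at hmem
  obtain ⟨x, hx, hxe⟩ := hmem
  have hxt : x = t := by
    have h1 : P * x * P⁻¹ = P * t * P⁻¹ := hxe
    have h2 := congrArg (fun g => P⁻¹ * g * P) h1
    simpa [mul_assoc] using h2
  rw [hxt, Subgroup.mem_sup_of_normal_right] at hx
  obtain ⟨y, ⟨y₀, rfl⟩, z, hz, hyz⟩ := hx
  rw [mem_scalars_iff] at hz
  obtain ⟨lam, hlam⟩ := hz
  have hval : ((Matrix.GeneralLinearGroup.map (F₀.subtype : F₀ →+* F) y₀ : GL (Fin n) F) : Matrix (Fin n) (Fin n) F) *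
      ((lam : F) • (1 : Matrix (Fin n) (Fin n) F)) = tv (Pi.single i0 1) (Pi.single i1 c) := by
    rw [← hlam, ← Units.val_mul, hyz, ht, tvGL_val]
  have hent : ∀ i j, ((y₀ : Matrix (Fin n) (Fin n) F₀) i j : F) * (lam : F) =
      tv (Pi.single i0 (1 : F)) (Pi.single i1 c) i j := by
    intro i j
    rw [← hval, Matrix.mul_smul, Matrix.mul_one, Matrix.smul_apply, smul_eq_mul, mul_comm]
    rfl
  have h00 := hent i0 i0
  have h01' := hent i0 i1
  simp only [tv, Matrix.add_apply, Matrix.one_apply_eq, vecMulVec_apply, Pi.single_eq_same,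
    Pi.single_eq_of_ne h01, mul_zero, add_zero, Matrix.one_apply_ne h01, one_mul, zero_add] at h00 h01'
  have hlam0 : (lam : F) ≠ 0 := lam.ne_zero
  have hy00 : ((y₀ : Matrix (Fin n) (Fin n) F₀) i0 i0 : F) ≠ 0 := by
    intro h0
    rw [h0, zero_mul] at h00
    exact zero_ne_one h00
  have hlamF₀ : (lam : F) ∈ F₀ := by
    have : (lam : F) = ((y₀ : Matrix (Fin n) (Fin n) F₀) i0 i0 : F)⁻¹ := by
      field_simp
      rw [mul_comm]; exact h00
    rw [this]
    exact F₀.inv_mem (SetLike.coe_mem _)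
  apply hc
  rw [← h01']
  exact F₀.mul_mem (SetLike.coe_mem _) hlamF₀

theorem proper_of_card (F₀ : Subfield F) [Fintype F] (r : ℕ) (hr : r.Prime)
    (hc : Fintype.card F = Nat.card F₀ ^ r) : F₀ ≠ ⊤ := by
  rintro rfl
  have h1 : Nat.card (⊤ : Subfield F) = Fintype.card F := by
    rw [← Nat.card_eq_fintype_card]
    exact Nat.card_congr (Subfield.topEquiv (K := F)).toEquiv
  rw [h1] at hc
  have h2 : 1 < Fintype.card F := Fintype.one_lt_card
  have h3 : Fintype.card F ^ 1 < Fintype.card F ^ r := Nat.pow_lt_pow_right h2 hr.one_lt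
  rw [pow_one] at h3
  omega

/-- (G-b5), with the cardinality hypothesis of `InLinearClass` -/
theorem not_sl_le_subfieldSubgroup' [Fintype F] (hn : 2 ≤ n) (F₀ : Subfield F) (r : ℕ) (hr : r.Prime)
    (hc : Fintype.card F = Nat.card F₀ ^ r) (P : GL (Fin n) F) :
    ¬ specialLinear (Fin n) F ≤ subfieldSubgroup F₀ P :=
  not_sl_le_subfieldSubgroup hn F₀ (proper_of_card F₀ r hr hc) P

end Cfsg.Agent.Lib.Helper29.AschCor
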