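import Mathlib
import Cfsg.Prelude.Def_GeometricClasses
import Cfsg.Agent.Lib.Helper15.MonoA
import Cfsg.Agent.Lib.Helper15.SLNormal
import Cfsg.Agent.Lib.Helper21.BlkTV
import Cfsg.Agent.Lib.Helper29.AschCorA

/-!
Corollaries of the hub S5630: PROPERNESS, part 2 (helper29): `SL_n` lies in no symplectic-type normaliser;
`quadSimilarityGroup Q ≤ similarityGroup (polar Q)`.
-/

set_option autoImplicit false
set_option linter.unusedSectionVars false
set_option linter.unusedVariables false

namespace Cfsg.Agent.Lib.Helper29.AschCor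

open Matrix Cfsg.Geo
open Cfsg.Agent.Lib.Helper15.MonoMax
open scoped commutatorElement

variable {F : Type*} [Field F] {n : ℕ}

theorem tv_mul_tv (a φ ψ : Fin n → F) (h : φ ⬝ᵥ a = 0) : tv a φ * tv a ψ = tv a (φ + ψ) := by
  unfold tv
  rw [add_mul, mul_add, mul_add, one_mul, mul_one, one_mul, Matrix.vecMulVec_mul_vecMulVec, h, zero_smul,
    Matrix.vecMulVec_zero, Matrix.vecMulVec_add]
  abel

theorem tv_pow (a φ : Fin n → F) (h : φ ⬝ᵥ a = 0) (k : ℕ) : tv a φ ^ k = tv a (k • φ) := by
  induction k with
  | zero =>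
    rw [pow_zero, zero_smul]
    unfold tv
    rw [Matrix.vecMulVec_zero, add_zero]
  | succ k ih =>
    rw [pow_succ, ih, add_smul, one_smul]
    have hk : (k • φ) ⬝ᵥ a = 0 := by rw [smul_dotProduct, h, smul_zero]
    rw [tv_mul_tv a (k • φ) φ hk]

theorem tvGL_pow_char (p : ℕ) [CharP F p] (a φ : Fin n → F) (h : φ ⬝ᵥ a = 0) : tvGL a φ h ^ p = 1 := by
  apply Units.ext
  rw [Units.val_pow_eq_pow_val, tvGL_val, tv_pow a φ h, Units.val_one]
  have : (p • φ : Fin n → F) = 0 := by
    ext i
    rw [Pi.smul_apply, nsmul_eq_mul, CharP.cast_eq_zero F p, zero_mul, Pi.zero_apply]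
  rw [this]
  unfold tv
  rw [Matrix.vecMulVec_zero, add_zero]

/-- (G-b9) the normaliser of a symplectic-type group does not contain `SL_n` -/
theorem not_sl_le_sympNormalizer [Fintype F] (hn : 3 ≤ n) (r : ℕ) (R : Subgroup (GL (Fin n) F))
    (hR : IsLinearSymplecticTypeData r R) :
    ¬ specialLinear (Fin n) F ≤ subgroupNormalizer R := by
  intro hle
  haveI : Nontrivial (Fin n) := Fin.nontrivial_iff_two_le.mpr (by omega)
  have hperf := Cfsg.Agent.Lib.Helper15.SLn_commutator_eq_top (F := F) (ι := Fin n)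
    (by rw [Fintype.card_fin]; exact hn)
  have hG : ∀ s : Matrix.SpecialLinearGroup (Fin n) F, ∀ g ∈ R,
      (Matrix.SpecialLinearGroup.toGL s) * g * (Matrix.SpecialLinearGroup.toGL s)⁻¹ ∈ R := by
    intro s g hg
    have hs : Matrix.SpecialLinearGroup.toGL s ∈ specialLinear (Fin n) F := by
      rw [← range_toGL]; exact ⟨s, rfl⟩
    have := hle hs
    unfold subgroupNormalizer at this
    exact (Subgroup.mem_set_normalizer_iff.mp this g).mp hg
  let i0 : Fin n := ⟨0, by omega⟩
  let i1 : Fin n := ⟨1, by omega⟩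
  have h01 : i0 ≠ i1 := by
    intro h
    have := congrArg Fin.val h
    simp [i0, i1] at this
  rcases Cfsg.Agent.Lib.Helper15.SLn_normal_dichotomy hperf R hG with hsc | hsl
  · -- `R` consists of scalars: not irreducible
    have hirr := hR.absIrred.1
    have hinv : ∀ s ∈ matrixSet R,
        (Submodule.span F {(Pi.single i0 1 : Fin n → F)}).map (Matrix.toLin' s) ≤
          Submodule.span F {(Pi.single i0 1 : Fin n → F)} := by
      rintro s ⟨g, hg, rfl⟩
      obtain ⟨c, hc⟩ := hsc g hg
      rintro _ ⟨x, hx, rfl⟩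
      change Matrix.toLin' ((g : Matrix (Fin n) (Fin n) F)) x ∈ _
      rw [Matrix.toLin'_apply, hc, Matrix.smul_mulVec, Matrix.one_mulVec]
      exact Submodule.smul_mem _ _ hx
    rcases hirr _ hinv with h | h
    · have hmem : (Pi.single i0 1 : Fin n → F) ∈ Submodule.span F {(Pi.single i0 1 : Fin n → F)} :=
        Submodule.mem_span_singleton_self _
      rw [h, Submodule.mem_bot] at hmem
      have := congrFun hmem i0
      simp at this
    · have hmem : (Pi.single i1 1 : Fin n → F) ∈ Submodule.span F {(Pi.single i0 1 : Fin n → F)} := by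
        rw [h]; trivial
      obtain ⟨c, hc⟩ := Submodule.mem_span_singleton.mp hmem
      have := congrFun hc i1
      rw [Pi.smul_apply, Pi.single_eq_of_ne h01.symm, smul_zero, Pi.single_eq_same] at this
      exact zero_ne_one this
  · -- `SL ≤ R`: a transvection of order `p` in an `r`-group
    obtain ⟨p, e, hrp, hmin, -⟩ := hR.field
    obtain ⟨hp, hchar, -⟩ := hmin
    haveI := hchar
    have hφa : (Pi.single i1 1 : Fin n → F) ⬝ᵥ (Pi.single i0 1) = 0 := by
      rw [single_dotProduct, Pi.single_eq_of_ne h01.symm, mul_zero]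
    set t : GL (Fin n) F := tvGL (Pi.single i0 1) (Pi.single i1 1) hφa with ht
    have htR : t ∈ R := by
      apply hsl
      rw [range_toGL]
      exact tvGL_mem_SL _ _ hφa
    have htp : t ^ p = 1 := tvGL_pow_char p _ _ hφa
    obtain ⟨k, hk⟩ := hR.symplecticType.pGroup ⟨t, htR⟩
    have hk' : t ^ (r ^ k) = 1 := by
      have := congrArg Subtype.val hk
      simpa using this
    have hcop : Nat.Coprime (r ^ k) p := by
      apply Nat.Coprime.pow_left
      exact (Nat.coprime_primes hR.symplecticType.prime hp).mpr hrp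
    have ht1 : t = 1 := by
      have h1 : orderOf t ∣ r ^ k := orderOf_dvd_of_pow_eq_one hk'
      have h2 : orderOf t ∣ p := orderOf_dvd_of_pow_eq_one htp
      have h3 : orderOf t ∣ 1 := by
        have := Nat.dvd_gcd h1 h2
        rwa [hcop] at this
      exact orderOf_eq_one_iff.mp (Nat.dvd_one.mp h3)
    have hent := congrArg (fun g : GL (Fin n) F => (g : Matrix (Fin n) (Fin n) F) i0 i1) ht1
    simp only [ht, tvGL_val, tv, Matrix.add_apply, Matrix.one_apply_ne h01, vecMulVec_apply,
      Pi.single_eq_same, Units.val_one, mul_one, zero_add] at hent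
    exact one_ne_zero hent

/-- the quadratic similarity group lies in the similarity group of the polar form -/
theorem quadSimilarity_le_similarity_polar (Q : (Fin n → F) → F) :
    quadSimilarityGroup Q ≤ similarityGroup (QuadraticMap.polar Q) := by
  rintro g ⟨c, hc⟩
  refine ⟨c, fun u v => ?_⟩
  unfold QuadraticMap.polar
  rw [← Matrix.mulVec_add, hc, hc, hc]
  ring

end Cfsg.Agent.Lib.Helper29.AschCor
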