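import Mathlib
import Cfsg.Agent.Lib.Helper19.S3360FO5
set_option autoImplicit false

/-!
# S3360 farm-out FO-5b (for helper5): a minimal normal nonabelian subgroup of an `r`-group `R`
all of whose `G`-normal abelian subgroups are central in `G`
-/

namespace Cfsg.Agent.Lib.Helper29.S3360FO5b

open Subgroup

theorem FO5b {G : Type*} [Group G] [Finite G] (r : ℕ) (hr : r.Prime)
    (R : Subgroup G) (hRn : R.Normal) (hR : IsPGroup r R)
    (hna : ∃ x ∈ R, ∃ y ∈ R, x * y ≠ y * x)
    (hab : ∀ A : Subgroup G, A.Normal → A ≤ R → (∀ a ∈ A, ∀ b ∈ A, a * b = b * a) →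
      ∀ a ∈ A, ∀ h : G, a * h = h * a) :
    ∃ N : Subgroup G, N.Normal ∧ N ≤ R ∧ (∃ x ∈ N, ∃ y ∈ N, x * y ≠ y * x) ∧
      (∀ x ∈ N, ∀ y ∈ N, ∀ h : G, (x * y * x⁻¹ * y⁻¹) * h = h * (x * y * x⁻¹ * y⁻¹)) ∧
      (∀ x ∈ N, ∀ h : G, x ^ r * h = h * x ^ r) := by
  haveI : Fact r.Prime := ⟨hr⟩
  let S : Set (Subgroup G) := {N | N.Normal ∧ N ≤ R ∧ ∃ x ∈ N, ∃ y ∈ N, x * y ≠ y * x}
  have hS : S.Nonempty := ⟨R, hRn, le_refl R, hna⟩
  obtain ⟨N, hNS, hmin⟩ := (wellFounded_lt (α := Subgroup G)).has_min S hS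
  obtain ⟨hNn, hNR, hNna⟩ := hNS
  haveI := hNn
  -- every proper G-normal subgroup of N is abelian, hence central in G
  have hcentral : ∀ K : Subgroup G, K.Normal → K < N → ∀ k ∈ K, ∀ h : G, k * h = h * k := by
    intro K hKn hKN k hk h
    have hKab : ∀ a ∈ K, ∀ b ∈ K, a * b = b * a := by
      intro a ha b hb
      by_contra hne
      exact hmin K ⟨hKn, hKN.le.trans hNR, a, ha, b, hb, hne⟩ hKN
    exact hab K hKn (hKN.le.trans hNR) hKab k hk h
  -- N is nontrivial
  have hNne : N ≠ ⊥ := by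
    obtain ⟨x, hx, y, hy, hxy⟩ := hNna
    intro h
    rw [h, mem_bot] at hx hy
    apply hxy
    rw [hx, hy]
  haveI : Nontrivial ↥N := (Subgroup.nontrivial_iff_ne_bot N).2 hNne
  have hNp : IsPGroup r ↥N := hR.to_le hNR
  haveI : Group.IsNilpotent ↥N := hNp.isNilpotent
  -- derived subgroup is proper
  have hder : ⁅N, N⁆ < N := by
    have h1 : commutator ↥N < ⊤ := Group.IsSolvable.commutator_lt_top_of_nontrivial ↥N
    have h2 : (commutator ↥N).map N.subtype = ⁅N, N⁆ := N.map_subtype_commutator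
    refine lt_of_le_of_ne (commutator_le_left N N) ?_
    intro heq
    apply h1.ne
    rw [eq_top_iff]
    intro x _
    have hx : (x : G) ∈ ⁅N, N⁆ := by rw [heq]; exact x.2
    rw [← h2] at hx
    obtain ⟨y, hy, hyx⟩ := hx
    have : y = x := Subtype.ext hyx
    rw [← this]; exact hy
  have hdern : (⁅N, N⁆).Normal := inferInstance
  have hcl : ∀ x ∈ N, ∀ y ∈ N, ∀ h : G,
      (x * y * x⁻¹ * y⁻¹) * h = h * (x * y * x⁻¹ * y⁻¹) := by
    intro x hx y hy h
    exact hcentral _ hdern hder _ (commutator_mem_commutator hx hy) h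
  -- the power subgroup
  let P : Set G := {z | ∃ x ∈ N, z = x ^ r}
  set K₂ : Subgroup G := normalClosure P ⊔ ⁅N, N⁆ with hK₂
  have hK₂n : K₂.Normal := inferInstance
  have hPN : P ⊆ N := by
    rintro z ⟨x, hx, rfl⟩
    exact N.pow_mem hx r
  have hK₂le : K₂ ≤ N := sup_le (normalClosure_le_normal hPN) (commutator_le_left N N)
  -- K₂ is proper
  have hK₂lt : K₂ < N := by
    refine lt_of_le_of_ne hK₂le ?_
    intro heq
    haveI : Nontrivial (Abelianization ↥N) := by
      have h1 : commutator ↥N < ⊤ := Group.IsSolvable.commutator_lt_top_of_nontrivial ↥N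
      by_contra hnt
      rw [not_nontrivial_iff_subsingleton] at hnt
      apply h1.ne
      rw [eq_top_iff]
      intro x _
      rw [← Abelianization.ker_of, MonoidHom.mem_ker]
      exact Subsingleton.elim _ _
    have hAp : IsPGroup r (Abelianization ↥N) := by
      intro a
      obtain ⟨n, rfl⟩ := QuotientGroup.mk_surjective a
      obtain ⟨k, hk⟩ := hNp n
      refine ⟨k, ?_⟩
      have h := congrArg (Abelianization.of : ↥N →* Abelianization ↥N) hk
      rw [map_pow, map_one] at h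
      exact h
    obtain ⟨a, ha⟩ := Cfsg.Agent.Lib.Helper19.S3360FO.exists_not_pow r hAp
    obtain ⟨n, rfl⟩ := QuotientGroup.mk_surjective a
    let π : ↥N →* Abelianization ↥N := Abelianization.of
    let T : Subgroup G :=
      ((powMonoidHom r : Abelianization ↥N →* Abelianization ↥N).range.comap π).map N.subtype
    have hK₂T : K₂ ≤ T := by
      apply sup_le
      · show closure (Group.conjugatesOfSet P) ≤ T
        rw [closure_le]
        intro z hz
        rw [Group.mem_conjugatesOfSet_iff] at hz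
        obtain ⟨p, ⟨x, hx, rfl⟩, hconj⟩ := hz
        obtain ⟨c, hc⟩ := isConj_iff.1 hconj
        have hz' : z = (c * x * c⁻¹) ^ r := by rw [← hc, conj_pow]
        have hcx : c * x * c⁻¹ ∈ N := hNn.conj_mem x hx c
        rw [SetLike.mem_coe, mem_map]
        refine ⟨⟨c * x * c⁻¹, hcx⟩ ^ r, ?_, ?_⟩
        · rw [mem_comap, MonoidHom.mem_range]
          exact ⟨π ⟨c * x * c⁻¹, hcx⟩, by rw [powMonoidHom_apply, map_pow]⟩
        · rw [hz']; rfl
      · rw [← N.map_subtype_commutator]
        apply map_mono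
        intro y hy
        rw [mem_comap]
        have : π y = 1 := by
          rw [← MonoidHom.mem_ker]
          show y ∈ (Abelianization.of).ker
          rw [Abelianization.ker_of]; exact hy
        rw [this]; exact one_mem _
    have hn : (n : G) ∈ T := hK₂T (by rw [heq]; exact n.2)
    obtain ⟨y, hy, hyn⟩ := hn
    have hyn' : y = n := Subtype.ext hyn
    rw [SetLike.mem_coe, mem_comap, MonoidHom.mem_range] at hy
    obtain ⟨b, hb⟩ := hy
    rw [powMonoidHom_apply, hyn'] at hb
    exact ha b hb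
  have hpow : ∀ x ∈ N, ∀ h : G, x ^ r * h = h * x ^ r := by
    intro x hx h
    have hxr : x ^ r ∈ K₂ := by
      apply (le_sup_left : normalClosure P ≤ K₂)
      exact subset_normalClosure ⟨x, hx, rfl⟩
    exact hcentral _ hK₂n hK₂lt _ hxr h
  exact ⟨N, hNn, hNR, hNna, hcl, hpow⟩

end Cfsg.Agent.Lib.Helper29.S3360FO5b
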