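import Mathlib

/-!
# S3589 FO-1 (helper29): multiplicativity of the zero-count excess of quadratic forms in char 2
-/

set_option autoImplicit false
open Module QuadraticMap

namespace Cfsg.Agent.Lib.Helper29.S3589

variable {F : Type*} [Field F] [Fintype F]

/-- nonzero fibres of a quadratic form over a finite field of char 2 all have the same size -/
theorem card_fiber_eq [CharP F 2] [DecidableEq F] {V : Type*} [AddCommGroup V] [Module F V] [Fintype V]
    (Q : QuadraticForm F V) (c : F) (hc : c ≠ 0) :
    (Finset.univ.filter (fun v : V => Q v = c)).card =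
      (Finset.univ.filter (fun v : V => Q v = 1)).card := by
  obtain ⟨s, hs⟩ : IsSquare c := FiniteField.isSquare_of_char_two (ringChar.eq F 2) c
  have hs0 : s ≠ 0 := by
    rintro rfl
    apply hc
    rw [hs, mul_zero]
  apply Finset.card_bij (fun v _ => s⁻¹ • v)
  · intro v hv
    rw [Finset.mem_filter] at hv ⊢
    refine ⟨Finset.mem_univ _, ?_⟩
    rw [QuadraticMap.map_smul, hv.2, hs, smul_eq_mul]
    field_simp
  · intro v _ w _ h
    exact smul_right_injective V (inv_ne_zero hs0) h
  · intro w hw
    rw [Finset.mem_filter] at hw
    refine ⟨s • w, ?_, ?_⟩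
    · rw [Finset.mem_filter]
      refine ⟨Finset.mem_univ _, ?_⟩
      rw [QuadraticMap.map_smul, hw.2, hs, smul_eq_mul, mul_one]
    · rw [smul_smul, inv_mul_cancel₀ hs0, one_smul]

/-- the fibres partition: `|V| = N₀ + (q-1) N₁` -/
theorem card_eq_fibers [CharP F 2] [DecidableEq F] {V : Type*} [AddCommGroup V] [Module F V] [Fintype V]
    (Q : QuadraticForm F V) :
    Fintype.card V = (Finset.univ.filter (fun v : V => Q v = 0)).card +
      (Fintype.card F - 1) * (Finset.univ.filter (fun v : V => Q v = 1)).card := by
  have h1 : (Finset.univ : Finset V).card =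
      ∑ b ∈ (Finset.univ : Finset F), (Finset.univ.filter (fun v : V => Q v = b)).card :=
    Finset.card_eq_sum_card_fiberwise (f := fun v : V => Q v) (fun _ _ => Finset.mem_univ _)
  rw [Finset.card_univ] at h1
  rw [h1, ← Finset.add_sum_erase Finset.univ _ (Finset.mem_univ (0 : F))]
  congr 1
  have h2 : ∀ x ∈ (Finset.univ : Finset F).erase 0,
      (Finset.univ.filter (fun v : V => Q v = x)).card =
        (Finset.univ.filter (fun v : V => Q v = 1)).card := by
    intro x hx
    exact card_fiber_eq Q x (Finset.ne_of_mem_erase hx)
  rw [Finset.sum_congr rfl h2, Finset.sum_const, Finset.card_erase_of_mem (Finset.mem_univ _),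
    Finset.card_univ, smul_eq_mul]

theorem card_zero_prod [CharP F 2] {V W : Type*} [AddCommGroup V] [Module F V] [AddCommGroup W] [Module F W]
    [Finite V] [Finite W] (Q : QuadraticForm F V) (R : QuadraticForm F W) :
    ((Fintype.card F : ℤ) - 1) *
        ((Fintype.card F : ℤ) * (Nat.card {p : V × W // (Q.prod R) p = 0} : ℤ) - (Nat.card V : ℤ) * (Nat.card W : ℤ)) =
      ((Fintype.card F : ℤ) * (Nat.card {v : V // Q v = 0} : ℤ) - (Nat.card V : ℤ)) *
        ((Fintype.card F : ℤ) * (Nat.card {w : W // R w = 0} : ℤ) - (Nat.card W : ℤ)) := by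
  classical
  haveI : Fintype V := Fintype.ofFinite V
  haveI : Fintype W := Fintype.ofFinite W
  have hq1 : 1 ≤ Fintype.card F := Fintype.card_pos
  -- counts
  have hV := card_eq_fibers Q
  have hW := card_eq_fibers R
  have hN0 : Nat.card {v : V // Q v = 0} = (Finset.univ.filter (fun v : V => Q v = 0)).card := by
    rw [Nat.card_eq_fintype_card, Fintype.card_subtype]
  have hN0' : Nat.card {w : W // R w = 0} = (Finset.univ.filter (fun w : W => R w = 0)).card := by
    rw [Nat.card_eq_fintype_card, Fintype.card_subtype]
  -- the product count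
  have hM : Nat.card {p : V × W // (Q.prod R) p = 0} =
      (Finset.univ.filter (fun v : V => Q v = 0)).card * (Finset.univ.filter (fun w : W => R w = 0)).card
      + (Fintype.card F - 1) *
        ((Finset.univ.filter (fun v : V => Q v = 1)).card * (Finset.univ.filter (fun w : W => R w = 1)).card) := by
    rw [Nat.card_eq_fintype_card, Fintype.card_subtype]
    have h1 : (Finset.univ.filter (fun p : V × W => (Q.prod R) p = 0)).card =
        ∑ b ∈ (Finset.univ : Finset F),
          ((Finset.univ.filter (fun p : V × W => (Q.prod R) p = 0)).filter (fun p => Q p.1 = b)).card :=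
      Finset.card_eq_sum_card_fiberwise (f := fun p : V × W => Q p.1) (fun _ _ => Finset.mem_univ _)
    have h2 : ∀ b : F,
        ((Finset.univ.filter (fun p : V × W => (Q.prod R) p = 0)).filter (fun p => Q p.1 = b)).card =
          (Finset.univ.filter (fun v : V => Q v = b)).card *
            (Finset.univ.filter (fun w : W => R w = b)).card := by
      intro b
      rw [← Finset.card_product]
      congr 1
      ext p
      simp only [Finset.mem_filter, Finset.mem_univ, true_and, Finset.mem_product,
        QuadraticMap.prod_apply]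
      constructor
      · rintro ⟨h, hb⟩
        refine ⟨hb, ?_⟩
        rw [CharTwo.add_eq_zero] at h
        rw [← h, hb]
      · rintro ⟨h1, h2⟩
        refine ⟨?_, h1⟩
        rw [CharTwo.add_eq_zero, h1, h2]
    rw [h1, Finset.sum_congr rfl (fun b _ => h2 b),
      ← Finset.add_sum_erase Finset.univ _ (Finset.mem_univ (0 : F))]
    congr 1
    have h3 : ∀ x ∈ (Finset.univ : Finset F).erase 0,
        (Finset.univ.filter (fun v : V => Q v = x)).card * (Finset.univ.filter (fun w : W => R w = x)).card =
          (Finset.univ.filter (fun v : V => Q v = 1)).card *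
            (Finset.univ.filter (fun w : W => R w = 1)).card := by
      intro x hx
      rw [card_fiber_eq Q x (Finset.ne_of_mem_erase hx), card_fiber_eq R x (Finset.ne_of_mem_erase hx)]
    rw [Finset.sum_congr rfl h3, Finset.sum_const, Finset.card_erase_of_mem (Finset.mem_univ _),
      Finset.card_univ, smul_eq_mul]
  rw [hM, hN0, hN0', Nat.card_eq_fintype_card, Nat.card_eq_fintype_card, hV, hW]
  set N0 := (Finset.univ.filter (fun v : V => Q v = 0)).card
  set N1 := (Finset.univ.filter (fun v : V => Q v = 1)).card
  set N0' := (Finset.univ.filter (fun w : W => R w = 0)).card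
  set N1' := (Finset.univ.filter (fun w : W => R w = 1)).card
  push_cast [Nat.cast_sub hq1]
  ring

end Cfsg.Agent.Lib.Helper29.S3589
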