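import Mathlib

/-!
# S3589 FO-2 (helper29): the Singer model of the minus-type quadratic space of dimension `2d` in char 2
-/

set_option autoImplicit false
open Module QuadraticMap

namespace Cfsg.Agent.Lib.Helper29.S3589

variable {F : Type*} [Field F] [Fintype F]

theorem singer_minus_model [CharP F 2] (d : ℕ) (hd : 1 ≤ d) :
    ∃ (K : Type) (_ : Field K) (_ : Algebra F K) (_ : Finite K), Module.finrank F K = 2 * d ∧
      ∃ (Q : QuadraticForm F K) (ζ : Kˣ), (polarBilin Q).Nondegenerate ∧
        orderOf ζ = Fintype.card F ^ d + 1 ∧ ∀ x : K, Q ((ζ : K) * x) = Q x := by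
  classical
  haveI : Fact (Nat.Prime 2) := ⟨Nat.prime_two⟩
  haveI : NeZero (2 * d) := ⟨by omega⟩
  refine ⟨FiniteField.Extension F 2 (2 * d), inferInstance, inferInstance, inferInstance,
    FiniteField.finrank_extension F 2 (2 * d), ?_⟩
  set K := FiniteField.Extension F 2 (2 * d) with hK
  haveI : Fintype K := Fintype.ofFinite K
  haveI : CharP K 2 := charP_of_injective_algebraMap (algebraMap F K).injective 2
  set q := Fintype.card F with hq
  have hq2 : 2 ≤ q := Fintype.one_lt_card
  have hqN : Nat.card F = q := Nat.card_eq_fintype_card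
  have hcardK : Fintype.card K = q ^ (2 * d) := by
    rw [← Nat.card_eq_fintype_card, FiniteField.natCard_extension, hqN]
  have hqd : 2 ≤ q ^ d := by
    calc 2 ≤ q := hq2
      _ = q ^ 1 := (pow_one q).symm
      _ ≤ q ^ d := Nat.pow_le_pow_right (by omega) hd
  have hfac : q ^ (2 * d) - 1 = (q ^ d - 1) * (q ^ d + 1) := by
    have h1 : q ^ (2 * d) = q ^ d * q ^ d := by rw [two_mul, pow_add]
    rw [h1]
    have : 1 ≤ q ^ d := by omega
    obtain ⟨m, hm⟩ : ∃ m, q ^ d = m + 1 := ⟨q ^ d - 1, by omega⟩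
    rw [hm]
    simp only [Nat.add_sub_cancel]
    have : (m + 1) * (m + 1) - 1 = m * (m + 1 + 1) := by
      have : (m + 1) * (m + 1) = m * (m + 1 + 1) + 1 := by ring
      rw [this, Nat.add_sub_cancel]
    rw [this]
  -- the involution σ
  set σ : K ≃ₐ[F] K := (FiniteField.Extension.frob F 2 (2 * d)) ^ d with hσ
  have hσx : ∀ x : K, σ x = x ^ (q ^ d) := by
    intro x
    rw [hσ, FiniteField.Extension.frob_iterate_apply, hqN]
  have hσσ : ∀ x : K, σ (σ x) = x := by
    intro x
    rw [hσx, hσx, ← pow_mul, ← pow_add, ← two_mul, ← hcardK, FiniteField.pow_card]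
  -- generator of the unit group
  obtain ⟨g, hg⟩ := IsCyclic.exists_generator (α := Kˣ)
  have hgo : orderOf g = q ^ (2 * d) - 1 := by
    rw [orderOf_eq_card_of_forall_mem_zpowers hg, Nat.card_eq_fintype_card, Fintype.card_units,
      hcardK]
  -- θ moved by σ
  have hθ : ∃ θ : K, σ θ ≠ θ := by
    by_contra hcon
    push Not at hcon
    have h1 : (g : K) ^ (q ^ d) = (g : K) := by rw [← hσx]; exact hcon _
    have h2 : g ^ (q ^ d - 1) = 1 := by
      apply Units.ext
      rw [Units.val_pow_eq_pow_val, Units.val_one]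
      have h3 : (g : K) ^ (q ^ d - 1) * (g : K) = (g : K) := by
        rw [← pow_succ, Nat.sub_add_cancel (by omega)]
        exact h1
      have h4 : (g : K) ≠ 0 := g.ne_zero
      exact mul_right_cancel₀ h4 (by rw [h3, one_mul])
    have h3 : orderOf g ∣ q ^ d - 1 := orderOf_dvd_of_pow_eq_one h2
    rw [hgo, hfac] at h3
    have h4 : (q ^ d - 1) * (q ^ d + 1) ≤ q ^ d - 1 := Nat.le_of_dvd (by omega) h3
    have h5 : (q ^ d - 1) * 2 ≤ (q ^ d - 1) * (q ^ d + 1) := Nat.mul_le_mul_left _ (by omega)
    omega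
  obtain ⟨θ, hθ⟩ := hθ
  -- ζ
  set ζ : Kˣ := g ^ (q ^ d - 1) with hζ
  have hζo : orderOf ζ = q ^ d + 1 := by
    rw [hζ, orderOf_pow' g (by omega : q ^ d - 1 ≠ 0), hgo, hfac,
      Nat.gcd_eq_right (Dvd.intro _ rfl)]
    exact Nat.mul_div_cancel_left _ (by omega)
  have hζσ : (ζ : K) * σ (ζ : K) = 1 := by
    rw [hσx, ← pow_succ', ← Units.val_pow_eq_pow_val, ← hζo, pow_orderOf_eq_one, Units.val_one]
  -- the bilinear map
  let B : LinearMap.BilinMap F K F :=
    LinearMap.mk₂ F (fun x y => Algebra.trace F K (θ * x * σ y))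
      (fun x x' y => by
        show Algebra.trace F K (θ * (x + x') * σ y) = _
        rw [mul_add, add_mul, map_add])
      (fun c x y => by
        show Algebra.trace F K (θ * (c • x) * σ y) = _
        rw [mul_smul_comm, smul_mul_assoc, map_smul])
      (fun x y y' => by
        show Algebra.trace F K (θ * x * σ (y + y')) = _
        rw [map_add, mul_add, map_add])
      (fun c x y => by
        show Algebra.trace F K (θ * x * σ (c • y)) = _
        rw [map_smul, mul_smul_comm, map_smul])
  have hB : ∀ x y, B x y = Algebra.trace F K (θ * x * σ y) := fun _ _ => rfl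
  set Q : QuadraticForm F K := LinearMap.BilinMap.toQuadraticMap B with hQ
  have hQx : ∀ x, Q x = Algebra.trace F K (θ * x * σ x) := by
    intro x
    rw [hQ, LinearMap.BilinMap.toQuadraticMap_apply, hB]
  have hη : θ + σ θ ≠ 0 := by
    intro h
    apply hθ
    rw [CharTwo.add_eq_zero] at h
    exact h.symm
  have hpolar : ∀ x y, polar Q x y = Algebra.trace F K ((θ + σ θ) * x * σ y) := by
    intro x y
    have h1 : polar Q x y = B x y + B y x := by
      unfold polar
      rw [hQ, LinearMap.BilinMap.toQuadraticMap_apply, LinearMap.BilinMap.toQuadraticMap_apply,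
        LinearMap.BilinMap.toQuadraticMap_apply, map_add, map_add, LinearMap.add_apply,
        LinearMap.add_apply]
      abel
    rw [h1, hB, hB]
    have h2 : Algebra.trace F K (θ * y * σ x) = Algebra.trace F K (σ θ * x * σ y) := by
      rw [← Algebra.trace_eq_of_algEquiv σ (θ * y * σ x), map_mul σ, map_mul σ, hσσ]
      congr 1
      ring
    rw [h2, ← map_add]
    congr 1
    ring
  have hsepL : ∀ x : K, (∀ y, polar Q x y = 0) → x = 0 := by
    intro x hx
    have h1 : ∀ z : K, Algebra.traceForm F K ((θ + σ θ) * x) z = 0 := by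
      intro z
      rw [Algebra.traceForm_apply]
      have := hx (σ z)
      rw [hpolar, hσσ] at this
      exact this
    have h2 := (traceForm_nondegenerate F K).1 _ h1
    rcases mul_eq_zero.1 h2 with h | h
    · exact absurd h hη
    · exact h
  refine ⟨Q, ζ, ⟨?_, ?_⟩, ?_, ?_⟩
  · intro x hx
    exact hsepL x hx
  · intro y hy
    apply hsepL y
    intro x
    rw [polar_comm]
    exact hy x
  · exact hζo
  · intro x
    rw [hQx, hQx, map_mul σ]
    congr 1
    calc θ * (↑ζ * x) * (σ ↑ζ * σ x) = (↑ζ * σ ↑ζ) * (θ * x * σ x) := by ring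
      _ = θ * x * σ x := by rw [hζσ, one_mul]

end Cfsg.Agent.Lib.Helper29.S3589
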