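import Mathlib
import Cfsg.Agent.H5.SharpTwoNF
import Cfsg.Agent.Lib.Helper4.PSLp2
import Cfsg.Agent.Lib.Helper3.CardSL
import Cfsg.Agent.Lib.Helper3.SLTransport

set_option autoImplicit false
set_option linter.unusedVariables false
set_option linter.unusedSectionVars false
set_option linter.style.haveILetI false
set_option linter.deprecated false

/-!
# Sharply 3-transitive groups of degree `2^f + 1` are `PSL₂(2^f)` (helper29)

Main result `Cfsg.Agent.Helper29.SharpThree.main`: a finite group acting 3-transitively on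
`2^f + 1` points such that only the identity fixes three points is isomorphic to `PSL₂(F)` for
every field `F` with `2^f` elements.
-/

namespace Cfsg.Agent.Helper29.SharpThree

open MulAction Cfsg.H5.SharpTwo

/-! ## Commutative near-fields are fields -/

section NearFieldToField

variable {α : Type*} [NF : Cfsg.NearField α]

theorem nf_zero_mul (a : α) : (0 : α) * a = 0 := by
  have h := Cfsg.NearField.right_distrib (0 : α) 0 a
  rw [add_zero] at h
  have h2 : (0 : α) * a + 0 * a = 0 * a + 0 := by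
    rw [add_zero]
    exact h.symm
  exact add_left_cancel h2

theorem nf_left_distrib (hmul : ∀ a b : α, a * b = b * a) (a b c : α) :
    a * (b + c) = a * b + a * c := by
  rw [hmul a (b + c), Cfsg.NearField.right_distrib, hmul b a, hmul c a]

/-- the commutative ring structure of a commutative near-field -/
@[reducible] def commRingOfNF (hmul : ∀ a b : α, a * b = b * a)
    (hadd : ∀ a b : α, a + b = b + a) : CommRing α :=
  { NF.toAddGroup, NF.toMonoid with
    add_comm := hadd
    left_distrib := nf_left_distrib hmul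
    right_distrib := Cfsg.NearField.right_distrib
    zero_mul := nf_zero_mul
    mul_zero := Cfsg.NearField.mul_zero
    mul_comm := hmul }

open Classical in
/-- the field structure of a commutative near-field -/
@[reducible] noncomputable def fieldOfNF (hmul : ∀ a b : α, a * b = b * a)
    (hadd : ∀ a b : α, a + b = b + a) : Field α :=
  { commRingOfNF hmul hadd with
    inv := fun a => if h : a = 0 then 0 else Classical.choose (Cfsg.NearField.exists_inv a h)
    exists_pair_ne := ⟨0, 1, Cfsg.NearField.zero_ne_one⟩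
    mul_inv_cancel := fun a ha => by
      show a * (if h : a = 0 then 0 else Classical.choose (Cfsg.NearField.exists_inv a h)) = 1
      rw [dif_neg ha]
      exact (Classical.choose_spec (Cfsg.NearField.exists_inv a ha)).1
    inv_zero := dif_pos rfl
    nnqsmul := _
    nnqsmul_def := fun _ _ => rfl
    qsmul := _
    qsmul_def := fun _ _ => rfl }

end NearFieldToField

theorem charP_two_of_card {K : Type*} [Field K] [Fintype K] (f : ℕ)
    (h : Fintype.card K = 2 ^ f) : CharP K 2 := by
  obtain ⟨p, hp⟩ := CharP.exists K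
  obtain ⟨n, hpp, hn⟩ := FiniteField.card K p
  have h1 : p ∣ 2 ^ f := by
    rw [← h, hn]
    exact dvd_pow_self p n.ne_zero
  have h2 : p = 2 := (Nat.prime_dvd_prime_iff_eq hpp Nat.prime_two).mp (hpp.dvd_of_dvd_pow h1)
  rw [← h2]
  exact hp

/-! ## Recognition from the affine maps and the inversion -/

section Recognize

open OnePoint Cfsg.Agent.Lib.Helper9.Mobius

variable {K : Type*} [Field K] [Fintype K]
variable {G Ω : Type*} [Group G] [Finite G] [MulAction G Ω]

/-- **Recognition of `PSL₂(K)` in characteristic 2**: the point stabilizer acts by affine maps,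
one element acts as the inversion, and the order is right. -/
theorem recog (hchar : CharP K 2) (pt : OnePoint K → Ω) (hpt : Function.Bijective pt)
    (hfaith : ∀ g : G, (∀ x : Ω, g • x = x) → g = 1)
    (hB1 : ∀ g : G, g • pt ∞ = pt ∞ → ∃ a b : K, a ≠ 0 ∧
      ∀ x : K, g • pt (x : OnePoint K) = pt ((x * a + b : K) : OnePoint K))
    (t : G) (ht1 : t • pt ∞ = pt ((0 : K) : OnePoint K))
    (ht2 : t • pt ((0 : K) : OnePoint K) = pt ∞)
    (ht3 : ∀ x : K, x ≠ 0 → t • pt (x : OnePoint K) = pt ((x⁻¹ : K) : OnePoint K))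
    (hB3 : ∀ b : K, ∃ g : G, g • pt ∞ = pt ∞ ∧
      g • pt ((0 : K) : OnePoint K) = pt (b : OnePoint K))
    (hcard : Fintype.card K * (Fintype.card K ^ 2 - 1) ≤ Nat.card G) :
    Nonempty (G ≃* Matrix.ProjectiveSpecialLinearGroup (Fin 2) K) := by
  classical
  haveI := hchar
  let e : OnePoint K ≃ Ω := Equiv.ofBijective pt hpt
  let ι : Ω → OnePoint K := e.symm
  have hιpt : ∀ y, ι (pt y) = y := fun y => e.symm_apply_apply y
  have hptι : ∀ x, pt (ι x) = x := fun x => e.apply_symm_apply x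
  have hι : Function.Bijective ι := e.symm.bijective
  have crit : ∀ (g : G) (S : Matrix.SpecialLinearGroup (Fin 2) K),
      (∀ y : OnePoint K, g • pt y = pt (Matrix.SpecialLinearGroup.toGL S • y)) →
      g ∈ mobiusSubgroup (F := K) ι := by
    intro g S h
    refine ⟨S, fun x => ?_⟩
    have h1 := h (ι x)
    rw [hptι] at h1
    rw [h1, hιpt]
  have M1 : ∀ g : G, g • pt ∞ = pt ∞ → g ∈ mobiusSubgroup (F := K) ι := by
    intro g hg
    obtain ⟨a, b, ha, hab⟩ := hB1 g hg
    obtain ⟨s, hs⟩ := FiniteField.isSquare_of_char_two (ringChar.eq K 2) a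
    have hs0 : s ≠ 0 := by
      rintro rfl
      apply ha
      rw [hs, mul_zero]
    have hdet : s * (1 / s) - (b / s) * 0 = 1 := by
      rw [mul_zero, sub_zero, mul_one_div, div_self hs0]
    apply crit g (mkSL s (b / s) 0 (1 / s) hdet)
    intro y
    induction y using OnePoint.rec with
    | infty => rw [mkSL_smul_infty, if_pos rfl, hg]
    | coe k =>
      have h1 : (0 : K) * k + 1 / s ≠ 0 := by
        rw [zero_mul, zero_add]
        exact one_div_ne_zero hs0
      have e1 : (s * k + b / s) / (0 * k + 1 / s) = k * a + b := by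
        rw [hs, zero_mul, zero_add]
        field_simp
      rw [mkSL_smul_coe, hab k, if_neg h1, e1]
  have M2 : t ∈ mobiusSubgroup (F := K) ι := by
    have hdet : (0 : K) * 0 - 1 * 1 = 1 := by
      rw [zero_mul, zero_sub, mul_one]
      exact CharTwo.neg_eq 1
    apply crit t (mkSL 0 1 1 0 hdet)
    intro y
    induction y using OnePoint.rec with
    | infty => rw [mkSL_smul_infty, if_neg one_ne_zero, ht1, zero_div]
    | coe k =>
      rw [mkSL_smul_coe]
      by_cases hk : k = 0
      · subst hk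
        have h0 : (1 : K) * 0 + 0 = 0 := by rw [mul_zero, add_zero]
        rw [if_pos h0, ht2]
      · have h1 : (1 : K) * k + 0 ≠ 0 := by
          rw [one_mul, add_zero]
          exact hk
        have e1 : ((0 : K) * k + 1) / (1 * k + 0) = k⁻¹ := by
          rw [zero_mul, zero_add, one_mul, add_zero, one_div]
        rw [if_neg h1, ht3 k hk, e1]
  have hall : ∀ g : G, g ∈ mobiusSubgroup (F := K) ι := by
    intro g
    by_cases hg : g • pt ∞ = pt ∞
    · exact M1 g hg
    · have hne : ι (g • pt ∞) ≠ ∞ := by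
        intro h
        apply hg
        rw [← hptι (g • pt ∞), h]
      obtain ⟨b, hb⟩ := OnePoint.ne_infty_iff_exists.mp hne
      have hgb : g • pt ∞ = pt (b : OnePoint K) := by
        rw [hb, hptι]
      obtain ⟨u, hu1, hu2⟩ := hB3 b
      have hw : (t⁻¹ * u⁻¹ * g) • pt ∞ = pt ∞ := by
        rw [mul_smul, mul_smul, hgb, ← hu2, inv_smul_smul, ← ht1, inv_smul_smul]
      have hmem := M1 _ hw
      have hprod : g = u * t * (t⁻¹ * u⁻¹ * g) := by group
      rw [hprod]
      exact mul_mem (mul_mem (M1 u hu1) M2) hmem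
  have hcardPSL : Nat.card (Matrix.ProjectiveSpecialLinearGroup (Fin 2) K) ≤ Nat.card G := by
    have e1 := Cfsg.Agent.Lib.Helper3.CardSL.card_PSL_mul (F := K) 2
    have e2 : Nat.card (Subgroup.center (Matrix.SpecialLinearGroup (Fin 2) K)) = 1 := by
      rw [Cfsg.Agent.Lib.Helper3.CardSL.center_SL2_eq_bot]
      exact Subgroup.card_bot
    have e3 := Cfsg.Agent.Lib.Helper3.CardSL.card_SL2 (F := K)
    rw [e2, mul_one, e3] at e1
    rw [e1]
    exact hcard
  exact Cfsg.Agent.Helper4.PSLp.nonempty_mulEquiv_PSL ι hι hfaith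
    (fun g => mem_mobiusSubgroup.mp (hall g)) hcardPSL

end Recognize

/-! ## The set-up: triple transitivity in elementwise form -/

section Main

/-- 3-transitivity in elementwise form -/
def T3 (G Ω : Type*) [Group G] [MulAction G Ω] : Prop :=
  ∀ a b c a' b' c' : Ω, a ≠ b → a ≠ c → b ≠ c → a' ≠ b' → a' ≠ c' → b' ≠ c' →
    ∃ g : G, g • a = a' ∧ g • b = b' ∧ g • c = c'

/-- only the identity fixes three points -/
def S3 (G Ω : Type*) [Group G] [MulAction G Ω] : Prop :=
  ∀ (g : G) (a b c : Ω), a ≠ b → a ≠ c → b ≠ c → g • a = a → g • b = b → g • c = c → g = 1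

/-- points other than `inf`, as a type acted upon by the stabilizer of `inf` -/
abbrev Pts (G : Type*) [Group G] {Ω : Type*} [MulAction G Ω] (inf : Ω) : Type _ :=
  ↥(SubMulAction.ofStabilizer G inf)

variable {G Ω : Type*} [Group G] [MulAction G Ω]

theorem pts_ne {inf : Ω} (x : Pts G inf) : (x : Ω) ≠ inf :=
  (SubMulAction.mem_ofStabilizer_iff G inf).mp x.2

/-- build a point -/
def mkPt {inf : Ω} (x : Ω) (hx : x ≠ inf) : Pts G inf :=
  ⟨x, (SubMulAction.mem_ofStabilizer_iff G inf).mpr hx⟩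

theorem sharp_stab (inf : Ω) (hS3 : S3 G Ω) : Sharp (stabilizer G inf) (Pts G inf) := by
  intro g a b hab ha hb
  apply Subtype.ext
  have ha' : (g : G) • (a : Ω) = a := congrArg Subtype.val ha
  have hb' : (g : G) • (b : Ω) = b := congrArg Subtype.val hb
  have hinf : (g : G) • inf = inf := mem_stabilizer_iff.mp g.2
  exact hS3 g inf a b (pts_ne a).symm (pts_ne b).symm (fun h => hab (Subtype.ext h)) hinf ha' hb'

theorem twoTrans_stab (inf : Ω) (hT3 : T3 G Ω) : TwoTrans (stabilizer G inf) (Pts G inf) := by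
  intro a b c d hab hcd
  obtain ⟨g, h1, h2, h3⟩ := hT3 inf a b inf c d (pts_ne a).symm (pts_ne b).symm
    (fun h => hab (Subtype.ext h)) (pts_ne c).symm (pts_ne d).symm (fun h => hcd (Subtype.ext h))
  exact ⟨⟨g, mem_stabilizer_iff.mpr h1⟩, Subtype.ext h2, Subtype.ext h3⟩

/-- an involution of a set of odd size, in a group where only the identity fixes three points,
has a unique fixed point -/
theorem unique_fixed_of_invol [Finite Ω] (hS3 : S3 G Ω) (hodd : Odd (Nat.card Ω)) (t : G)
    (ht : t ≠ 1) (ht2 : t * t = 1) (c : Ω) (hc : t • c = c) : ∀ d, t • d = d → d = c := by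
  classical
  haveI : Fintype Ω := Fintype.ofFinite Ω
  have : Fact (Nat.Prime 2) := ⟨Nat.prime_two⟩
  set σ : Equiv.Perm Ω := MulAction.toPerm t with hσ
  have hσ2 : σ ^ 2 ^ 1 = 1 := by
    rw [pow_one, pow_two]
    ext x
    simp only [hσ, Equiv.Perm.coe_mul, Function.comp_apply, MulAction.toPerm_apply,
      Equiv.Perm.coe_one, id_eq]
    rw [← mul_smul, ht2, one_smul]
  have hmod := Equiv.Perm.card_compl_support_modEq hσ2
  have hmem : ∀ x, x ∈ σ.supportᶜ ↔ t • x = x := by
    intro x
    simp [hσ, Equiv.Perm.mem_support]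
  intro d hd
  by_contra hdc
  have hc' : c ∈ σ.supportᶜ := (hmem c).2 hc
  have hd' : d ∈ σ.supportᶜ := (hmem d).2 hd
  have h2 : 2 ≤ σ.supportᶜ.card := by
    have hsub : ({d, c} : Finset Ω) ⊆ σ.supportᶜ := by
      intro x hx
      rw [Finset.mem_insert, Finset.mem_singleton] at hx
      rcases hx with rfl | rfl
      · exact hd'
      · exact hc'
    have hcard2 : ({d, c} : Finset Ω).card = 2 := Finset.card_pair hdc
    calc 2 = ({d, c} : Finset Ω).card := hcard2.symm
      _ ≤ σ.supportᶜ.card := Finset.card_le_card hsub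
  have hoddc : Odd σ.supportᶜ.card := by
    rw [Nat.card_eq_fintype_card] at hodd
    rw [Nat.odd_iff] at hodd ⊢
    rw [← hodd]
    exact hmod
  have h3 : 2 < σ.supportᶜ.card := by
    rcases hoddc with ⟨k, hk⟩
    omega
  obtain ⟨x, y, z, hx, hy, hz, hxy, hxz, hyz⟩ := Finset.two_lt_card_iff.1 h3
  rw [hmem] at hx hy hz
  exact ht (hS3 t x y z hxy hxz hyz hx hy hz)

/-- an element swapping `a` and `b` with unique fixed point `c` inverts the stabilizer of `a`
and `b`, which is therefore abelian -/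
theorem inverts_two_point_stab [Finite G] (hS3 : S3 G Ω) {a b c : Ω} (hab : a ≠ b)
    (hac : a ≠ c) (hbc : b ≠ c) (t : G) (hta : t • a = b) (htb : t • b = a) (htc : t • c = c)
    (ht2 : t * t = 1) (hfix : ∀ x : Ω, t • x = x → x = c) :
    (∀ h : G, h • a = a → h • b = b → t * h * t⁻¹ = h⁻¹) ∧
    (∀ h h' : G, h • a = a → h • b = b → h' • a = a → h' • b = b → h * h' = h' * h) := by
  classical
  have htinv : t⁻¹ = t := inv_eq_of_mul_eq_one_right ht2
  let H : Subgroup G := stabilizer G a ⊓ stabilizer G b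
  have hmemH : ∀ h : G, h ∈ H ↔ h • a = a ∧ h • b = b := by
    intro h
    rw [Subgroup.mem_inf, mem_stabilizer_iff, mem_stabilizer_iff]
  have hconj : ∀ h ∈ H, t * h * t⁻¹ ∈ H := by
    intro h hh
    rw [hmemH] at hh ⊢
    rw [htinv]
    constructor
    · rw [mul_smul, mul_smul, hta, hh.2, htb]
    · rw [mul_smul, mul_smul, htb, hh.1, hta]
  let φ : H →* H :=
    { toFun := fun h => ⟨t * h.1 * t⁻¹, hconj h.1 h.2⟩
      map_one' := by
        apply Subtype.ext
        show t * (1 : G) * t⁻¹ = 1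
        rw [mul_one, mul_inv_cancel]
      map_mul' := by
        intro x y
        apply Subtype.ext
        show t * (x.1 * y.1) * t⁻¹ = (t * x.1 * t⁻¹) * (t * y.1 * t⁻¹)
        group }
  have hφ : MonoidHom.FixedPointFree (φ : H → H) := by
    intro h hh
    have h1 : t * h.1 * t⁻¹ = h.1 := congrArg Subtype.val hh
    have h2 : t * h.1 = h.1 * t := by
      calc t * h.1 = t * h.1 * t⁻¹ * t := by group
        _ = h.1 * t := by rw [h1]
    have h3 : t • (h.1 • c) = h.1 • c := by
      rw [← mul_smul, h2, mul_smul, htc]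
    have h4 : h.1 • c = c := hfix _ h3
    have hh' := (hmemH h.1).mp h.2
    apply Subtype.ext
    exact hS3 h.1 a b c hab hac hbc hh'.1 hh'.2 h4
  have hinv : Function.Involutive φ := by
    intro h
    apply Subtype.ext
    show t * (t * h.1 * t⁻¹) * t⁻¹ = h.1
    rw [htinv]
    calc t * (t * h.1 * t) * t = (t * t) * h.1 * (t * t) := by group
      _ = h.1 := by rw [ht2, one_mul, mul_one]
  have key := hφ.coe_eq_inv_of_involutive hinv
  constructor
  · intro h ha hb
    have hh : h ∈ H := (hmemH h).mpr ⟨ha, hb⟩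
    have h1 := congrFun key ⟨h, hh⟩
    exact congrArg Subtype.val h1
  · intro h h' ha hb ha' hb'
    have hh : h ∈ H := (hmemH h).mpr ⟨ha, hb⟩
    have hh' : h' ∈ H := (hmemH h').mpr ⟨ha', hb'⟩
    have h1 := hφ.commute_all_of_involutive hinv ⟨h, hh⟩ ⟨h', hh'⟩
    exact congrArg Subtype.val h1.eq

/-! ## The near-field of the point stabilizer is a field -/

section WithNF

variable {inf : Ω} [NF : Cfsg.NearField (Pts G inf)]

theorem exists_dil
    (hN2 : ∀ a b : Pts G inf, a ≠ 0 → ∃ g : stabilizer G inf, ∀ x : Pts G inf, g • x = x * a + b)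
    (a : Pts G inf) (ha : a ≠ 0) :
    ∃ m : stabilizer G inf, (∀ x : Pts G inf, m • x = x * a) ∧
      (m : G) • ((0 : Pts G inf) : Ω) = ((0 : Pts G inf) : Ω) := by
  obtain ⟨m, hm⟩ := hN2 a 0 ha
  have hm' : ∀ x : Pts G inf, m • x = x * a := fun x => by rw [hm x, add_zero]
  refine ⟨m, hm', ?_⟩
  have h0 := hm' 0
  rw [nf_zero_mul] at h0
  exact congrArg Subtype.val h0

theorem nf_mul_comm
    (hN2 : ∀ a b : Pts G inf, a ≠ 0 → ∃ g : stabilizer G inf, ∀ x : Pts G inf, g • x = x * a + b)
    (hcommH : ∀ h h' : G, h • inf = inf → h • ((0 : Pts G inf) : Ω) = ((0 : Pts G inf) : Ω) →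
      h' • inf = inf → h' • ((0 : Pts G inf) : Ω) = ((0 : Pts G inf) : Ω) → h * h' = h' * h)
    (a b : Pts G inf) : a * b = b * a := by
  by_cases ha : a = 0
  · rw [ha, nf_zero_mul, Cfsg.NearField.mul_zero]
  by_cases hb : b = 0
  · rw [hb, nf_zero_mul, Cfsg.NearField.mul_zero]
  obtain ⟨ma, hma, h0a⟩ := exists_dil hN2 a ha
  obtain ⟨mb, hmb, h0b⟩ := exists_dil hN2 b hb
  have hc := hcommH ma mb (mem_stabilizer_iff.mp ma.2) h0a (mem_stabilizer_iff.mp mb.2) h0b
  have hc' : ma * mb = mb * ma := Subtype.ext hc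
  have e1 : (ma * mb) • (1 : Pts G inf) = b * a := by
    rw [mul_smul, hmb, one_mul, hma]
  have e2 : (mb * ma) • (1 : Pts G inf) = a * b := by
    rw [mul_smul, hma, one_mul, hmb]
  rw [← e2, ← e1, hc']

theorem nf_add_comm [Finite G] [Finite Ω] (hS : Sharp (stabilizer G inf) (Pts G inf))
    (hT : TwoTrans (stabilizer G inf) (Pts G inf))
    (hN2 : ∀ a b : Pts G inf, a ≠ 0 → ∃ g : stabilizer G inf, ∀ x : Pts G inf, g • x = x * a + b)
    (a b : Pts G inf) : a + b = b + a := by
  have hn : ∃ x y : Pts G inf, x ≠ y := ⟨0, 1, Cfsg.NearField.zero_ne_one⟩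
  have h10 : (1 : Pts G inf) ≠ 0 := fun h => Cfsg.NearField.zero_ne_one h.symm
  have htr : ∀ c : Pts G inf, ∃ τ : stabilizer G inf, τ ∈ kernel hS hT hn ∧
      ∀ x : Pts G inf, τ • x = x + c := by
    intro c
    obtain ⟨τ, hτ⟩ := hN2 1 c h10
    have hτ' : ∀ x : Pts G inf, τ • x = x + c := fun x => by rw [hτ x, mul_one]
    refine ⟨τ, ?_, hτ'⟩
    rw [mem_kernel]
    by_cases hc : c = 0
    · left
      apply hS τ 0 1 Cfsg.NearField.zero_ne_one
      · rw [hτ', hc, add_zero]
      · rw [hτ', hc, add_zero]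
    · right
      intro x hx
      rw [hτ'] at hx
      apply hc
      have hx' : x + c = x + 0 := by rw [hx, add_zero]
      exact add_left_cancel hx'
  obtain ⟨τa, hka, hτa⟩ := htr a
  obtain ⟨τb, hkb, hτb⟩ := htr b
  have hc := kernel_comm hS hT hn τa hka τb hkb
  have e1 : (τa * τb) • (0 : Pts G inf) = b + a := by rw [mul_smul, hτb, zero_add, hτa]
  have e2 : (τb * τa) • (0 : Pts G inf) = a + b := by rw [mul_smul, hτa, zero_add, hτb]
  rw [← e2, ← e1, hc]

theorem nf_inv_of_t
    (hN2 : ∀ a b : Pts G inf, a ≠ 0 → ∃ g : stabilizer G inf, ∀ x : Pts G inf, g • x = x * a + b)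
    (t : G)
    (hinvH : ∀ h : G, h • inf = inf → h • ((0 : Pts G inf) : Ω) = ((0 : Pts G inf) : Ω) →
      t * h * t⁻¹ = h⁻¹)
    (ht3 : t • ((1 : Pts G inf) : Ω) = ((1 : Pts G inf) : Ω))
    (a : Pts G inf) (ha : a ≠ 0) : ∃ b : Pts G inf, b * a = 1 ∧ t • (a : Ω) = (b : Ω) := by
  obtain ⟨m, hm, h0⟩ := exists_dil hN2 a ha
  refine ⟨m⁻¹ • (1 : Pts G inf), ?_, ?_⟩
  · rw [← hm, smul_inv_smul]
  · have ha1 : (a : Ω) = (m : G) • ((1 : Pts G inf) : Ω) := by
      have h1 := hm 1
      rw [one_mul] at h1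
      exact (congrArg Subtype.val h1).symm
    have hconj := hinvH m (mem_stabilizer_iff.mp m.2) h0
    rw [ha1]
    calc t • (m : G) • ((1 : Pts G inf) : Ω)
        = (t * m * t⁻¹) • (t • ((1 : Pts G inf) : Ω)) := by
          rw [← mul_smul, ← mul_smul]
          congr 1
          group
      _ = ((m : G))⁻¹ • ((1 : Pts G inf) : Ω) := by rw [hconj, ht3]
      _ = ((m⁻¹ • (1 : Pts G inf) : Pts G inf) : Ω) := rfl

end WithNF

/-- the coordinate map -/
def pt (inf : Ω) (y : OnePoint (Pts G inf)) : Ω := Option.elim y inf (fun x => (x : Ω))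

theorem pt_bijective (inf : Ω) : Function.Bijective (pt (G := G) inf) := by
  constructor
  · intro y z h
    induction y using OnePoint.rec with
    | infty =>
      induction z using OnePoint.rec with
      | infty => rfl
      | coe z => exact absurd h.symm (pts_ne z)
    | coe y =>
      induction z using OnePoint.rec with
      | infty => exact absurd h (pts_ne y)
      | coe z =>
        have hyz : y = z := Subtype.ext h
        rw [hyz]
  · intro x
    by_cases hx : x = inf
    · exact ⟨OnePoint.infty, hx.symm⟩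
    · exact ⟨((mkPt x hx : Pts G inf) : OnePoint (Pts G inf)), rfl⟩

/-- **Main theorem**: a sharply 3-transitive group of degree `2^f + 1` is `PSL₂(F)` for every
field `F` with `2^f` elements. -/
theorem main [Finite G] [Finite Ω] (f : ℕ) (hΩ : Nat.card Ω = 2 ^ f + 1) (hf : 1 ≤ f)
    (hT3 : T3 G Ω) (hS3 : S3 G Ω) (hcard : 2 ^ f * ((2 ^ f) ^ 2 - 1) ≤ Nat.card G)
    {F : Type*} [Field F] [Fintype F] (hF : Fintype.card F = 2 ^ f) :
    Nonempty (G ≃* Matrix.ProjectiveSpecialLinearGroup (Fin 2) F) := by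
  classical
  have h2f : 2 ≤ 2 ^ f := by
    calc 2 = 2 ^ 1 := by norm_num
      _ ≤ 2 ^ f := Nat.pow_le_pow_right (by norm_num) hf
  have hne : Nonempty Ω := by
    have hpos : 0 < Nat.card Ω := by omega
    exact (Nat.card_pos_iff.mp hpos).1
  obtain ⟨inf⟩ := hne
  have hS := sharp_stab inf hS3
  have hT := twoTrans_stab inf hT3
  have hcP : Nat.card (Pts G inf) = 2 ^ f := by
    have h1 : Nat.card (Pts G inf) + 1 = Nat.card Ω :=
      SubMulAction.nat_card_ofStabilizer_add_one_eq G inf
    omega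
  have hn : ∃ a b : Pts G inf, a ≠ b := by
    haveI : Nontrivial (Pts G inf) := by
      rw [← Finite.one_lt_card_iff_nontrivial, hcP]
      omega
    exact exists_pair_ne _
  obtain ⟨NF, hN1, hN2⟩ := exists_nearField hS hT hn
  have h0 : ((0 : Pts G inf) : Ω) ≠ inf := pts_ne _
  have h1 : ((1 : Pts G inf) : Ω) ≠ inf := pts_ne _
  have h01 : ((0 : Pts G inf) : Ω) ≠ ((1 : Pts G inf) : Ω) :=
    fun h => Cfsg.NearField.zero_ne_one (Subtype.ext h)
  obtain ⟨t, ht1, ht2, ht3⟩ := hT3 inf ((0 : Pts G inf) : Ω) ((1 : Pts G inf) : Ω)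
    ((0 : Pts G inf) : Ω) inf ((1 : Pts G inf) : Ω) h0.symm h1.symm h01 h0 h01 h1.symm
  have htt : t * t = 1 := by
    apply hS3 (t * t) inf ((0 : Pts G inf) : Ω) ((1 : Pts G inf) : Ω) h0.symm h1.symm h01
    · rw [mul_smul, ht1, ht2]
    · rw [mul_smul, ht2, ht1]
    · rw [mul_smul, ht3, ht3]
  have htne : t ≠ 1 := by
    intro h
    rw [h, one_smul] at ht1
    exact h0 ht1.symm
  have hodd : Odd (Nat.card Ω) := by
    rw [hΩ]
    obtain ⟨k, rfl⟩ : ∃ k, f = k + 1 := ⟨f - 1, by omega⟩
    exact ⟨2 ^ k, by rw [pow_succ]; ring⟩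
  have hfix := unique_fixed_of_invol hS3 hodd t htne htt ((1 : Pts G inf) : Ω) ht3
  obtain ⟨hinvH, hcommH⟩ :=
    inverts_two_point_stab hS3 h0.symm h1.symm h01 t ht1 ht2 ht3 htt hfix
  have F1 : ∀ a b : Pts G inf, a * b = b * a := nf_mul_comm hN2 hcommH
  have F2 : ∀ a b : Pts G inf, a + b = b + a := nf_add_comm hS hT hN2
  have F3 := nf_inv_of_t hN2 t hinvH ht3
  have hfaith : ∀ g : G, (∀ x : Ω, g • x = x) → g = 1 := fun g hg =>
    hS3 g inf ((0 : Pts G inf) : Ω) ((1 : Pts G inf) : Ω) h0.symm h1.symm h01 (hg _) (hg _) (hg _)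
  have B1 : ∀ g : G, g • inf = inf → ∃ a b : Pts G inf, a ≠ 0 ∧
      ∀ x : Pts G inf, g • (x : Ω) = ((x * a + b : Pts G inf) : Ω) := by
    intro g hg
    obtain ⟨a, b, ha, hab⟩ := hN1 ⟨g, mem_stabilizer_iff.mpr hg⟩
    exact ⟨a, b, ha, fun x => congrArg Subtype.val (hab x)⟩
  have B3 : ∀ b : Pts G inf, ∃ g : G, g • inf = inf ∧
      g • ((0 : Pts G inf) : Ω) = (b : Ω) := by
    intro b
    obtain ⟨g, hg⟩ := hN2 1 b (fun h => Cfsg.NearField.zero_ne_one h.symm)
    refine ⟨g, mem_stabilizer_iff.mp g.2, ?_⟩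
    have h3 := hg 0
    rw [nf_zero_mul, zero_add] at h3
    exact congrArg Subtype.val h3
  -- the field structure
  letI FK : Field (Pts G inf) := fieldOfNF F1 F2
  letI FT : Fintype (Pts G inf) := Fintype.ofFinite _
  have hcF : Fintype.card (Pts G inf) = 2 ^ f := by
    rw [← Nat.card_eq_fintype_card]
    exact hcP
  have hchar : CharP (Pts G inf) 2 := charP_two_of_card f hcF
  have hc2 : Fintype.card (Pts G inf) * (Fintype.card (Pts G inf) ^ 2 - 1) ≤ Nat.card G := by
    rw [hcF]
    exact hcard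
  have B2 : ∀ x : Pts G inf, x ≠ 0 →
      t • pt inf (x : OnePoint (Pts G inf)) = pt inf ((x⁻¹ : Pts G inf) : OnePoint (Pts G inf)) := by
    intro x hx
    obtain ⟨b, hb, hb2⟩ := F3 x hx
    have hbx : b = x⁻¹ := eq_inv_of_mul_eq_one_left hb
    rw [← hbx]
    exact hb2
  obtain ⟨e⟩ : Nonempty (G ≃* Matrix.ProjectiveSpecialLinearGroup (Fin 2) (Pts G inf)) :=
    recog hchar (pt inf) (pt_bijective inf) hfaith B1 t ht1 ht2 B2 B3 hc2
  have hcc : Fintype.card (Pts G inf) = Fintype.card F := by rw [hcF, hF]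
  let re : Pts G inf ≃+* F := FiniteField.ringEquivOfCardEq hcc
  exact ⟨e.trans (Cfsg.Agent.Lib.Helper3.SLTransport.quotientCenterEquiv
    (Cfsg.Agent.Lib.Helper3.SLTransport.mapEquiv re))⟩

end Main

end Cfsg.Agent.Helper29.SharpThree
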