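import Mathlib
import Cfsg.Agent.Lib.Helper3.SpTDefs

/-!
S5704 (architect helper3), piece L2 COMMb: the three commutator formulas `comm1`, `comm2`, `comm3`.
-/

set_option autoImplicit false

namespace Cfsg.Agent.Lib.Helper29.S5704COMMb

open Matrix Module QuadraticMap
open scoped Kronecker commutatorElement
open Cfsg.Agent.Lib.Helper16.Tens
open Cfsg.Agent.Lib.Helper3.SpT

variable {F : Type*} [Field F] {a b : ℕ} {J1 : Matrix (Fin a) (Fin a) F} {J2 : Matrix (Fin b) (Fin b) F}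

/-- a non-degenerate Gram matrix is invertible -/
theorem isUnit_of_sympG {κ : Type} [Fintype κ] [DecidableEq κ] {J : Matrix κ κ F} (hJ : SympG J) : IsUnit J := by
  rw [← Matrix.vecMul_injective_iff_isUnit]
  intro x y hxy
  replace hxy : x ᵥ* J = y ᵥ* J := hxy
  have h0 : x - y = 0 := by
    apply hJ.nondeg
    intro z
    unfold bf
    rw [Matrix.dotProduct_mulVec, Matrix.sub_vecMul, hxy, sub_self, zero_dotProduct]
  exact sub_eq_zero.mp h0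

theorem adj_neg' {κ : Type} [Fintype κ] [DecidableEq κ] {J : Matrix κ κ F} (C : Matrix κ κ F) :
    adj J (-C) = - adj J C := by
  unfold adj
  rw [Matrix.transpose_neg, Matrix.mul_neg, Matrix.neg_mul]

theorem adj_mul' {κ : Type} [Fintype κ] [DecidableEq κ] {J : Matrix κ κ F} (hJ : SympG J) (C D : Matrix κ κ F) :
    adj J (C * D) = adj J D * adj J C := by
  have hu : IsUnit J.det := (Matrix.isUnit_iff_isUnit_det J).mp (isUnit_of_sympG hJ)
  unfold adj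
  rw [Matrix.transpose_mul]
  have h1 : J⁻¹ * Dᵀ * J * (J⁻¹ * Cᵀ * J) = J⁻¹ * Dᵀ * (J * J⁻¹) * Cᵀ * J := by
    simp only [Matrix.mul_assoc]
  rw [h1, Matrix.mul_nonsing_inv J hu, Matrix.mul_one]
  simp only [Matrix.mul_assoc]

/-- formal expansion of a commutator of two square-zero unipotents -/
theorem comm_expand {R : Type*} [Ring R] (s t : R) (hs : s * s = 0) (ht : t * t = 0) (h1 : s * t * s = 0) :
    (1 + s) * (1 + t) * (1 - s) * (1 - t) = 1 + s * t - t * s + t * s * t := by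
  have e1 : (1 + s) * (1 + t) * (1 - s) = 1 + t + s * t - t * s - s * s - s * t * s := by noncomm_ring
  rw [hs, h1, sub_zero, sub_zero] at e1
  rw [e1]
  have e2 : (1 + t + s * t - t * s) * (1 - t) = 1 + s * t - t * s - t * t - s * (t * t) + t * s * t := by
    noncomm_ring
  rw [e2, ht, mul_zero, sub_zero, sub_zero]

theorem neg_kron {l m n p : Type*} (A : Matrix l m F) (B : Matrix n p F) : (-A) ⊗ₖ B = -(A ⊗ₖ B) := by
  ext i j
  simp [Matrix.kroneckerMap_apply, neg_mul]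

theorem kE_mul_kE (A B : Matrix (Fin a) (Fin a) F) (w w' y y' : Fin b → F) :
    (A ⊗ₖ E J2 w w') * (B ⊗ₖ E J2 y y') = bf J2 y w' • ((A * B) ⊗ₖ E J2 w y') := by
  rw [← Matrix.mul_kronecker_mul, E_mul_E, Matrix.kronecker_smul]

theorem TE_mul_TE (C D : Matrix (Fin a) (Fin a) F) (w w' y y' : Fin b → F) :
    TE J1 J2 C w w' * TE J1 J2 D y y' =
      bf J2 y w' • ((C * D) ⊗ₖ E J2 w y') + bf J2 y' w' • ((C * adj J1 D) ⊗ₖ E J2 w y)
        + bf J2 y w • ((adj J1 C * D) ⊗ₖ E J2 w' y') + bf J2 y' w • ((adj J1 C * adj J1 D) ⊗ₖ E J2 w' y) := by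
  unfold TE
  rw [add_mul, mul_add, mul_add, kE_mul_kE, kE_mul_kE, kE_mul_kE, kE_mul_kE]
  abel

theorem kE_mul_TE (α D : Matrix (Fin a) (Fin a) F) (k k' y y' : Fin b → F) :
    (α ⊗ₖ E J2 k k') * TE J1 J2 D y y' =
      bf J2 y k' • ((α * D) ⊗ₖ E J2 k y') + bf J2 y' k' • ((α * adj J1 D) ⊗ₖ E J2 k y) := by
  unfold TE
  rw [mul_add, kE_mul_kE, kE_mul_kE]

theorem TE_mul_kE (C β : Matrix (Fin a) (Fin a) F) (w w' k k' : Fin b → F) :
    TE J1 J2 C w w' * (β ⊗ₖ E J2 k k') =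
      bf J2 k w' • ((C * β) ⊗ₖ E J2 w k') + bf J2 k w • ((adj J1 C * β) ⊗ₖ E J2 w' k') := by
  unfold TE
  rw [add_mul, kE_mul_kE, kE_mul_kE]

theorem zA_inv_val (hJ2 : SympG J2) (α : Matrix (Fin a) (Fin a) F) (k : Fin b → F) :
    (((zA J2 hJ2 α k)⁻¹ : GL (Fin a × Fin b) F) : Matrix (Fin a × Fin b) (Fin a × Fin b) F) =
      1 - α ⊗ₖ E J2 k k := rfl

/-- `[e₀₁(C), e₁'₂(C')] = e₀₂(-CC')` -/
theorem comm1 (hJ1 : SympG J1) (hJ2 : SympG J2) (C C' : Matrix (Fin a) (Fin a) F) (w0 w1 w1' w2 : Fin b → F)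
    (h01 : bf J2 w0 w1 = 0) (h1'2 : bf J2 w1' w2 = 0) (h02 : bf J2 w0 w2 = 0)
    (h11' : bf J2 w1 w1' = 1) (h01' : bf J2 w0 w1' = 0) (h12 : bf J2 w1 w2 = 0) :
    ⁅gE J1 J2 hJ2 C w0 w1 h01, gE J1 J2 hJ2 C' w1' w2 h1'2⁆ = gE J1 J2 hJ2 (-(C * C')) w0 w2 h02 := by
  apply Units.ext
  rw [commutatorElement_def, Units.val_mul, Units.val_mul, Units.val_mul, gE_val, gE_val, gE_inv_val,
    gE_inv_val, gE_val]
  have g1'1 : bf J2 w1' w1 = -1 := by rw [hJ2.skew, h11']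
  have g21 : bf J2 w2 w1 = 0 := hJ2.eq_zero_comm h12
  have g1'0 : bf J2 w1' w0 = 0 := hJ2.eq_zero_comm h01'
  have g20 : bf J2 w2 w0 = 0 := hJ2.eq_zero_comm h02
  have g10 : bf J2 w1 w0 = 0 := hJ2.eq_zero_comm h01
  have g21' : bf J2 w2 w1' = 0 := hJ2.eq_zero_comm h1'2
  set s := TE J1 J2 C w0 w1 with hs
  set t := TE J1 J2 C' w1' w2 with ht
  have hss : s * s = 0 := TE_sq J1 J2 hJ2 C w0 w1 h01
  have htt : t * t = 0 := TE_sq J1 J2 hJ2 C' w1' w2 h1'2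
  have hst : s * t = -((C * C') ⊗ₖ E J2 w0 w2) := by
    rw [hs, ht, TE_mul_TE, g1'1, g21, g1'0, g20]
    simp
  have hts : t * s = (adj J1 C' * adj J1 C) ⊗ₖ E J2 w2 w0 := by
    rw [hs, ht, TE_mul_TE, h02, h12, h01', h11']
    simp
  have hsts : s * t * s = 0 := by
    rw [hst, hs, neg_mul, kE_mul_TE, h02, h12]
    simp
  have htst : t * s * t = 0 := by
    rw [hts, ht, kE_mul_TE, g1'0, g20]
    simp
  rw [comm_expand s t hss htt hsts, htst, hst, hts, add_zero]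
  unfold TE
  rw [adj_neg', adj_mul' hJ1, neg_kron, neg_kron]
  abel

/-- `[e₀₁(C), e₀₁'(C')] = z₀(-(C C'^* + C' C^*))` -/
theorem comm2 (hJ1 : SympG J1) (hJ2 : SympG J2) (C C' : Matrix (Fin a) (Fin a) F) (w0 w1 w1' : Fin b → F)
    (h01 : bf J2 w0 w1 = 0) (h01' : bf J2 w0 w1' = 0) (h11' : bf J2 w1 w1' = 1) :
    ⁅gE J1 J2 hJ2 C w0 w1 h01, gE J1 J2 hJ2 C' w0 w1' h01'⁆ =
      zA J2 hJ2 (-(C * adj J1 C' + C' * adj J1 C)) w0 := by
  apply Units.ext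
  rw [commutatorElement_def, Units.val_mul, Units.val_mul, Units.val_mul, gE_val, gE_val, gE_inv_val,
    gE_inv_val, zA_val]
  have g1'1 : bf J2 w1' w1 = -1 := by rw [hJ2.skew, h11']
  have g10 : bf J2 w1 w0 = 0 := hJ2.eq_zero_comm h01
  have g1'0 : bf J2 w1' w0 = 0 := hJ2.eq_zero_comm h01'
  have g00 : bf J2 w0 w0 = 0 := hJ2.alt w0
  set s := TE J1 J2 C w0 w1 with hs
  set t := TE J1 J2 C' w0 w1' with ht
  have hss : s * s = 0 := TE_sq J1 J2 hJ2 C w0 w1 h01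
  have htt : t * t = 0 := TE_sq J1 J2 hJ2 C' w0 w1' h01'
  have hst : s * t = -((C * adj J1 C') ⊗ₖ E J2 w0 w0) := by
    rw [hs, ht, TE_mul_TE, h01, g1'1, g00, g1'0]
    simp
  have hts : t * s = (C' * adj J1 C) ⊗ₖ E J2 w0 w0 := by
    rw [hs, ht, TE_mul_TE, h01', h11', g00, g10]
    simp
  have hsts : s * t * s = 0 := by
    rw [hst, hs, neg_mul, kE_mul_TE, g00, g10]
    simp
  have htst : t * s * t = 0 := by
    rw [hts, ht, kE_mul_TE, g00, g1'0]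
    simp
  rw [comm_expand s t hss htt hsts, htst, hst, hts, add_zero, neg_kron, Matrix.add_kronecker]
  abel

/-- `[z₀(α), e₀'₂(C')] = e₀₂(-αC') · z₂(-C'^* α C')`, `α` self-adjoint -/
theorem comm3 (hJ1 : SympG J1) (hJ2 : SympG J2) (α C' : Matrix (Fin a) (Fin a) F) (hα : adj J1 α = α)
    (w0 w0' w2 : Fin b → F) (h00' : bf J2 w0 w0' = 1) (h02 : bf J2 w0 w2 = 0) (h0'2 : bf J2 w0' w2 = 0) :
    ⁅zA J2 hJ2 α w0, gE J1 J2 hJ2 C' w0' w2 h0'2⁆ =
      gE J1 J2 hJ2 (-(α * C')) w0 w2 h02 * zA J2 hJ2 (-(adj J1 C' * α * C')) w2 := by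
  apply Units.ext
  rw [commutatorElement_def, Units.val_mul, Units.val_mul, Units.val_mul, Units.val_mul, zA_val, gE_val,
    zA_inv_val, gE_inv_val, gE_val, zA_val]
  have g0'0 : bf J2 w0' w0 = -1 := by rw [hJ2.skew, h00']
  have g20 : bf J2 w2 w0 = 0 := hJ2.eq_zero_comm h02
  have g20' : bf J2 w2 w0' = 0 := hJ2.eq_zero_comm h0'2
  have g22 : bf J2 w2 w2 = 0 := hJ2.alt w2
  set s := α ⊗ₖ E J2 w0 w0 with hs
  set t := TE J1 J2 C' w0' w2 with ht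
  have hss : s * s = 0 := zA_sq J2 hJ2 α w0
  have htt : t * t = 0 := TE_sq J1 J2 hJ2 C' w0' w2 h0'2
  have hst : s * t = -((α * C') ⊗ₖ E J2 w0 w2) := by
    rw [hs, ht, kE_mul_TE, g0'0, g20]
    simp
  have hts : t * s = (adj J1 C' * α) ⊗ₖ E J2 w2 w0 := by
    rw [hs, ht, TE_mul_kE, h02, h00']
    simp
  have hsts : s * t * s = 0 := by
    rw [hst, hs, neg_mul, kE_mul_kE, h02]
    simp
  have htst : t * s * t = -((adj J1 C' * α * C') ⊗ₖ E J2 w2 w2) := by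
    rw [mul_assoc, hst, ht, mul_neg, TE_mul_kE, h02, h00']
    simp [Matrix.mul_assoc]
  rw [comm_expand s t hss htt hsts, htst, hst, hts]
  -- the right hand side
  have hAB : TE J1 J2 (-(α * C')) w0 w2 * ((-(adj J1 C' * α * C')) ⊗ₖ E J2 w2 w2) = 0 := by
    rw [TE_mul_kE, g22, g20]
    simp
  rw [add_mul, one_mul, mul_add, mul_one, hAB, add_zero]
  unfold TE
  rw [adj_neg', adj_mul' hJ1, hα, neg_kron, neg_kron, neg_kron]
  abel

end Cfsg.Agent.Lib.Helper29.S5704COMMb
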