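import Mathlib
import Cfsg.Agent.Lib.Helper3.SpTDefs

/-!
S5704 (architect helper3), piece L2 EXIST: vectors in the symplectic space `W = F^b`.
-/

set_option autoImplicit false

namespace Cfsg.Agent.Lib.Helper29.S5704EXIST

open Matrix Module QuadraticMap
open scoped Kronecker commutatorElement
open Cfsg.Agent.Lib.Helper16.Tens
open Cfsg.Agent.Lib.Helper3.SpT

variable {F : Type*} [Field F] {b : ℕ} {J2 : Matrix (Fin b) (Fin b) F}

theorem exists_partner (hJ2 : SympG J2) (w : Fin b → F) (hw : w ≠ 0) : ∃ w' : Fin b → F, bf J2 w w' = 1 := by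
  by_contra hcon
  push Not at hcon
  apply hw
  apply hJ2.nondeg
  intro y
  by_contra hy
  apply hcon ((bf J2 w y)⁻¹ • y)
  rw [bf_smul_right, inv_mul_cancel₀ hy]

/-- the bilinear form of `Mathlib` attached to `J2` -/
theorem toBilin_apply (x y : Fin b → F) : Matrix.toBilin' J2 x y = bf J2 x y := by
  rw [Matrix.toBilin'_apply']
  rfl

theorem ker_toBilin (hJ2 : SympG J2) : LinearMap.ker (Matrix.toBilin' J2) = ⊥ := by
  rw [Submodule.eq_bot_iff]
  intro x hx
  apply hJ2.nondeg
  intro y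
  rw [← toBilin_apply, LinearMap.mem_ker.1 hx]
  rfl

theorem finrank_orth (hJ2 : SympG J2) (S : Submodule F (Fin b → F)) :
    finrank F S + finrank F ((Matrix.toBilin' J2).orthogonal S) = b := by
  have h := LinearMap.BilinForm.finrank_add_finrank_orthogonal' (B := Matrix.toBilin' J2) S
  rw [ker_toBilin hJ2, inf_bot_eq, finrank_bot, add_zero, Module.finrank_fin_fun] at h
  exact h

/-- a hyperbolic pair orthogonal to a small subspace -/
theorem exists_pair_perp (hJ2 : SympG J2) (S : Submodule F (Fin b → F)) (hS : 2 * finrank F S < b) :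
    ∃ w1 w1' : Fin b → F, (∀ s ∈ S, bf J2 s w1 = 0) ∧ (∀ s ∈ S, bf J2 s w1' = 0) ∧ bf J2 w1 w1' = 1 := by
  set B := Matrix.toBilin' J2 with hB
  set T := B.orthogonal S with hT
  have hmemT : ∀ x, x ∈ T ↔ ∀ s ∈ S, bf J2 s x = 0 := by
    intro x
    rw [hT, LinearMap.BilinForm.mem_orthogonal_iff]
    constructor
    · intro h s hs
      rw [← toBilin_apply]
      exact h s hs
    · intro h s hs
      show B s x = 0
      rw [hB, toBilin_apply]
      exact h s hs
  have h1 : finrank F S + finrank F T = b := finrank_orth hJ2 S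
  have h2 : finrank F T + finrank F (B.orthogonal T) = b := finrank_orth hJ2 T
  by_cases hti : ∀ x ∈ T, ∀ y ∈ T, bf J2 x y = 0
  · exfalso
    have hle : T ≤ B.orthogonal T := by
      intro y hy
      rw [LinearMap.BilinForm.mem_orthogonal_iff]
      intro x hx
      show B x y = 0
      rw [hB, toBilin_apply]
      exact hti x hx y hy
    have h3 := Submodule.finrank_mono hle
    omega
  · push Not at hti
    obtain ⟨x, hx, y, hy, hxy⟩ := hti
    refine ⟨x, (bf J2 x y)⁻¹ • y, (hmemT x).1 hx, ?_, ?_⟩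
    · exact (hmemT _).1 (T.smul_mem _ hy)
    · rw [bf_smul_right, inv_mul_cancel₀ hxy]

/-- the auxiliary pair for `comm1` -/
theorem exists_aux_pair (hJ2 : SympG J2) (hb : 6 ≤ b) (w0 w2 : Fin b → F) :
    ∃ w1 w1' : Fin b → F, bf J2 w0 w1 = 0 ∧ bf J2 w1' w2 = 0 ∧ bf J2 w1 w1' = 1 ∧ bf J2 w0 w1' = 0 ∧
      bf J2 w1 w2 = 0 := by
  classical
  set S := Submodule.span F ({w0, w2} : Set (Fin b → F)) with hSdef
  have hfin : finrank F S ≤ 2 := by
    have h1 : ({w0, w2} : Set (Fin b → F)) = ((({w0, w2} : Finset (Fin b → F))) : Set (Fin b → F)) := by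
      simp
    rw [hSdef, h1]
    refine le_trans (finrank_span_finset_le_card _) ?_
    exact Finset.card_le_two
  have hS : 2 * finrank F S < b := by omega
  obtain ⟨w1, w1', h1, h1', h11'⟩ := exists_pair_perp hJ2 S hS
  have hw0 : w0 ∈ S := Submodule.subset_span (by simp)
  have hw2 : w2 ∈ S := Submodule.subset_span (by simp)
  exact ⟨w1, w1', h1 w0 hw0, hJ2.eq_zero_comm (h1' w2 hw2), h11', h1' w0 hw0, hJ2.eq_zero_comm (h1 w2 hw2)⟩

/-- linear independence from orthogonality relations -/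
theorem linInd_of_bf (hJ2 : SympG J2) (w w' y : Fin b → F) (h1 : bf J2 w y = 0) (h2 : bf J2 w' y ≠ 0)
    (hw : w ≠ 0) : LinearIndependent F ![w, w'] := by
  rw [LinearIndependent.pair_iff]
  intro s t hst
  have h3 : bf J2 (s • w + t • w') y = 0 := by rw [hst, bf_zero_left]
  rw [bf_add_left, bf_smul_left, bf_smul_left, h1, mul_zero, zero_add] at h3
  have ht : t = 0 := (mul_eq_zero.1 h3).resolve_right h2
  rw [ht, zero_smul, add_zero] at hst
  exact ⟨(smul_eq_zero.1 hst).resolve_right hw, ht⟩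

/-- a vector of a totally isotropic independent pair can be completed: `y` with `f(w,y) = 1`, `f(w',y) = 0` -/
theorem exists_dual_pair (hJ2 : SympG J2) (w w' : Fin b → F) (hli : LinearIndependent F ![w, w']) :
    ∃ y : Fin b → F, bf J2 w y = 1 ∧ bf J2 w' y = 0 := by
  rw [LinearIndependent.pair_iff] at hli
  have hw : w ≠ 0 := by
    intro h
    have := hli 1 0 (by rw [h]; simp)
    exact one_ne_zero this.1
  obtain ⟨y0, hy0⟩ := exists_partner hJ2 w hw
  set c := bf J2 w' y0 with hc
  have hv : w' - c • w ≠ 0 := by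
    intro h
    have h4 : (-c) • w + (1 : F) • w' = 0 := by
      rw [one_smul, neg_smul, ← h]
      abel
    exact one_ne_zero (hli _ _ h4).2
  obtain ⟨y1, hy1⟩ := exists_partner hJ2 (w' - c • w) hv
  set d := bf J2 w y1 with hd
  -- y2 := y1 - d • y0 : f(w, y2) = 0, f(w', y2) = 1
  have e1 : bf J2 w (y1 - d • y0) = 0 := by
    rw [bf_sub_right, bf_smul_right, hy0, ← hd]
    ring
  have e2 : bf J2 w' (y1 - d • y0) = 1 := by
    have h5 : bf J2 (w' - c • w) (y1 - d • y0) = 1 := by
      rw [bf_sub_right, hy1, bf_smul_right, bf_sub_left, bf_smul_left, hy0, ← hc]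
      ring
    rw [bf_sub_left, bf_smul_left, e1] at h5
    linear_combination h5
  refine ⟨y0 - c • (y1 - d • y0), ?_, ?_⟩
  · rw [bf_sub_right, bf_smul_right, e1, hy0]
    ring
  · rw [bf_sub_right, bf_smul_right, e2, ← hc]
    ring

end Cfsg.Agent.Lib.Helper29.S5704EXIST
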