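import Mathlib
import Cfsg.Agent.Lib.Helper3.SpTDefs
import Cfsg.Agent.Lib.Helper3.SpTL1
import Cfsg.Agent.Lib.Helper6.SiegelOmega
import Cfsg.Agent.Lib.Helper13.OrthMax

/-!
S5704 (architect helper3), piece L3 ROOTU: `rootU u c = t_u(c) ⊗ 1 ∈ Ω`.

`1_W = ∑_{i,j} T_{ij} (E_{e_i,e_j} - E_{e_j,e_i})` for the strictly upper triangular part `T` of `-J2⁻¹`, and
`1 + E_{u,u} ⊗ t (E_{w,w'} - E_{w',w})` is the Siegel transformation `ρ_{u⊗w, t u⊗w'}`.
-/

set_option autoImplicit false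

namespace Cfsg.Agent.Lib.Helper29.S5704ROOTU

open Matrix Module QuadraticMap
open scoped Kronecker commutatorElement
open Cfsg.Agent.Lib.Helper16.Tens
open Cfsg.Agent.Lib.Helper3.SpT

variable {F : Type*} [Field F] {a b : ℕ} {J1 : Matrix (Fin a) (Fin a) F} {J2 : Matrix (Fin b) (Fin b) F}
  {Q : QuadraticForm F (Fin a × Fin b → F)}

/-- a non-degenerate Gram matrix is invertible -/
theorem isUnit_of_sympG {κ : Type} [Fintype κ] [DecidableEq κ] {J : Matrix κ κ F} (hJ : SympG J) : IsUnit J := by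
  rw [← Matrix.vecMul_injective_iff_isUnit]
  intro x y hxy
  replace hxy : x ᵥ* J = y ᵥ* J := hxy
  have h0 : x - y = 0 := by
    apply hJ.nondeg
    intro z
    unfold bf
    rw [Matrix.dotProduct_mulVec, Matrix.sub_vecMul, hxy, sub_self, zero_dotProduct]
  exact sub_eq_zero.mp h0

theorem J_apply {κ : Type} [Fintype κ] [DecidableEq κ] (J : Matrix κ κ F) (i j : κ) :
    bf J (Pi.single i 1) (Pi.single j 1) = J i j := by
  unfold bf
  rw [Matrix.mulVec_single_one, single_one_dotProduct]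
  rfl

theorem transpose_of_sympG {κ : Type} [Fintype κ] [DecidableEq κ] {J : Matrix κ κ F} (hJ : SympG J) : Jᵀ = -J := by
  ext i j
  rw [Matrix.transpose_apply, Matrix.neg_apply, ← J_apply J j i, ← J_apply J i j, hJ.skew]

theorem E_eq {κ : Type} [Fintype κ] [DecidableEq κ] (J : Matrix κ κ F) (w w' : κ → F) :
    E J w w' = vecMulVec w w' * Jᵀ := by
  unfold E
  rw [Matrix.vecMulVec_mul, Matrix.vecMul_transpose]

/-- the alternating matrix `-J⁻¹` -/
theorem inv_alt {κ : Type} [Fintype κ] [DecidableEq κ] {J : Matrix κ κ F} (hJ : SympG J) :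
    (J⁻¹)ᵀ = -J⁻¹ ∧ ∀ i, J⁻¹ i i = 0 := by
  have hu : IsUnit J.det := (Matrix.isUnit_iff_isUnit_det J).mp (isUnit_of_sympG hJ)
  constructor
  · rw [Matrix.transpose_nonsing_inv, transpose_of_sympG hJ]
    apply Matrix.inv_eq_right_inv
    rw [neg_mul_neg, Matrix.mul_nonsing_inv J hu]
  · intro i
    have h1 : J⁻¹ i i = bf J (J⁻¹ *ᵥ Pi.single i 1) (J⁻¹ *ᵥ Pi.single i 1) := by
      unfold bf
      rw [Matrix.mulVec_mulVec, Matrix.mul_nonsing_inv J hu, Matrix.one_mulVec, dotProduct_comm,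
        single_one_dotProduct, Matrix.mulVec_single_one]
      rfl
    rw [h1, hJ.alt]

/-- `1_W` as a combination of the `E_{e_i,e_j} - E_{e_j,e_i}` -/
theorem one_eq_sum {κ : Type} [Fintype κ] [DecidableEq κ] [LinearOrder κ] {J : Matrix κ κ F} (hJ : SympG J) :
    ∃ T : Matrix κ κ F, (1 : Matrix κ κ F) =
      ∑ i, ∑ j, T i j • (E J (Pi.single i 1) (Pi.single j 1) - E J (Pi.single j 1) (Pi.single i 1)) := by
  have hu : IsUnit J.det := (Matrix.isUnit_iff_isUnit_det J).mp (isUnit_of_sympG hJ)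
  obtain ⟨hA1, hA2⟩ := inv_alt hJ
  refine ⟨Matrix.of fun i j => if i < j then - J⁻¹ i j else 0, ?_⟩
  set T : Matrix κ κ F := Matrix.of fun i j => if i < j then - J⁻¹ i j else 0 with hT
  have h1 : ∀ i j, T i j • (E J (Pi.single i 1) (Pi.single j 1) - E J (Pi.single j 1) (Pi.single i 1)) =
      (Matrix.single i j (T i j) - Matrix.single j i (T i j)) * Jᵀ := by
    intro i j
    rw [E_eq, E_eq, ← Matrix.sub_mul, ← Matrix.smul_mul, smul_sub]
    congr 2
    · ext k l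
      simp only [Matrix.smul_apply, Matrix.vecMulVec_apply, Matrix.single_apply, Pi.single_apply, smul_eq_mul]
      by_cases hk : i = k <;> by_cases hl : j = l <;> simp [hk, hl, eq_comm]
    · ext k l
      simp only [Matrix.smul_apply, Matrix.vecMulVec_apply, Matrix.single_apply, Pi.single_apply, smul_eq_mul]
      by_cases hk : j = k <;> by_cases hl : i = l <;> simp [hk, hl, eq_comm]
  simp_rw [h1]
  rw [← Finset.sum_comm]
  simp_rw [← Finset.sum_mul, Finset.sum_sub_distrib]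
  have h2 : ∑ j, ∑ i, Matrix.single i j (T i j) = T := by
    rw [Finset.sum_comm]
    exact (Matrix.matrix_eq_sum_single T).symm
  have h3 : ∑ j, ∑ i, Matrix.single j i (T i j) = Tᵀ := by
    rw [Matrix.matrix_eq_sum_single Tᵀ]
    rfl
  rw [h2, h3]
  have h4 : T - Tᵀ = -J⁻¹ := by
    ext i j
    rw [Matrix.sub_apply, Matrix.transpose_apply, Matrix.neg_apply]
    have hji : J⁻¹ j i = - J⁻¹ i j := by
      have := congrFun (congrFun hA1 i) j
      rwa [Matrix.transpose_apply, Matrix.neg_apply] at this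
    rcases lt_trichotomy i j with h | h | h
    · simp [hT, h, not_lt_of_gt h]
    · subst h
      simp [hT, hA2]
    · simp [hT, h, not_lt_of_gt h, hji]
  rw [h4, transpose_of_sympG hJ, neg_mul_neg, Matrix.nonsing_inv_mul J hu]

/-- `(E_{u,u} ⊗ X)² = 0` -/
theorem gX_sq (hJ1 : SympG J1) (u : Fin a → F) (X : Matrix (Fin b) (Fin b) F) :
    (E J1 u u ⊗ₖ X) * (E J1 u u ⊗ₖ X) = 0 := by
  rw [← Matrix.mul_kronecker_mul, E_mul_E, hJ1.alt]
  simp

/-- `1 + E_{u,u} ⊗ X` -/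
def gX (hJ1 : SympG J1) (u : Fin a → F) (X : Matrix (Fin b) (Fin b) F) : GL (Fin a × Fin b) F :=
  uni (E J1 u u ⊗ₖ X) (gX_sq hJ1 u X)

theorem gX_add (hJ1 : SympG J1) (u : Fin a → F) (X Y : Matrix (Fin b) (Fin b) F) :
    gX hJ1 u (X + Y) = gX hJ1 u X * gX hJ1 u Y := by
  apply Units.ext
  change 1 + E J1 u u ⊗ₖ (X + Y) = (1 + E J1 u u ⊗ₖ X) * (1 + E J1 u u ⊗ₖ Y)
  have h0 : (E J1 u u ⊗ₖ X) * (E J1 u u ⊗ₖ Y) = 0 := by
    rw [← Matrix.mul_kronecker_mul, E_mul_E, hJ1.alt]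
    simp
  rw [Matrix.kronecker_add, add_mul, one_mul, mul_add, mul_one, h0]
  abel

theorem gX_zero (hJ1 : SympG J1) (u : Fin a → F) : gX (b := b) hJ1 u 0 = 1 := by
  apply Units.ext
  change 1 + E J1 u u ⊗ₖ (0 : Matrix (Fin b) (Fin b) F) = 1
  rw [Matrix.kronecker_zero, add_zero]

theorem rootU_eq_gX (hJ1 : SympG J1) (u : Fin a → F) (c : F) :
    rootU (b := b) J1 hJ1 u c = gX hJ1 u (c • (1 : Matrix (Fin b) (Fin b) F)) := by
  apply Units.ext
  change 1 + (c • E J1 u u) ⊗ₖ (1 : Matrix (Fin b) (Fin b) F) = 1 + E J1 u u ⊗ₖ (c • (1 : Matrix (Fin b) (Fin b) F))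
  rw [Matrix.smul_kronecker, Matrix.kronecker_smul]

/-- `1 + E_{u,u} ⊗ t (E_{w,w'} - E_{w',w})` is the Siegel transformation `ρ_{u⊗w, t u⊗w'}` -/
theorem gX_eq_sieg (hS : Setup J1 J2 Q) (u : Fin a → F) (w w' : Fin b → F) (t : F) :
    gX hS.h1 u (t • (E J2 w w' - E J2 w' w)) =
      ((Cfsg.Agent.Lib.Helper6.siegIso Q (pur u w) (t • pur u w') (hS.pure u w)
        (by rw [QuadraticMap.polar_smul_right, hS.polar_pur, hS.h1.alt, zero_mul, smul_zero]) :
          ↥(Cfsg.isometryGroup F ⇑Q)) : GL (Fin a × Fin b) F) := by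
  apply Units.ext
  change 1 + E J1 u u ⊗ₖ (t • (E J2 w w' - E J2 w' w)) = Cfsg.Agent.Lib.Helper6.sieg Q (pur u w) (t • pur u w')
  apply mat_ext_mulVec
  intro v
  refine pur_induction (p := fun v => (1 + E J1 u u ⊗ₖ (t • (E J2 w w' - E J2 w' w))) *ᵥ v =
    Cfsg.Agent.Lib.Helper6.sieg Q (pur u w) (t • pur u w') *ᵥ v) ?_ ?_ ?_ v
  · rw [Matrix.mulVec_zero, Matrix.mulVec_zero]
  · intro x y hx hy
    rw [Matrix.mulVec_add, Matrix.mulVec_add, hx, hy]
  · intro y x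
    rw [Cfsg.Agent.Lib.Helper6.sieg_mulVec, Matrix.add_mulVec, Matrix.one_mulVec, kron_mulVec_pur,
      E_mulVec, Matrix.smul_mulVec, Matrix.sub_mulVec, E_mulVec, E_mulVec]
    have hQ0 : Q (t • pur u w') = 0 := by
      rw [← pur_smul_left, hS.pure]
    rw [hQ0, zero_mul, sub_zero, QuadraticMap.polar_smul_left, hS.polar_pur, hS.polar_pur,
      hS.h1.skew y u, hS.h2.skew x w', hS.h2.skew x w]
    rw [pur_smul_left, pur_smul_right, sub_eq_add_neg, pur_add_right, pur_neg_right, pur_smul_right,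
      pur_smul_right]
    simp only [smul_eq_mul, smul_sub, smul_smul, smul_neg]
    module

theorem rootU_mem_Om [Fintype F] (hS : Setup J1 J2 Q) (ha : 2 ≤ a) (hb : 6 ≤ b) (u : Fin a → F) (c : F) :
    rootU (b := b) J1 hS.h1 u c ∈ Cfsg.Geo.omegaGL (⇑Q) := by
  have h5 : 5 ≤ Fintype.card (Fin a × Fin b) := by
    rw [Fintype.card_prod, Fintype.card_fin, Fintype.card_fin]
    nlinarith
  have hbase : ∀ (w w' : Fin b → F) (t : F),
      gX hS.h1 u (t • (E J2 w w' - E J2 w' w)) ∈ Cfsg.Geo.omegaGL (⇑Q) := by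
    intro w w' t
    rw [gX_eq_sieg hS u w w' t]
    exact (Cfsg.Agent.Lib.Helper13.mem_omegaGL_iff Q _).mpr
      ⟨_, Cfsg.Agent.Lib.Helper6.siegIso_mem_Omega Q hS.nondeg h5 _ _ _ _, rfl⟩
  obtain ⟨T, hT⟩ := one_eq_sum hS.h2
  rw [rootU_eq_gX, hT, Finset.smul_sum]
  refine Finset.sum_induction _ (fun X => gX hS.h1 u X ∈ Cfsg.Geo.omegaGL (⇑Q)) ?_ ?_ ?_
  · intro X Y hX hY
    rw [gX_add]
    exact Subgroup.mul_mem _ hX hY
  · rw [gX_zero]
    exact Subgroup.one_mem _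
  · intro i _
    rw [Finset.smul_sum]
    refine Finset.sum_induction _ (fun X => gX hS.h1 u X ∈ Cfsg.Geo.omegaGL (⇑Q)) ?_ ?_ ?_
    · intro X Y hX hY
      rw [gX_add]
      exact Subgroup.mul_mem _ hX hY
    · rw [gX_zero]
      exact Subgroup.one_mem _
    · intro j _
      rw [smul_smul]
      exact hbase _ _ _

end Cfsg.Agent.Lib.Helper29.S5704ROOTU
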