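import Mathlib
import Cfsg.Prelude.Def_GeometricClasses

/-!
# S5814 / S5835 / S5859 : piece A-FLD

A field subalgebra of `Mat_ι(F)` of degree `r` has `r ∣ card ι` (general index type; helper24's
`dvd_of_isFieldSubalgebra` is the case `ι = Fin n`).  More generally the dimension of every subspace invariant
under the field subalgebra is a multiple of `r`.
-/

set_option autoImplicit false
set_option linter.unusedSectionVars false
set_option linter.unusedVariables false

namespace Cfsg.Agent.Lib.Helper29.S5814

open Cfsg Cfsg.Geo Matrix

variable {F : Type*} [Field F] {ι : Type} [Fintype ι] [DecidableEq ι]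

/-- the dimension of a `K`-invariant subspace is a multiple of the degree of the field subalgebra `K` -/
theorem dvd_finrank_of_invariant [Nonempty ι] (r : ℕ) (K : Subalgebra F (Matrix ι ι F))
    (hK : IsFieldSubalgebra r K) (U : Submodule F (ι → F))
    (hU : ∀ k ∈ K, ∀ v ∈ U, k *ᵥ v ∈ U) : r ∣ Module.finrank F U := by
  have hfield : IsField ↥K :=
    { exists_pair_ne := by
        refine ⟨0, 1, ?_⟩
        intro h
        have := congrArg Subtype.val h
        exact zero_ne_one this
      mul_comm := fun a b => Subtype.ext (hK.comm a a.2 b b.2)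
      mul_inv_cancel := by
        intro a ha
        have ha' : (a : Matrix ι ι F) ≠ 0 := fun h => ha (Subtype.ext h)
        obtain ⟨y, hy, hxy⟩ := hK.inv a a.2 ha'
        exact ⟨⟨y, hy⟩, Subtype.ext hxy⟩ }
  letI : Field ↥K := hfield.toField
  let ρ : ↥K →+* Module.End F ↥U :=
    { toFun := fun a => (Matrix.toLin' (a : Matrix ι ι F)).restrict (fun v hv => by
        rw [Matrix.toLin'_apply]
        exact hU a a.2 v hv)
      map_one' := by
        apply LinearMap.ext
        intro v
        apply Subtype.ext
        simp [LinearMap.restrict_apply]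
      map_mul' := by
        intro a b
        apply LinearMap.ext
        intro v
        apply Subtype.ext
        simp [LinearMap.restrict_apply, Matrix.toLin'_mul]
      map_zero' := by
        apply LinearMap.ext
        intro v
        apply Subtype.ext
        simp [LinearMap.restrict_apply]
      map_add' := by
        intro a b
        apply LinearMap.ext
        intro v
        apply Subtype.ext
        simp [LinearMap.restrict_apply, Matrix.add_mulVec] }
  letI : Module ↥K ↥U := Module.compHom ↥U ρ
  have hsmul : ∀ (a : ↥K) (v : ↥U), ((a • v : ↥U) : ι → F) = (a : Matrix ι ι F) *ᵥ (v : ι → F) := by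
    intro a v
    change ((ρ a v : ↥U) : ι → F) = _
    simp [ρ, LinearMap.restrict_apply]
  have htower : IsScalarTower F ↥K ↥U := by
    refine ⟨fun c a v => ?_⟩
    apply Subtype.ext
    rw [hsmul, Submodule.coe_smul, hsmul, Subalgebra.coe_smul, Matrix.smul_mulVec]
  have h := @Module.finrank_mul_finrank F ↥K ↥U _ _ _ _ _ _ htower
  rw [hK.finrank_eq] at h
  exact ⟨_, h.symm⟩

/-- A-FLD -/
theorem field_degree_dvd [Nonempty ι] (r : ℕ) (K : Subalgebra F (Matrix ι ι F))
    (hK : IsFieldSubalgebra r K) : r ∣ Fintype.card ι := by
  have h := dvd_finrank_of_invariant r K hK ⊤ (fun _ _ _ _ => Submodule.mem_top)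
  rwa [finrank_top, Module.finrank_fintype_fun_eq_card] at h

end Cfsg.Agent.Lib.Helper29.S5814
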