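import Mathlib
import Cfsg.Prelude
import Cfsg.Agent.Lib.Helper10.BGNine2
import Cfsg.Agent.Lib.Helper10.NarrowFit
import Cfsg.Agent.Lib.Lead.BGTrans
import Cfsg.Agent.S1324
import Cfsg.Agent.S1393
import Cfsg.Agent.S1396
import Cfsg.Agent.S1399
import Cfsg.Agent.S1400
import Cfsg.Agent.S1401
import Cfsg.Agent.S1451

/-!
# Bender--Glauberman, Lemma 9.5: basic facts

`A ∈ SCN_3(P)` in a minimal simple group of odd order, assumed not to lie in a unique maximal
subgroup.  This file collects the general lemmas and the first consequences.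
-/

set_option autoImplicit false
open Cfsg
open scoped Pointwise commutatorElement

namespace Cfsg.Agent.Lib.Helper29.BG95

open Cfsg.Agent.Lib.Helper10.BG Cfsg.Agent.Lib.Helper10
open Cfsg.Agent.Lib.Lead.Trans (Inv MaxInv inv_conj maxInv_conj exists_normalizer_not_mem)

variable {G : Type*} [Group G]

section General

/-- conjugating an invariant subgroup by an element of the normalizer of the acting group. -/
theorem inv_conj_normalizer {E : Subgroup G} {q : ℕ} {n : G}
    (hn : n ∈ Subgroup.normalizer (E : Set G)) {Y : Subgroup G} (hY : Inv E q Y) :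
    Inv E q (MulAut.conj n • Y) := by
  refine ⟨?_, ?_⟩
  · rw [Cfsg.Agent.Lib.Helper1.conj_smul_eq_map]; exact hY.1.map _
  · intro e he
    rw [← Cfsg.Agent.Lib.Helper1.conj_smul_eq_self_iff_mem_normalizer, smul_smul, ← map_mul]
    have he' : n⁻¹ * e * n ∈ E := by
      have h1 := (Subgroup.mem_normalizer_iff.mp (inv_mem hn) e).mp he
      rwa [inv_inv] at h1
    have hen : e * n = n * (n⁻¹ * e * n) := by group
    rw [hen, map_mul, ← smul_smul,
      Cfsg.Agent.Lib.Helper1.conj_smul_eq_self_iff_mem_normalizer.mpr (hY.2 he')]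

theorem maxInv_conj_normalizer {E : Subgroup G} {q : ℕ} {n : G}
    (hn : n ∈ Subgroup.normalizer (E : Set G)) {Y : Subgroup G} (hY : MaxInv E q Y) :
    MaxInv E q (MulAut.conj n • Y) := by
  refine ⟨inv_conj_normalizer hn hY.1, fun R hR hle => ?_⟩
  have hn' : n⁻¹ ∈ Subgroup.normalizer (E : Set G) := inv_mem hn
  have h1 : Y ≤ MulAut.conj n⁻¹ • R := by
    rw [map_inv]; exact Subgroup.pointwise_smul_subset_iff.mp hle
  have h2 := hY.2 _ (inv_conj_normalizer hn' hR) h1
  rw [← h2, map_inv, smul_inv_smul]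

theorem isCoatom_conj_smul {M : Subgroup G} (g : G) (h : IsCoatom M) :
    IsCoatom (MulAut.conj g • M) := by
  rw [Cfsg.Agent.Lib.Helper1.conj_smul_eq_map]
  exact isCoatom_map_conj g h

/-- the derived subgroup of a group normalizing a cyclic subgroup centralizes it. -/
theorem commutator_le_centralizer_of_isCyclic {Z N : Subgroup G} (hZ : IsCyclic ↥Z)
    (hN : N ≤ Subgroup.normalizer (Z : Set G)) : ⁅N, N⁆ ≤ Subgroup.centralizer (Z : Set G) := by
  rw [Subgroup.commutator_le]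
  intro x hx y hy
  have hcomm : ∀ a b : MulAut ↥Z, a * b = b * a := by
    intro a b
    apply (IsCyclic.mulAutMulEquiv ↥Z).injective
    rw [map_mul, map_mul, mul_comm]
  obtain ⟨x', hx'⟩ : ∃ x' : ↥(Subgroup.normalizer (Z : Set G)), (x' : G) = x := ⟨⟨x, hN hx⟩, rfl⟩
  obtain ⟨y', hy'⟩ : ∃ y' : ↥(Subgroup.normalizer (Z : Set G)), (y' : G) = y := ⟨⟨y, hN hy⟩, rfl⟩
  have h1 : Z.normalizerMonoidHom ⁅x', y'⁆ = 1 := by
    rw [map_commutatorElement, commutatorElement_def, hcomm (Z.normalizerMonoidHom x'),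
      mul_inv_cancel_right, mul_inv_cancel]
  have hker : ⁅x', y'⁆ ∈ Z.normalizerMonoidHom.ker := MonoidHom.mem_ker.mpr h1
  rw [Subgroup.normalizerMonoidHom_ker, Subgroup.mem_subgroupOf] at hker
  have hval : ((⁅x', y'⁆ : ↥(Subgroup.normalizer (Z : Set G))) : G) = ⁅x, y⁆ := by
    rw [← hx', ← hy']
    rfl
  rw [hval] at hker
  exact hker

/-- an element of order prime to the index of a normal subgroup lies in it. -/
theorem mem_of_pow_eq_one_of_coprime_index {X : Type*} [Group X] [Finite X] (N : Subgroup X)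
    [N.Normal] {m : ℕ} (hm : (N.index).Coprime m) {x : X} (hx : x ^ m = 1) : x ∈ N := by
  rw [← QuotientGroup.eq_one_iff]
  have h1 : (QuotientGroup.mk x : X ⧸ N) ^ m = 1 := by
    rw [← QuotientGroup.mk_pow, hx]
    rfl
  have h2 : (QuotientGroup.mk x : X ⧸ N) ^ N.index = 1 := by
    rw [Subgroup.index_eq_card]
    exact pow_card_eq_one'
  exact eq_one_of_pow_eq_one_of_coprime h2 h1 hm

/-- a `p`-element whose `s`-power part centralizes centralizes. -/
theorem mem_of_pow_mem_of_coprime {K : Subgroup G} {a : G} {m n : ℕ} (ha : a ^ m = 1)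
    (hmn : m.Coprime n) (h : a ^ n ∈ K) : a ∈ K := by
  have h1 : (orderOf a).Coprime n :=
    Nat.Coprime.coprime_dvd_left (orderOf_dvd_of_pow_eq_one ha) hmn
  obtain ⟨j, hj⟩ := exists_pow_eq_self_of_coprime h1.symm
  rw [← hj]
  exact K.pow_mem h j

theorem centralizer_ne_top_of_ne_bot [Finite G] (hG : IsMinimalSimple G) {B : Subgroup G}
    (hB : B ≠ ⊥) : Subgroup.centralizer (B : Set G) ≠ ⊤ := by
  intro htop
  apply hB
  rw [eq_bot_iff]
  intro b hb
  have hbc : b ∈ Subgroup.center G := by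
    rw [Subgroup.mem_center_iff]
    intro g
    have hg : g ∈ Subgroup.centralizer (B : Set G) := by rw [htop]; exact Subgroup.mem_top g
    exact (Subgroup.mem_centralizer_iff.mp hg b hb).symm
  rw [Cfsg.Agent.Lib.Lead.BGTrans.center_eq_bot hG] at hbc
  exact hbc

theorem ne_bot_of_not_rankLE [Finite G] {k : ℕ} {B : Subgroup G} (h : ¬ RankLE k ↥B) : B ≠ ⊥ := by
  unfold RankLE at h
  push Not at h
  obtain ⟨q, hq, hqB⟩ := h
  exact ne_bot_of_not_pRankLE hq hqB

end General

variable [Finite G]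

/-- the standing hypotheses of Lemma 9.5, with the conclusion denied. -/
structure Ctx (p : ℕ) [Fact p.Prime] (P : Sylow p G) (A : Subgroup G) : Prop where
  hG : IsMinSimpleOddOrder G
  scn : IsSCN (P : Subgroup G) A
  rk : ¬ PRankLE p 2 ↥A
  notU : ¬ InUniqueMaximal A

namespace Ctx

variable {p : ℕ} [Fact p.Prime] {P : Sylow p G} {A : Subgroup G} (c : Ctx p P A)
include c

theorem le_centralizer : A ≤ Subgroup.centralizer (A : Set G) := by
  intro a ha
  have h1 : a ∈ (P : Subgroup G) ⊓ Subgroup.centralizer (A : Set G) := by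
    rw [c.scn.2.2]; exact ha
  exact h1.2

theorem comm : IsMulCommutative ↥A :=
  Cfsg.Agent.S1401.isMulCommutative_of_le_centralizer c.le_centralizer

theorem isPGroup : IsPGroup p ↥A := P.isPGroup'.to_le c.scn.1

theorem ne_bot : A ≠ ⊥ := ne_bot_of_not_pRankLE Fact.out c.rk

theorem ne_top : A ≠ ⊤ := Cfsg.Agent.Lib.Lead.BGTrans.pgroup_ne_top c.hG.2 c.isPGroup

theorem p_ne_two : p ≠ 2 := prime_ne_two_of_pgroup c.hG c.isPGroup c.ne_bot

theorem p_dvd_card : p ∣ Nat.card ↥A := by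
  obtain ⟨k, hk⟩ := c.isPGroup.exists_card_eq
  have hk0 : k ≠ 0 := by
    rintro rfl
    rw [pow_zero] at hk
    exact c.ne_bot (Subgroup.card_eq_one.mp hk)
  rw [hk]
  exact dvd_pow_self p hk0

theorem not_dvd_card {q : ℕ} (hq : q.Prime) (hqp : q ≠ p) : ¬ q ∣ Nat.card ↥A := by
  have hp : p.Prime := Fact.out
  obtain ⟨k, hk⟩ := c.isPGroup.exists_card_eq
  rw [hk]
  intro h
  exact hqp ((Nat.prime_dvd_prime_iff_eq hq hp).mp (hq.dvd_of_dvd_pow h))

theorem hyp : TransitivityHypothesis A :=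
  Cfsg.Agent.S1396.result c.hG p (c.p_dvd_card.trans (Subgroup.card_subgroup_dvd_card A)) A
    c.isPGroup c.comm
    (Or.inr ⟨P, c.scn, fun h => c.rk (pRankLE_mono Fact.out (by norm_num) h)⟩)

/-- the elementary abelian subgroup of rank three. -/
theorem exists_elementary :
    ∃ E : Subgroup G, E ≤ A ∧ IsElementaryAbelian p E ∧ p ^ 2 < Nat.card ↥E :=
  Cfsg.Agent.S1400.exists_elementary_of_not_pRankLE c.rk

/-- Thompson transitivity for `A`. -/
theorem trans {q : ℕ} [Fact q.Prime] (hqp : q ≠ p) {Q₁ Q₂ : Subgroup G} (h₁ : MaxInv A q Q₁)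
    (h₂ : MaxInv A q Q₂) :
    ∃ k ∈ Subgroup.centralizer (A : Set G), Q₂ = MulAut.conj k • Q₁ := by
  have hZ : ¬ RankLE 2 ↥(A ⊓ Subgroup.centralizer (A : Set G)) := by
    rw [inf_of_le_left c.le_centralizer]
    exact fun h => c.rk (h p Fact.out)
  obtain ⟨k, hk, hQ⟩ := Cfsg.Agent.S1393.result c.hG A c.hyp hZ q Fact.out
    (c.not_dvd_card Fact.out hqp) Q₁ (Cfsg.Agent.Lib.Lead.BGTrans.mem_of_maxInv h₁) Q₂
    (Cfsg.Agent.Lib.Lead.BGTrans.mem_of_maxInv h₂)
  exact ⟨k, Cfsg.Agent.Lib.Lead.BGTrans.piCoreOf_le _ _ hk, by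
    rw [hQ, Cfsg.Agent.Lib.Helper1.conj_smul_eq_map]⟩

/-- (F1) the Fitting subgroups of all maximal subgroups have `p`-rank at most two. -/
theorem rank_fitting {H : Subgroup G} (hH : IsCoatom H) : PRankLE p 2 ↥(fittingOf H) := by
  by_contra h
  exact c.notU (Cfsg.Agent.S1401.result c.hG H hH p h A c.isPGroup c.comm c.rk)

/-- (F2') the centralizer of a noncyclic subgroup of `A` is not in a unique maximal subgroup. -/
theorem not_unique_centralizer {B : Subgroup G} (hBA : B ≤ A) (hB : ¬ RankLE 1 ↥B) :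
    ¬ InUniqueMaximal (Subgroup.centralizer (B : Set G)) := by
  intro hU
  have h1 : InUniqueMaximal B :=
    Cfsg.Agent.S1399.result c.hG _ B hU (Subgroup.le_centralizer_iff.mp le_rfl) hB
  exact c.notU (inUniqueMaximal_mono h1 hBA c.ne_top)

theorem exists_other_coatom {B : Subgroup G} (hBA : B ≤ A) (hB : ¬ RankLE 1 ↥B)
    (H : Subgroup G) (hH : IsCoatom H) :
    ∃ H' : Subgroup G, IsCoatom H' ∧ Subgroup.centralizer (B : Set G) ≤ H' ∧ H' ≠ H := by
  have hne : Subgroup.centralizer (B : Set G) ≠ ⊤ :=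
    centralizer_ne_top_of_ne_bot c.hG.2 (ne_bot_of_not_rankLE hB)
  by_contra hcon
  push Not at hcon
  obtain ⟨L, hL, hCL⟩ := exists_isCoatom_ge hne
  have hLH := hcon L hL hCL
  rw [hLH] at hCL
  exact c.not_unique_centralizer hBA hB (inUniqueMaximal_of hH hCL hcon)

theorem le_of_centralizer_le {H : Subgroup G} (hCH : Subgroup.centralizer (A : Set G) ≤ H) :
    A ≤ H := c.le_centralizer.trans hCH

end Ctx

end Cfsg.Agent.Lib.Helper29.BG95
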