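import Mathlib
import Cfsg.Prelude
import Cfsg.Agent.Lib.Helper29.BG95a

/-!
# Bender--Glauberman, Lemma 9.5: the proof

`A ∈ SCN_3(P)` in a minimal simple group of odd order lies in a unique maximal subgroup.  We
argue by contradiction (`Ctx`): every maximal subgroup containing `C(A)` contains `N(A)`, the
subgroup `A₀ = [A, N(A)]` is nontrivial and centralizes every `A`-invariant `p'`-subgroup, and
a maximal subgroup containing `C(A₀)` is then the only one containing `A`.
-/

set_option autoImplicit false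
open Cfsg
open scoped Pointwise commutatorElement

namespace Cfsg.Agent.Lib.Helper29.BG95

open Cfsg.Agent.Lib.Helper10.BG Cfsg.Agent.Lib.Helper10
open Cfsg.Agent.Lib.Lead.Trans (Inv MaxInv inv_conj maxInv_conj exists_normalizer_not_mem)

variable {G : Type*} [Group G]

section General2

theorem centralizer_anti {X Y : Subgroup G} (h : X ≤ Y) :
    Subgroup.centralizer (Y : Set G) ≤ Subgroup.centralizer (X : Set G) :=
  Subgroup.centralizer_le (SetLike.coe_subset_coe.mpr h)

/-- a hyperplane of an elementary abelian group of rank at least three is noncyclic. -/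
theorem hyperplane_rank [Finite G] {p : ℕ} (hp : p.Prime) {E B : Subgroup G}
    (hEe : IsElementaryAbelian p E) (hEcard : p ^ 2 < Nat.card ↥E) (hBE : B ≤ E)
    (hBidx : B.relIndex E ≤ p) : ¬ RankLE 1 ↥B := by
  have hBcard : Nat.card ↥B * B.relIndex E = Nat.card ↥E :=
    Cfsg.Agent.Lib.Helper1.card_mul_relIndex_of_le hBE
  have h1 : Nat.card ↥E ≤ p * Nat.card ↥B := by
    calc Nat.card ↥E = Nat.card ↥B * B.relIndex E := hBcard.symm
      _ ≤ Nat.card ↥B * p := Nat.mul_le_mul_left _ hBidx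
      _ = p * Nat.card ↥B := mul_comm _ _
  have h2 : p ^ 1 < Nat.card ↥B := Cfsg.Agent.S1400.lt_of_sq_lt_le_mul hEcard h1
  exact not_rankLE_of_le hp le_rfl (Cfsg.Agent.S1400.isElementaryAbelian_of_le hEe hBE) h2

/-- a `p`-subgroup of a solvable group `H` centralizing `F(H)_{p'}` centralizes `O_{p'}(H)`. -/
theorem le_centralizer_ppCoreOf_of_le_centralizer_fitCompl [Finite G] {p : ℕ} [Fact p.Prime]
    {H B : Subgroup G} (hHs : Group.IsSolvable ↥H) (hBp : IsPGroup p ↥B) (hBH : B ≤ H)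
    (hFC : B ≤ Subgroup.centralizer (fitCompl p H : Set G)) :
    B ≤ Subgroup.centralizer (ppCoreOf p H : Set G) := by
  have hp : p.Prime := Fact.out
  have hKH : ppCoreOf p H ≤ H := ppCoreOf_le p H
  have hcopK : (Nat.card ↥(ppCoreOf p H)).Coprime p := coprime_card_ppCoreOf p H
  have hBK : B ≤ Subgroup.normalizer (ppCoreOf p H : Set G) :=
    hBH.trans (le_normalizer_ppCoreOf p H)
  have hact : Cfsg.Agent.Lib.Helper1.CoprimeAct B (ppCoreOf p H) := by
    refine ⟨hBK, ?_, Or.inr ?_⟩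
    · obtain ⟨k, hk⟩ := hBp.exists_card_eq
      rw [hk]
      exact Nat.Coprime.pow_left k hcopK.symm
    · have := hHs
      exact Group.isSolvable_of_isSolvable_injective (Subgroup.inclusion_injective hKH)
  apply le_centralizer_of_commutator_le_centralizer hact
  have hXK : ⁅ppCoreOf p H, B⁆ ≤ ppCoreOf p H :=
    Cfsg.Agent.Lib.Helper1.commutator_le_of_le_normalizer hBK
  have hXF' : ⁅ppCoreOf p H, B⁆ ≤ Subgroup.centralizer (fitCompl p H : Set G) := by
    rw [← Subgroup.commutator_eq_bot_iff_le_centralizer]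
    apply Subgroup.commutator_commutator_eq_bot_of_rotate
    · rw [Subgroup.commutator_eq_bot_iff_le_centralizer.mpr hFC, Subgroup.commutator_bot_left]
    · rw [Subgroup.commutator_eq_bot_iff_le_centralizer]
      have h1 : ⁅fitCompl p H, ppCoreOf p H⁆ ≤ fitCompl p H :=
        Cfsg.Agent.Lib.Helper1.commutator_le_of_le_normalizer
          (hKH.trans (le_normalizer_fitCompl p H))
      exact h1.trans (le_centralizer_symm hFC)
  have hXP : ⁅ppCoreOf p H, B⁆ ≤ Subgroup.centralizer (pCoreOf p H : Set G) :=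
    le_centralizer_of_commute
      (fun a ha b hb => (commute_pCoreOf_ppCoreOf p H hb (hXK ha)).symm)
  have hXFit : ⁅ppCoreOf p H, B⁆ ≤ fittingOf H := by
    have h1 : ⁅ppCoreOf p H, B⁆ ≤ Subgroup.centralizer (fittingOf H : Set G) := by
      rw [fittingOf_eq_sup hp H]
      exact le_centralizer_sup hXP hXF'
    exact (le_inf (hXK.trans hKH) h1).trans (inf_centralizer_fittingOf_le H hHs)
  have hXcop : (Nat.card ↥⁅ppCoreOf p H, B⁆).Coprime p :=
    Nat.Coprime.coprime_dvd_left (Subgroup.card_dvd_of_le hXK) hcopK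
  exact (coprime_le_fitCompl_of_le_fittingOf hp hXFit hXcop).trans (le_centralizer_symm hFC)

end General2

variable [Finite G]

namespace Ctx

variable {p : ℕ} [Fact p.Prime] {P : Sylow p G} {A : Subgroup G} (c : Ctx p P A)
include c

/-- (N), first case: the Fitting subgroup of `H` has rank at most two. -/
theorem normalizer_le_of_rankLE {H : Subgroup G} (hH : IsCoatom H)
    (hCH : Subgroup.centralizer (A : Set G) ≤ H) (hr : RankLE 2 ↥(fittingOf H)) :
    Subgroup.normalizer (A : Set G) ≤ H := by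
  have hp : p.Prime := Fact.out
  have hAH : A ≤ H := c.le_of_centralizer_le hCH
  have hH1 : H ≠ ⊥ := by
    intro h
    rw [h] at hAH
    exact c.ne_bot (le_bot_iff.mp hAH)
  have : Group.IsSolvable ↥H := isSolvable_of_ne_top c.hG hH.1
  have hodd : Odd (Nat.card ↥H) := odd_card_subgroup c.hG H
  have hr' : RankLE 2 ↥(fittingSubgroup ↥H) := fun q hq =>
    pRankLE_of_injective
      (Subgroup.equivMapOfInjective (fittingSubgroup ↥H) H.subtype
        H.subtype_injective).toMonoidHom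
      (Subgroup.equivMapOfInjective (fittingSubgroup ↥H) H.subtype
        H.subtype_injective).injective
      (hr q hq)
  obtain ⟨-, -, htower⟩ := Cfsg.Agent.S1451.result (G := ↥H) hodd (Or.inr hr')
  have hcard1 : 1 < Nat.card ↥H := (Subgroup.one_lt_card_iff_ne_bot H).mpr hH1
  obtain ⟨q, hqmem, hqmax⟩ := Finset.exists_max_image (Nat.card ↥H).primeFactors id
    (Nat.nonempty_primeFactors.mpr hcard1)
  have hq : q.Prime := Nat.prime_of_mem_primeFactors hqmem
  have hqdvd : q ∣ Nat.card ↥H := Nat.dvd_of_mem_primeFactors hqmem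
  obtain ⟨N, hNchar, hNhall⟩ := htower (q - 1)
  have : N.Characteristic := hNchar
  have hNnorm : N.Normal := inferInstance
  have hNq : ∀ r : ℕ, r.Prime → r ∣ Nat.card ↥N → r = q := by
    intro r hr hrd
    have h0 : r.Prime ∧ q - 1 < r := hNhall.1 r hr hrd
    have h2 : r ∣ Nat.card ↥H := hrd.trans (Subgroup.card_subgroup_dvd_card N)
    have h3 : r ≤ q := hqmax r (Nat.mem_primeFactors.mpr ⟨hr, h2, Nat.card_pos.ne'⟩)
    have h1 := h0.2
    omega
  have hNidx : ¬ q ∣ N.index :=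
    hNhall.2 q hq (show q.Prime ∧ q - 1 < q from ⟨hq, Nat.sub_lt hq.pos Nat.one_pos⟩)
  obtain ⟨k, hk⟩ : ∃ k, Nat.card ↥N = q ^ k :=
    ⟨_, Nat.eq_prime_pow_of_unique_prime_dvd Nat.card_pos.ne' (fun {d} hd hdd => hNq d hd hdd)⟩
  have : Fact q.Prime := ⟨hq⟩
  have hNpg : IsPGroup q ↥N := IsPGroup.of_card hk
  have hcopidx : ∀ j : ℕ, (N.index).Coprime (q ^ j) := fun j =>
    Nat.Coprime.pow_right j ((Nat.Prime.coprime_iff_not_dvd hq).mpr hNidx).symm
  -- the normal Sylow `q`-subgroup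
  obtain ⟨Q, hQdef⟩ : ∃ Q : Subgroup G, Q = N.map H.subtype := ⟨_, rfl⟩
  have hQH : Q ≤ H := by rw [hQdef]; exact Subgroup.map_subtype_le N
  have hQq : IsPGroup q ↥Q := by rw [hQdef]; exact hNpg.map H.subtype
  have hHQ : H ≤ Subgroup.normalizer (Q : Set G) := by
    apply Cfsg.Agent.Lib.Helper10.BG.le_normalizer_of_conj_mem
    intro h hh x hx
    rw [hQdef] at hx ⊢
    obtain ⟨y, hy, rfl⟩ := Subgroup.mem_map.mp hx
    exact Subgroup.mem_map.mpr ⟨⟨h, hh⟩ * y * ⟨h, hh⟩⁻¹, hNnorm.conj_mem y hy ⟨h, hh⟩, rfl⟩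
  have hpowQ : ∀ (x : G) (hx : x ∈ H) (m : ℕ), x ^ m = 1 → (N.index).Coprime m → x ∈ Q := by
    intro x hx m hxm hcop
    have h1 : (⟨x, hx⟩ : ↥H) ^ m = 1 := Subtype.ext (by simpa using hxm)
    rw [hQdef]
    exact Subgroup.mem_map.mpr ⟨⟨x, hx⟩, mem_of_pow_eq_one_of_coprime_index N hcop h1, rfl⟩
  have hQ1 : Q ≠ ⊥ := by
    intro hQbot
    rw [hQdef] at hQbot
    have hNbot : N = ⊥ := (Subgroup.map_eq_bot_iff_of_injective N H.subtype_injective).mp hQbot
    apply hNidx
    rw [hNbot, Subgroup.index_bot]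
    exact hqdvd
  have hqp : q ≠ p := by
    intro hqp
    have hAQ : A ≤ Q := by
      intro a ha
      obtain ⟨j, hj⟩ := c.isPGroup ⟨a, ha⟩
      have hj' : a ^ p ^ j = 1 := by simpa using congrArg Subtype.val hj
      refine hpowQ a (hAH ha) (p ^ j) hj' ?_
      rw [← hqp]
      exact hcopidx j
    have hQF : Q ≤ fittingOf H :=
      (le_pCoreOf hQH hHQ hQq).trans (pCoreOf_le_fittingOf hq H)
    exact c.rk (pRankLE_of_injective (Subgroup.inclusion (hAQ.trans hQF))
      (Subgroup.inclusion_injective _) (hr p hp))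
  have hNQ : Subgroup.normalizer (Q : Set G) = H :=
    normalizer_eq_of_isCoatom' c.hG hH hQ1 hQH hHQ
  have hInvQ : Inv A q Q := ⟨hQq, hAH.trans hHQ⟩
  have hMaxQ : MaxInv A q Q := by
    refine ⟨hInvQ, fun R hR hQR => ?_⟩
    by_contra hne
    have hlt : Q < R := lt_of_le_of_ne hQR (Ne.symm hne)
    obtain ⟨x, hxR, hxN, hxQ⟩ := exists_normalizer_not_mem hR.1 hlt
    rw [hNQ] at hxN
    obtain ⟨j, hj⟩ := hR.1 ⟨x, hxR⟩
    have hj' : x ^ q ^ j = 1 := by simpa using congrArg Subtype.val hj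
    exact hxQ (hpowQ x hxN (q ^ j) hj' (hcopidx j))
  intro n hn
  have hMax' : MaxInv A q (MulAut.conj n • Q) := maxInv_conj_normalizer hn hMaxQ
  obtain ⟨k', hk'C, hk'⟩ := c.trans hqp hMaxQ hMax'
  have hk'N : MulAut.conj k' • Q = Q :=
    Cfsg.Agent.Lib.Helper1.conj_smul_eq_self_iff_mem_normalizer.mpr (hHQ (hCH hk'C))
  rw [hk'N] at hk'
  have hnQ : n ∈ Subgroup.normalizer (Q : Set G) :=
    Cfsg.Agent.Lib.Helper1.conj_smul_eq_self_iff_mem_normalizer.mp hk'
  rw [hNQ] at hnQ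
  exact hnQ

/-- (N), second case: the Fitting subgroup of `H` has `s`-rank at least three. -/
theorem normalizer_le_of_not_pRankLE {H : Subgroup G} (hH : IsCoatom H)
    (hCH : Subgroup.centralizer (A : Set G) ≤ H) {s : ℕ} (hs : s.Prime)
    (hr : ¬ PRankLE s 2 ↥(fittingOf H)) : Subgroup.normalizer (A : Set G) ≤ H := by
  have : Fact s.Prime := ⟨hs⟩
  have hAH : A ≤ H := c.le_of_centralizer_le hCH
  have hH1 : H ≠ ⊥ := by
    intro h
    rw [h] at hAH
    exact c.ne_bot (le_bot_iff.mp hAH)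
  have hsp : s ≠ p := by
    intro hsp
    rw [hsp] at hr
    exact hr (c.rank_fitting hH)
  obtain ⟨V, hVF, hVe, hVcard⟩ := Cfsg.Agent.S1400.exists_elementary_of_not_pRankLE hr
  have hVs : IsPGroup s ↥V := Cfsg.Agent.Lib.Lead.BGTrans.isPGroup_of_pow_eq_one hVe.2
  have hVU : InUniqueMaximal V := Cfsg.Agent.S1401.result c.hG H hH s hr V hVs hVe.1
    (not_pRankLE_of_le le_rfl hVe hVcard)
  have hRs : IsPGroup s ↥(pCoreOf s H) := isPGroup_pCoreOf s H
  have hRH : pCoreOf s H ≤ H := pCoreOf_le s H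
  have hHR : H ≤ Subgroup.normalizer (pCoreOf s H : Set G) := le_normalizer_pCoreOf s H
  have hVR : V ≤ pCoreOf s H := pgroup_le_pCoreOf_of_le_fittingOf hs hVF hVs
  obtain ⟨M, hM, hVM, hMuniq⟩ := inUniqueMaximal_exists hVU
  have hMH : H = M := hMuniq H hH (hVR.trans hRH)
  have huniq : ∀ L : Subgroup G, IsCoatom L → V ≤ L → L = H := fun L hL hVL =>
    (hMuniq L hL hVL).trans hMH.symm
  have hInvR : Inv A s (pCoreOf s H) := ⟨hRs, hAH.trans hHR⟩
  obtain ⟨Rs, hRRs, hRsmax⟩ := Finite.exists_le_maximal (p := Inv A s) hInvR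
  have hMaxRs : MaxInv A s Rs :=
    ⟨hRsmax.prop, fun T hT hle => le_antisymm (hRsmax.2 hT hle) hle⟩
  have hNH : Subgroup.normalizer (H : Set G) = H :=
    normalizer_eq_of_isCoatom c.hG hH hH1 hH.1 Subgroup.le_normalizer
  intro n hn
  have hMax' : MaxInv A s (MulAut.conj n • Rs) := maxInv_conj_normalizer hn hMaxRs
  obtain ⟨k, hkC, hk⟩ := c.trans hsp hMaxRs hMax'
  have hTs : IsPGroup s ↥(MulAut.conj k • Rs : Subgroup G) := by
    rw [← hk]
    exact hMax'.1.1
  obtain ⟨L, hL, hTL⟩ :=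
    exists_isCoatom_ge (Cfsg.Agent.Lib.Lead.BGTrans.pgroup_ne_top c.hG.2 hTs)
  have hkR : MulAut.conj k • pCoreOf s H = pCoreOf s H :=
    Cfsg.Agent.Lib.Helper1.conj_smul_eq_self_iff_mem_normalizer.mpr (hHR (hCH hkC))
  have hRT : pCoreOf s H ≤ MulAut.conj k • Rs := by
    calc pCoreOf s H = MulAut.conj k • pCoreOf s H := hkR.symm
      _ ≤ MulAut.conj k • Rs := Subgroup.pointwise_smul_le_pointwise_smul_iff.mpr hRRs
  have hLH : L = H := huniq L hL ((hVR.trans hRT).trans hTL)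
  have h1 : MulAut.conj n • pCoreOf s H ≤ H := by
    calc MulAut.conj n • pCoreOf s H ≤ MulAut.conj n • Rs :=
          Subgroup.pointwise_smul_le_pointwise_smul_iff.mpr hRRs
      _ = MulAut.conj k • Rs := hk
      _ ≤ L := hTL
      _ = H := hLH
  have h2 : V ≤ MulAut.conj n⁻¹ • H := by
    have h3 : MulAut.conj n • V ≤ H :=
      (Subgroup.pointwise_smul_le_pointwise_smul_iff.mpr hVR).trans h1
    rw [map_inv]
    exact Subgroup.pointwise_smul_subset_iff.mp h3
  have h4 : MulAut.conj n⁻¹ • H = H := huniq _ (isCoatom_conj_smul n⁻¹ hH) h2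
  have h5 : n⁻¹ ∈ Subgroup.normalizer (H : Set G) :=
    Cfsg.Agent.Lib.Helper1.conj_smul_eq_self_iff_mem_normalizer.mp h4
  rw [hNH] at h5
  have h6 := H.inv_mem h5
  rwa [inv_inv] at h6

/-- (N) every maximal subgroup containing `C(A)` contains `N(A)`. -/
theorem normalizer_le {H : Subgroup G} (hH : IsCoatom H)
    (hCH : Subgroup.centralizer (A : Set G) ≤ H) : Subgroup.normalizer (A : Set G) ≤ H := by
  by_cases hr : RankLE 2 ↥(fittingOf H)
  · exact c.normalizer_le_of_rankLE hH hCH hr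
  · unfold RankLE at hr
    push Not at hr
    obtain ⟨s, hs, hsr⟩ := hr
    exact c.normalizer_le_of_not_pRankLE hH hCH hs hsr

/-- `A₀ = [A, N(A)] ≤ A`. -/
theorem comm_le : ⁅A, Subgroup.normalizer (A : Set G)⁆ ≤ A :=
  Cfsg.Agent.Lib.Helper1.commutator_le_of_le_normalizer le_rfl

/-- `A₀ ≠ 1`, by Burnside's transfer theorem. -/
theorem comm_ne_bot : ⁅A, Subgroup.normalizer (A : Set G)⁆ ≠ ⊥ := by
  intro hbot
  rw [Subgroup.commutator_eq_bot_iff_le_centralizer] at hbot
  have hNC : Subgroup.normalizer (A : Set G) ≤ Subgroup.centralizer (A : Set G) :=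
    le_centralizer_symm hbot
  have hPA : (P : Subgroup G) = A := by
    apply le_antisymm _ c.scn.1
    intro x hx
    have h1 : x ∈ (P : Subgroup G) ⊓ Subgroup.centralizer (A : Set G) :=
      ⟨hx, hNC (c.scn.2.1 hx)⟩
    rw [c.scn.2.2] at h1
    exact h1
  have hP : Subgroup.normalizer ((P : Subgroup G) : Set G) ≤
      Subgroup.centralizer ((P : Subgroup G) : Set G) := by
    rw [hPA]
    exact hNC
  have hcompl := MonoidHom.ker_transferSylow_isComplement' P hP
  have : IsSimpleGroup G := c.hG.2.1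
  have hcard := hcompl.card_mul_card
  have hnormal : (MonoidHom.transferSylow P hP).ker.Normal := inferInstance
  rcases hnormal.eq_bot_or_eq_top with hK | hK
  · rw [hK, Subgroup.card_bot, one_mul] at hcard
    have htop : (P : Subgroup G) = ⊤ := (Subgroup.card_eq_iff_eq_top _).mp hcard
    exact Cfsg.Agent.Lib.Lead.BGTrans.pgroup_ne_top c.hG.2 P.isPGroup' htop
  · rw [hK, Subgroup.card_top] at hcard
    have hG0 : 0 < Nat.card G := Nat.card_pos
    have h1 : Nat.card ↥(P : Subgroup G) = 1 :=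
      Nat.eq_of_mul_eq_mul_left hG0 (by rw [hcard, mul_one])
    have hPbot : (P : Subgroup G) = ⊥ := Subgroup.card_eq_one.mp h1
    exact c.ne_bot (by rw [← hPA, hPbot])

/-- (C) `A₀` centralizes `O_s(H)` for every prime `s ≠ p` and maximal `H ⊇ C(A)`. -/
theorem comm_le_centralizer_aux {H : Subgroup G} (hH : IsCoatom H)
    (hCH : Subgroup.centralizer (A : Set G) ≤ H) {s : ℕ} (hs : s.Prime) (hsp : s ≠ p)
    {R : Subgroup G} (hRdef : R = pCoreOf s H) :
    ⁅A, Subgroup.normalizer (A : Set G)⁆ ≤ Subgroup.centralizer (R : Set G) := by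
  have hp : p.Prime := Fact.out
  have : Fact s.Prime := ⟨hs⟩
  have hRs : IsPGroup s ↥R := by rw [hRdef]; exact isPGroup_pCoreOf s H
  have hRH : R ≤ H := by rw [hRdef]; exact pCoreOf_le s H
  have hHR : H ≤ Subgroup.normalizer (R : Set G) := by
    rw [hRdef]; exact le_normalizer_pCoreOf s H
  have hRF : R ≤ fittingOf H := by rw [hRdef]; exact pCoreOf_le_fittingOf hs H
  have hAH : A ≤ H := c.le_of_centralizer_le hCH
  have hNH : Subgroup.normalizer (A : Set G) ≤ H := c.normalizer_le hH hCH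
  have hA0A : ⁅A, Subgroup.normalizer (A : Set G)⁆ ≤ A := c.comm_le
  have hA0HH : ⁅A, Subgroup.normalizer (A : Set G)⁆ ≤ ⁅H, H⁆ :=
    Subgroup.commutator_mono hAH hNH
  have hpow : ∀ a ∈ ⁅A, Subgroup.normalizer (A : Set G)⁆, ∃ j : ℕ, a ^ p ^ j = 1 := by
    intro a ha
    obtain ⟨j, hj⟩ := c.isPGroup ⟨a, hA0A ha⟩
    exact ⟨j, by simpa using congrArg Subtype.val hj⟩
  by_cases hR1 : R = ⊥
  · intro a _
    rw [Subgroup.mem_centralizer_iff]
    intro r hr
    have hr1 : r = 1 := by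
      have hr' : r ∈ R := hr
      rw [hR1] at hr'
      exact Subgroup.mem_bot.mp hr'
    rw [hr1, one_mul, mul_one]
  have hs2 : s ≠ 2 := prime_ne_two_of_pgroup c.hG hRs hR1
  by_cases hn : IsNarrowSub s R
  · have key := isNarrowSub_commutator_pgroup hs2 R H hRs hn hHR
      (isSolvable_of_ne_top c.hG hH.1) (odd_card_subgroup c.hG H)
    intro a ha
    obtain ⟨k, hk⟩ := key a (hA0HH ha)
    obtain ⟨j, hj⟩ := hpow a ha
    exact mem_of_pow_mem_of_coprime hj
      (Nat.Coprime.pow j k ((Nat.coprime_primes hp hs).mpr (Ne.symm hsp))) hk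
  · -- the wide case
    have hR3 : ¬ PRankLE s 2 ↥R := fun h => hn (Or.inl h)
    have hFr : ¬ PRankLE s 2 ↥(fittingOf H) := fun h =>
      hR3 (pRankLE_of_injective (Subgroup.inclusion hRF) (Subgroup.inclusion_injective hRF) h)
    have hwide : ∀ E2 : Subgroup G, E2 ≤ R → IsElementaryAbelian s E2 →
        ¬ PRankLE s 2 ↥(Subgroup.centralizer (E2 : Set G)) := by
      intro E2 hE2R hE2e hrk
      apply hn
      apply isNarrowSub_of_centralizer_rank R E2 hRs hE2R hE2e.1 hE2e.2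
      exact pRankLE_of_injective (Subgroup.inclusion inf_le_right)
        (Subgroup.inclusion_injective _) hrk
    obtain ⟨V0, hV0F, hV0e, hV0card⟩ := Cfsg.Agent.S1400.exists_elementary_of_not_pRankLE hFr
    have hV0s : IsPGroup s ↥V0 := Cfsg.Agent.Lib.Lead.BGTrans.isPGroup_of_pow_eq_one hV0e.2
    have hV03 : ¬ PRankLE s 2 ↥V0 := not_pRankLE_of_le le_rfl hV0e hV0card
    have hV0U : InUniqueMaximal V0 :=
      Cfsg.Agent.S1401.result c.hG H hH s hFr V0 hV0s hV0e.1 hV03
    have hYuniq : ∀ Y : Subgroup G, Y ≤ R → ¬ IsCyclic ↥Y →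
        ∀ L : Subgroup G, IsCoatom L → Y ≤ L → L = H := by
      intro Y hYR hYnc L hL hYL
      have hYs : IsPGroup s ↥Y := hRs.to_le hYR
      have hY1 : ¬ PRankLE s 1 ↥Y := not_pRankLE_one_of_not_isCyclic hs2 hYs hYnc
      obtain ⟨E2, hE2Y, hE2e, hE2card⟩ :=
        Cfsg.Agent.S1400.exists_elementary_of_not_pRankLE hY1
      have hE2s : IsPGroup s ↥E2 := hYs.to_le hE2Y
      have hE2nc : ¬ IsCyclic ↥E2 :=
        Cfsg.Agent.S1401.not_isCyclic_of_elementary hs hE2e (by simpa using hE2card)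
      have hE2U : InUniqueMaximal E2 :=
        Cfsg.Agent.S1400.result c.hG s V0 E2 hV0s hV0e.1 hV03 hV0U hE2s hE2nc
          (hwide E2 (hE2Y.trans hYR) hE2e)
      obtain ⟨M, hM, hE2M, hMuniq⟩ := inUniqueMaximal_exists hE2U
      have h1 : H = M := hMuniq H hH (hE2Y.trans (hYR.trans hRH))
      have h2 : L = M := hMuniq L hL (hE2Y.trans hYL)
      rw [h2, h1]
    obtain ⟨E, hEA, hEe, hEcard⟩ := c.exists_elementary
    have hRp : ¬ p ∣ Nat.card ↥R :=
      (Nat.Prime.coprime_iff_not_dvd hp).mp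
        (coprime_card_prime_of_isPGroup hp hs (Ne.symm hsp) hRs).symm
    have hER : E ≤ Subgroup.normalizer (R : Set G) := (hEA.trans hAH).trans hHR
    have hgen := Cfsg.Agent.S1324.result p E R hEe (le_of_lt hEcard) hRp hER
    intro a ha
    have h1 : a ∈ Subgroup.centralizer
        ((⨆ B : {B : Subgroup G // B ≤ E ∧ B.relIndex E ≤ p},
          R ⊓ Subgroup.centralizer ((B : Subgroup G) : Set G) : Subgroup G) : Set G) := by
      rw [mem_centralizer_iSup_iff]
      rintro ⟨B, hBE, hBidx⟩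
      show a ∈ Subgroup.centralizer
        ((R ⊓ Subgroup.centralizer (B : Set G) : Subgroup G) : Set G)
      have hBA : B ≤ A := hBE.trans hEA
      have hBr : ¬ RankLE 1 ↥B := hyperplane_rank hp hEe hEcard hBE hBidx
      obtain ⟨H', hH'c, hCBH', hH'ne⟩ := c.exists_other_coatom hBA hBr H hH
      have hCAH' : Subgroup.centralizer (A : Set G) ≤ H' := (centralizer_anti hBA).trans hCBH'
      have hNH' : Subgroup.normalizer (A : Set G) ≤ H' := c.normalizer_le hH'c hCAH'
      have hZcyc : IsCyclic ↥(H' ⊓ R : Subgroup G) := by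
        by_contra hnc
        exact hH'ne (hYuniq _ inf_le_right hnc H' hH'c inf_le_left)
      have hNZ : Subgroup.normalizer (A : Set G) ≤
          Subgroup.normalizer ((H' ⊓ R : Subgroup G) : Set G) :=
        le_normalizer_inf (hNH'.trans Subgroup.le_normalizer) (hNH.trans hHR)
      have h2 := commutator_le_centralizer_of_isCyclic hZcyc hNZ
      have h3 : ⁅A, Subgroup.normalizer (A : Set G)⁆ ≤
          ⁅Subgroup.normalizer (A : Set G), Subgroup.normalizer (A : Set G)⁆ :=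
        Subgroup.commutator_mono Subgroup.le_normalizer le_rfl
      have h4 : R ⊓ Subgroup.centralizer (B : Set G) ≤ H' ⊓ R :=
        le_inf (inf_le_right.trans hCBH') inf_le_left
      exact centralizer_anti h4 (h2 (h3 ha))
    rwa [← hgen] at h1

/-- (D) `A₀` centralizes `O_{p'}(H)` for every maximal `H ⊇ C(A)`. -/
theorem comm_le_centralizer_ppCoreOf {H : Subgroup G} (hH : IsCoatom H)
    (hCH : Subgroup.centralizer (A : Set G) ≤ H) :
    ⁅A, Subgroup.normalizer (A : Set G)⁆ ≤ Subgroup.centralizer (ppCoreOf p H : Set G) := by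
  have hAH : A ≤ H := c.le_of_centralizer_le hCH
  have hA0A : ⁅A, Subgroup.normalizer (A : Set G)⁆ ≤ A := c.comm_le
  have hFC : ⁅A, Subgroup.normalizer (A : Set G)⁆ ≤
      Subgroup.centralizer (fitCompl p H : Set G) := by
    intro a ha
    rw [mem_centralizer_fitCompl_iff]
    intro q hq hqp
    exact c.comm_le_centralizer_aux hH hCH hq hqp rfl ha
  exact le_centralizer_ppCoreOf_of_le_centralizer_fitCompl (isSolvable_of_ne_top c.hG hH.1)
    (c.isPGroup.to_le hA0A) (hA0A.trans hAH) hFC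

/-- (E) every `A`-invariant `p'`-subgroup is centralized by `A₀`. -/
theorem invariant_le_centralizer_comm {Y : Subgroup G} (hY : (Nat.card ↥Y).Coprime p)
    (hAY : A ≤ Subgroup.normalizer (Y : Set G)) :
    Y ≤ Subgroup.centralizer ((⁅A, Subgroup.normalizer (A : Set G)⁆ : Subgroup G) : Set G) := by
  have hp : p.Prime := Fact.out
  obtain ⟨E, hEA, hEe, hEcard⟩ := c.exists_elementary
  have hYp : ¬ p ∣ Nat.card ↥Y := (Nat.Prime.coprime_iff_not_dvd hp).mp hY.symm
  have hgen := Cfsg.Agent.S1324.result p E Y hEe (le_of_lt hEcard) hYp (hEA.trans hAY)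
  refine hgen.le.trans (iSup_le ?_)
  rintro ⟨B, hBE, hBidx⟩
  show Y ⊓ Subgroup.centralizer (B : Set G) ≤ _
  have hBA : B ≤ A := hBE.trans hEA
  have hBr : ¬ RankLE 1 ↥B := hyperplane_rank hp hEe hEcard hBE hBidx
  obtain ⟨H, hH, hCBH⟩ := exists_isCoatom_ge
    (centralizer_ne_top_of_ne_bot c.hG.2 (ne_bot_of_not_rankLE hBr))
  have hCAH : Subgroup.centralizer (A : Set G) ≤ H := (centralizer_anti hBA).trans hCBH
  have hAH : A ≤ H := c.le_of_centralizer_le hCAH
  have hACB : A ≤ Subgroup.centralizer (B : Set G) :=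
    c.le_centralizer.trans (centralizer_anti hBA)
  have hmem : Y ⊓ Subgroup.centralizer (B : Set G) ∈
      invSubgroups H A (primesNotDvd (Nat.card ↥A)) := by
    refine ⟨inf_le_right.trans hCBH, ?_,
      le_normalizer_inf hAY (hACB.trans Subgroup.le_normalizer)⟩
    intro r hr hrd
    refine ⟨hr, fun hrA => ?_⟩
    have hrY : r ∣ Nat.card ↥Y := hrd.trans (Subgroup.card_dvd_of_le inf_le_left)
    have hrp : r = p := by
      obtain ⟨k, hk⟩ := c.isPGroup.exists_card_eq
      rw [hk] at hrA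
      exact (Nat.prime_dvd_prime_iff_eq hr hp).mp (hr.dvd_of_dvd_pow hrA)
    rw [hrp] at hrY
    exact hYp hrY
  have h1 : Y ⊓ Subgroup.centralizer (B : Set G) ≤
      piCoreOf (primesNotDvd (Nat.card ↥A)) H := by
    rw [← c.hyp.2.2 H hH.1 hAH]
    exact le_sSup hmem
  have h2 : piCoreOf (primesNotDvd (Nat.card ↥A)) H ≤ ppCoreOf p H := by
    apply le_ppCoreOf (Cfsg.Agent.Lib.Lead.BGTrans.piCoreOf_le _ _)
      (Cfsg.Agent.Lib.Lead.BGTrans.le_normalizer_piCoreOf _ _)
    exact Nat.Coprime.coprime_dvd_right c.p_dvd_card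
      (Cfsg.Agent.Lib.Lead.BGTrans.coprime_of_isPiNat_primesNotDvd
        (Cfsg.Agent.Lib.Lead.BGTrans.piCoreOf_isPiNat _ _))
  exact (h1.trans h2).trans (le_centralizer_symm (c.comm_le_centralizer_ppCoreOf hH hCAH))

/-- the contradiction. -/
theorem false_of : False := by
  have hA0 := c.comm_ne_bot
  obtain ⟨M1, hM1c, hM1⟩ := exists_isCoatom_ge (centralizer_ne_top_of_ne_bot c.hG.2 hA0)
  have hAM1 : A ≤ M1 := (c.le_centralizer.trans (centralizer_anti c.comm_le)).trans hM1
  have hinv : ∀ Y : Subgroup G, (Nat.card ↥Y).Coprime p →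
      A ≤ Subgroup.normalizer (Y : Set G) → Y ≤ M1 :=
    fun Y h1 h2 => (c.invariant_le_centralizer_comm h1 h2).trans hM1
  exact c.notU (inUniqueMaximal_of hM1c hAM1 (fun L hL hAL =>
    eq_of_isCoatom_of_invariant_le c.hG hM1c c.ne_bot c.isPGroup hAM1 hinv hL hAL))

end Ctx

/-- **Bender--Glauberman, Lemma 9.5.** -/
theorem inUniqueMaximal_of_isSCN (hG : IsMinSimpleOddOrder G) (p : ℕ) [Fact p.Prime]
    (P : Sylow p G) (A : Subgroup G) (hA : IsSCN (P : Subgroup G) A)
    (hA3 : ¬ PRankLE p 2 ↥A) : InUniqueMaximal A := by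
  by_contra h
  exact Ctx.false_of (p := p) (P := P) ⟨hG, hA, hA3, h⟩

end Cfsg.Agent.Lib.Helper29.BG95
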