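import Mathlib
import Cfsg.Prelude
import Cfsg.Agent.Lib.Helper29.BG95b
import Cfsg.Agent.S1403

/-!
# Bender--Glauberman, Lemma 10.1

`M` a maximal subgroup of a minimal simple group of odd order, `p ∈ σ(M)`, `X ≠ 1` a `p`-subgroup
of `M`.  The centralizer of `X` permutes transitively the conjugates of `M` containing `X`.
-/

set_option autoImplicit false
open Cfsg
open scoped Pointwise

namespace Cfsg.Agent.Lib.Helper29.BG10

open Cfsg.Agent.Lib.Helper10.BG Cfsg.Agent.Lib.Helper10
open Cfsg.Agent.Lib.Helper29.BG95 (isCoatom_conj_smul centralizer_anti)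

variable {G : Type*} [Group G]

section Transport

theorem isSylowIn_smul {p : ℕ} {T X : Subgroup G} (h : IsSylowIn p T X) (a : MulAut G) :
    IsSylowIn p (a • T) (a • X) := by
  refine ⟨Subgroup.pointwise_smul_le_pointwise_smul_iff.mpr h.le, ?_, ?_⟩
  · exact h.isPGroup.map _
  · intro Q hQX hQ hTQ
    have h1 : a⁻¹ • Q ≤ X := Subgroup.subset_pointwise_smul_iff.mp hQX
    have h2 : T ≤ a⁻¹ • Q := Subgroup.pointwise_smul_subset_iff.mp hTQ
    have h3 : IsPGroup p ↥(a⁻¹ • Q : Subgroup G) := hQ.map _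
    have h4 := h.eq_of_le h1 h3 h2
    rw [← h4, smul_inv_smul]

theorem mem_normalizer_conj_smul {K : Subgroup G} {g n : G} :
    n ∈ Subgroup.normalizer ((MulAut.conj g • K : Subgroup G) : Set G) ↔
      g⁻¹ * n * g ∈ Subgroup.normalizer (K : Set G) := by
  rw [← Cfsg.Agent.Lib.Helper1.conj_smul_eq_self_iff_mem_normalizer,
    ← Cfsg.Agent.Lib.Helper1.conj_smul_eq_self_iff_mem_normalizer, smul_smul, ← map_mul]
  constructor
  · intro h
    have e : g⁻¹ * n * g = g⁻¹ * (n * g) := mul_assoc _ _ _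
    rw [e, map_mul, mul_smul, h, smul_smul, ← map_mul, inv_mul_cancel, map_one, one_smul]
  · intro h
    have e : n * g = g * (g⁻¹ * n * g) := by group
    rw [e, map_mul, mul_smul, h]

/-- a self-normalizing subgroup: equal conjugates differ by an element of the subgroup. -/
theorem mem_of_conj_smul_eq {M1 : Subgroup G}
    (hN : Subgroup.normalizer (M1 : Set G) = M1) {n c : G}
    (h : MulAut.conj n • M1 = MulAut.conj c • M1) : c⁻¹ * n ∈ M1 := by
  have h1 : MulAut.conj (c⁻¹ * n) • M1 = M1 := by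
    rw [map_mul, mul_smul, h, map_inv, inv_smul_smul]
  have h2 := Cfsg.Agent.Lib.Helper1.conj_smul_eq_self_iff_mem_normalizer.mp h1
  rwa [hN] at h2

theorem conj_smul_eq_self_of_mem {M1 : Subgroup G} {m : G} (hm : m ∈ M1) :
    MulAut.conj m • M1 = M1 :=
  Cfsg.Agent.Lib.Helper1.conj_smul_eq_self_iff_mem_normalizer.mpr (Subgroup.le_normalizer hm)

theorem dvd_card_of_isPGroup_ne_bot [Finite G] {p : ℕ} [Fact p.Prime] {X : Subgroup G} (hXp : IsPGroup p ↥X)
    (hX1 : X ≠ ⊥) : p ∣ Nat.card ↥X := by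
  obtain ⟨k, hk⟩ := hXp.exists_card_eq
  have hk0 : k ≠ 0 := by
    rintro rfl
    rw [pow_zero] at hk
    exact hX1 (Subgroup.card_eq_one.mp hk)
  rw [hk]
  exact dvd_pow_self p hk0

/-- `M1` is a conjugate of `M`. -/
def IsConjOf (M M1 : Subgroup G) : Prop := ∃ g : G, M1 = MulAut.conj g • M

theorem isConjOf_self (M : Subgroup G) : IsConjOf M M := ⟨1, by rw [map_one, one_smul]⟩

theorem IsConjOf.smul {M M1 : Subgroup G} (h : IsConjOf M M1) (g : G) :
    IsConjOf M (MulAut.conj g • M1) := by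
  obtain ⟨u, rfl⟩ := h
  exact ⟨g * u, by rw [map_mul, mul_smul]⟩

theorem IsConjOf.exists_conj {M M1 M2 : Subgroup G} (h1 : IsConjOf M M1) (h2 : IsConjOf M M2) :
    ∃ y : G, M2 = MulAut.conj y • M1 := by
  obtain ⟨u, rfl⟩ := h1
  obtain ⟨v, rfl⟩ := h2
  exact ⟨v * u⁻¹, by rw [map_mul, mul_smul, map_inv, inv_smul_smul]⟩

theorem IsConjOf.isCoatom {M M1 : Subgroup G} (hM : IsCoatom M) (h : IsConjOf M M1) :
    IsCoatom M1 := by
  obtain ⟨u, rfl⟩ := h
  exact isCoatom_conj_smul u hM

/-- normalizers of Sylow `p`-subgroups of `M` lie in `M`. -/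
def SylowNormalizerLE (p : ℕ) (M : Subgroup G) : Prop :=
  ∀ S : Subgroup G, IsSylowIn p S M → Subgroup.normalizer (S : Set G) ≤ M

theorem SylowNormalizerLE.smul {p : ℕ} {M : Subgroup G} (h : SylowNormalizerLE p M) (g : G) :
    SylowNormalizerLE p (MulAut.conj g • M) := by
  intro S hS n hn
  have hS' : IsSylowIn p ((MulAut.conj g)⁻¹ • S) M := by
    have h0 := isSylowIn_smul hS (MulAut.conj g)⁻¹
    rwa [inv_smul_smul] at h0
  have h1 : g⁻¹ * n * g ∈
      Subgroup.normalizer ((((MulAut.conj g)⁻¹ • S : Subgroup G)) : Set G) := by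
    rw [← map_inv]
    apply mem_normalizer_conj_smul.mpr
    have e : g⁻¹⁻¹ * (g⁻¹ * n * g) * g⁻¹ = n := by group
    rw [e]
    exact hn
  have h2 := h _ hS' h1
  rw [Subgroup.mem_pointwise_smul_iff_inv_smul_mem]
  have e2 : (MulAut.conj g)⁻¹ • n = g⁻¹ * n * g := by
    rw [← map_inv, MulAut.smul_def, MulAut.conj_apply, inv_inv]
  rw [e2]
  exact h2

theorem SylowNormalizerLE.of_isConjOf {p : ℕ} {M M1 : Subgroup G} (h : SylowNormalizerLE p M)
    (h1 : IsConjOf M M1) : SylowNormalizerLE p M1 := by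
  obtain ⟨u, rfl⟩ := h1
  exact h.smul u

theorem SylowNormalizerLE.isSylowIn_top [Finite G] {p : ℕ} [Fact p.Prime] {M S : Subgroup G}
    (h : SylowNormalizerLE p M) (hS : IsSylowIn p S M) : IsSylowIn p S ⊤ := by
  apply IsSylowIn.of_normalizer_le le_top hS.isPGroup
  intro x _ hxN hxp
  have hxM : x ∈ M := h S hS hxN
  have hle : S ⊔ Subgroup.zpowers x ≤ M :=
    sup_le hS.le ((Subgroup.zpowers_le).mpr hxM)
  have heq := hS.eq_of_le hle hxp le_sup_left
  have : x ∈ S ⊔ Subgroup.zpowers x :=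
    (le_sup_right : Subgroup.zpowers x ≤ S ⊔ Subgroup.zpowers x) (Subgroup.mem_zpowers x)
  rwa [heq] at this

theorem sylowNormalizerLE_of_mem_sigma [Finite G] {p : ℕ} [Fact p.Prime] {M : Subgroup G}
    (hp : p ∈ sigma M) : SylowNormalizerLE p M := by
  obtain ⟨-, -, P, hP⟩ := hp
  intro S hS n hn
  obtain ⟨x, hxM, hx⟩ := (isSylowIn_of_sylow P).exists_conj hS
  rw [← Cfsg.Agent.Lib.Helper1.conj_smul_eq_map] at hx
  rw [hx] at hn
  have h1 := hP (mem_normalizer_conj_smul.mp hn)
  have e : n = x * (x⁻¹ * n * x) * x⁻¹ := by group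
  rw [e]
  exact M.mul_mem (M.mul_mem hxM h1) (M.inv_mem hxM)

end Transport

section Main

variable [Finite G] {p : ℕ} [Fact p.Prime] {M : Subgroup G}

/-- the inductive step for normalizers: if a Sylow `p`-subgroup `R > X` of `N(X)` lies in a
conjugate `M'` of `M`, then `N(X) = C(X) (M' ∩ N(X))`. -/
theorem step_normalizer (hG : IsMinSimpleOddOrder G) (hM : IsCoatom M)
    {X : Subgroup G} (hXp : IsPGroup p ↥X) (hX1 : X ≠ ⊥)
    (IH : ∀ Y : Subgroup G, X < Y → IsPGroup p ↥Y → ∀ M1 : Subgroup G, IsConjOf M M1 →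
      ∀ M2 : Subgroup G, IsConjOf M M2 → Y ≤ M1 → Y ≤ M2 →
      ∃ c ∈ Subgroup.centralizer (Y : Set G), M2 = MulAut.conj c • M1)
    {M' : Subgroup G} (hM' : IsConjOf M M') {R : Subgroup G}
    (hR : IsSylowIn p R (Subgroup.normalizer (X : Set G))) (hXR : X < R) (hRM' : R ≤ M') :
    Subgroup.normalizer (X : Set G) ≤
      Subgroup.centralizer (X : Set G) ⊔ (M' ⊓ Subgroup.normalizer (X : Set G)) := by
  have hp : p.Prime := Fact.out
  have hXtop : X ≠ ⊤ := Cfsg.Agent.Lib.Lead.BGTrans.pgroup_ne_top hG.2 hXp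
  have hNtop : Subgroup.normalizer (X : Set G) ≠ ⊤ :=
    Cfsg.Agent.Lib.Lead.BGTrans.normalizer_ne_top hG.2 hX1 hXtop
  have hNsolv : Group.IsSolvable ↥(Subgroup.normalizer (X : Set G)) :=
    isSolvable_of_ne_top hG hNtop
  have hNodd : Odd (Nat.card ↥(Subgroup.normalizer (X : Set G))) := odd_card_subgroup hG _
  have hXN : X ≤ Subgroup.normalizer (X : Set G) := Subgroup.le_normalizer
  have hCN : Subgroup.centralizer (X : Set G) ≤ Subgroup.normalizer (X : Set G) :=
    Subgroup.centralizer_le_normalizer _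
  have hXM' : X ≤ M' := hXR.le.trans hRM'
  have hM'c : IsCoatom M' := hM'.isCoatom hM
  have hM'N : Subgroup.normalizer (M' : Set G) = M' :=
    normalizer_eq_of_isCoatom hG hM'c (ne_bot_of_le_ne_bot hX1 hXM') hM'c.1
      Subgroup.le_normalizer
  have hRp : IsPGroup p ↥R := hR.isPGroup
  have hRN : R ≤ Subgroup.normalizer (X : Set G) := hR.le
  -- `O_{p'}(N(X))` centralizes `X`
  have hDC : ppCoreOf p (Subgroup.normalizer (X : Set G)) ≤ Subgroup.centralizer (X : Set G) := by
    apply le_centralizer_of_commute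
    intro d hd x hx
    have hcop : (Nat.card ↥(ppCoreOf p (Subgroup.normalizer (X : Set G)))).Coprime
        (Nat.card ↥X) := by
      obtain ⟨k, hk⟩ := hXp.exists_card_eq
      rw [hk]
      exact Nat.Coprime.pow_right k (coprime_card_ppCoreOf p _)
    exact commute_of_normalize_of_inf_eq_bot ((ppCoreOf_le p _).trans le_rfl)
      (hXN.trans (le_normalizer_ppCoreOf p _)) (inf_eq_bot_of_coprime hcop) hd hx
  -- the inductive hypothesis for subgroups of `R` normalized by elements of `N(X)`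
  have hstep : ∀ S0 : Subgroup G, X < S0 → S0 ≤ R →
      Subgroup.normalizer (X : Set G) ⊓ Subgroup.normalizer (S0 : Set G) ≤
        Subgroup.centralizer (X : Set G) ⊔ (M' ⊓ Subgroup.normalizer (X : Set G)) := by
    intro S0 hXS0 hS0R n hn
    have hS0p : IsPGroup p ↥S0 := hRp.to_le hS0R
    have hS0M' : S0 ≤ M' := hS0R.trans hRM'
    have hS0n : S0 ≤ MulAut.conj n • M' := by
      have h1 : MulAut.conj n • S0 = S0 :=
        Cfsg.Agent.Lib.Helper1.conj_smul_eq_self_iff_mem_normalizer.mpr hn.2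
      rw [← h1]
      exact Subgroup.pointwise_smul_le_pointwise_smul_iff.mpr hS0M'
    obtain ⟨c, hc, hcM⟩ := IH S0 hXS0 hS0p M' hM' _ (hM'.smul n) hS0M' hS0n
    have hcX : c ∈ Subgroup.centralizer (X : Set G) := centralizer_anti hXS0.le hc
    have hmem : c⁻¹ * n ∈ M' := mem_of_conj_smul_eq hM'N hcM
    have hmemN : c⁻¹ * n ∈ Subgroup.normalizer (X : Set G) :=
      Subgroup.mul_mem _ (Subgroup.inv_mem _ (hCN hcX)) hn.1
    have e : n = c * (c⁻¹ * n) := by group
    rw [e]
    exact Subgroup.mul_mem_sup hcX ⟨hmem, hmemN⟩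
  have hRtarget : R ≤ Subgroup.centralizer (X : Set G) ⊔
      (M' ⊓ Subgroup.normalizer (X : Set G)) :=
    (le_inf hRM' hRN).trans le_sup_right
  by_cases hr : PRankLE p 2 ↥R
  · -- rank at most two: `N(X) = O_{p'}(N(X)) N_{N(X)}(R)`
    have hrN : PRankLE p 2 ↥(Subgroup.normalizer (X : Set G)) := by
      by_contra h
      exact (not_pRankLE_sylow_of_not_pRankLE hR h) hr
    have hpN : p ∣ Nat.card ↥(Subgroup.normalizer (X : Set G)) :=
      (dvd_card_of_isPGroup_ne_bot hXp hX1).trans (Subgroup.card_dvd_of_le hXN)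
    have hfac := le_ppCoreOf_sup_normalizer_of_pRankLE hNsolv hNodd hpN hR hrN
    exact hfac.trans (sup_le (hDC.trans le_sup_left) (hstep R hXR le_rfl))
  · -- rank at least three
    have hp2 : p ≠ 2 := prime_ne_two_of_pgroup hG hXp hX1
    obtain ⟨A1, hSCN, hA13⟩ := exists_isSCN_of_not_pRankLE hp2 hRp hr
    have hA1R : A1 ≤ R := hSCN.1
    by_cases hA1X : A1 ≤ X
    · -- `X` lies in a unique maximal subgroup
      have hX3 : ¬ PRankLE p 2 ↥X := fun h =>
        hA13 (pRankLE_of_injective (Subgroup.inclusion hA1X) (Subgroup.inclusion_injective _) h)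
      have hXU : InUniqueMaximal X :=
        Cfsg.Agent.S1403.result hG X hXtop
          (fun h => hX3 (pRankLE_mono hp (by norm_num) (h p hp)))
          (Or.inl (fun h => hX3 (h p hp)))
      obtain ⟨M0, -, -, huniq⟩ := inUniqueMaximal_exists hXU
      intro n hn
      have hXn : X ≤ MulAut.conj n • M' := by
        have h1 : MulAut.conj n • X = X :=
          Cfsg.Agent.Lib.Helper1.conj_smul_eq_self_iff_mem_normalizer.mpr hn
        rw [← h1]
        exact Subgroup.pointwise_smul_le_pointwise_smul_iff.mpr hXM'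
      have h2 : MulAut.conj n • M' = M' :=
        (huniq _ (isCoatom_conj_smul n hM'c) hXn).trans (huniq _ hM'c hXM').symm
      have h3 : n ∈ Subgroup.normalizer (M' : Set G) :=
        Cfsg.Agent.Lib.Helper1.conj_smul_eq_self_iff_mem_normalizer.mp h2
      rw [hM'N] at h3
      exact (le_sup_right : M' ⊓ Subgroup.normalizer (X : Set G) ≤ _) ⟨h3, hn⟩
    · -- Frattini argument with the normal closure of `A1`
      have hA1comm : ∀ a ∈ A1, ∀ b ∈ A1, a * b = b * a := by
        intro a ha b hb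
        have h1 : b ∈ R ⊓ Subgroup.centralizer (A1 : Set G) := by
          rw [hSCN.2.2]; exact hb
        exact (Subgroup.mem_centralizer_iff.mp h1.2 a ha)
      obtain ⟨At, hAtdef⟩ : ∃ At : Subgroup G, At = Subgroup.closure
          {y : G | ∃ h ∈ Subgroup.normalizer (X : Set G), ∃ a ∈ A1, y = h * a * h⁻¹} := ⟨_, rfl⟩
      have hAtle : At ≤ ppCoreOf p (Subgroup.normalizer (X : Set G)) ⊔ R := by
        rw [hAtdef, Subgroup.closure_le]
        rintro y ⟨h, hh, a, ha, rfl⟩
        exact conj_mem_ppCoreOf_sup_of_abelian hNsolv hNodd hR hA1R hA1comm hSCN.2.1 hh ha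
      have hA1At : A1 ≤ At := by
        intro a ha
        rw [hAtdef]
        exact Subgroup.subset_closure ⟨1, Subgroup.one_mem _, a, ha, by group⟩
      have hAtN : At ≤ Subgroup.normalizer (X : Set G) := by
        rw [hAtdef, Subgroup.closure_le]
        rintro y ⟨h, hh, a, ha, rfl⟩
        exact Subgroup.mul_mem _ (Subgroup.mul_mem _ hh (hRN (hA1R ha))) (Subgroup.inv_mem _ hh)
      have hNAt : Subgroup.normalizer (X : Set G) ≤ Subgroup.normalizer (At : Set G) := by
        apply Cfsg.Agent.Lib.Helper10.BG.le_normalizer_of_conj_mem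
        intro n hn y hy
        rw [hAtdef] at hy ⊢
        induction hy using Subgroup.closure_induction with
        | mem z hz =>
          obtain ⟨h, hh, a, ha, rfl⟩ := hz
          apply Subgroup.subset_closure
          exact ⟨n * h, Subgroup.mul_mem _ hn hh, a, ha, by group⟩
        | one =>
          rw [mul_one, mul_inv_cancel]
          exact Subgroup.one_mem _
        | mul z w _ _ hz hw =>
          have e : n * (z * w) * n⁻¹ = (n * z * n⁻¹) * (n * w * n⁻¹) := by group
          rw [e]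
          exact Subgroup.mul_mem _ hz hw
        | inv z _ hz =>
          have e : n * z⁻¹ * n⁻¹ = (n * z * n⁻¹)⁻¹ := by group
          rw [e]
          exact Subgroup.inv_mem _ hz
      obtain ⟨C, hCdef⟩ : ∃ C : Subgroup G,
          C = ppCoreOf p (Subgroup.normalizer (X : Set G)) ⊔ X ⊔ At := ⟨_, rfl⟩
      have hCle : C ≤ Subgroup.normalizer (X : Set G) := by
        rw [hCdef]
        exact sup_le (sup_le (ppCoreOf_le p _) hXN) hAtN
      have hNC : Subgroup.normalizer (X : Set G) ≤ Subgroup.normalizer (C : Set G) := by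
        rw [hCdef]
        exact Cfsg.Agent.Lib.Helper10.BG.le_normalizer_sup
          (Cfsg.Agent.Lib.Helper10.BG.le_normalizer_sup (le_normalizer_ppCoreOf p _) le_rfl) hNAt
      have hS0 : IsSylowIn p (R ⊓ C) C := hR.inf_normal hCle hNC
      have hXS0 : X < R ⊓ C := by
        have hle : X ≤ R ⊓ C := le_inf hXR.le (by rw [hCdef]; exact le_sup_right.trans le_sup_left)
        refine lt_of_le_of_ne hle ?_
        intro heq
        apply hA1X
        rw [heq]
        exact le_inf hA1R (by rw [hCdef]; exact hA1At.trans le_sup_right)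
      have hCtarget : C ≤ Subgroup.centralizer (X : Set G) ⊔
          (M' ⊓ Subgroup.normalizer (X : Set G)) := by
        rw [hCdef]
        refine sup_le (sup_le (hDC.trans le_sup_left) ((le_inf hXM' hXN).trans le_sup_right)) ?_
        exact hAtle.trans (sup_le (hDC.trans le_sup_left) hRtarget)
      exact frattini_le hCle hNC hS0 hCtarget (hstep _ hXS0 inf_le_left)

/-- **Lemma 10.1(a)**: the centralizer of a nontrivial `p`-subgroup `X` is transitive on the
conjugates of `M` containing `X`, when normalizers of Sylow `p`-subgroups of `M` lie in `M`. -/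
theorem exists_centralizer_conj (hG : IsMinSimpleOddOrder G) (hM : IsCoatom M)
    (hσ : SylowNormalizerLE p M) :
    ∀ X : Subgroup G, IsPGroup p ↥X → X ≠ ⊥ → ∀ M1 : Subgroup G, IsConjOf M M1 →
      ∀ M2 : Subgroup G, IsConjOf M M2 → X ≤ M1 → X ≤ M2 →
      ∃ c ∈ Subgroup.centralizer (X : Set G), M2 = MulAut.conj c • M1 := by
  intro X
  induction X using WellFoundedGT.induction with
  | ind X IH0 =>
  intro hXp hX1 M1 hM1 M2 hM2 hXM1 hXM2
  have IH : ∀ Y : Subgroup G, X < Y → IsPGroup p ↥Y → ∀ M1 : Subgroup G, IsConjOf M M1 →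
      ∀ M2 : Subgroup G, IsConjOf M M2 → Y ≤ M1 → Y ≤ M2 →
      ∃ c ∈ Subgroup.centralizer (Y : Set G), M2 = MulAut.conj c • M1 :=
    fun Y hXY hYp => IH0 Y hXY hYp (ne_bot_of_gt hXY)
  have hM1c : IsCoatom M1 := hM1.isCoatom hM
  have hM2c : IsCoatom M2 := hM2.isCoatom hM
  have hM2N : Subgroup.normalizer (M2 : Set G) = M2 :=
    normalizer_eq_of_isCoatom hG hM2c (ne_bot_of_le_ne_bot hX1 hXM2) hM2c.1
      Subgroup.le_normalizer
  by_cases hXtop : IsSylowIn p X ⊤
  · -- `X` is a Sylow subgroup of `G`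
    have hX2 : IsSylowIn p X M2 := hXtop.of_le hXM2 le_top
    have hNX2 : Subgroup.normalizer (X : Set G) ≤ M2 := (hσ.of_isConjOf hM2) X hX2
    obtain ⟨y, hy⟩ := hM1.exists_conj hM2
    have hXy : IsSylowIn p (MulAut.conj y • X) M2 := by
      rw [hy]
      exact isSylowIn_smul (hXtop.of_le hXM1 le_top) (MulAut.conj y)
    obtain ⟨m, hmM2, hm⟩ := hXy.exists_conj hX2
    rw [← Cfsg.Agent.Lib.Helper1.conj_smul_eq_map, smul_smul, ← map_mul] at hm
    have hmy : m * y ∈ M2 :=
      hNX2 (Cfsg.Agent.Lib.Helper1.conj_smul_eq_self_iff_mem_normalizer.mp hm.symm)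
    have hyM2 : y ∈ M2 := by
      have e : y = m⁻¹ * (m * y) := by group
      rw [e]
      exact M2.mul_mem (M2.inv_mem hmM2) hmy
    refine ⟨1, Subgroup.one_mem _, ?_⟩
    rw [map_one, one_smul]
    have h1 : M1 = MulAut.conj y⁻¹ • M2 := by rw [hy, map_inv, inv_smul_smul]
    rw [h1, conj_smul_eq_self_of_mem (M2.inv_mem hyM2)]
  · -- `X` is not a Sylow subgroup of `G`
    have hL1 : ∀ M' : Subgroup G, IsConjOf M M' → X ≤ M' →
        ∃ c ∈ Subgroup.centralizer (X : Set G), ∃ R : Subgroup G,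
          IsSylowIn p R (Subgroup.normalizer (X : Set G)) ∧ X < R ∧ R ≤ MulAut.conj c • M' := by
      intro M' hM' hXM'
      obtain ⟨S', hS', hXS'⟩ := exists_isSylowIn_ge hXM' hXp
      have hS'top : IsSylowIn p S' ⊤ := (hσ.of_isConjOf hM').isSylowIn_top hS'
      have hXltS' : X < S' := by
        refine lt_of_le_of_ne hXS' ?_
        intro heq
        apply hXtop
        rw [heq]
        exact hS'top
      obtain ⟨x, hxS', hxN, hxX⟩ :=
        Cfsg.Agent.Lib.Lead.Trans.exists_normalizer_not_mem hS'.isPGroup hXltS'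
      have hYp : IsPGroup p ↥(S' ⊓ Subgroup.normalizer (X : Set G) : Subgroup G) :=
        hS'.isPGroup.to_le inf_le_left
      have hXY : X < S' ⊓ Subgroup.normalizer (X : Set G) := by
        refine lt_of_le_of_ne (le_inf hXS' Subgroup.le_normalizer) ?_
        intro heq
        apply hxX
        rw [heq]
        exact ⟨hxS', hxN⟩
      obtain ⟨R, hR, hYR⟩ := exists_isSylowIn_ge
        (inf_le_right : S' ⊓ Subgroup.normalizer (X : Set G) ≤ Subgroup.normalizer (X : Set G))
        hYp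
      obtain ⟨S'', hS'', hRS''⟩ := exists_isSylowIn_ge (le_top : R ≤ ⊤) hR.isPGroup
      obtain ⟨u, -, hu⟩ := hS'top.exists_conj hS''
      rw [← Cfsg.Agent.Lib.Helper1.conj_smul_eq_map] at hu
      have hS''M : S'' ≤ MulAut.conj u • M' := by
        rw [hu]
        exact Subgroup.pointwise_smul_le_pointwise_smul_iff.mpr hS'.le
      obtain ⟨c, hc, hcM⟩ := IH _ hXY hYp M' hM' _ (hM'.smul u)
        (inf_le_left.trans hS'.le) ((hYR.trans hRS'').trans hS''M)
      refine ⟨c, centralizer_anti hXY.le hc, R, hR, lt_of_lt_of_le hXY hYR, ?_⟩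
      rw [← hcM]
      exact hRS''.trans hS''M
    obtain ⟨c1, hc1, R1, hR1, hXR1, hR1M⟩ := hL1 M1 hM1 hXM1
    obtain ⟨c2, hc2, R2, hR2, hXR2, hR2M⟩ := hL1 M2 hM2 hXM2
    obtain ⟨n, hnN, hn⟩ := hR1.exists_conj hR2
    rw [← Cfsg.Agent.Lib.Helper1.conj_smul_eq_map] at hn
    have hfac := step_normalizer hG hM hXp hX1 IH (hM1.smul c1) hR1 hXR1 hR1M hnN
    have hnorm : (MulAut.conj c1 • M1) ⊓ Subgroup.normalizer (X : Set G) ≤
        Subgroup.normalizer ((Subgroup.centralizer (X : Set G) : Subgroup G) : Set G) :=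
      inf_le_right.trans (le_normalizer_centralizer le_rfl)
    have hset := Subgroup.coe_mul_of_right_le_normalizer_left
      (Subgroup.centralizer (X : Set G)) _ hnorm
    have hn' : n ∈ ((Subgroup.centralizer (X : Set G) ⊔
        ((MulAut.conj c1 • M1) ⊓ Subgroup.normalizer (X : Set G)) : Subgroup G) : Set G) := hfac
    rw [hset] at hn'
    obtain ⟨c, hc, m, hm, hcm⟩ := Set.mem_mul.mp hn'
    have hR2le : R2 ≤ MulAut.conj c • (MulAut.conj c1 • M1) := by
      rw [hn, ← hcm, map_mul, mul_smul]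
      apply Subgroup.pointwise_smul_le_pointwise_smul_iff.mpr
      calc MulAut.conj m • R1 ≤ MulAut.conj m • (MulAut.conj c1 • M1) :=
            Subgroup.pointwise_smul_le_pointwise_smul_iff.mpr hR1M
        _ = MulAut.conj c1 • M1 := conj_smul_eq_self_of_mem hm.1
    obtain ⟨c3, hc3, hc3M⟩ := IH R2 hXR2 hR2.isPGroup _ ((hM1.smul c1).smul c) _ (hM2.smul c2)
      hR2le hR2M
    refine ⟨c2⁻¹ * c3 * c * c1, ?_, ?_⟩
    · exact Subgroup.mul_mem _ (Subgroup.mul_mem _ (Subgroup.mul_mem _ (Subgroup.inv_mem _ hc2)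
        (centralizer_anti hXR2.le hc3)) hc) hc1
    · rw [map_mul, map_mul, map_mul, mul_smul, mul_smul, mul_smul, ← hc3M, map_inv,
        inv_smul_smul]

end Main

end Cfsg.Agent.Lib.Helper29.BG10
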