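import Mathlib
import Cfsg.Agent.Lib.Helper1.CoprimeAbelian
import Cfsg.Agent.Lib.Helper1.FpfCyclic
import Cfsg.Agent.Lib.Helper1.Huppert1

/-!
General lemmas for BG Theorem 3.6 (S1444): cyclic `p`-groups, fixed points of `p`-groups,
norm maps and independence of centralizers of "hyperplanes".
-/

set_option autoImplicit false

namespace Cfsg.Agent.Lib.Helper29.BG36

open Subgroup Cfsg.Agent.Lib.Helper1
open scoped commutatorElement Pointwise

variable {G : Type*} [Group G]

/-- a nontrivial `p`-subgroup contains an element of order `p`. -/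
theorem exists_orderOf_eq_of_ne_bot [Finite G] {p : ℕ} [hp : Fact p.Prime] (U : Subgroup G)
    (hUp : IsPGroup p U) (hne : U ≠ ⊥) : ∃ u ∈ U, orderOf u = p := by
  have hcard : p ∣ Nat.card U := by
    obtain ⟨n, hn⟩ := IsPGroup.iff_card.mp hUp
    rw [hn]
    have : n ≠ 0 := by
      rintro rfl
      rw [pow_zero] at hn
      exact hne (Subgroup.card_eq_one.mp hn)
    exact dvd_pow_self p this
  obtain ⟨u, hu⟩ := exists_prime_orderOf_dvd_card' p hcard
  exact ⟨u, u.2, by rw [← hu, Subgroup.orderOf_coe]⟩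

/-- in a cyclic group, an element of order `p` lies in the subgroup generated by any other
element of order `p`. -/
theorem mem_zpowers_of_orderOf_eq {C : Type*} [Group C] [Finite C] [IsCyclic C] {p : ℕ}
    (hp : p.Prime) (a b : C) (ha : orderOf a = p) (hb : orderOf b = p) : b ∈ zpowers a := by
  classical
  have : Fintype C := Fintype.ofFinite C
  have hS : (Finset.univ.filter fun g : C => g ^ p = 1).card ≤ p :=
    IsCyclic.card_pow_eq_one_le hp.pos
  let T : Finset C := (Finset.univ.filter fun g : C => g ∈ zpowers a)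
  have hTS : T ⊆ Finset.univ.filter fun g : C => g ^ p = 1 := by
    intro g hg
    rw [Finset.mem_filter] at hg ⊢
    refine ⟨Finset.mem_univ _, ?_⟩
    obtain ⟨k, rfl⟩ := Subgroup.mem_zpowers_iff.mp hg.2
    rw [← zpow_natCast, ← zpow_mul, mul_comm, zpow_mul, zpow_natCast, ← ha, pow_orderOf_eq_one,
      one_zpow]
  have hTcard : T.card = p := by
    have h1 : T.card = Nat.card (zpowers a) := by
      rw [Nat.card_eq_fintype_card, Fintype.card_subtype]
    rw [h1, Nat.card_zpowers, ha]
  have hEq : T = Finset.univ.filter fun g : C => g ^ p = 1 :=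
    Finset.eq_of_subset_of_card_le hTS (by rw [hTcard]; exact hS)
  have hbS : b ∈ Finset.univ.filter fun g : C => g ^ p = 1 := by
    rw [Finset.mem_filter]
    exact ⟨Finset.mem_univ _, by rw [← hb, pow_orderOf_eq_one]⟩
  rw [← hEq, Finset.mem_filter] at hbS
  exact hbS.2

/-- two subgroups of a cyclic `p`-group with trivial intersection: one of them is trivial. -/
theorem eq_bot_or_eq_bot_of_isCyclic [Finite G] {p : ℕ} [hp : Fact p.Prime] (C U₁ U₂ : Subgroup G)
    (hC : IsCyclic C) (hCp : IsPGroup p C) (h1 : U₁ ≤ C) (h2 : U₂ ≤ C) (h : U₁ ⊓ U₂ = ⊥) :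
    U₁ = ⊥ ∨ U₂ = ⊥ := by
  by_contra hcon
  push Not at hcon
  obtain ⟨hU1, hU2⟩ := hcon
  obtain ⟨a, haU, ha⟩ := exists_orderOf_eq_of_ne_bot U₁ (hCp.to_le h1) hU1
  obtain ⟨b, hbU, hb⟩ := exists_orderOf_eq_of_ne_bot U₂ (hCp.to_le h2) hU2
  have h3 : (⟨b, h2 hbU⟩ : C) ∈ zpowers (⟨a, h1 haU⟩ : C) :=
    mem_zpowers_of_orderOf_eq hp.out _ _ (by rw [← ha, ← Subgroup.orderOf_coe])
      (by rw [← hb, ← Subgroup.orderOf_coe])
  obtain ⟨k, hk⟩ := Subgroup.mem_zpowers_iff.mp h3
  have hk' : a ^ k = b := by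
    have := congrArg Subtype.val hk
    simpa using this
  have hbU1 : b ∈ U₁ := hk' ▸ zpow_mem haU k
  have hb1 : b ∈ U₁ ⊓ U₂ := Subgroup.mem_inf.mpr ⟨hbU1, hbU⟩
  rw [h, Subgroup.mem_bot] at hb1
  rw [hb1, orderOf_one] at hb
  exact hp.out.one_lt.ne hb

/-- a `p`-group normalizing a nontrivial `p`-group has nontrivial fixed points on it. -/
theorem inf_centralizer_ne_bot_of_isPGroup [Finite G] {p : ℕ} [hp : Fact p.Prime]
    (A V : Subgroup G) (hA : IsPGroup p A) (hV : IsPGroup p V)
    (hAV : A ≤ normalizer (V : Set G)) (hne : V ≠ ⊥) :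
    V ⊓ centralizer (A : Set G) ≠ ⊥ := by
  classical
  have : Fintype V := Fintype.ofFinite V
  let ρ : A →* MulAut V := conjHomOn A V hAV
  let _ : MulAction A V := MulAction.compHom V ρ
  have hfix : (1 : V) ∈ MulAction.fixedPoints A V := by
    intro g
    show ρ g 1 = 1
    exact map_one _
  have hpV : p ∣ Nat.card V := by
    obtain ⟨n, hn⟩ := IsPGroup.iff_card.mp hV
    rw [hn]
    have : n ≠ 0 := by
      rintro rfl
      rw [pow_zero] at hn
      exact hne (Subgroup.card_eq_one.mp hn)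
    exact dvd_pow_self p this
  obtain ⟨b, hb, hb1⟩ := hA.exists_fixed_point_of_prime_dvd_card_of_fixed_point V hpV hfix
  intro hbot
  apply hb1
  have h1 : (b : G) ∈ V ⊓ centralizer (A : Set G) := by
    refine Subgroup.mem_inf.mpr ⟨b.2, ?_⟩
    rw [Subgroup.mem_centralizer_iff]
    intro a ha
    have h2 : ρ ⟨a, ha⟩ b = b := hb ⟨a, ha⟩
    have h3 : a * (b : G) * a⁻¹ = b := congrArg Subtype.val h2
    calc a * (b : G) = (a * (b : G) * a⁻¹) * a := by group
      _ = b * a := by rw [h3]
  rw [hbot, Subgroup.mem_bot] at h1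
  exact Subtype.ext h1.symm


theorem eq_one_of_pow_eq_one_of_coprime {H : Type*} [Group H] [Finite H] (g : H) (m : ℕ)
    (hm : g ^ m = 1) (hcop : m.Coprime (Nat.card H)) : g = 1 := by
  have h1 : orderOf g ∣ m := orderOf_dvd_of_pow_eq_one hm
  have h2 : orderOf g ∣ Nat.card H := orderOf_dvd_natCard g
  have h3 : orderOf g = 1 := Nat.eq_one_of_dvd_coprimes hcop h1 h2
  exact orderOf_eq_one_iff.mp h3

section Norm

variable [Finite G]

open scoped IsMulCommutative in
/-- the norm map lands in the centralizer of the acting group. -/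
theorem avgHom_mem_centralizer (A V : Subgroup G) [IsMulCommutative V] [Fintype A]
    (hAV : A ≤ normalizer (V : Set G)) (v : V) :
    ((avgHom A V hAV v : V) : G) ∈ centralizer (A : Set G) := by
  rw [Subgroup.mem_centralizer_iff]
  intro a ha
  have h1 : conjNormalizer V a (hAV ha) (avgHom A V hAV v) = avgHom A V hAV v := by
    show conjNormalizer V a (hAV ha) (∏ b : A, conjNormalizer V b (hAV b.2) v)
      = ∏ b : A, conjNormalizer V b (hAV b.2) v
    rw [map_prod]
    apply Fintype.prod_equiv (Equiv.mulLeft (⟨a, ha⟩ : A))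
    intro b
    apply Subtype.ext
    simp [conjNormalizer, mul_assoc]
  have h2 : a * ((avgHom A V hAV v : V) : G) * a⁻¹ = (avgHom A V hAV v : V) :=
    congrArg Subtype.val h1
  calc a * ((avgHom A V hAV v : V) : G)
      = (a * ((avgHom A V hAV v : V) : G) * a⁻¹) * a := by group
    _ = ((avgHom A V hAV v : V) : G) * a := by rw [h2]

open scoped IsMulCommutative in
/-- the norm map preserves the centralizer of a subgroup commuting with the acting group. -/
theorem avgHom_mem_centralizer_of_commute (A V N : Subgroup G) [IsMulCommutative V] [Fintype A]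
    (hAV : A ≤ normalizer (V : Set G)) (hAN : ∀ a ∈ A, ∀ n ∈ N, a * n = n * a)
    (v : V) (hv : (v : G) ∈ centralizer (N : Set G)) :
    ((avgHom A V hAV v : V) : G) ∈ centralizer (N : Set G) := by
  have h1 : avgHom A V hAV v ∈ (centralizer (N : Set G)).subgroupOf V := by
    show ∏ b : A, conjNormalizer V b (hAV b.2) v ∈ _
    apply Subgroup.prod_mem
    intro b _
    rw [Subgroup.mem_subgroupOf, Subgroup.mem_centralizer_iff]
    intro n hn
    show n * ((b : G) * v * (b : G)⁻¹) = (b : G) * v * (b : G)⁻¹ * n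
    have e1 := hAN b b.2 n hn
    have e2 := Subgroup.mem_centralizer_iff.mp hv n hn
    have e3 : n * (b : G)⁻¹ = (b : G)⁻¹ * n := by
      calc n * (b : G)⁻¹ = (b : G)⁻¹ * ((b : G) * n) * (b : G)⁻¹ := by group
        _ = (b : G)⁻¹ * (n * (b : G)) * (b : G)⁻¹ := by rw [e1]
        _ = (b : G)⁻¹ * n := by group
    calc n * ((b : G) * v * (b : G)⁻¹) = ((n * b) * v) * (b : G)⁻¹ := by group
      _ = ((b * n) * v) * (b : G)⁻¹ := by rw [e1]
      _ = (b * (n * v)) * (b : G)⁻¹ := by group
      _ = (b * (v * n)) * (b : G)⁻¹ := by rw [e2]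
      _ = b * v * (n * (b : G)⁻¹) := by group
      _ = b * v * ((b : G)⁻¹ * n) := by rw [e3]
      _ = (b : G) * v * (b : G)⁻¹ * n := by group
  exact h1

open scoped IsMulCommutative in
/-- **independence**: a product of elements of the centralizers in `V` of a family of subgroups
of the abelian group `W`, whose centralizers in `V` meet pairwise trivially, is trivial only if
all factors are. -/
theorem ind (V W : Subgroup G) [IsMulCommutative V]
    (hWab : ∀ a ∈ W, ∀ b ∈ W, a * b = b * a) (hWV : W ≤ normalizer (V : Set G))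
    (hcop : (Nat.card W).Coprime (Nat.card V))
    {ι : Type*} [Fintype ι] [DecidableEq ι] (Ms : ι → Subgroup G) (hMW : ∀ i, Ms i ≤ W)
    (hij : ∀ i j, i ≠ j →
      V ⊓ centralizer (Ms i : Set G) ⊓ centralizer (Ms j : Set G) = ⊥)
    (f : ι → V) (hf : ∀ i, ((f i : V) : G) ∈ centralizer (Ms i : Set G))
    (hprod : ∏ i, f i = 1) : ∀ i, f i = 1 := by
  classical
  intro j
  have : Fintype (Ms j) := Fintype.ofFinite _
  have hjV : Ms j ≤ normalizer (V : Set G) := (hMW j).trans hWV
  have h1 := congrArg (avgHom (Ms j) V hjV) hprod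
  rw [map_prod, map_one] at h1
  have h2 : ∏ i, avgHom (Ms j) V hjV (f i) = avgHom (Ms j) V hjV (f j) := by
    apply Finset.prod_eq_single j
    · intro i _ hne
      have h3 : ((avgHom (Ms j) V hjV (f i) : V) : G) ∈
          V ⊓ centralizer (Ms i : Set G) ⊓ centralizer (Ms j : Set G) := by
        refine Subgroup.mem_inf.mpr ⟨Subgroup.mem_inf.mpr ⟨(avgHom (Ms j) V hjV (f i)).2, ?_⟩, ?_⟩
        · apply avgHom_mem_centralizer_of_commute (Ms j) V (Ms i) hjV _ (f i) (hf i)
          intro a ha n hn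
          exact hWab a (hMW j ha) n (hMW i hn)
        · exact avgHom_mem_centralizer (Ms j) V hjV (f i)
      rw [hij i j hne, Subgroup.mem_bot] at h3
      exact Subtype.ext h3
    · intro h
      exact absurd (Finset.mem_univ j) h
  rw [h2, avgHom_of_mem_centralizer (Ms j) V hjV (f j) (hf j)] at h1
  apply eq_one_of_pow_eq_one_of_coprime (f j) _ h1
  rw [← Nat.card_eq_fintype_card]
  exact Nat.Coprime.coprime_dvd_left (Subgroup.card_dvd_of_le (hMW j)) hcop

end Norm

section Hyp

variable [Finite G]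

/-- `M` is a subgroup of index `q` of `W`. -/
def IsHyp (W : Subgroup G) (q : ℕ) (M : Subgroup G) : Prop :=
  M ≤ W ∧ Nat.card M * q = Nat.card W

theorem IsHyp.sup_eq {W M M' : Subgroup G} {q : ℕ} (hq : q.Prime) (h : IsHyp W q M)
    (h' : IsHyp W q M') (hne : M ≠ M') : M ⊔ M' = W := by
  have hle : M ⊔ M' ≤ W := sup_le h.1 h'.1
  have h1 : Nat.card M ∣ Nat.card ↥(M ⊔ M') := Subgroup.card_dvd_of_le le_sup_left
  have h2 : Nat.card ↥(M ⊔ M') ∣ Nat.card W := Subgroup.card_dvd_of_le hle
  obtain ⟨k, hk⟩ := h1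
  rw [hk, ← h.2] at h2
  have hMpos : 0 < Nat.card M := Nat.card_pos
  have h3 : k ∣ q := (Nat.mul_dvd_mul_iff_left hMpos).mp h2
  rcases (Nat.dvd_prime hq).mp h3 with rfl | rfl
  · exfalso
    rw [mul_one] at hk
    have h4 : M = M ⊔ M' := Subgroup.eq_of_le_of_card_ge le_sup_left (le_of_eq hk)
    have h5 : M' ≤ M := by rw [h4]; exact le_sup_right
    have h6 : Nat.card M' = Nat.card M :=
      Nat.eq_of_mul_eq_mul_right hq.pos (h'.2.trans h.2.symm)
    exact hne (Subgroup.eq_of_le_of_card_ge h5 (le_of_eq h6.symm)).symm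
  · apply Subgroup.eq_of_le_of_card_ge hle
    rw [hk, h.2]

theorem IsHyp.conj {W M : Subgroup G} {q : ℕ} (h : IsHyp W q M) {g : G}
    (hg : g ∈ normalizer (W : Set G)) : IsHyp W q (MulAut.conj g • M) := by
  refine ⟨?_, ?_⟩
  · rw [conj_smul_le_iff]
    intro m hm
    exact (Subgroup.mem_normalizer_iff.mp hg m).mp (h.1 hm)
  · rw [card_conj_smul]
    exact h.2

/-- the centralizers in `V` of two distinct hyperplanes meet trivially. -/
theorem inf_centralizer_eq_bot_of_hyp {V W M M' : Subgroup G} {q : ℕ} (hq : q.Prime)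
    (hCVW : V ⊓ centralizer (W : Set G) = ⊥) (h : IsHyp W q M) (h' : IsHyp W q M')
    (hne : M ≠ M') :
    V ⊓ centralizer (M : Set G) ⊓ centralizer (M' : Set G) = ⊥ := by
  rw [eq_bot_iff, ← hCVW]
  intro g hg
  obtain ⟨hg1, hg3⟩ := Subgroup.mem_inf.mp hg
  obtain ⟨hg1, hg2⟩ := Subgroup.mem_inf.mp hg1
  refine Subgroup.mem_inf.mpr ⟨hg1, ?_⟩
  have hM : M ≤ centralizer ({g} : Set G) := by
    intro m hm
    rw [Subgroup.mem_centralizer_iff]
    intro z hz
    rw [Set.mem_singleton_iff] at hz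
    rw [hz]
    exact (Subgroup.mem_centralizer_iff.mp hg2 m hm).symm
  have hM' : M' ≤ centralizer ({g} : Set G) := by
    intro m hm
    rw [Subgroup.mem_centralizer_iff]
    intro z hz
    rw [Set.mem_singleton_iff] at hz
    rw [hz]
    exact (Subgroup.mem_centralizer_iff.mp hg3 m hm).symm
  have hW : W ≤ centralizer ({g} : Set G) := by
    rw [← h.sup_eq hq h' hne]
    exact sup_le hM hM'
  rw [Subgroup.mem_centralizer_iff]
  intro w hw
  exact (Subgroup.mem_centralizer_iff.mp (hW hw) g rfl).symm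

omit [Finite G] in
/-- a nonidentity power of an element of prime order generates the same subgroup. -/
theorem mem_zpowers_of_prime {x z : G} {r : ℕ} (hr : r.Prime) (hx : orderOf x = r)
    (hz : z ∈ zpowers x) (hz1 : z ≠ 1) : x ∈ zpowers z := by
  have hfin : Finite (zpowers x) :=
    Nat.finite_of_card_ne_zero (by rw [Nat.card_zpowers, hx]; exact hr.ne_zero)
  have hle : zpowers z ≤ zpowers x := by
    rw [Subgroup.zpowers_le]
    exact hz
  have h1 : Nat.card (zpowers z) ∣ Nat.card (zpowers x) := Subgroup.card_dvd_of_le hle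
  rw [Nat.card_zpowers x, hx] at h1
  rcases (Nat.dvd_prime hr).mp h1 with h2 | h2
  · exfalso
    apply hz1
    have := Subgroup.card_eq_one.mp h2
    rw [Subgroup.zpowers_eq_bot] at this
    exact this
  · have h3 : zpowers z = zpowers x := by
      apply Subgroup.eq_of_le_of_card_ge hle
      rw [h2, Nat.card_zpowers x, hx]
    rw [h3]
    exact Subgroup.mem_zpowers x

omit [Finite G] in
theorem conj_mem_centralizer_conj {M : Subgroup G} {v y : G}
    (hv : v ∈ centralizer (M : Set G)) :
    y * v * y⁻¹ ∈ centralizer ((MulAut.conj y • M : Subgroup G) : Set G) := by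
  rw [Subgroup.mem_centralizer_iff]
  intro n hn
  have hm : y⁻¹ * n * y ∈ M := mem_conj_smul.mp hn
  have h1 := Subgroup.mem_centralizer_iff.mp hv _ hm
  calc n * (y * v * y⁻¹) = y * ((y⁻¹ * n * y) * v) * y⁻¹ := by group
    _ = y * (v * (y⁻¹ * n * y)) * y⁻¹ := by rw [h1]
    _ = y * v * y⁻¹ * n := by group

omit [Finite G] in
/-- the conjugates of a subgroup not normalized by `x` under the powers of `x` (of prime order)
are pairwise distinct. -/
theorem conj_smul_ne_of_not_mem_normalizer {M : Subgroup G} {x : G} {r : ℕ} (hr : r.Prime)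
    (hx : orderOf x = r) (hxM : x ∉ normalizer (M : Set G)) {y y' : G} (hy : y ∈ zpowers x)
    (hy' : y' ∈ zpowers x) (hne : y ≠ y') : MulAut.conj y • M ≠ MulAut.conj y' • M := by
  intro h
  have h1 : MulAut.conj (y'⁻¹ * y) • M = M := by
    rw [map_mul, mul_smul, h, map_inv, inv_smul_smul]
  have h2 := conj_smul_eq_self_iff_mem_normalizer.mp h1
  have h3 : y'⁻¹ * y ∈ zpowers x := mul_mem (inv_mem hy') hy
  have h4 : y'⁻¹ * y ≠ 1 := by
    intro h5
    apply hne
    have : y = y' * (y'⁻¹ * y) := by group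
    rw [this, h5, mul_one]
  have h5 := mem_zpowers_of_prime hr hx h3 h4
  apply hxM
  have h6 : zpowers (y'⁻¹ * y) ≤ normalizer (M : Set G) := by
    rw [Subgroup.zpowers_le]
    exact h2
  exact h6 h5

end Hyp

end Cfsg.Agent.Lib.Helper29.BG36
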