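import Mathlib
import Cfsg.Agent.Lib.Helper29.BG36a
import Cfsg.Agent.Lib.Helper29.BG101

/-!
BG Theorem 3.6 (S1444), the abelian endgame, part 1: fixed points of `x` on the centralizers of
hyperplanes moved by `x`.
-/

set_option autoImplicit false

namespace Cfsg.Agent.Lib.Helper29.BG36

open Subgroup Cfsg.Agent.Lib.Helper1
open scoped commutatorElement Pointwise

variable {G : Type*} [Group G] [Finite G]

/-- the data of the abelian endgame. -/
structure ABData (p q r : ℕ) (V W : Subgroup G) (x : G) : Prop where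
  hp : p.Prime
  hq : q.Prime
  hr : r.Prime
  hVab : ∀ a ∈ V, ∀ b ∈ V, a * b = b * a
  hVp : IsPGroup p V
  hWab : ∀ a ∈ W, ∀ b ∈ W, a * b = b * a
  hWq : ∀ a ∈ W, a ^ q = 1
  hpq : p ≠ q
  hx : orderOf x = r
  hWV : W ≤ normalizer (V : Set G)
  hxV : x ∈ normalizer (V : Set G)
  hxW : x ∈ normalizer (W : Set G)
  hCVW : V ⊓ centralizer (W : Set G) = ⊥
  hCVx : Nat.card ↥(V ⊓ centralizer ({x} : Set G)) ≤ p

namespace ABData

variable {p q r : ℕ} {V W : Subgroup G} {x : G}

theorem isPGroupW (D : ABData p q r V W x) : IsPGroup q W := by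
  intro g
  refine ⟨1, ?_⟩
  apply Subtype.ext
  rw [pow_one, Subgroup.coe_pow, Subgroup.coe_one]
  exact D.hWq g g.2

theorem cop (D : ABData p q r V W x) : (Nat.card W).Coprime (Nat.card V) := by
  have : Fact p.Prime := ⟨D.hp⟩
  have : Fact q.Prime := ⟨D.hq⟩
  exact IsPGroup.coprime_card_of_ne q p D.hpq.symm W V D.isPGroupW D.hVp

theorem zV (D : ABData p q r V W x) : zpowers x ≤ normalizer (V : Set G) :=
  (Subgroup.zpowers_le).mpr D.hxV

theorem zW (D : ABData p q r V W x) : zpowers x ≤ normalizer (W : Set G) :=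
  (Subgroup.zpowers_le).mpr D.hxW

open scoped IsMulCommutative in
/-- a vector of `C_V(M)` with trivial orbit sum is trivial when `x` moves `M`. -/
theorem core1 (D : ABData p q r V W x) [IsMulCommutative V] [Fintype (zpowers x)]
    (M : Subgroup G) (hM : IsHyp W q M) (hxM : x ∉ normalizer (M : Set G))
    (v : V) (hv : (v : G) ∈ centralizer (M : Set G))
    (h1 : avgHom (zpowers x) V D.zV v = 1) : v = 1 := by
  classical
  have key := ind V W D.hWab D.hWV D.cop (ι := zpowers x)
    (fun y => MulAut.conj (y : G) • M)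
    (fun y => (hM.conj (D.zW y.2)).1)
    (fun y y' hne => inf_centralizer_eq_bot_of_hyp D.hq D.hCVW (hM.conj (D.zW y.2))
      (hM.conj (D.zW y'.2))
      (conj_smul_ne_of_not_mem_normalizer D.hr D.hx hxM y.2 y'.2 (fun h => hne (Subtype.ext h))))
    (fun y => conjNormalizer V y (D.zV y.2) v)
    (fun y => conj_mem_centralizer_conj hv)
    h1
  have h2 := congrArg Subtype.val (key 1)
  apply Subtype.ext
  simpa [conjNormalizer] using h2

open scoped IsMulCommutative in
/-- two vectors of `C_V(M)`, `C_V(M')` with trivial total orbit sum are trivial when `x` moves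
`M` and `M'` and these lie in distinct orbits. -/
theorem core2 (D : ABData p q r V W x) [IsMulCommutative V] [Fintype (zpowers x)]
    (M M' : Subgroup G) (hM : IsHyp W q M) (hM' : IsHyp W q M')
    (hxM : x ∉ normalizer (M : Set G)) (hxM' : x ∉ normalizer (M' : Set G))
    (hne : ∀ y ∈ zpowers x, MulAut.conj y • M ≠ M')
    (v v' : V) (hv : (v : G) ∈ centralizer (M : Set G))
    (hv' : (v' : G) ∈ centralizer (M' : Set G))
    (h1 : avgHom (zpowers x) V D.zV v * avgHom (zpowers x) V D.zV v' = 1) :
    v = 1 ∧ v' = 1 := by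
  classical
  have hcross : ∀ y y' : zpowers x, MulAut.conj (y : G) • M ≠ MulAut.conj (y' : G) • M' := by
    intro y y' h
    apply hne ((y' : G)⁻¹ * y) (mul_mem (inv_mem y'.2) y.2)
    rw [map_mul, mul_smul, h, map_inv, inv_smul_smul]
  have hprod : ∏ i : zpowers x ⊕ zpowers x,
      Sum.elim (fun y : zpowers x => conjNormalizer V y (D.zV y.2) v)
        (fun y : zpowers x => conjNormalizer V y (D.zV y.2) v') i = 1 := by
    rw [Fintype.prod_sum_type]
    exact h1
  have key := ind V W D.hWab D.hWV D.cop (ι := zpowers x ⊕ zpowers x)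
    (Sum.elim (fun y : zpowers x => MulAut.conj (y : G) • M)
      (fun y : zpowers x => MulAut.conj (y : G) • M'))
    (by
      rintro (y | y)
      · exact (hM.conj (D.zW y.2)).1
      · exact (hM'.conj (D.zW y.2)).1)
    (by
      rintro (y | y) (y' | y') hij
      · exact inf_centralizer_eq_bot_of_hyp D.hq D.hCVW (hM.conj (D.zW y.2))
          (hM.conj (D.zW y'.2))
          (conj_smul_ne_of_not_mem_normalizer D.hr D.hx hxM y.2 y'.2
            (fun h => hij (congrArg Sum.inl (Subtype.ext h))))
      · exact inf_centralizer_eq_bot_of_hyp D.hq D.hCVW (hM.conj (D.zW y.2))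
          (hM'.conj (D.zW y'.2)) (hcross y y')
      · exact inf_centralizer_eq_bot_of_hyp D.hq D.hCVW (hM'.conj (D.zW y.2))
          (hM.conj (D.zW y'.2)) (fun h => hcross y' y h.symm)
      · exact inf_centralizer_eq_bot_of_hyp D.hq D.hCVW (hM'.conj (D.zW y.2))
          (hM'.conj (D.zW y'.2))
          (conj_smul_ne_of_not_mem_normalizer D.hr D.hx hxM' y.2 y'.2
            (fun h => hij (congrArg Sum.inr (Subtype.ext h)))))
    (Sum.elim (fun y : zpowers x => conjNormalizer V y (D.zV y.2) v)
        (fun y : zpowers x => conjNormalizer V y (D.zV y.2) v'))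
    (by
      rintro (y | y)
      · exact conj_mem_centralizer_conj hv
      · exact conj_mem_centralizer_conj hv')
    hprod
  have h2 := congrArg Subtype.val (key (Sum.inl 1))
  have h3 := congrArg Subtype.val (key (Sum.inr 1))
  constructor
  · apply Subtype.ext
    simpa [conjNormalizer] using h2
  · apply Subtype.ext
    simpa [conjNormalizer] using h3

open scoped IsMulCommutative in
/-- the orbit sum map `V → C_V(x)`. -/
noncomputable def orbSum (D : ABData p q r V W x) [IsMulCommutative V] [Fintype (zpowers x)] :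
    V →* ↥(V ⊓ centralizer ({x} : Set G)) where
  toFun v := ⟨(avgHom (zpowers x) V D.zV v : V), by
    refine Subgroup.mem_inf.mpr ⟨(avgHom (zpowers x) V D.zV v).2, ?_⟩
    have h1 := avgHom_mem_centralizer (zpowers x) V D.zV v
    rw [Subgroup.mem_centralizer_iff] at h1 ⊢
    intro z hz
    rw [Set.mem_singleton_iff] at hz
    rw [hz]
    exact h1 x (Subgroup.mem_zpowers x)⟩
  map_one' := by
    apply Subtype.ext
    show ((avgHom (zpowers x) V D.zV 1 : V) : G) = 1
    rw [map_one]
    rfl
  map_mul' a b := by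
    apply Subtype.ext
    show ((avgHom (zpowers x) V D.zV (a * b) : V) : G) = _
    rw [map_mul]
    rfl

open scoped IsMulCommutative in
theorem orbSum_coe (D : ABData p q r V W x) [IsMulCommutative V] [Fintype (zpowers x)] (v : V) :
    ((D.orbSum v : ↥(V ⊓ centralizer ({x} : Set G))) : G) = (avgHom (zpowers x) V D.zV v : V) :=
  rfl

open scoped IsMulCommutative in
/-- if `x` moves the hyperplane `M` then `C_V(M)` embeds into `C_V(x)`. -/
theorem card_le_of_moved (D : ABData p q r V W x) (M : Subgroup G) (hM : IsHyp W q M)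
    (hxM : x ∉ normalizer (M : Set G)) :
    Nat.card ↥(V ⊓ centralizer (M : Set G)) ≤ p := by
  classical
  have : IsMulCommutative V := ⟨⟨fun a b => Subtype.ext (D.hVab a a.2 b b.2)⟩⟩
  have : Fintype (zpowers x) := Fintype.ofFinite _
  refine le_trans ?_ D.hCVx
  let ψ : ↥(V ⊓ centralizer (M : Set G)) →* ↥(V ⊓ centralizer ({x} : Set G)) :=
    D.orbSum.comp (Subgroup.inclusion (inf_le_left : V ⊓ centralizer (M : Set G) ≤ V))
  apply Nat.card_le_card_of_injective ψ
  rw [← MonoidHom.ker_eq_bot_iff, eq_bot_iff]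
  intro v hv
  rw [MonoidHom.mem_ker] at hv
  have h1 : avgHom (zpowers x) V D.zV (Subgroup.inclusion inf_le_left v) = 1 := by
    apply Subtype.ext
    have := congrArg Subtype.val hv
    exact this
  have h2 := D.core1 M hM hxM (Subgroup.inclusion inf_le_left v) (Subgroup.mem_inf.mp v.2).2 h1
  rw [Subgroup.mem_bot]
  apply Subtype.ext
  have h3 := congrArg Subtype.val h2
  exact h3

open scoped IsMulCommutative in
/-- two hyperplanes with nontrivial centralizers in `V`, moved by `x`, lie in one orbit. -/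
theorem two_moved_false (D : ABData p q r V W x)
    (M M' : Subgroup G) (hM : IsHyp W q M) (hM' : IsHyp W q M')
    (hVM : V ⊓ centralizer (M : Set G) ≠ ⊥) (hVM' : V ⊓ centralizer (M' : Set G) ≠ ⊥)
    (hxM : x ∉ normalizer (M : Set G)) (hxM' : x ∉ normalizer (M' : Set G))
    (hne : ∀ y ∈ zpowers x, MulAut.conj y • M ≠ M') : False := by
  classical
  have : IsMulCommutative V := ⟨⟨fun a b => Subtype.ext (D.hVab a a.2 b b.2)⟩⟩
  have : Fintype (zpowers x) := Fintype.ofFinite _
  have : Fact p.Prime := ⟨D.hp⟩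
  let f : ↥(V ⊓ centralizer (M : Set G)) × ↥(V ⊓ centralizer (M' : Set G)) →
      ↥(V ⊓ centralizer ({x} : Set G)) := fun vv =>
    D.orbSum (Subgroup.inclusion inf_le_left vv.1) * D.orbSum (Subgroup.inclusion inf_le_left vv.2)
  have hf : Function.Injective f := by
    rintro ⟨v₁, v₁'⟩ ⟨v₂, v₂'⟩ h
    have h0 := congrArg Subtype.val h
    have h1 : avgHom (zpowers x) V D.zV (Subgroup.inclusion inf_le_left v₁)
        * avgHom (zpowers x) V D.zV (Subgroup.inclusion inf_le_left v₁')
        = avgHom (zpowers x) V D.zV (Subgroup.inclusion inf_le_left v₂)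
        * avgHom (zpowers x) V D.zV (Subgroup.inclusion inf_le_left v₂') := by
      apply Subtype.ext
      exact h0
    have h2 : avgHom (zpowers x) V D.zV
          (Subgroup.inclusion inf_le_left v₁ * (Subgroup.inclusion inf_le_left v₂)⁻¹)
        * avgHom (zpowers x) V D.zV
          (Subgroup.inclusion inf_le_left v₁' * (Subgroup.inclusion inf_le_left v₂')⁻¹) = 1 := by
      rw [map_mul, map_mul, map_inv, map_inv, mul_mul_mul_comm, ← mul_inv, h1]
      exact mul_inv_cancel _
    have hc1 : ((Subgroup.inclusion (inf_le_left : V ⊓ centralizer (M : Set G) ≤ V) v₁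
        * (Subgroup.inclusion inf_le_left v₂)⁻¹ : V) : G) ∈ centralizer (M : Set G) :=
      mul_mem (Subgroup.mem_inf.mp v₁.2).2 (inv_mem (Subgroup.mem_inf.mp v₂.2).2)
    have hc2 : ((Subgroup.inclusion (inf_le_left : V ⊓ centralizer (M' : Set G) ≤ V) v₁'
        * (Subgroup.inclusion inf_le_left v₂')⁻¹ : V) : G) ∈ centralizer (M' : Set G) :=
      mul_mem (Subgroup.mem_inf.mp v₁'.2).2 (inv_mem (Subgroup.mem_inf.mp v₂'.2).2)
    obtain ⟨h3, h4⟩ := D.core2 M M' hM hM' hxM hxM' hne _ _ hc1 hc2 h2
    have h5 : v₁ = v₂ := by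
      apply Subtype.ext
      have := congrArg Subtype.val (mul_inv_eq_one.mp h3)
      exact this
    have h6 : v₁' = v₂' := by
      apply Subtype.ext
      have := congrArg Subtype.val (mul_inv_eq_one.mp h4)
      exact this
    rw [h5, h6]
  have h1 := Nat.card_le_card_of_injective f hf
  rw [Nat.card_prod] at h1
  have h2 : p ≤ Nat.card ↥(V ⊓ centralizer (M : Set G)) :=
    Nat.le_of_dvd Nat.card_pos
      (Cfsg.Agent.Lib.Helper29.BG10.dvd_card_of_isPGroup_ne_bot (D.hVp.to_le inf_le_left) hVM)
  have h3 : p ≤ Nat.card ↥(V ⊓ centralizer (M' : Set G)) :=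
    Nat.le_of_dvd Nat.card_pos
      (Cfsg.Agent.Lib.Helper29.BG10.dvd_card_of_isPGroup_ne_bot (D.hVp.to_le inf_le_left) hVM')
  have h4 : p * p ≤ p := le_trans (Nat.mul_le_mul h2 h3) (le_trans h1 D.hCVx)
  have h5 := D.hp.two_le
  nlinarith

end ABData

end Cfsg.Agent.Lib.Helper29.BG36
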