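import Mathlib
import Cfsg.Agent.Lib.Helper29.BG36b

/-!
BG Theorem 3.6 (S1444), the abelian endgame, part 2: the acting `p`-group `A` normalizes every
hyperplane with nontrivial centralizer in `V` (parity argument).
-/

set_option autoImplicit false

namespace Cfsg.Agent.Lib.Helper29.BG36

open Subgroup Cfsg.Agent.Lib.Helper1
open scoped commutatorElement Pointwise

variable {G : Type*} [Group G] [Finite G]

omit [Finite G] in
/-- conjugates keep nontrivial centralizers. -/
theorem inf_centralizer_conj_ne_bot {V M : Subgroup G} {g : G}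
    (hg : g ∈ normalizer (V : Set G)) (h : V ⊓ centralizer (M : Set G) ≠ ⊥) :
    V ⊓ centralizer ((MulAut.conj g • M : Subgroup G) : Set G) ≠ ⊥ := by
  obtain ⟨⟨v, hv⟩, hv1⟩ := (Subgroup.ne_bot_iff_exists_ne_one).mp h
  intro hbot
  have h1 : g * v * g⁻¹ ∈ V ⊓ centralizer ((MulAut.conj g • M : Subgroup G) : Set G) :=
    Subgroup.mem_inf.mpr ⟨(Subgroup.mem_normalizer_iff.mp hg v).mp (Subgroup.mem_inf.mp hv).1,
      conj_mem_centralizer_conj (Subgroup.mem_inf.mp hv).2⟩
  rw [hbot, Subgroup.mem_bot] at h1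
  apply hv1
  apply Subtype.ext
  show v = 1
  have : v = g⁻¹ * (g * v * g⁻¹) * g := by group
  rw [this, h1]
  group

/-- if `y` acts without fixed points on the finite group `S` then every element of `S` is a
commutator `b y b⁻¹ y⁻¹`. -/
theorem exists_eq_comm_of_fpf (S : Subgroup G) (y : G) (hy : y ∈ normalizer (S : Set G))
    (hC : S ⊓ centralizer ({y} : Set G) = ⊥) (s : G) (hs : s ∈ S) :
    ∃ b ∈ S, s = b * y * b⁻¹ * y⁻¹ := by
  classical
  have hmem : ∀ b : S, (b : G) * y * (b : G)⁻¹ * y⁻¹ ∈ S := by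
    intro b
    have h1 : y * (b : G)⁻¹ * y⁻¹ ∈ S := (Subgroup.mem_normalizer_iff.mp hy _).mp (inv_mem b.2)
    have e : (b : G) * y * (b : G)⁻¹ * y⁻¹ = b * (y * (b : G)⁻¹ * y⁻¹) := by group
    rw [e]
    exact mul_mem b.2 h1
  let f : S → S := fun b => ⟨(b : G) * y * (b : G)⁻¹ * y⁻¹, hmem b⟩
  have hinj : Function.Injective f := by
    intro b c hbc
    have h1 : (b : G) * y * (b : G)⁻¹ * y⁻¹ = (c : G) * y * (c : G)⁻¹ * y⁻¹ :=
      congrArg Subtype.val hbc
    have h2 : (b : G) * y * (b : G)⁻¹ = (c : G) * y * (c : G)⁻¹ := mul_right_cancel h1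
    have h3 : (c : G)⁻¹ * b ∈ S ⊓ centralizer ({y} : Set G) := by
      refine Subgroup.mem_inf.mpr ⟨mul_mem (inv_mem c.2) b.2, ?_⟩
      rw [Subgroup.mem_centralizer_iff]
      intro z hz
      rw [Set.mem_singleton_iff] at hz
      rw [hz]
      calc y * ((c : G)⁻¹ * b) = (c : G)⁻¹ * ((c : G) * y * (c : G)⁻¹) * b := by group
        _ = (c : G)⁻¹ * ((b : G) * y * (b : G)⁻¹) * b := by rw [h2]
        _ = (c : G)⁻¹ * b * y := by group
    rw [hC, Subgroup.mem_bot] at h3
    apply Subtype.ext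
    have : (b : G) = c * ((c : G)⁻¹ * b) := by group
    rw [this, h3, mul_one]
  obtain ⟨b, hb⟩ := (Finite.injective_iff_surjective.mp hinj) ⟨s, hs⟩
  exact ⟨b, b.2, (congrArg Subtype.val hb).symm⟩

/-- a coset of an `x`-invariant subgroup `N` of `A` fixed by `x` is trivial when `C_A(x) = 1`. -/
theorem mem_of_comm_mem (A N : Subgroup G) (x : G) (hxN : x ∈ normalizer (N : Set G))
    (hNA : N ≤ A) (hCAx : A ⊓ centralizer ({x} : Set G) = ⊥) (a : G) (ha : a ∈ A)
    (h : a⁻¹ * x * a * x⁻¹ ∈ N) : a ∈ N := by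
  have hCN : N ⊓ centralizer ({x} : Set G) = ⊥ := by
    rw [eq_bot_iff, ← hCAx]
    exact inf_le_inf_right _ hNA
  obtain ⟨b, hb, hbe⟩ := exists_eq_comm_of_fpf N x hxN hCN _ h
  have h2 : a⁻¹ * x * a = b * x * b⁻¹ := mul_right_cancel hbe
  have h3 : a * b ∈ A ⊓ centralizer ({x} : Set G) := by
    refine Subgroup.mem_inf.mpr ⟨mul_mem ha (hNA hb), ?_⟩
    rw [Subgroup.mem_centralizer_iff]
    intro z hz
    rw [Set.mem_singleton_iff] at hz
    rw [hz]
    calc x * (a * b) = a * (a⁻¹ * x * a) * b := by group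
      _ = a * (b * x * b⁻¹) * b := by rw [h2]
      _ = a * b * x := by group
  rw [hCAx, Subgroup.mem_bot] at h3
  have h4 : a = b⁻¹ := eq_inv_of_mul_eq_one_left h3
  rw [h4]
  exact inv_mem hb

/-- the data on the acting `p`-group. -/
structure AData (p r : ℕ) (V W A : Subgroup G) (x : G) : Prop where
  hAp : IsPGroup p A
  hpodd : Odd p
  hrodd : Odd r
  hAV : A ≤ normalizer (V : Set G)
  hAW : A ≤ normalizer (W : Set G)
  hxA : x ∈ normalizer (A : Set G)
  hCAx : A ⊓ centralizer ({x} : Set G) = ⊥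

namespace ABData

variable {p q r : ℕ} {V W A : Subgroup G} {x : G}

theorem step2 (D : ABData p q r V W x) (E : AData p r V W A x) (M : Subgroup G)
    (hM : IsHyp W q M) (hVM : V ⊓ centralizer (M : Set G) ≠ ⊥)
    (hxM : x ∈ normalizer (M : Set G)) : A ≤ normalizer (M : Set G) := by
  classical
  by_contra hcon
  obtain ⟨a, haA, haM⟩ := SetLike.not_le_iff_exists.mp hcon
  have hxNst : x ∈ normalizer ((A ⊓ normalizer (M : Set G) : Subgroup G) : Set G) :=
    Subgroup.inf_normalizer_le_normalizer_inf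
      (Subgroup.mem_inf.mpr ⟨E.hxA, Subgroup.le_normalizer hxM⟩)
  have zA : zpowers x ≤ normalizer (A : Set G) := Subgroup.zpowers_le.mpr E.hxA
  have zM : zpowers x ≤ normalizer (M : Set G) := Subgroup.zpowers_le.mpr hxM
  have hα : ∀ a' ∈ A, a' ∉ normalizer (M : Set G) →
      x ∉ normalizer ((MulAut.conj a' • M : Subgroup G) : Set G) := by
    intro a' ha' hn hx'
    rw [Cfsg.Agent.Lib.Helper29.BG10.mem_normalizer_conj_smul] at hx'
    have h1 : a'⁻¹ * x * a' * x⁻¹ ∈ (A ⊓ normalizer (M : Set G) : Subgroup G) := by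
      refine Subgroup.mem_inf.mpr ⟨?_, mul_mem hx' (inv_mem hxM)⟩
      have h2 : x * a' * x⁻¹ ∈ A := (Subgroup.mem_normalizer_iff.mp E.hxA a').mp ha'
      have e : a'⁻¹ * x * a' * x⁻¹ = a'⁻¹ * (x * a' * x⁻¹) := by group
      rw [e]
      exact mul_mem (inv_mem ha') h2
    have h2 := mem_of_comm_mem A _ x hxNst inf_le_left E.hCAx a' ha' h1
    exact hn (Subgroup.mem_inf.mp h2).2
  have hΩ : ∀ a' ∈ A, IsHyp W q (MulAut.conj a' • M) ∧
      V ⊓ centralizer ((MulAut.conj a' • M : Subgroup G) : Set G) ≠ ⊥ :=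
    fun a' ha' => ⟨hM.conj (E.hAW ha'), inf_centralizer_conj_ne_bot (E.hAV ha') hVM⟩
  have hβ : ∀ a' ∈ A, a' ∉ normalizer (M : Set G) → ∀ a'' ∈ A, a'' ∉ normalizer (M : Set G) →
      ∃ y ∈ zpowers x, MulAut.conj y • (MulAut.conj a' • M) = MulAut.conj a'' • M := by
    intro a' ha' hn' a'' ha'' hn''
    by_contra hne
    push Not at hne
    exact D.two_moved_false _ _ (hΩ a' ha').1 (hΩ a'' ha'').1 (hΩ a' ha').2 (hΩ a'' ha'').2
      (hα a' ha' hn') (hα a'' ha'' hn'') hne
  let _ : MulAction ↥A (Subgroup G) :=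
    MulAction.compHom (Subgroup G) ((MulAut.conj : G →* MulAut G).comp A.subtype)
  have horb : MulAction.orbit ↥A M = {M} ∪
      Set.range (fun y : zpowers x => MulAut.conj (y : G) • (MulAut.conj a • M)) := by
    ext K
    constructor
    · rintro ⟨b, rfl⟩
      show MulAut.conj (b : G) • M ∈ _
      by_cases hb : (b : G) ∈ normalizer (M : Set G)
      · left
        exact conj_smul_eq_self_iff_mem_normalizer.mpr hb
      · right
        obtain ⟨y, hy, hyb⟩ := hβ a haA haM b b.2 hb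
        exact ⟨⟨y, hy⟩, hyb⟩
    · rintro (hK | ⟨y, rfl⟩)
      · rw [Set.mem_singleton_iff] at hK
        rw [hK]
        exact MulAction.mem_orbit_self M
      · have hyA : (y : G) * a * (y : G)⁻¹ ∈ A :=
          (Subgroup.mem_normalizer_iff.mp (zA y.2) a).mp haA
        refine ⟨⟨_, hyA⟩, ?_⟩
        show MulAut.conj ((y : G) * a * (y : G)⁻¹) • M
          = MulAut.conj (y : G) • MulAut.conj a • M
        have hyM : MulAut.conj (y : G)⁻¹ • M = M :=
          conj_smul_eq_self_iff_mem_normalizer.mpr (inv_mem (zM y.2))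
        rw [map_mul, map_mul, mul_smul, mul_smul, hyM]
  have hcard : Set.ncard (MulAction.orbit ↥A M) = 1 + r := by
    rw [horb, Set.ncard_union_eq, Set.ncard_singleton, Set.ncard_range_of_injective,
      Nat.card_zpowers, D.hx]
    · intro y y' hyy
      by_contra hne
      exact conj_smul_ne_of_not_mem_normalizer D.hr D.hx (hα a haA haM) y.2 y'.2
        (fun h => hne (Subtype.ext h)) hyy
    · rw [Set.disjoint_singleton_left]
      rintro ⟨y, hy⟩
      apply haM
      have h1 : MulAut.conj a • M = MulAut.conj (y : G)⁻¹ • M := by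
        have h2 : MulAut.conj (y : G)⁻¹ • (MulAut.conj (y : G) • (MulAut.conj a • M))
            = MulAut.conj (y : G)⁻¹ • M := congrArg _ hy
        rwa [map_inv, inv_smul_smul, ← map_inv] at h2
      rw [conj_smul_eq_self_iff_mem_normalizer.mpr (inv_mem (zM y.2))] at h1
      exact conj_smul_eq_self_iff_mem_normalizer.mp h1
  have hdvd : Set.ncard (MulAction.orbit ↥A M) ∣ Nat.card A := by
    rw [← _root_.Nat.card_coe_set_eq, Nat.card_congr (MulAction.orbitEquivQuotientStabilizer ↥A M)]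
    exact Subgroup.card_quotient_dvd_card _
  rw [hcard] at hdvd
  have : Fact p.Prime := ⟨D.hp⟩
  obtain ⟨k, hk⟩ := IsPGroup.iff_card.mp E.hAp
  rw [hk] at hdvd
  have h2 : 2 ∣ 1 + r := by
    obtain ⟨m, hm⟩ := E.hrodd
    omega
  have h3 : 2 ∣ p := Nat.Prime.dvd_of_dvd_pow Nat.prime_two (h2.trans hdvd)
  obtain ⟨m, hm⟩ := E.hpodd
  omega

/-- **parity argument**: `A` normalizes every hyperplane of `W` with nontrivial centralizer
in `V`. -/
theorem h4 (D : ABData p q r V W x) (E : AData p r V W A x) (M : Subgroup G)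
    (hM : IsHyp W q M) (hVM : V ⊓ centralizer (M : Set G) ≠ ⊥) :
    A ≤ normalizer (M : Set G) := by
  classical
  by_contra hcon
  obtain ⟨a₀, ha₀A, ha₀M⟩ := SetLike.not_le_iff_exists.mp hcon
  have hx1 : x ≠ 1 := by
    intro h
    have h1 := D.hx
    rw [h, orderOf_one] at h1
    exact D.hr.one_lt.ne h1
  by_cases hc : ∃ y ∈ zpowers x, y ≠ 1 ∧ ∃ a₁ ∈ A, MulAut.conj y • M = MulAut.conj a₁ • M
  · obtain ⟨y, hy, hy1, a₁, ha₁, hya⟩ := hc
    have h1 : a₁⁻¹ * y ∈ normalizer (M : Set G) := by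
      rw [← conj_smul_eq_self_iff_mem_normalizer, map_mul, mul_smul, hya, map_inv, inv_smul_smul]
    have hxy : x ∈ zpowers y := mem_zpowers_of_prime D.hr D.hx hy hy1
    have hCAy : A ⊓ centralizer ({y} : Set G) = ⊥ := by
      rw [eq_bot_iff, ← E.hCAx]
      intro c hc
      refine Subgroup.mem_inf.mpr ⟨(Subgroup.mem_inf.mp hc).1, ?_⟩
      have h2 : zpowers y ≤ centralizer ({c} : Set G) := by
        rw [Subgroup.zpowers_le, Subgroup.mem_centralizer_iff]
        intro z hz
        rw [Set.mem_singleton_iff] at hz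
        rw [hz]
        exact (Subgroup.mem_centralizer_iff.mp (Subgroup.mem_inf.mp hc).2 y rfl).symm
      have h3 := Subgroup.mem_centralizer_iff.mp (h2 hxy) c rfl
      rw [Subgroup.mem_centralizer_iff]
      intro z hz
      rw [Set.mem_singleton_iff] at hz
      rw [hz]
      exact h3.symm
    have hyA : y ∈ normalizer (A : Set G) := (Subgroup.zpowers_le.mpr E.hxA) hy
    obtain ⟨b, hbA, hb⟩ := exists_eq_comm_of_fpf A y hyA hCAy a₁⁻¹ (inv_mem ha₁)
    have h2 : b * y * b⁻¹ ∈ normalizer (M : Set G) := by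
      have e : b * y * b⁻¹ = (b * y * b⁻¹ * y⁻¹) * y := by group
      rw [e, ← hb]
      exact h1
    have h3 : y ∈ normalizer ((MulAut.conj b⁻¹ • M : Subgroup G) : Set G) := by
      rw [Cfsg.Agent.Lib.Helper29.BG10.mem_normalizer_conj_smul, inv_inv]
      exact h2
    have h4 : x ∈ normalizer ((MulAut.conj b⁻¹ • M : Subgroup G) : Set G) :=
      (Subgroup.zpowers_le.mpr h3) hxy
    have h5 := D.step2 E _ (hM.conj (E.hAW (inv_mem hbA)))
      (inf_centralizer_conj_ne_bot (E.hAV (inv_mem hbA)) hVM) h4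
    apply ha₀M
    have h6 : b⁻¹ * a₀ * b ∈ A := mul_mem (mul_mem (inv_mem hbA) ha₀A) hbA
    have h7 := h5 h6
    rw [Cfsg.Agent.Lib.Helper29.BG10.mem_normalizer_conj_smul, inv_inv] at h7
    have e : b * (b⁻¹ * a₀ * b) * b⁻¹ = a₀ := by group
    rwa [e] at h7
  · push Not at hc
    have hxM : x ∉ normalizer (M : Set G) := by
      intro h
      apply hc x (Subgroup.mem_zpowers x) hx1 1 (one_mem A)
      rw [conj_smul_eq_self_iff_mem_normalizer.mpr h, map_one, one_smul]
    have hxM₂ : x ∉ normalizer ((MulAut.conj a₀ • M : Subgroup G) : Set G) := by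
      intro h
      rw [Cfsg.Agent.Lib.Helper29.BG10.mem_normalizer_conj_smul] at h
      have h1 : x * a₀ * x⁻¹ ∈ A := (Subgroup.mem_normalizer_iff.mp E.hxA a₀).mp ha₀A
      have h2 : (x * a₀ * x⁻¹)⁻¹ * a₀ ∈ A := mul_mem (inv_mem h1) ha₀A
      apply hc x (Subgroup.mem_zpowers x) hx1 _ h2
      have h3 : MulAut.conj (a₀⁻¹ * x * a₀) • M = M :=
        conj_smul_eq_self_iff_mem_normalizer.mpr h
      have e : x = ((x * a₀ * x⁻¹)⁻¹ * a₀) * (a₀⁻¹ * x * a₀) := by group
      conv_lhs => rw [e, map_mul, mul_smul, h3]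
    have hne : ∀ y ∈ zpowers x, MulAut.conj y • M ≠ MulAut.conj a₀ • M := by
      intro y hy
      by_cases hy1 : y = 1
      · rw [hy1, map_one, one_smul]
        intro h
        exact ha₀M (conj_smul_eq_self_iff_mem_normalizer.mp h.symm)
      · exact hc y hy hy1 a₀ ha₀A
    exact D.two_moved_false M _ hM (hM.conj (E.hAW ha₀A)) hVM
      (inf_centralizer_conj_ne_bot (E.hAV ha₀A) hVM) hxM hxM₂ hne

end ABData

end Cfsg.Agent.Lib.Helper29.BG36
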