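import Mathlib
import Cfsg.Agent.Lib.Helper29.BG36c
import Cfsg.Agent.Lib.Helper10.FrobSub

/-!
BG Theorem 3.6 (S1444), the abelian endgame, part 3: existence of a good hyperplane, the action on
a section of prime order, and Lemma AB.
-/

set_option autoImplicit false

namespace Cfsg.Agent.Lib.Helper29.BG36

open Subgroup Cfsg.Agent.Lib.Helper1 Cfsg.Agent.Lib.Helper10
open scoped commutatorElement Pointwise

variable {G : Type*} [Group G] [Finite G]

omit [Finite G] in
theorem mem_normalizer_commutator {H₁ H₂ : Subgroup G} {g : G}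
    (h1 : g ∈ normalizer (H₁ : Set G)) (h2 : g ∈ normalizer (H₂ : Set G)) :
    g ∈ normalizer ((⁅H₁, H₂⁆ : Subgroup G) : Set G) := by
  rw [← conj_smul_eq_self_iff_mem_normalizer] at h1 h2 ⊢
  have h3 : MulAut.conj g • ⁅H₁, H₂⁆ = ⁅MulAut.conj g • H₁, MulAut.conj g • H₂⁆ :=
    Subgroup.map_commutator H₁ H₂ (MulAut.conj g).toMonoidHom
  rw [h3, h1, h2]

theorem mulAut_comm_of_isCyclic {C : Type*} [Group C] [IsCyclic C] (σ τ : MulAut C) :
    σ * τ = τ * σ := by
  apply (IsCyclic.mulAutMulEquiv C).injective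
  rw [map_mul, map_mul, mul_comm]

theorem mulAut_eq_one_of_pow_eq_one {C : Type*} [Group C] [Finite C] {s n : ℕ} (hs : s.Prime)
    (hC : Nat.card C = s) (τ : MulAut C) (hτ : τ ^ n = 1) (hn : n.Coprime (s - 1)) : τ = 1 := by
  have : Fact s.Prime := ⟨hs⟩
  have hcyc : IsCyclic C := isCyclic_of_prime_card hC
  have h1 : Nat.card (MulAut C) = s - 1 := by
    rw [IsCyclic.card_mulAut, hC, Nat.totient_prime hs]
  have h2 : orderOf τ ∣ n := orderOf_dvd_of_pow_eq_one hτ
  have h3 : orderOf τ ∣ s - 1 := by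
    rw [← h1]
    exact orderOf_dvd_natCard τ
  exact orderOf_eq_one_iff.mp (Nat.eq_one_of_dvd_coprimes hn h2 h3)

theorem exists_complement_card {P : Type*} [CommGroup P] [Finite P] {q : ℕ} [Fact q.Prime]
    (hexp : ∀ x : P, x ^ q = 1) (N : Subgroup P) :
    ∃ A : Subgroup P, A ⊓ N = ⊥ ∧ N ⊔ A = ⊤ ∧ Nat.card N * Nat.card A = Nat.card P := by
  obtain ⟨A, h1, h2⟩ := Huppert.exists_complement_of_exponent hexp N
  refine ⟨A, h1, h2, ?_⟩
  have hc : IsComplement' N A := by
    apply Subgroup.isComplement'_of_disjoint_and_mul_eq_univ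
    · rw [disjoint_iff, inf_comm]
      exact h1
    · rw [← Subgroup.mul_normal, h2, Subgroup.coe_top]
  exact hc.card_mul_card

omit [Finite G] in
theorem subgroupOf_normal_of_comm (W M : Subgroup G)
    (hWab : ∀ a ∈ W, ∀ b ∈ W, a * b = b * a) : (M.subgroupOf W).Normal := by
  constructor
  intro n hn g
  have : g * n * g⁻¹ = n := by
    apply Subtype.ext
    show (g : G) * n * (g : G)⁻¹ = n
    rw [hWab g g.2 n n.2]
    group
  rw [this]
  exact hn

theorem card_quotient_of_isHyp (W M : Subgroup G) {q : ℕ} (hM : IsHyp W q M) :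
    Nat.card (↥W ⧸ M.subgroupOf W) = q := by
  have h1 := Subgroup.card_eq_card_quotient_mul_card_subgroup (M.subgroupOf W)
  have h2 : Nat.card (M.subgroupOf W) = Nat.card M :=
    Nat.card_congr (Subgroup.subgroupOfEquivOfLe hM.1).toEquiv
  rw [h2, ← hM.2] at h1
  have h3 : 0 < Nat.card M := Nat.card_pos
  exact Nat.eq_of_mul_eq_mul_right h3 (by rw [← h1, mul_comm])

omit [Finite G] in
/-- the action of a group normalizing `M ≤ W` on the section `W / M`. -/
theorem sec_act (W M : Subgroup G) [hn : (M.subgroupOf W).Normal] (J : Subgroup G)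
    (hJW : J ≤ normalizer (W : Set G)) (hJM : J ≤ normalizer (M : Set G)) :
    ∃ ψ : ↥J →* MulAut (↥W ⧸ M.subgroupOf W),
      ∀ g : ↥J, ψ g = 1 → ∀ w ∈ W, w⁻¹ * ((g : G) * w * (g : G)⁻¹) ∈ M := by
  have hinv : FrobAction.Invariant (FrobAction.conjHom W J hJW) (M.subgroupOf W) := by
    intro g n hn'
    rw [Subgroup.mem_subgroupOf] at hn' ⊢
    rw [FrobAction.conjHom_apply]
    exact (Subgroup.mem_normalizer_iff.mp (hJM g.2) _).mp hn'
  refine ⟨FrobAction.quoHom (FrobAction.conjHom W J hJW) (M.subgroupOf W) hinv, ?_⟩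
  intro g hg w hw
  have h1 : FrobAction.quoHom (FrobAction.conjHom W J hJW) (M.subgroupOf W) hinv g
      ((⟨w, hw⟩ : ↥W) : ↥W ⧸ M.subgroupOf W) = ((⟨w, hw⟩ : ↥W) : ↥W ⧸ M.subgroupOf W) := by
    rw [hg, MulAut.one_apply]
  rw [FrobAction.quoHom_mk] at h1
  have h2 := QuotientGroup.eq.mp h1.symm
  rw [Subgroup.mem_subgroupOf] at h2
  exact h2

namespace ABData

variable {p q r : ℕ} {V W A : Subgroup G} {x : G}

/-- a hyperplane with nontrivial centralizer in `V` avoiding a given nontrivial element. -/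
theorem exists_hyp (D : ABData p q r V W x)
    (hCWV : W ⊓ centralizer (V : Set G) = ⊥) {w₀ : G} (hw₀ : w₀ ∈ W) (hw₀1 : w₀ ≠ 1) :
    ∃ M : Subgroup G, IsHyp W q M ∧ V ⊓ centralizer (M : Set G) ≠ ⊥ ∧ w₀ ∉ M := by
  classical
  have : Fact p.Prime := ⟨D.hp⟩
  have : Fact q.Prime := ⟨D.hq⟩
  have hVc : IsMulCommutative V := ⟨⟨fun a b => Subtype.ext (D.hVab a a.2 b b.2)⟩⟩
  have hZW : zpowers w₀ ≤ W := Subgroup.zpowers_le.mpr hw₀
  have hZV : zpowers w₀ ≤ normalizer (V : Set G) := hZW.trans D.hWV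
  obtain ⟨U, hUdef⟩ : ∃ U : Subgroup G, U = ⁅V, zpowers w₀⁆ := ⟨_, rfl⟩
  have hUV : U ≤ V := by
    rw [hUdef]
    exact commutator_le_of_le_normalizer hZV
  have hUne : U ≠ ⊥ := by
    intro h
    rw [hUdef, Subgroup.commutator_eq_bot_iff_le_centralizer] at h
    have h1 : w₀ ∈ W ⊓ centralizer (V : Set G) := by
      refine Subgroup.mem_inf.mpr ⟨hw₀, ?_⟩
      rw [Subgroup.mem_centralizer_iff]
      intro v hv
      exact (Subgroup.mem_centralizer_iff.mp (h hv) w₀ (Subgroup.mem_zpowers w₀)).symm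
    rw [hCWV, Subgroup.mem_bot] at h1
    exact hw₀1 h1
  have hcopZ : (Nat.card (zpowers w₀)).Coprime (Nat.card V) :=
    Nat.Coprime.coprime_dvd_left (Subgroup.card_dvd_of_le hZW) D.cop
  have hUC : U ⊓ centralizer ((zpowers w₀ : Subgroup G) : Set G) = ⊥ := by
    have h0 := abelian_centralizer_inf_commutator_eq_bot (zpowers w₀) V hZV hcopZ
    rw [eq_bot_iff, ← h0]
    intro u hu
    obtain ⟨hu1, hu2⟩ := Subgroup.mem_inf.mp hu
    exact Subgroup.mem_inf.mpr ⟨Subgroup.mem_inf.mpr ⟨hUV hu1, hu2⟩, by rw [← hUdef]; exact hu1⟩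
  have hWU : W ≤ normalizer (U : Set G) := by
    intro t ht
    rw [hUdef]
    apply mem_normalizer_commutator (D.hWV ht)
    apply Subgroup.centralizer_le_normalizer
    rw [Subgroup.mem_centralizer_iff]
    intro z hz
    exact D.hWab z (hZW hz) t ht
  obtain ⟨M, ⟨hMW, hMU⟩, hmax⟩ :=
    (Set.toFinite {M' : Subgroup G | M' ≤ W ∧ U ⊓ centralizer (M' : Set G) ≠ ⊥}).exists_maximal
      ⟨⊥, bot_le, by
        intro h
        apply hUne
        rw [eq_bot_iff, ← h]
        intro u hu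
        refine Subgroup.mem_inf.mpr ⟨hu, ?_⟩
        rw [Subgroup.mem_centralizer_iff]
        intro z hz
        have hz1 : z = 1 := Subgroup.mem_bot.mp hz
        rw [hz1, one_mul, mul_one]⟩
  have hw₀M : w₀ ∉ M := by
    intro h
    apply hMU
    rw [eq_bot_iff, ← hUC]
    refine inf_le_inf_left _ (Subgroup.centralizer_le ?_)
    exact SetLike.coe_subset_coe.mpr (Subgroup.zpowers_le.mpr h)
  obtain ⟨U', hU'def⟩ : ∃ U' : Subgroup G, U' = U ⊓ centralizer (M : Set G) := ⟨_, rfl⟩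
  have hU'ne : U' ≠ ⊥ := by
    rw [hU'def]
    exact hMU
  have hWCM : W ≤ centralizer (M : Set G) := by
    intro t ht
    rw [Subgroup.mem_centralizer_iff]
    intro m hm
    exact D.hWab m (hMW hm) t ht
  have hWU' : W ≤ normalizer (U' : Set G) := by
    intro t ht
    rw [hU'def]
    exact Subgroup.inf_normalizer_le_normalizer_inf
      (Subgroup.mem_inf.mpr ⟨hWU ht, Subgroup.le_normalizer (hWCM ht)⟩)
  have hfpf : ∀ t ∈ W, t ∉ M → U' ⊓ centralizer ({t} : Set G) = ⊥ := by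
    intro t ht htM
    by_contra hne
    have hin : M ⊔ zpowers t ∈
        {M' : Subgroup G | M' ≤ W ∧ U ⊓ centralizer (M' : Set G) ≠ ⊥} := by
      refine ⟨sup_le hMW (Subgroup.zpowers_le.mpr ht), ?_⟩
      intro h
      apply hne
      rw [eq_bot_iff, ← h]
      intro u hu
      obtain ⟨hu1, hu2⟩ := Subgroup.mem_inf.mp hu
      rw [hU'def] at hu1
      obtain ⟨hu3, hu4⟩ := Subgroup.mem_inf.mp hu1
      refine Subgroup.mem_inf.mpr ⟨hu3, ?_⟩
      have hsub : M ⊔ zpowers t ≤ centralizer ({u} : Set G) := by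
        refine sup_le ?_ (Subgroup.zpowers_le.mpr ?_)
        · intro m hm
          rw [Subgroup.mem_centralizer_singleton_iff]
          exact Subgroup.mem_centralizer_iff.mp hu4 m hm
        · rw [Subgroup.mem_centralizer_singleton_iff]
          exact (Subgroup.mem_centralizer_singleton_iff.mp hu2).symm
      rw [Subgroup.mem_centralizer_iff]
      intro z hz
      exact Subgroup.mem_centralizer_singleton_iff.mp (hsub hz)
    have h2 := hmax hin le_sup_left
    exact htM (h2 ((le_sup_right : zpowers t ≤ M ⊔ zpowers t) (Subgroup.mem_zpowers t)))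
  have hWexp : ∀ t : ↥W, t ^ q = 1 := fun t =>
    Subtype.ext (by rw [Subgroup.coe_pow]; exact D.hWq t t.2)
  let _ : CommGroup ↥W :=
    { (inferInstance : Group ↥W) with mul_comm := fun a b => Subtype.ext (D.hWab a a.2 b b.2) }
  obtain ⟨E', hE1, hE2, hE3⟩ := exists_complement_card (q := q) hWexp (M.subgroupOf W)
  obtain ⟨E, hEdef⟩ : ∃ E : Subgroup G, E = E'.map W.subtype := ⟨_, rfl⟩
  have hinj : Function.Injective W.subtype := Subgroup.subtype_injective _
  have hNmap : (M.subgroupOf W).map W.subtype = M := Subgroup.map_subgroupOf_eq_of_le hMW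
  have hEM : E ⊓ M = ⊥ := by
    rw [hEdef, ← hNmap, ← Subgroup.map_inf _ _ _ hinj, hE1, Subgroup.map_bot]
  have hEW : E ≤ W := by
    rw [hEdef]
    exact Subgroup.map_subtype_le E'
  have hcardE : Nat.card E = Nat.card E' := by
    rw [hEdef]
    exact Subgroup.card_map_of_injective hinj
  have hcardM : Nat.card (M.subgroupOf W) = Nat.card M :=
    Nat.card_congr (Subgroup.subgroupOfEquivOfLe hMW).toEquiv
  have hEc : IsMulCommutative E := ⟨⟨fun a b => Subtype.ext (D.hWab a (hEW a.2) b (hEW b.2))⟩⟩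
  have hEcyc : IsCyclic E := isCyclic_of_fpf_of_comm E U' hU'ne (hEW.trans hWU') (by
    intro e he he1
    apply hfpf e (hEW he)
    intro heM
    apply he1
    have h1 : e ∈ E ⊓ M := Subgroup.mem_inf.mpr ⟨he, heM⟩
    rw [hEM, Subgroup.mem_bot] at h1
    exact h1)
  have hEne : E ≠ ⊥ := by
    intro h
    have h1 : Nat.card E' = 1 := by
      rw [← hcardE, h]
      exact Subgroup.card_bot
    rw [h1, mul_one, hcardM] at hE3
    have h2 : M = W := Subgroup.eq_of_le_of_card_ge hMW (by rw [hE3])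
    exact hw₀M (h2 ▸ hw₀)
  have hEq : Nat.card E = q := by
    obtain ⟨g, hg⟩ := IsCyclic.exists_generator (α := ↥E)
    have h1 : orderOf g = Nat.card E := orderOf_eq_card_of_forall_mem_zpowers hg
    have h2 : orderOf g ∣ q := orderOf_dvd_of_pow_eq_one
      (Subtype.ext (by rw [Subgroup.coe_pow]; exact D.hWq g (hEW g.2)))
    rcases (Nat.dvd_prime D.hq).mp h2 with h3 | h3
    · exfalso
      apply hEne
      rw [← Subgroup.card_eq_one, ← h1, h3]
    · rw [← h1, h3]
  refine ⟨M, ⟨hMW, ?_⟩, ?_, hw₀M⟩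
  · rw [← hE3, hcardM, ← hcardE, hEq]
  · intro h
    apply hU'ne
    rw [eq_bot_iff, ← h, hU'def]
    exact inf_le_inf_right _ hUV

/-- **Lemma AB**: the abelian endgame. -/
theorem false_of (D : ABData p q r V W x) (E : AData p r V W A x)
    (hnc : ¬ A ≤ centralizer (W : Set G)) (hCWV : W ⊓ centralizer (V : Set G) = ⊥) : False := by
  classical
  have : Fact p.Prime := ⟨D.hp⟩
  have : Fact q.Prime := ⟨D.hq⟩
  obtain ⟨a, haA, haW⟩ := SetLike.not_le_iff_exists.mp hnc
  rw [Subgroup.mem_centralizer_iff] at haW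
  push Not at haW
  obtain ⟨w, hw, hwa⟩ := haW
  have hw' : w ∈ W := hw
  have hawW : a * w * a⁻¹ ∈ W := (Subgroup.mem_normalizer_iff.mp (E.hAW haA) w).mp hw'
  have hw₀W : w⁻¹ * (a * w * a⁻¹) ∈ W := mul_mem (inv_mem hw') hawW
  have hw₀1 : w⁻¹ * (a * w * a⁻¹) ≠ 1 := by
    intro h
    apply hwa
    have h1 : a * w * a⁻¹ = w := by
      have h2 : a * w * a⁻¹ = w * (w⁻¹ * (a * w * a⁻¹)) := by group
      rw [h2, h, mul_one]
    calc w * a = (a * w * a⁻¹) * a := by rw [h1]
      _ = a * w := by group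
  obtain ⟨M, hM, hVM, hw₀M⟩ := D.exists_hyp hCWV hw₀W hw₀1
  have hAM : A ≤ normalizer (M : Set G) := D.h4 E M hM hVM
  have hnorm : (M.subgroupOf W).Normal := subgroupOf_normal_of_comm W M D.hWab
  have hcardQ : Nat.card (↥W ⧸ M.subgroupOf W) = q := card_quotient_of_isHyp W M hM
  have hcycQ : IsCyclic (↥W ⧸ M.subgroupOf W) := isCyclic_of_prime_card hcardQ
  obtain ⟨ψ, hψ⟩ := sec_act W M (normalizer (W : Set G) ⊓ normalizer (M : Set G))
    inf_le_left inf_le_right
  have hAJ : A ≤ normalizer (W : Set G) ⊓ normalizer (M : Set G) := le_inf E.hAW hAM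
  -- `x` moves `M`
  have hxM : x ∉ normalizer (M : Set G) := by
    intro hx
    obtain ⟨b, hbA, hb⟩ := exists_eq_comm_of_fpf A x E.hxA E.hCAx a haA
    have hxJ : x ∈ normalizer (W : Set G) ⊓ normalizer (M : Set G) :=
      Subgroup.mem_inf.mpr ⟨D.hxW, hx⟩
    have h1 : ψ ⟨a, hAJ haA⟩ = 1 := by
      have e : (⟨a, hAJ haA⟩ : ↥(normalizer (W : Set G) ⊓ normalizer (M : Set G)))
          = ⟨b, hAJ hbA⟩ * ⟨x, hxJ⟩ * ⟨b, hAJ hbA⟩⁻¹ * ⟨x, hxJ⟩⁻¹ := Subtype.ext hb
      rw [e, map_mul, map_mul, map_mul, map_inv, map_inv,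
        mulAut_comm_of_isCyclic (ψ ⟨b, hAJ hbA⟩) (ψ ⟨x, hxJ⟩)]
      group
    exact hw₀M (hψ _ h1 w hw')
  -- `|C_V(M)| = p`
  have hCle : Nat.card ↥(V ⊓ centralizer (M : Set G)) ≤ p := D.card_le_of_moved M hM hxM
  have hCp : IsPGroup p ↥(V ⊓ centralizer (M : Set G)) := D.hVp.to_le inf_le_left
  have hCdvd : p ∣ Nat.card ↥(V ⊓ centralizer (M : Set G)) :=
    Cfsg.Agent.Lib.Helper29.BG10.dvd_card_of_isPGroup_ne_bot hCp hVM
  have hCcard : Nat.card ↥(V ⊓ centralizer (M : Set G)) = p :=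
    le_antisymm hCle (Nat.le_of_dvd Nat.card_pos hCdvd)
  have hWC : W ≤ normalizer ((V ⊓ centralizer (M : Set G) : Subgroup G) : Set G) := by
    intro t ht
    apply Subgroup.inf_normalizer_le_normalizer_inf
    refine Subgroup.mem_inf.mpr ⟨D.hWV ht, ?_⟩
    apply Subgroup.le_normalizer
    rw [Subgroup.mem_centralizer_iff]
    intro m hm
    exact D.hWab m (hM.1 hm) t ht
  have hqp : q ∣ p - 1 := by
    by_contra hnd
    have hcop : q.Coprime (p - 1) := (Nat.Prime.coprime_iff_not_dvd D.hq).mpr hnd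
    have hcent : V ⊓ centralizer (M : Set G) ≤ V ⊓ centralizer (W : Set G) := by
      intro c hc
      refine Subgroup.mem_inf.mpr ⟨(Subgroup.mem_inf.mp hc).1, ?_⟩
      rw [Subgroup.mem_centralizer_iff]
      intro t ht
      have h1 : FrobAction.conjHom _ W hWC ⟨t, ht⟩ = 1 := by
        apply mulAut_eq_one_of_pow_eq_one D.hp hCcard _ _ hcop
        rw [← map_pow]
        have h2 : (⟨t, ht⟩ : W) ^ q = 1 :=
          Subtype.ext (by rw [Subgroup.coe_pow]; exact D.hWq t ht)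
        rw [h2, map_one]
      have h2 : ((FrobAction.conjHom _ W hWC ⟨t, ht⟩ ⟨c, hc⟩ :
          ↥(V ⊓ centralizer (M : Set G))) : G) = c := by
        rw [h1]
        rfl
      rw [FrobAction.conjHom_apply] at h2
      change t * c * t⁻¹ = c at h2
      calc t * c = (t * c * t⁻¹) * t := by group
        _ = c * t := by rw [h2]
    rw [D.hCVW] at hcent
    exact hVM (eq_bot_iff.mpr hcent)
  have hpq' : p ∣ q - 1 := by
    by_contra hnd
    have hcop : p.Coprime (q - 1) := (Nat.Prime.coprime_iff_not_dvd D.hp).mpr hnd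
    obtain ⟨k, hk⟩ := E.hAp ⟨a, haA⟩
    have h1 : ψ ⟨a, hAJ haA⟩ = 1 := by
      apply mulAut_eq_one_of_pow_eq_one D.hq hcardQ _ _ (Nat.Coprime.pow_left k hcop)
      rw [← map_pow]
      have h2 : (⟨a, hAJ haA⟩ : ↥(normalizer (W : Set G) ⊓ normalizer (M : Set G))) ^ (p ^ k)
          = 1 := by
        apply Subtype.ext
        have h3 := congrArg Subtype.val hk
        rw [Subgroup.coe_pow, Subgroup.coe_one]
        rwa [Subgroup.coe_pow, Subgroup.coe_one] at h3
      rw [h2, map_one]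
    exact hw₀M (hψ _ h1 w hw')
  have h1 : q ≤ p - 1 := Nat.le_of_dvd (by have := D.hp.two_le; omega) hqp
  have h2 : p ≤ q - 1 := Nat.le_of_dvd (by have := D.hq.two_le; omega) hpq'
  have h3 := D.hp.two_le
  omega

end ABData

end Cfsg.Agent.Lib.Helper29.BG36
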