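import Mathlib
import Cfsg.Agent.Lib.Helper29.BG36d

/-!
BG Theorem 3.6 (S1444): Lemma END, part 1 (utilities, the abelian case).
-/

set_option autoImplicit false

namespace Cfsg.Agent.Lib.Helper29.BG36

open Subgroup Cfsg.Agent.Lib.Helper1 Cfsg.Agent.Lib.Helper10
open scoped commutatorElement Pointwise

variable {G : Type*} [Group G]

theorem centralizer_zpowers (x : G) :
    centralizer ((zpowers x : Subgroup G) : Set G) = centralizer ({x} : Set G) := by
  apply le_antisymm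
  · exact Subgroup.centralizer_le (by
      intro y hy
      rw [Set.mem_singleton_iff] at hy
      rw [hy]
      exact Subgroup.mem_zpowers x)
  · intro g hg
    have h1 : zpowers x ≤ centralizer ({g} : Set G) := by
      rw [Subgroup.zpowers_le, Subgroup.mem_centralizer_singleton_iff]
      exact (Subgroup.mem_centralizer_singleton_iff.mp hg).symm
    rw [Subgroup.mem_centralizer_iff]
    intro z hz
    exact Subgroup.mem_centralizer_singleton_iff.mp (h1 hz)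

theorem mem_normalizer_centralizer {K : Subgroup G} {g : G} (hg : g ∈ normalizer (K : Set G)) :
    g ∈ normalizer ((centralizer (K : Set G) : Subgroup G) : Set G) := by
  have key : ∀ g' : G, g' ∈ normalizer (K : Set G) → ∀ h ∈ centralizer (K : Set G),
      g' * h * g'⁻¹ ∈ centralizer (K : Set G) := by
    intro g' hg' h hh
    rw [Subgroup.mem_centralizer_iff] at hh ⊢
    intro k hk
    have hk' : g'⁻¹ * k * g'⁻¹⁻¹ ∈ K :=
      (Subgroup.mem_normalizer_iff.mp (inv_mem hg') k).mp hk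
    have h1 := hh _ hk'
    calc k * (g' * h * g'⁻¹) = g' * ((g'⁻¹ * k * g'⁻¹⁻¹) * h) * g'⁻¹ := by group
      _ = g' * (h * (g'⁻¹ * k * g'⁻¹⁻¹)) * g'⁻¹ := by rw [h1]
      _ = g' * h * g'⁻¹ * k := by group
  rw [Subgroup.mem_normalizer_iff]
  intro h
  constructor
  · exact key g hg h
  · intro hh
    have h2 := key g⁻¹ (inv_mem hg) _ hh
    have e : g⁻¹ * (g * h * g⁻¹) * g⁻¹⁻¹ = h := by group
    rwa [e] at h2

theorem card_sup_dvd_of_le_normalizer [Finite G] (H K : Subgroup G)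
    (h : H ≤ normalizer (K : Set G)) :
    Nat.card (H ⊔ K : Subgroup G) ∣ Nat.card H * Nat.card K := by
  have hKN : K ≤ normalizer (K : Set G) := Subgroup.le_normalizer
  have hn : (K.subgroupOf (normalizer (K : Set G))).Normal := Subgroup.normal_in_normalizer
  have h1 := card_sup_dvd_of_normal (H.subgroupOf (normalizer (K : Set G)))
    (K.subgroupOf (normalizer (K : Set G)))
  have h2 : ((H.subgroupOf (normalizer (K : Set G))) ⊔
      (K.subgroupOf (normalizer (K : Set G)))).map (normalizer (K : Set G)).subtype = H ⊔ K := by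
    rw [Subgroup.map_sup, Subgroup.map_subgroupOf_eq_of_le h,
      Subgroup.map_subgroupOf_eq_of_le hKN]
  have e1 : Nat.card (H.subgroupOf (normalizer (K : Set G))) = Nat.card H :=
    Nat.card_congr (Subgroup.subgroupOfEquivOfLe h).toEquiv
  have e2 : Nat.card (K.subgroupOf (normalizer (K : Set G))) = Nat.card K :=
    Nat.card_congr (Subgroup.subgroupOfEquivOfLe hKN).toEquiv
  rw [← h2, Subgroup.card_map_of_injective (Subgroup.subtype_injective _)]
  rw [e1, e2] at h1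
  exact h1

theorem commute_of_comm_eq {b g g' c : G} (h1 : b * g * b⁻¹ * g⁻¹ = c)
    (h2 : b * g' * b⁻¹ * g'⁻¹ = c) (h3 : c * (g * g'⁻¹) = (g * g'⁻¹) * c) :
    b * (g * g'⁻¹) = (g * g'⁻¹) * b := by
  have e1 : b * g * b⁻¹ = c * g := by rw [← h1]; group
  have e2 : b * g' * b⁻¹ = c * g' := by rw [← h2]; group
  have e3 : b * (g * g'⁻¹) * b⁻¹ = g * g'⁻¹ := by
    calc b * (g * g'⁻¹) * b⁻¹ = (b * g * b⁻¹) * (b * g' * b⁻¹)⁻¹ := by group
      _ = c * g * (c * g')⁻¹ := by rw [e1, e2]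
      _ = c * (g * g'⁻¹) * c⁻¹ := by group
      _ = g * g'⁻¹ := by rw [h3]; group
  calc b * (g * g'⁻¹) = (b * (g * g'⁻¹) * b⁻¹) * b := by group
    _ = (g * g'⁻¹) * b := by rw [e3]

variable [Finite G]

/-- the data of Lemma END. -/
structure ENDData (p r : ℕ) (V Q A : Subgroup G) (x : G) : Prop where
  hp : p.Prime
  hr : r.Prime
  hpodd : Odd p
  hrodd : Odd r
  hpr : p ≠ r
  hVab : ∀ a ∈ V, ∀ b ∈ V, a * b = b * a
  hVp : IsPGroup p V
  hQsolv : Group.IsSolvable Q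
  hQp : (Nat.card Q).Coprime p
  hQr : (Nat.card Q).Coprime r
  hAp : IsPGroup p A
  hx : orderOf x = r
  hQV : Q ≤ normalizer (V : Set G)
  hAV : A ≤ normalizer (V : Set G)
  hxV : x ∈ normalizer (V : Set G)
  hxA : x ∈ normalizer (A : Set G)
  hCAx : A ⊓ centralizer ({x} : Set G) = ⊥
  hCQV : Q ⊓ centralizer (V : Set G) = ⊥
  hCVx : Nat.card ↥(V ⊓ centralizer ({x} : Set G)) ≤ p

namespace ENDData

variable {p r : ℕ} {V Q A : Subgroup G} {x : G}

theorem cop_p (D : ENDData p r V Q A x) {Y : Subgroup G} (hY : Y ≤ Q) :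
    (Nat.card Y).Coprime p :=
  Nat.Coprime.coprime_dvd_left (Subgroup.card_dvd_of_le hY) D.hQp

theorem cop_r (D : ENDData p r V Q A x) {Y : Subgroup G} (hY : Y ≤ Q) :
    (Nat.card Y).Coprime r :=
  Nat.Coprime.coprime_dvd_left (Subgroup.card_dvd_of_le hY) D.hQr

theorem cop_pgroup (D : ENDData p r V Q A x) {Y P : Subgroup G} (hY : Y ≤ Q)
    (hP : IsPGroup p P) : (Nat.card Y).Coprime (Nat.card P) := by
  have : Fact p.Prime := ⟨D.hp⟩
  obtain ⟨k, hk⟩ := IsPGroup.iff_card.mp hP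
  rw [hk]
  exact Nat.Coprime.pow_right k (D.cop_p hY)

/-- the abelian case of Lemma END. -/
theorem abelian_false (D : ENDData p r V Q A x) (Q₁ : Subgroup G) (hQ₁Q : Q₁ ≤ Q)
    (hQ₁ab : ∀ a ∈ Q₁, ∀ b ∈ Q₁, a * b = b * a)
    (hAQ₁ : A ≤ normalizer (Q₁ : Set G)) (hxQ₁ : x ∈ normalizer (Q₁ : Set G))
    (hcomm : ⁅Q₁, A⁆ = Q₁) (hne : Q₁ ≠ ⊥) : False := by
  classical
  have : Fact p.Prime := ⟨D.hp⟩
  have hQ₁c : IsMulCommutative Q₁ := ⟨⟨fun a b => Subtype.ext (hQ₁ab a a.2 b b.2)⟩⟩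
  have hVc : IsMulCommutative V := ⟨⟨fun a b => Subtype.ext (D.hVab a a.2 b b.2)⟩⟩
  have hcopAQ₁ : (Nat.card A).Coprime (Nat.card Q₁) := (D.cop_pgroup hQ₁Q D.hAp).symm
  have hCQ₁A : Q₁ ⊓ centralizer (A : Set G) = ⊥ := by
    have h0 := abelian_centralizer_inf_commutator_eq_bot A Q₁ hAQ₁ hcopAQ₁
    rw [hcomm, inf_eq_left.mpr inf_le_left] at h0
    exact h0
  have hcard1 : Nat.card Q₁ ≠ 1 := fun h => hne (Subgroup.card_eq_one.mp h)
  obtain ⟨q, hq, hqdvd⟩ := Nat.exists_prime_and_dvd hcard1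
  have : Fact q.Prime := ⟨hq⟩
  obtain ⟨W, hWmem⟩ : ∃ W : Subgroup G, ∀ w, w ∈ W ↔ w ∈ Q₁ ∧ w ^ q = 1 :=
    ⟨{ carrier := {w | w ∈ Q₁ ∧ w ^ q = 1}
       mul_mem' := by
         rintro a b ⟨ha, ha'⟩ ⟨hb, hb'⟩
         refine ⟨mul_mem ha hb, ?_⟩
         rw [(show Commute a b from hQ₁ab a ha b hb).mul_pow, ha', hb', one_mul]
       one_mem' := ⟨one_mem _, one_pow _⟩
       inv_mem' := by
         rintro a ⟨ha, ha'⟩
         exact ⟨inv_mem ha, by rw [inv_pow, ha', inv_one]⟩ }, fun w => Iff.rfl⟩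
  have hWQ₁ : W ≤ Q₁ := fun w hw => ((hWmem w).mp hw).1
  have hWQ : W ≤ Q := hWQ₁.trans hQ₁Q
  have hWne : W ≠ ⊥ := by
    obtain ⟨g, hg⟩ := exists_prime_orderOf_dvd_card' (G := ↥Q₁) q hqdvd
    intro h
    have h1 : (g : G) ∈ W := by
      rw [hWmem]
      refine ⟨g.2, ?_⟩
      have h2 : g ^ q = 1 := by rw [← hg]; exact pow_orderOf_eq_one g
      have h3 := congrArg Subtype.val h2
      rwa [Subgroup.coe_pow, Subgroup.coe_one] at h3
    rw [h, Subgroup.mem_bot] at h1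
    have h4 : g = 1 := Subtype.ext h1
    rw [h4, orderOf_one] at hg
    exact hq.one_lt.ne hg
  have hNW : ∀ g ∈ normalizer (Q₁ : Set G), g ∈ normalizer (W : Set G) := by
    have key : ∀ g ∈ normalizer (Q₁ : Set G), ∀ w ∈ W, g * w * g⁻¹ ∈ W := by
      intro g hg w hw
      rw [hWmem] at hw ⊢
      refine ⟨(Subgroup.mem_normalizer_iff.mp hg w).mp hw.1, ?_⟩
      rw [conj_pow, hw.2, mul_one, mul_inv_cancel]
    intro g hg
    rw [Subgroup.mem_normalizer_iff]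
    intro w
    constructor
    · exact key g hg w
    · intro hw
      have h2 := key g⁻¹ (inv_mem hg) _ hw
      have e : g⁻¹ * (g * w * g⁻¹) * g⁻¹⁻¹ = w := by group
      rwa [e] at h2
  have hncW : ¬ A ≤ centralizer (W : Set G) := by
    intro h
    apply hWne
    rw [eq_bot_iff, ← hCQ₁A]
    exact le_inf hWQ₁ (Subgroup.le_centralizer_iff.mp h)
  have hpq : p ≠ q := by
    intro h
    have h1 : q ∣ Nat.card Q := hqdvd.trans (Subgroup.card_dvd_of_le hQ₁Q)
    have h2 := D.hQp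
    rw [h] at h2
    exact (Nat.Prime.coprime_iff_not_dvd hq).mp h2.symm h1
  have hWV : W ≤ normalizer (V : Set G) := hWQ.trans D.hQV
  have hcopWV : (Nat.card W).Coprime (Nat.card V) := D.cop_pgroup hWQ D.hVp
  obtain ⟨V', hV'def⟩ : ∃ V' : Subgroup G, V' = ⁅V, W⁆ := ⟨_, rfl⟩
  have hV'V : V' ≤ V := by
    rw [hV'def]
    exact commutator_le_of_le_normalizer hWV
  have hsup := abelian_centralizer_sup_commutator_eq W V hWV hcopWV
  have hinf := abelian_centralizer_inf_commutator_eq_bot W V hWV hcopWV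
  rw [← hV'def] at hsup hinf
  have hWab : ∀ a ∈ W, ∀ b ∈ W, a * b = b * a :=
    fun a ha b hb => hQ₁ab a (hWQ₁ ha) b (hWQ₁ hb)
  have hWNV' : ∀ g ∈ normalizer (V : Set G), g ∈ normalizer (W : Set G) →
      g ∈ normalizer (V' : Set G) := by
    intro g h1 h2
    rw [hV'def]
    exact mem_normalizer_commutator h1 h2
  have DD : ABData p q r V' W x :=
    { hp := D.hp
      hq := hq
      hr := D.hr
      hVab := fun a ha b hb => D.hVab a (hV'V ha) b (hV'V hb)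
      hVp := D.hVp.to_le hV'V
      hWab := hWab
      hWq := fun a ha => ((hWmem a).mp ha).2
      hpq := hpq
      hx := D.hx
      hWV := fun w hw => hWNV' w (hWV hw) (Subgroup.le_normalizer hw)
      hxV := hWNV' x D.hxV (hNW x hxQ₁)
      hxW := hNW x hxQ₁
      hCVW := by
        rw [eq_bot_iff, ← hinf]
        intro u hu
        obtain ⟨hu1, hu2⟩ := Subgroup.mem_inf.mp hu
        exact Subgroup.mem_inf.mpr ⟨Subgroup.mem_inf.mpr ⟨hV'V hu1, hu2⟩, hu1⟩
      hCVx := le_trans (Subgroup.card_le_of_le (inf_le_inf_right _ hV'V)) D.hCVx }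
  have EE : AData p r V' W A x :=
    { hAp := D.hAp
      hpodd := D.hpodd
      hrodd := D.hrodd
      hAV := fun a ha => hWNV' a (D.hAV ha) (hNW a (hAQ₁ ha))
      hAW := fun a ha => hNW a (hAQ₁ ha)
      hxA := D.hxA
      hCAx := D.hCAx }
  have hCWV' : W ⊓ centralizer (V' : Set G) = ⊥ := by
    rw [eq_bot_iff, ← D.hCQV]
    intro w hw
    obtain ⟨hw1, hw2⟩ := Subgroup.mem_inf.mp hw
    refine Subgroup.mem_inf.mpr ⟨hWQ hw1, ?_⟩
    have hsub : V ≤ centralizer ({w} : Set G) := by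
      rw [← hsup]
      refine sup_le ?_ ?_
      · intro v hv
        rw [Subgroup.mem_centralizer_singleton_iff]
        exact (Subgroup.mem_centralizer_iff.mp (Subgroup.mem_inf.mp hv).2 w hw1).symm
      · intro v hv
        rw [Subgroup.mem_centralizer_singleton_iff]
        exact Subgroup.mem_centralizer_iff.mp hw2 v hv
    rw [Subgroup.mem_centralizer_iff]
    intro v hv
    exact Subgroup.mem_centralizer_singleton_iff.mp (hsub hv)
  exact DD.false_of EE hncW hCWV'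


/-- Theorem B for the Frobenius group `Z₀⟨x⟩` acting on a `p`-group `M`. -/
theorem thmB_card (D : ENDData p r V Q A x) (Z₀ : Subgroup G)
    (hZ₀ab : ∀ a ∈ Z₀, ∀ b ∈ Z₀, a * b = b * a) (hZ₀Q : Z₀ ≤ Q)
    (hxZ₀ : x ∈ normalizer (Z₀ : Set G)) (hZ₀x : Z₀ ⊓ centralizer ({x} : Set G) = ⊥)
    (M : Subgroup G) (hMp : IsPGroup p M) (hZ₀M : Z₀ ≤ normalizer (M : Set G))
    (hxM : x ∈ normalizer (M : Set G)) (hCM : M ⊓ centralizer (Z₀ : Set G) = ⊥) :
    Nat.card M = Nat.card ↥(M ⊓ centralizer ({x} : Set G)) ^ r := by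
  classical
  have : Fact p.Prime := ⟨D.hp⟩
  obtain ⟨J, hJdef⟩ : ∃ J : Subgroup G, J = Z₀ ⊔ zpowers x := ⟨_, rfl⟩
  have hZ₀J : Z₀ ≤ J := by rw [hJdef]; exact le_sup_left
  have hXJ : zpowers x ≤ J := by rw [hJdef]; exact le_sup_right
  have hJZ₀ : J ≤ normalizer (Z₀ : Set G) := by
    rw [hJdef]
    exact sup_le Subgroup.le_normalizer (Subgroup.zpowers_le.mpr hxZ₀)
  have hJM : J ≤ normalizer (M : Set G) := by
    rw [hJdef]
    exact sup_le hZ₀M (Subgroup.zpowers_le.mpr hxM)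
  have hKn : (Z₀.subgroupOf J).Normal :=
    (Subgroup.normal_subgroupOf_iff_le_normalizer hZ₀J).mpr hJZ₀
  have hKmap : (Z₀.subgroupOf J).map J.subtype = Z₀ := Subgroup.map_subgroupOf_eq_of_le hZ₀J
  have hRmap : ((zpowers x).subgroupOf J).map J.subtype = zpowers x :=
    Subgroup.map_subgroupOf_eq_of_le hXJ
  have hKsolv : Group.IsSolvable ↥(Z₀.subgroupOf J) := by
    apply Group.isSolvable_of_comm
    intro a b
    apply Subtype.ext
    apply Subtype.ext
    exact hZ₀ab _ a.2 _ b.2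
  have hfpf : ∀ y ∈ (zpowers x).subgroupOf J, y ≠ 1 → ∀ k ∈ Z₀.subgroupOf J,
      y * k = k * y → k = 1 := by
    intro y hy hy1 k hk hyk
    have hy' : (y : G) ∈ zpowers x := hy
    have hk' : (k : G) ∈ Z₀ := hk
    have hy1' : (y : G) ≠ 1 := fun h => hy1 (Subtype.ext h)
    have hxy : x ∈ zpowers (y : G) := mem_zpowers_of_prime D.hr D.hx hy' hy1'
    have hyk' : (y : G) * k = k * y := congrArg Subtype.val hyk
    have h1 : zpowers (y : G) ≤ centralizer ({(k : G)} : Set G) := by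
      rw [Subgroup.zpowers_le, Subgroup.mem_centralizer_singleton_iff]
      exact hyk'
    have h3 : (k : G) ∈ Z₀ ⊓ centralizer ({x} : Set G) := by
      refine Subgroup.mem_inf.mpr ⟨hk', ?_⟩
      rw [Subgroup.mem_centralizer_singleton_iff]
      exact (Subgroup.mem_centralizer_singleton_iff.mp (h1 hxy)).symm
    rw [hZ₀x, Subgroup.mem_bot] at h3
    exact Subtype.ext h3
  have hnil : Group.IsNilpotent ↥M := hMp.isNilpotent
  have hcardX : Nat.card (zpowers x) = r := by rw [Nat.card_zpowers, D.hx]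
  have hcop : (Nat.card J).Coprime (Nat.card M) := by
    have h1 := card_sup_dvd_of_le_normalizer (zpowers x) Z₀ (Subgroup.zpowers_le.mpr hxZ₀)
    rw [sup_comm, ← hJdef, hcardX] at h1
    obtain ⟨k, hk⟩ := IsPGroup.iff_card.mp hMp
    rw [hk]
    apply Nat.Coprime.pow_right
    apply Nat.Coprime.coprime_dvd_left h1
    apply Nat.Coprime.mul_left
    · exact (Nat.coprime_primes D.hr D.hp).mpr D.hpr.symm
    · exact D.cop_p hZ₀Q
  have hCK : M ⊓ centralizer (((Z₀.subgroupOf J).map J.subtype : Subgroup G) : Set G) = ⊥ := by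
    rw [hKmap]
    exact hCM
  have hB := FrobAction.card_eq_card_centralizer_pow M J hJM (Z₀.subgroupOf J)
    ((zpowers x).subgroupOf J) hKsolv hfpf hnil hcop hCK
  have hcardR : Nat.card ((zpowers x).subgroupOf J) = r := by
    rw [Nat.card_congr (Subgroup.subgroupOfEquivOfLe hXJ).toEquiv, hcardX]
  rw [hRmap, centralizer_zpowers, hcardR] at hB
  exact hB

/-- `x` centralizes the centre of `Q₁`. -/
theorem comm_center_eq_bot (D : ENDData p r V Q A x) (Q₁ Z : Subgroup G) (hQ₁Q : Q₁ ≤ Q)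
    (hcomm : ⁅Q₁, A⁆ = Q₁) (hZQ₁ : Z ≤ Q₁) (hZc : Z ≤ centralizer (Q₁ : Set G))
    (hxZ : x ∈ normalizer (Z : Set G)) (hAZ : A ≤ centralizer (Z : Set G)) :
    ⁅Z, zpowers x⁆ = ⊥ := by
  classical
  by_contra hZ₀ne
  have : Fact p.Prime := ⟨D.hp⟩
  have hVc : IsMulCommutative V := ⟨⟨fun a b => Subtype.ext (D.hVab a a.2 b b.2)⟩⟩
  have hZab : ∀ a ∈ Z, ∀ b ∈ Z, a * b = b * a := by
    intro a ha b hb
    exact Subgroup.mem_centralizer_iff.mp (hZc hb) a (hZQ₁ ha)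
  have hZcI : IsMulCommutative Z := ⟨⟨fun a b => Subtype.ext (hZab a a.2 b b.2)⟩⟩
  have hZQ : Z ≤ Q := hZQ₁.trans hQ₁Q
  have hXZ : zpowers x ≤ normalizer (Z : Set G) := Subgroup.zpowers_le.mpr hxZ
  have hcardX : Nat.card (zpowers x) = r := by rw [Nat.card_zpowers, D.hx]
  have hcopXZ : (Nat.card (zpowers x)).Coprime (Nat.card Z) := by
    rw [hcardX]
    exact (D.cop_r hZQ).symm
  obtain ⟨Z₀, hZ₀def⟩ : ∃ Z₀ : Subgroup G, Z₀ = ⁅Z, zpowers x⁆ := ⟨_, rfl⟩
  rw [← hZ₀def] at hZ₀ne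
  have hZ₀Z : Z₀ ≤ Z := by
    rw [hZ₀def]
    exact commutator_le_of_le_normalizer hXZ
  have hZ₀inf : (Z ⊓ centralizer ((zpowers x : Subgroup G) : Set G)) ⊓ Z₀ = ⊥ := by
    rw [hZ₀def]
    exact abelian_centralizer_inf_commutator_eq_bot (zpowers x) Z hXZ hcopXZ
  have hxZ₀ : x ∈ normalizer (Z₀ : Set G) := by
    rw [hZ₀def]
    exact le_normalizer_commutator_right (Subgroup.mem_zpowers x)
  have hZ₀Q : Z₀ ≤ Q := hZ₀Z.trans hZQ
  have hZ₀ab : ∀ a ∈ Z₀, ∀ b ∈ Z₀, a * b = b * a :=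
    fun a ha b hb => hZab a (hZ₀Z ha) b (hZ₀Z hb)
  have hZ₀V : Z₀ ≤ normalizer (V : Set G) := hZ₀Q.trans D.hQV
  have hcopZ₀V : (Nat.card Z₀).Coprime (Nat.card V) := D.cop_pgroup hZ₀Q D.hVp
  obtain ⟨V', hV'def⟩ : ∃ V' : Subgroup G, V' = ⁅V, Z₀⁆ := ⟨_, rfl⟩
  have hV'V : V' ≤ V := by
    rw [hV'def]
    exact commutator_le_of_le_normalizer hZ₀V
  have hV'ne : V' ≠ ⊥ := by
    intro h
    rw [hV'def, Subgroup.commutator_eq_bot_iff_le_centralizer] at h
    apply hZ₀ne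
    rw [eq_bot_iff, ← D.hCQV]
    exact le_inf hZ₀Q (Subgroup.le_centralizer_iff.mp h)
  have hV'p : IsPGroup p V' := D.hVp.to_le hV'V
  have hV'CZ₀ : V' ⊓ centralizer (Z₀ : Set G) = ⊥ := by
    have h0 := abelian_centralizer_inf_commutator_eq_bot Z₀ V hZ₀V hcopZ₀V
    rw [← hV'def] at h0
    rw [eq_bot_iff, ← h0]
    intro u hu
    obtain ⟨hu1, hu2⟩ := Subgroup.mem_inf.mp hu
    exact Subgroup.mem_inf.mpr ⟨Subgroup.mem_inf.mpr ⟨hV'V hu1, hu2⟩, hu1⟩
  have hZ₀V' : Z₀ ≤ normalizer (V' : Set G) := by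
    rw [hV'def]
    exact le_normalizer_commutator_right
  have hxV' : x ∈ normalizer (V' : Set G) := by
    rw [hV'def]
    exact mem_normalizer_commutator D.hxV hxZ₀
  have hAZ₀ : A ≤ centralizer (Z₀ : Set G) :=
    hAZ.trans (Subgroup.centralizer_le (SetLike.coe_subset_coe.mpr hZ₀Z))
  have hZ₀A : Z₀ ≤ centralizer (A : Set G) := Subgroup.le_centralizer_iff.mp hAZ₀
  have hAV' : A ≤ normalizer (V' : Set G) := by
    intro a ha
    rw [hV'def]
    exact mem_normalizer_commutator (D.hAV ha) (Subgroup.centralizer_le_normalizer _ (hAZ₀ ha))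
  have hZ₀x : Z₀ ⊓ centralizer ({x} : Set G) = ⊥ := by
    rw [← centralizer_zpowers, eq_bot_iff, ← hZ₀inf]
    intro u hu
    obtain ⟨hu1, hu2⟩ := Subgroup.mem_inf.mp hu
    exact Subgroup.mem_inf.mpr ⟨Subgroup.mem_inf.mpr ⟨hZ₀Z hu1, hu2⟩, hu1⟩
  have hB1 := D.thmB_card Z₀ hZ₀ab hZ₀Q hxZ₀ hZ₀x V' hV'p hZ₀V' hxV' hV'CZ₀
  have hc1le : Nat.card ↥(V' ⊓ centralizer ({x} : Set G)) ≤ p :=
    le_trans (Subgroup.card_le_of_le (inf_le_inf_right _ hV'V)) D.hCVx
  have hc1ne : V' ⊓ centralizer ({x} : Set G) ≠ ⊥ := by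
    intro h
    rw [h, Subgroup.card_bot, one_pow] at hB1
    exact hV'ne (Subgroup.card_eq_one.mp hB1)
  have hc1 : Nat.card ↥(V' ⊓ centralizer ({x} : Set G)) = p :=
    le_antisymm hc1le (Nat.le_of_dvd Nat.card_pos
      (Cfsg.Agent.Lib.Helper29.BG10.dvd_card_of_isPGroup_ne_bot (hV'p.to_le inf_le_left) hc1ne))
  obtain ⟨V'', hV''def⟩ : ∃ V'' : Subgroup G, V'' = V' ⊓ centralizer (A : Set G) := ⟨_, rfl⟩
  have hV''ne : V'' ≠ ⊥ := by
    rw [hV''def]
    exact inf_centralizer_ne_bot_of_isPGroup A V' D.hAp hV'p hAV' hV'ne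
  have hV''V' : V'' ≤ V' := by
    rw [hV''def]
    exact inf_le_left
  have hV''p : IsPGroup p V'' := hV'p.to_le hV''V'
  have hZ₀V'' : Z₀ ≤ normalizer (V'' : Set G) := by
    intro z hz
    rw [hV''def]
    exact Subgroup.inf_normalizer_le_normalizer_inf
      (Subgroup.mem_inf.mpr ⟨hZ₀V' hz, Subgroup.le_normalizer (hZ₀A hz)⟩)
  have hxV'' : x ∈ normalizer (V'' : Set G) := by
    rw [hV''def]
    exact Subgroup.inf_normalizer_le_normalizer_inf
      (Subgroup.mem_inf.mpr ⟨hxV', mem_normalizer_centralizer D.hxA⟩)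
  have hV''CZ₀ : V'' ⊓ centralizer (Z₀ : Set G) = ⊥ := by
    rw [eq_bot_iff, ← hV'CZ₀]
    exact inf_le_inf_right _ hV''V'
  have hB2 := D.thmB_card Z₀ hZ₀ab hZ₀Q hxZ₀ hZ₀x V'' hV''p hZ₀V'' hxV'' hV''CZ₀
  have hc2ne : V'' ⊓ centralizer ({x} : Set G) ≠ ⊥ := by
    intro h
    rw [h, Subgroup.card_bot, one_pow] at hB2
    exact hV''ne (Subgroup.card_eq_one.mp hB2)
  have hc2 : Nat.card ↥(V'' ⊓ centralizer ({x} : Set G)) = p :=
    le_antisymm (le_trans (Subgroup.card_le_of_le (inf_le_inf_right _ hV''V')) hc1.le)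
      (Nat.le_of_dvd Nat.card_pos
        (Cfsg.Agent.Lib.Helper29.BG10.dvd_card_of_isPGroup_ne_bot (hV''p.to_le inf_le_left)
          hc2ne))
  have hV''eq : V'' = V' := Subgroup.eq_of_le_of_card_ge hV''V' (by rw [hB1, hB2, hc1, hc2])
  have hV'A : V' ≤ centralizer (A : Set G) := by
    have h1 : V'' ≤ centralizer (A : Set G) := by
      rw [hV''def]
      exact inf_le_right
    rwa [hV''eq] at h1
  have hAV'c : A ≤ centralizer (V' : Set G) := Subgroup.le_centralizer_iff.mp hV'A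
  have hQ₁Z₀ : Q₁ ≤ centralizer (Z₀ : Set G) :=
    (Subgroup.le_centralizer_iff.mp hZc).trans
      (Subgroup.centralizer_le (SetLike.coe_subset_coe.mpr hZ₀Z))
  have hQ₁V' : Q₁ ≤ normalizer (V' : Set G) := by
    intro g hg
    rw [hV'def]
    exact mem_normalizer_commutator (D.hQV (hQ₁Q hg))
      (Subgroup.centralizer_le_normalizer _ (hQ₁Z₀ hg))
  have hQ₁CV' : Q₁ ≤ centralizer (V' : Set G) := by
    have h0 : ⁅Q₁, A⁆ ≤ centralizer (V' : Set G) := by
      rw [Subgroup.commutator_le]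
      intro g hg a ha
      have h1 : g * a * g⁻¹ ∈ centralizer (V' : Set G) :=
        (Subgroup.mem_normalizer_iff.mp (mem_normalizer_centralizer (hQ₁V' hg)) a).mp (hAV'c ha)
      rw [commutatorElement_def]
      exact mul_mem h1 (inv_mem (hAV'c ha))
    rwa [hcomm] at h0
  apply hV'ne
  rw [eq_bot_iff, ← hV'CZ₀]
  exact le_inf le_rfl (Subgroup.le_centralizer_iff.mp ((hZ₀Z.trans hZQ₁).trans hQ₁CV'))

/-- `C_{Q₁}(x)` is central in `Q₁` when `Q₁` has class at most two and `x` centralizes `Z(Q₁)`. -/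
theorem centralizer_x_le_center (D : ENDData p r V Q A x) (Q₁ : Subgroup G) (hQ₁Q : Q₁ ≤ Q)
    (hxQ₁ : x ∈ normalizer (Q₁ : Set G))
    (hder : ⁅Q₁, Q₁⁆ ≤ centralizer (Q₁ : Set G))
    (hZx : Q₁ ⊓ centralizer (Q₁ : Set G) ≤ centralizer ((zpowers x : Subgroup G) : Set G))
    (hcyc : IsCyclic ↥(Q₁ ⊓ centralizer ({x} : Set G))) :
    Q₁ ⊓ centralizer ({x} : Set G) ≤ centralizer (Q₁ : Set G) := by
  intro b hb
  obtain ⟨hbQ₁, hbx⟩ := Subgroup.mem_inf.mp hb
  have hXQ₁ : zpowers x ≤ normalizer (Q₁ : Set G) := Subgroup.zpowers_le.mpr hxQ₁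
  have hQsolv := D.hQsolv
  have hQ₁solv : Group.IsSolvable ↥Q₁ :=
    Group.isSolvable_of_isSolvable_injective (f := Subgroup.inclusion hQ₁Q) (Subgroup.inclusion_injective _)
  have hact : CoprimeAct (zpowers x) Q₁ :=
    ⟨hXQ₁, by rw [Nat.card_zpowers, D.hx]; exact (D.cop_r hQ₁Q).symm, Or.inr hQ₁solv⟩
  have hdecomp := hact.commutator_sup_centralizer
  have hbX : b ∈ centralizer ((zpowers x : Subgroup G) : Set G) := by
    rw [centralizer_zpowers]
    exact hbx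
  have hsub : Q₁ ≤ centralizer ({b} : Set G) := by
    refine (le_of_eq hdecomp.symm).trans (sup_le ?_ ?_)
    · rw [Subgroup.commutator_le]
      intro g hg y hy
      have hg' : y * g * y⁻¹ ∈ Q₁ := (Subgroup.mem_normalizer_iff.mp (hXQ₁ hy) g).mp hg
      have hby : y * b = b * y := Subgroup.mem_centralizer_iff.mp hbX y hy
      have hcmem : b * g * b⁻¹ * g⁻¹ ∈ Q₁ ⊓ centralizer (Q₁ : Set G) := by
        refine Subgroup.mem_inf.mpr
          ⟨mul_mem (mul_mem (mul_mem hbQ₁ hg) (inv_mem hbQ₁)) (inv_mem hg), ?_⟩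
        apply hder
        have := Subgroup.commutator_mem_commutator hbQ₁ hg
        rwa [commutatorElement_def] at this
      have hyc : y * (b * g * b⁻¹ * g⁻¹) = (b * g * b⁻¹ * g⁻¹) * y :=
        Subgroup.mem_centralizer_iff.mp (hZx hcmem) y hy
      have hb' : y * b * y⁻¹ = b := by rw [hby]; group
      have h2 : b * (y * g * y⁻¹) * b⁻¹ * (y * g * y⁻¹)⁻¹ = b * g * b⁻¹ * g⁻¹ := by
        calc b * (y * g * y⁻¹) * b⁻¹ * (y * g * y⁻¹)⁻¹
            = (y * b * y⁻¹) * (y * g * y⁻¹) * (y * b * y⁻¹)⁻¹ * (y * g * y⁻¹)⁻¹ := by rw [hb']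
          _ = y * (b * g * b⁻¹ * g⁻¹) * y⁻¹ := by group
          _ = b * g * b⁻¹ * g⁻¹ := by rw [hyc]; group
      have h3 : (b * g * b⁻¹ * g⁻¹) * (g * (y * g * y⁻¹)⁻¹)
          = (g * (y * g * y⁻¹)⁻¹) * (b * g * b⁻¹ * g⁻¹) :=
        (Subgroup.mem_centralizer_iff.mp (Subgroup.mem_inf.mp hcmem).2 _
          (mul_mem hg (inv_mem hg'))).symm
      have h4 := commute_of_comm_eq rfl h2 h3
      rw [commutatorElement_def, Subgroup.mem_centralizer_singleton_iff]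
      have e0 : g * y * g⁻¹ * y⁻¹ = g * (y * g * y⁻¹)⁻¹ := by group
      rw [e0]
      exact h4.symm
    · intro u hu
      rw [centralizer_zpowers] at hu
      have hcomm' : ∀ a b : ↥(Q₁ ⊓ centralizer ({x} : Set G)), a * b = b * a := by
        intro a b
        let _ := IsCyclic.commGroup (α := ↥(Q₁ ⊓ centralizer ({x} : Set G)))
        exact mul_comm a b
      have h1 := congrArg Subtype.val (hcomm' ⟨u, hu⟩ ⟨b, hb⟩)
      rw [Subgroup.mem_centralizer_singleton_iff]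
      exact h1
  rw [Subgroup.mem_centralizer_iff]
  intro h hh
  exact Subgroup.mem_centralizer_singleton_iff.mp (hsub hh)

end ENDData

end Cfsg.Agent.Lib.Helper29.BG36
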