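import Mathlib
import Cfsg.Agent.Lib.Helper29.BG36e

/-!
BG Theorem 3.6 (S1444): Lemma END, part 2 (the nonabelian case and the assembly).
-/

set_option autoImplicit false

namespace Cfsg.Agent.Lib.Helper29.BG36

open Subgroup Cfsg.Agent.Lib.Helper1 Cfsg.Agent.Lib.Helper10
open scoped commutatorElement Pointwise

variable {G : Type*} [Group G] [Finite G]

namespace ENDData

variable {p r : ℕ} {V Q A : Subgroup G} {x : G}

/-- the nonabelian case: Theorem B for `A⟨x⟩` acting on `Q₁ / Z(Q₁)`. -/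
theorem nonabelian_false (D : ENDData p r V Q A x) (Q₁ : Subgroup G) (hQ₁Q : Q₁ ≤ Q)
    (hAQ₁ : A ≤ normalizer (Q₁ : Set G)) (hxQ₁ : x ∈ normalizer (Q₁ : Set G))
    (hnil : Group.IsNilpotent ↥Q₁)
    (hnab : ¬ Q₁ ≤ centralizer (Q₁ : Set G))
    (hCA : Q₁ ⊓ centralizer (A : Set G) ≤ centralizer (Q₁ : Set G))
    (hCx : Q₁ ⊓ centralizer ({x} : Set G) ≤ centralizer (Q₁ : Set G)) : False := by
  classical
  have : Fact p.Prime := ⟨D.hp⟩
  obtain ⟨J, hJdef⟩ : ∃ J : Subgroup G, J = A ⊔ zpowers x := ⟨_, rfl⟩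
  have hAJ : A ≤ J := by rw [hJdef]; exact le_sup_left
  have hXJ : zpowers x ≤ J := by rw [hJdef]; exact le_sup_right
  have hJQ₁ : J ≤ normalizer (Q₁ : Set G) := by
    rw [hJdef]
    exact sup_le hAQ₁ (Subgroup.zpowers_le.mpr hxQ₁)
  have hJA : J ≤ normalizer (A : Set G) := by
    rw [hJdef]
    exact sup_le Subgroup.le_normalizer (Subgroup.zpowers_le.mpr D.hxA)
  have hKn : (A.subgroupOf J).Normal :=
    (Subgroup.normal_subgroupOf_iff_le_normalizer hAJ).mpr hJA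
  have hKp : IsPGroup p ↥(A.subgroupOf J) := D.hAp.comap_subtype
  have hKsolv : Group.IsSolvable ↥(A.subgroupOf J) := by
    have := hKp.isNilpotent
    infer_instance
  have hcardX : Nat.card (zpowers x) = r := by rw [Nat.card_zpowers, D.hx]
  have hcardK : Nat.card (A.subgroupOf J) = Nat.card A :=
    Nat.card_congr (Subgroup.subgroupOfEquivOfLe hAJ).toEquiv
  have hcardR : Nat.card ((zpowers x).subgroupOf J) = r := by
    rw [Nat.card_congr (Subgroup.subgroupOfEquivOfLe hXJ).toEquiv, hcardX]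
  have hfpf : ∀ y ∈ (zpowers x).subgroupOf J, y ≠ 1 → ∀ k ∈ A.subgroupOf J,
      y * k = k * y → k = 1 := by
    intro y hy hy1 k hk hyk
    have hy' : (y : G) ∈ zpowers x := hy
    have hk' : (k : G) ∈ A := hk
    have hy1' : (y : G) ≠ 1 := fun h => hy1 (Subtype.ext h)
    have hxy : x ∈ zpowers (y : G) := mem_zpowers_of_prime D.hr D.hx hy' hy1'
    have hyk' : (y : G) * k = k * y := congrArg Subtype.val hyk
    have h1 : zpowers (y : G) ≤ centralizer ({(k : G)} : Set G) := by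
      rw [Subgroup.zpowers_le, Subgroup.mem_centralizer_singleton_iff]
      exact hyk'
    have h3 : (k : G) ∈ A ⊓ centralizer ({x} : Set G) := by
      refine Subgroup.mem_inf.mpr ⟨hk', ?_⟩
      rw [Subgroup.mem_centralizer_singleton_iff]
      exact (Subgroup.mem_centralizer_singleton_iff.mp (h1 hxy)).symm
    rw [D.hCAx, Subgroup.mem_bot] at h3
    exact Subtype.ext h3
  have hinv := FrobAction.invariant_center (FrobAction.conjHom Q₁ J hJQ₁)
  have hcenter : ∀ n : ↥Q₁, n ∈ Subgroup.center ↥Q₁ ↔ (n : G) ∈ centralizer (Q₁ : Set G) := by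
    intro n
    rw [Subgroup.mem_center_iff, Subgroup.mem_centralizer_iff]
    constructor
    · intro h g hg
      exact congrArg Subtype.val (h ⟨g, hg⟩)
    · intro h g
      exact Subtype.ext (h g g.2)
  have hNab : ∀ a ∈ Subgroup.center ↥Q₁, ∀ b ∈ Subgroup.center ↥Q₁, a * b = b * a := by
    intro a _ b hb
    exact Subgroup.mem_center_iff.mp hb a
  have hcardC : Nat.card (Subgroup.center ↥Q₁) ∣ Nat.card Q :=
    (Subgroup.card_subgroup_dvd_card _).trans (Subgroup.card_dvd_of_le hQ₁Q)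
  have hcardM : Nat.card (↥Q₁ ⧸ Subgroup.center ↥Q₁) ∣ Nat.card Q :=
    (Subgroup.card_quotient_dvd_card _).trans (Subgroup.card_dvd_of_le hQ₁Q)
  have hcopAQ : (Nat.card A).Coprime (Nat.card Q) := by
    obtain ⟨k, hk⟩ := IsPGroup.iff_card.mp D.hAp
    rw [hk]
    exact Nat.Coprime.pow_left k D.hQp.symm
  have hlift : ∀ (S : Subgroup ↥J)
      (_ : (Nat.card S).Coprime (Nat.card (Subgroup.center ↥Q₁)))
      (_ : ∀ g : ↥Q₁, (∀ s ∈ S, FrobAction.conjHom Q₁ J hJQ₁ s g = g) →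
        (g : G) ∈ centralizer (Q₁ : Set G)),
      ∀ m : ↥Q₁ ⧸ Subgroup.center ↥Q₁,
        (∀ s ∈ S, FrobAction.quoHom (FrobAction.conjHom Q₁ J hJQ₁) (Subgroup.center ↥Q₁) hinv s m
          = m) → m = 1 := by
    intro S hcopS hS m hm
    obtain ⟨g₀, hg₀⟩ := FrobAction.fixedMap_surjective (FrobAction.conjHom Q₁ J hJQ₁)
      (Subgroup.center ↥Q₁) hNab hinv S hcopS ⟨m, hm⟩
    have h1 : m = ((g₀ : ↥Q₁) : ↥Q₁ ⧸ Subgroup.center ↥Q₁) := (congrArg Subtype.val hg₀).symm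
    rw [h1, QuotientGroup.eq_one_iff, hcenter]
    exact hS g₀ (fun s hs => g₀.2 s hs)
  have hCK : ∀ m : ↥Q₁ ⧸ Subgroup.center ↥Q₁,
      (∀ k ∈ A.subgroupOf J,
        FrobAction.quoHom (FrobAction.conjHom Q₁ J hJQ₁) (Subgroup.center ↥Q₁) hinv k m = m) →
        m = 1 := by
    apply hlift (A.subgroupOf J)
    · rw [hcardK]
      exact Nat.Coprime.coprime_dvd_right hcardC hcopAQ
    · intro g hg
      apply hCA
      refine Subgroup.mem_inf.mpr ⟨g.2, ?_⟩
      rw [Subgroup.mem_centralizer_iff]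
      intro a ha
      have h1 := congrArg Subtype.val (hg ⟨a, hAJ ha⟩ ha)
      rw [FrobAction.conjHom_apply] at h1
      change a * (g : G) * a⁻¹ = g at h1
      calc a * (g : G) = (a * (g : G) * a⁻¹) * a := by group
        _ = g * a := by rw [h1]
  have hCR : ∀ m : ↥Q₁ ⧸ Subgroup.center ↥Q₁,
      (∀ k ∈ (zpowers x).subgroupOf J,
        FrobAction.quoHom (FrobAction.conjHom Q₁ J hJQ₁) (Subgroup.center ↥Q₁) hinv k m = m) →
        m = 1 := by
    apply hlift ((zpowers x).subgroupOf J)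
    · rw [hcardR]
      exact Nat.Coprime.coprime_dvd_right hcardC D.hQr.symm
    · intro g hg
      apply hCx
      refine Subgroup.mem_inf.mpr ⟨g.2, ?_⟩
      rw [Subgroup.mem_centralizer_singleton_iff]
      have hxJ : x ∈ J := hXJ (Subgroup.mem_zpowers x)
      have h1 := congrArg Subtype.val (hg ⟨x, hxJ⟩ (Subgroup.mem_zpowers x))
      rw [FrobAction.conjHom_apply] at h1
      change x * (g : G) * x⁻¹ = g at h1
      calc (g : G) * x = (x * (g : G) * x⁻¹) * x := by rw [h1]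
        _ = x * g := by group
  have hcop : (Nat.card ↥J).Coprime (Nat.card (↥Q₁ ⧸ Subgroup.center ↥Q₁)) := by
    have h1 := card_sup_dvd_of_le_normalizer (zpowers x) A (Subgroup.zpowers_le.mpr D.hxA)
    rw [sup_comm, ← hJdef, hcardX] at h1
    apply Nat.Coprime.coprime_dvd_left h1
    apply Nat.Coprime.coprime_dvd_right hcardM
    exact Nat.Coprime.mul_left D.hQr.symm hcopAQ
  have hnilM : Group.IsNilpotent (↥Q₁ ⧸ Subgroup.center ↥Q₁) := inferInstance
  have hB := FrobAction.card_eq_card_fixedSub_pow (A.subgroupOf J) ((zpowers x).subgroupOf J)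
    hKsolv hfpf (↥Q₁ ⧸ Subgroup.center ↥Q₁)
    (FrobAction.quoHom (FrobAction.conjHom Q₁ J hJQ₁) (Subgroup.center ↥Q₁) hinv) hnilM hcop hCK
  have hfix : FrobAction.fixedSub
      (FrobAction.quoHom (FrobAction.conjHom Q₁ J hJQ₁) (Subgroup.center ↥Q₁) hinv)
      ((zpowers x).subgroupOf J) = ⊥ := by
    rw [eq_bot_iff]
    intro m hm
    rw [Subgroup.mem_bot]
    exact hCR m hm
  rw [hfix, Subgroup.card_bot, one_pow] at hB
  apply hnab
  intro g hg
  have h1 : ((⟨g, hg⟩ : ↥Q₁) : ↥Q₁ ⧸ Subgroup.center ↥Q₁) = 1 := by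
    have : Subsingleton (↥Q₁ ⧸ Subgroup.center ↥Q₁) := (Nat.card_eq_one_iff_unique.mp hB).1
    exact Subsingleton.elim _ _
  rw [QuotientGroup.eq_one_iff, hcenter] at h1
  exact h1

end ENDData

/-- **Lemma END**. -/
theorem lemma_END {p r : ℕ} [Fact p.Prime] [Fact r.Prime]
    (hp2 : p ≠ 2) (hr2 : r ≠ 2) (hpr : p ≠ r) (V Q A : Subgroup G) (x : G)
    (hVab : ∀ a ∈ V, ∀ b ∈ V, a * b = b * a) (hVp : IsPGroup p V)
    (hQsolv : Group.IsSolvable Q) (hQp : (Nat.card Q).Coprime p) (hQr : (Nat.card Q).Coprime r)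
    (hAp : IsPGroup p A) (hx : orderOf x = r)
    (hQV : Q ≤ normalizer (V : Set G)) (hAV : A ≤ normalizer (V : Set G))
    (hxV : x ∈ normalizer (V : Set G))
    (hAQ : A ≤ normalizer (Q : Set G)) (hxQ : x ∈ normalizer (Q : Set G))
    (hxA : x ∈ normalizer (A : Set G))
    (hCAx : A ⊓ centralizer ({x} : Set G) = ⊥)
    (hnc : ¬ A ≤ centralizer (Q : Set G))
    (hCQV : Q ⊓ centralizer (V : Set G) = ⊥)
    (hCVx : Nat.card ↥(V ⊓ centralizer ({x} : Set G)) ≤ p)
    (hcyc : ∀ Q' : Subgroup G, Q' ≤ Q → x ∈ normalizer (Q' : Set G) → Group.IsNilpotent ↥Q' →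
      IsCyclic ↥(Q' ⊓ centralizer ({x} : Set G))) : False := by
  classical
  have D : ENDData p r V Q A x :=
    { hp := Fact.out
      hr := Fact.out
      hpodd := (Fact.out : p.Prime).odd_of_ne_two hp2
      hrodd := (Fact.out : r.Prime).odd_of_ne_two hr2
      hpr := hpr
      hVab := hVab
      hVp := hVp
      hQsolv := hQsolv
      hQp := hQp
      hQr := hQr
      hAp := hAp
      hx := hx
      hQV := hQV
      hAV := hAV
      hxV := hxV
      hxA := hxA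
      hCAx := hCAx
      hCQV := hCQV
      hCVx := hCVx }
  obtain ⟨Q₁, ⟨hQ₁Q, hAQ₁, hxQ₁, hnc₁⟩, hmin⟩ :=
    (Set.toFinite {Y : Subgroup G | Y ≤ Q ∧ A ≤ normalizer (Y : Set G) ∧
      x ∈ normalizer (Y : Set G) ∧ ¬ A ≤ centralizer (Y : Set G)}).exists_minimal
      ⟨Q, le_rfl, hAQ, hxQ, hnc⟩
  have hMIN : ∀ Y : Subgroup G, Y ≤ Q₁ → A ≤ normalizer (Y : Set G) →
      x ∈ normalizer (Y : Set G) → Y ≠ Q₁ → A ≤ centralizer (Y : Set G) := by
    intro Y hY hAY hxY hne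
    by_contra hcon
    exact hne (le_antisymm hY (hmin ⟨hY.trans hQ₁Q, hAY, hxY, hcon⟩ hY))
  have hcopAQ₁ : (Nat.card A).Coprime (Nat.card Q₁) := (D.cop_pgroup hQ₁Q hAp).symm
  have hQ₁solv : Group.IsSolvable ↥Q₁ :=
    Group.isSolvable_of_isSolvable_injective (f := Subgroup.inclusion hQ₁Q)
      (Subgroup.inclusion_injective _)
  have hact : CoprimeAct A Q₁ := ⟨hAQ₁, hcopAQ₁, Or.inr hQ₁solv⟩
  have hcomm : ⁅Q₁, A⁆ = Q₁ := by
    by_contra hne
    have h1 : ⁅Q₁, A⁆ ≤ Q₁ := commutator_le_of_le_normalizer hAQ₁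
    have h2 := hMIN ⁅Q₁, A⁆ h1 le_normalizer_commutator_right
      (mem_normalizer_commutator hxQ₁ hxA) hne
    have h3 : ⁅⁅Q₁, A⁆, A⁆ = ⊥ := by
      rw [Subgroup.commutator_eq_bot_iff_le_centralizer]
      exact Subgroup.le_centralizer_iff.mp h2
    rw [hact.commutator_commutator_eq, Subgroup.commutator_eq_bot_iff_le_centralizer] at h3
    exact hnc₁ (Subgroup.le_centralizer_iff.mp h3)
  have hQ₁ne : Q₁ ≠ ⊥ := by
    intro h
    apply hnc₁
    rw [h]
    intro a _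
    rw [Subgroup.mem_centralizer_iff]
    intro z hz
    have hz1 : z = 1 := Subgroup.mem_bot.mp hz
    rw [hz1, one_mul, mul_one]
  have hder_ne : ⁅Q₁, Q₁⁆ ≠ Q₁ := by
    intro h
    have hnt : Nontrivial ↥Q₁ := (Subgroup.nontrivial_iff_ne_bot Q₁).mpr hQ₁ne
    have h1 := Group.IsSolvable.commutator_lt_top_of_nontrivial ↥Q₁
    have h2 : (_root_.commutator ↥Q₁).map Q₁.subtype = ⁅Q₁, Q₁⁆ :=
      Subgroup.map_subtype_commutator Q₁
    rw [h] at h2
    apply h1.ne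
    rw [eq_top_iff]
    intro g _
    have hg : (g : G) ∈ (_root_.commutator ↥Q₁).map Q₁.subtype := by
      rw [h2]
      exact g.2
    obtain ⟨g', hg', hgg'⟩ := hg
    have e : g' = g := Subtype.ext hgg'
    rwa [e] at hg'
  have hder_le : ⁅Q₁, Q₁⁆ ≤ Q₁ := commutator_le_of_le_normalizer Subgroup.le_normalizer
  have hAder : A ≤ centralizer ((⁅Q₁, Q₁⁆ : Subgroup G) : Set G) :=
    hMIN _ hder_le (fun a ha => mem_normalizer_commutator (hAQ₁ ha) (hAQ₁ ha))
      (mem_normalizer_commutator hxQ₁ hxQ₁) hder_ne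
  have hderA : ⁅Q₁, Q₁⁆ ≤ centralizer (A : Set G) := Subgroup.le_centralizer_iff.mp hAder
  have hderZ : ⁅Q₁, Q₁⁆ ≤ centralizer (Q₁ : Set G) := by
    have h1 : ⁅⁅Q₁, ⁅Q₁, Q₁⁆⁆, A⁆ = ⊥ := by
      rw [Subgroup.commutator_eq_bot_iff_le_centralizer]
      refine le_trans ?_ hderA
      rw [Subgroup.commutator_comm]
      exact commutator_le_of_le_normalizer
        (fun g hg => mem_normalizer_commutator (Subgroup.le_normalizer hg)
          (Subgroup.le_normalizer hg))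
    have h2 : ⁅⁅⁅Q₁, Q₁⁆, A⁆, Q₁⁆ = ⊥ := by
      have h0 : ⁅⁅Q₁, Q₁⁆, A⁆ = ⊥ := Subgroup.commutator_eq_bot_iff_le_centralizer.mpr hderA
      rw [h0, Subgroup.commutator_bot_left]
    have h3 := Subgroup.commutator_commutator_eq_bot_of_rotate h1 h2
    rw [Subgroup.commutator_comm A Q₁, hcomm,
      Subgroup.commutator_eq_bot_iff_le_centralizer] at h3
    exact Subgroup.le_centralizer_iff.mp h3
  by_cases hab : Q₁ ≤ centralizer (Q₁ : Set G)
  · exact D.abelian_false Q₁ hQ₁Q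
      (fun a ha b hb => Subgroup.mem_centralizer_iff.mp (hab hb) a ha) hAQ₁ hxQ₁ hcomm hQ₁ne
  · obtain ⟨Z, hZdef⟩ : ∃ Z : Subgroup G, Z = Q₁ ⊓ centralizer (Q₁ : Set G) := ⟨_, rfl⟩
    have hZQ₁ : Z ≤ Q₁ := by rw [hZdef]; exact inf_le_left
    have hZc : Z ≤ centralizer (Q₁ : Set G) := by rw [hZdef]; exact inf_le_right
    have hZne : Z ≠ Q₁ := by
      intro h
      apply hab
      rw [← h]
      exact hZc.trans (Subgroup.centralizer_le (SetLike.coe_subset_coe.mpr hZQ₁))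
    have hNZ : ∀ g ∈ normalizer (Q₁ : Set G), g ∈ normalizer (Z : Set G) := by
      intro g hg
      rw [hZdef]
      exact Subgroup.inf_normalizer_le_normalizer_inf
        (Subgroup.mem_inf.mpr ⟨hg, mem_normalizer_centralizer hg⟩)
    have hAZ : A ≤ centralizer (Z : Set G) :=
      hMIN Z hZQ₁ (fun a ha => hNZ a (hAQ₁ ha)) (hNZ x hxQ₁) hZne
    have hZ₀ := D.comm_center_eq_bot Q₁ Z hQ₁Q hcomm hZQ₁ hZc (hNZ x hxQ₁) hAZ
    have hZx : Z ≤ centralizer ((zpowers x : Subgroup G) : Set G) :=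
      Subgroup.commutator_eq_bot_iff_le_centralizer.mp hZ₀
    have hnil : Group.IsNilpotent ↥Q₁ := by
      apply isNilpotent_of_commutator_commutator_eq_bot
      rw [Subgroup.commutator_eq_bot_iff_le_centralizer]
      exact hderZ
    have hcycx := hcyc Q₁ hQ₁Q hxQ₁ hnil
    have hCx : Q₁ ⊓ centralizer ({x} : Set G) ≤ centralizer (Q₁ : Set G) :=
      D.centralizer_x_le_center Q₁ hQ₁Q hxQ₁ hderZ (by rw [← hZdef]; exact hZx) hcycx
    have hCA : Q₁ ⊓ centralizer (A : Set G) ≤ centralizer (Q₁ : Set G) := by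
      obtain ⟨C, hCdef⟩ : ∃ C : Subgroup G, C = Q₁ ⊓ centralizer (A : Set G) := ⟨_, rfl⟩
      rw [← hCdef]
      have hCQ₁ : C ≤ Q₁ := by rw [hCdef]; exact inf_le_left
      have hCA' : C ≤ centralizer (A : Set G) := by rw [hCdef]; exact inf_le_right
      have h1 : ⁅⁅Q₁, C⁆, A⁆ = ⊥ := by
        rw [Subgroup.commutator_eq_bot_iff_le_centralizer]
        exact (Subgroup.commutator_mono le_rfl hCQ₁).trans hderA
      have h2 : ⁅⁅C, A⁆, Q₁⁆ = ⊥ := by
        have h0 : ⁅C, A⁆ = ⊥ := Subgroup.commutator_eq_bot_iff_le_centralizer.mpr hCA'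
        rw [h0, Subgroup.commutator_bot_left]
      have h3 := Subgroup.commutator_commutator_eq_bot_of_rotate h1 h2
      rw [Subgroup.commutator_comm A Q₁, hcomm,
        Subgroup.commutator_eq_bot_iff_le_centralizer] at h3
      exact Subgroup.le_centralizer_iff.mp h3
    exact D.nonabelian_false Q₁ hQ₁Q hAQ₁ hxQ₁ hnil hab hCA hCx

end Cfsg.Agent.Lib.Helper29.BG36
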