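import Mathlib
import Cfsg.Agent.Lib.Helper29.BG36f
import Cfsg.Agent.Lib.Helper1.Hall
import Cfsg.Agent.Lib.Helper1.CoprimeSylow
import Cfsg.Agent.Lib.Helper20.PLen

/-!
BG Theorem 3.6 (S1444): the local configuration lemmas for the main induction.
-/

set_option autoImplicit false

namespace Cfsg.Agent.Lib.Helper29.BG36

open Subgroup Cfsg.Agent.Lib.Helper1 Cfsg.Agent.Lib.Helper10
open scoped commutatorElement Pointwise

universe u

variable {G : Type u} [Group G] [Finite G]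

/-- an `x`-invariant complement to a normal `p`-subgroup `N` of `p'`-index in `T`. -/
theorem exists_invariant_complement [Group.IsSolvable G] {p r : ℕ} [Fact p.Prime]
    (N T : Subgroup G) [N.Normal] [T.Normal] (hNT : N ≤ T) (hNp : IsPGroup p N)
    (hcop : (N.relIndex T).Coprime p) (x : G) (hx : orderOf x = r) (hr : r.Prime)
    (hrp : r ≠ p) :
    ∃ Q : Subgroup G, Q ≤ T ∧ Q ⊓ N = ⊥ ∧ N ⊔ Q = T ∧ x ∈ normalizer (Q : Set G) ∧
      (Nat.card Q).Coprime p := by
  classical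
  obtain ⟨Ts, hTsdef⟩ : ∃ Ts : Subgroup G, Ts = zpowers x ⊔ T := ⟨_, rfl⟩
  have hTTs : T ≤ Ts := by rw [hTsdef]; exact le_sup_right
  have hXTs : zpowers x ≤ Ts := by rw [hTsdef]; exact le_sup_left
  have hNTs : N ≤ Ts := hNT.trans hTTs
  obtain ⟨a, ha⟩ := IsPGroup.iff_card.mp hNp
  obtain ⟨m, hm⟩ := Subgroup.card_dvd_of_le hNTs
  have hcardT : Nat.card N * N.relIndex T = Nat.card T := card_mul_relIndex_of_le hNT
  have hmcop : m.Coprime (Nat.card N) := by
    have h1 : Nat.card Ts ∣ Nat.card (zpowers x) * Nat.card T := by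
      rw [hTsdef]
      exact card_sup_dvd_of_normal (zpowers x) T
    rw [hm, Nat.card_zpowers, hx, ← hcardT] at h1
    have h3 : m ∣ r * N.relIndex T := by
      have h4 : Nat.card N * m ∣ Nat.card N * (r * N.relIndex T) := by
        rw [show Nat.card N * (r * N.relIndex T) = r * (Nat.card N * N.relIndex T) by ring]
        exact h1
      exact Nat.dvd_of_mul_dvd_mul_left Nat.card_pos h4
    rw [ha]
    apply Nat.Coprime.pow_right
    apply Nat.Coprime.coprime_dvd_left h3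
    exact Nat.Coprime.mul_left ((Nat.coprime_primes hr Fact.out).mpr hrp) hcop
  have hG : Nat.card ↥Ts = m * Nat.card N := by rw [hm, mul_comm]
  have hK : (Nat.card ((zpowers x).subgroupOf Ts)).Coprime (Nat.card N) := by
    rw [Nat.card_congr (Subgroup.subgroupOfEquivOfLe hXTs).toEquiv, Nat.card_zpowers, hx, ha]
    apply Nat.Coprime.pow_right
    exact (Nat.coprime_primes hr Fact.out).mpr hrp
  obtain ⟨H₂, hH₂card, hKH₂⟩ := hall_dominance m (Nat.card N) hG hmcop _ hK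
  obtain ⟨K₂, hK₂def⟩ : ∃ K₂ : Subgroup G, K₂ = H₂.map Ts.subtype := ⟨_, rfl⟩
  have hK₂card : Nat.card K₂ = m := by
    rw [hK₂def, Subgroup.card_map_of_injective (Subgroup.subtype_injective _), hH₂card]
  have hK₂Ts : K₂ ≤ Ts := by
    rw [hK₂def]
    exact Subgroup.map_subtype_le _
  have hxK₂ : x ∈ K₂ := by
    rw [hK₂def]
    have hxTs : x ∈ Ts := hXTs (Subgroup.mem_zpowers x)
    have h1 : (⟨x, hxTs⟩ : ↥Ts) ∈ (zpowers x).subgroupOf Ts := by
      rw [Subgroup.mem_subgroupOf]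
      exact Subgroup.mem_zpowers x
    exact ⟨⟨x, hxTs⟩, hKH₂ h1, rfl⟩
  have hK₂N : K₂ ⊓ N = ⊥ :=
    disjoint_iff.mp (Subgroup.disjoint_of_coprime_natCard (by rw [hK₂card]; exact hmcop))
  have hsupTs : N ⊔ K₂ = Ts := by
    apply Subgroup.eq_of_le_of_card_ge (sup_le hNTs hK₂Ts)
    have h1 := card_sup_mul_card_inf K₂ N
    rw [hK₂N, Subgroup.card_bot, mul_one, hK₂card, sup_comm] at h1
    rw [h1, hm, mul_comm]
  have key : ∃ Q : Subgroup G, Q ≤ T ∧ Q ⊓ N = ⊥ ∧ N ⊔ Q = T ∧ x ∈ normalizer (Q : Set G) := by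
    refine ⟨K₂ ⊓ T, inf_le_right, ?_, ?_, ?_⟩
    · rw [eq_bot_iff, ← hK₂N]
      exact inf_le_inf_right _ inf_le_left
    · apply le_antisymm (sup_le hNT inf_le_right)
      intro t ht
      have h1 : t ∈ ((N ⊔ K₂ : Subgroup G) : Set G) := by
        rw [hsupTs]
        exact hTTs ht
      rw [Subgroup.normal_mul] at h1
      obtain ⟨n₁, hn₁, k, hk, hnk⟩ := h1
      have hkT : k ∈ T := by
        have e : k = n₁⁻¹ * t := by rw [← hnk]; group
        rw [e]
        exact mul_mem (inv_mem (hNT hn₁)) ht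
      rw [← hnk]
      exact mul_mem (Subgroup.mem_sup_left hn₁)
        (Subgroup.mem_sup_right (Subgroup.mem_inf.mpr ⟨hk, hkT⟩))
    · apply Subgroup.inf_normalizer_le_normalizer_inf
      refine Subgroup.mem_inf.mpr ⟨Subgroup.le_normalizer hxK₂, ?_⟩
      rw [Subgroup.normalizer_eq_top]
      exact Subgroup.mem_top x
  obtain ⟨Q, hQT, hQN, hNQ, hxQ⟩ := key
  refine ⟨Q, hQT, hQN, hNQ, hxQ, ?_⟩
  have h1 := card_sup_mul_card_inf Q N
  rw [hQN, Subgroup.card_bot, mul_one, sup_comm, hNQ, ← hcardT, mul_comm] at h1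
  have h2 : N.relIndex T = Nat.card Q := Nat.eq_of_mul_eq_mul_right Nat.card_pos h1
  rw [← h2]
  exact hcop

/-- the complement `Q` acts faithfully on `N` when every nontrivial normal subgroup of `G` inside
`B` has order divisible by `p`. -/
theorem complement_inf_centralizer_eq_bot {p : ℕ} [Fact p.Prime]
    (N T B Q : Subgroup G) [N.Normal] [T.Normal]
    (hNab : ∀ a ∈ N, ∀ b ∈ N, a * b = b * a) (hNp : IsPGroup p N)
    (hQT : Q ≤ T) (hNQ : N ⊔ Q = T) (hQp : (Nat.card Q).Coprime p) (hTB : T ≤ B)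
    (hstar : ∀ K : Subgroup G, K.Normal → K ≤ B → K ≠ ⊥ → p ∣ Nat.card K) :
    Q ⊓ centralizer (N : Set G) = ⊥ := by
  by_contra hne
  obtain ⟨Q₀, hQ₀def⟩ : ∃ Q₀ : Subgroup G, Q₀ = Q ⊓ centralizer (N : Set G) := ⟨_, rfl⟩
  rw [← hQ₀def] at hne
  have hQ₀Q : Q₀ ≤ Q := by rw [hQ₀def]; exact inf_le_left
  have hQ₀C : Q₀ ≤ centralizer (N : Set G) := by rw [hQ₀def]; exact inf_le_right
  have hQ₀cop : (Nat.card Q₀).Coprime p :=
    Nat.Coprime.coprime_dvd_left (Subgroup.card_dvd_of_le hQ₀Q) hQp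
  obtain ⟨a, ha⟩ := IsPGroup.iff_card.mp hNp
  have hnorm : Q₀.Normal := by
    constructor
    intro q hq g
    have hyT : g * q * g⁻¹ ∈ T := (inferInstance : T.Normal).conj_mem q (hQT (hQ₀Q hq)) g
    have hyC : g * q * g⁻¹ ∈ centralizer (N : Set G) :=
      (inferInstance : (centralizer (N : Set G)).Normal).conj_mem q (hQ₀C hq) g
    have h1 : g * q * g⁻¹ ∈ ((N ⊔ Q : Subgroup G) : Set G) := by
      rw [hNQ]
      exact hyT
    rw [Subgroup.normal_mul] at h1
    obtain ⟨n, hn, q', hq', hnq⟩ := h1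
    replace hnq : n * q' = g * q * g⁻¹ := hnq
    replace hn : n ∈ N := hn
    replace hq' : q' ∈ Q := hq'
    have hnC : n ∈ centralizer (N : Set G) := by
      rw [Subgroup.mem_centralizer_iff]
      intro z hz
      exact hNab z hz n hn
    have hq'C : q' ∈ centralizer (N : Set G) := by
      have e : q' = n⁻¹ * (g * q * g⁻¹) := by rw [← hnq]; group
      rw [e]
      exact mul_mem (inv_mem hnC) hyC
    have hq'Q₀ : q' ∈ Q₀ := by
      rw [hQ₀def]
      exact Subgroup.mem_inf.mpr ⟨hq', hq'C⟩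
    have hcomm : Commute n q' := Subgroup.mem_centralizer_iff.mp hq'C n hn
    have hpowQ₀ : ∀ z ∈ Q₀, z ^ Nat.card Q₀ = 1 := by
      intro z hz
      have h2 : (⟨z, hz⟩ : ↥Q₀) ^ Nat.card ↥Q₀ = 1 := pow_card_eq_one'
      have h3 := congrArg Subtype.val h2
      rwa [Subgroup.coe_pow, Subgroup.coe_one] at h3
    have hy_pow : (g * q * g⁻¹) ^ Nat.card Q₀ = 1 := by
      rw [conj_pow, hpowQ₀ q hq, mul_one, mul_inv_cancel]
    have hn_pow : n ^ Nat.card Q₀ = 1 := by
      have h2 := hcomm.mul_pow (Nat.card Q₀)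
      rw [hnq, hy_pow, hpowQ₀ q' hq'Q₀, mul_one] at h2
      exact h2.symm
    have hn1 : n = 1 := by
      have h2 := eq_one_of_pow_eq_one_of_coprime (⟨n, hn⟩ : ↥N) (Nat.card Q₀)
        (Subtype.ext (by rw [Subgroup.coe_pow, Subgroup.coe_one]; exact hn_pow))
        (by rw [ha]; exact Nat.Coprime.pow_right a hQ₀cop)
      exact congrArg Subtype.val h2
    rw [← hnq, hn1, one_mul]
    exact hq'Q₀
  have hdvd := hstar Q₀ hnorm ((hQ₀Q.trans hQT).trans hTB) hne
  exact (Nat.Prime.coprime_iff_not_dvd Fact.out).mp hQ₀cop.symm hdvd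

/-- `C_N(Q) = 1` for a minimal normal subgroup `N`. -/
theorem normal_inf_centralizer_eq_bot (N T Q : Subgroup G) [N.Normal] [T.Normal]
    (hNab : ∀ a ∈ N, ∀ b ∈ N, a * b = b * a)
    (hmin : ∀ K : Subgroup G, K.Normal → K ≤ N → K = ⊥ ∨ K = N)
    (hQT : Q ≤ T) (hNQ : N ⊔ Q = T) (hQN : Q ⊓ centralizer (N : Set G) = ⊥) (hQne : Q ≠ ⊥) :
    N ⊓ centralizer (Q : Set G) = ⊥ := by
  have heq : N ⊓ centralizer (Q : Set G) = N ⊓ centralizer (T : Set G) := by
    apply le_antisymm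
    · intro n hn
      obtain ⟨hn1, hn2⟩ := Subgroup.mem_inf.mp hn
      refine Subgroup.mem_inf.mpr ⟨hn1, ?_⟩
      have hsub : N ⊔ Q ≤ centralizer ({n} : Set G) := by
        refine sup_le ?_ ?_
        · intro z hz
          rw [Subgroup.mem_centralizer_singleton_iff]
          exact hNab z hz n hn1
        · intro z hz
          rw [Subgroup.mem_centralizer_singleton_iff]
          exact Subgroup.mem_centralizer_iff.mp hn2 z hz
      rw [hNQ] at hsub
      rw [Subgroup.mem_centralizer_iff]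
      intro z hz
      exact Subgroup.mem_centralizer_singleton_iff.mp (hsub hz)
    · exact inf_le_inf_left _ (Subgroup.centralizer_le (SetLike.coe_subset_coe.mpr hQT))
  rw [heq]
  have hnorm : (N ⊓ centralizer (T : Set G)).Normal := inferInstance
  rcases hmin _ hnorm inf_le_left with h | h
  · exact h
  · exfalso
    apply hQne
    rw [eq_bot_iff, ← hQN]
    have h1 : N ≤ centralizer (T : Set G) := inf_eq_left.mp h
    have h2 : T ≤ centralizer (N : Set G) := Subgroup.le_centralizer_iff.mp h1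
    exact le_inf le_rfl (hQT.trans h2)

/-- Frattini argument for the complement `Q`: `B = N · N_B(Q)`. -/
theorem frattini_complement [Group.IsSolvable G] {p : ℕ} [Fact p.Prime]
    (N T B Q : Subgroup G) [N.Normal] [T.Normal]
    (hNp : IsPGroup p N) (hQT : Q ≤ T) (hQNbot : Q ⊓ N = ⊥)
    (hNQ : N ⊔ Q = T) (hQp : (Nat.card Q).Coprime p) (hTB : T ≤ B) :
    B ≤ N ⊔ (B ⊓ normalizer (Q : Set G)) := by
  intro b hb
  obtain ⟨a, ha⟩ := IsPGroup.iff_card.mp hNp
  have hcardT : Nat.card ↥T = Nat.card Q * Nat.card N := by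
    have h1 := card_sup_mul_card_inf Q N
    rw [hQNbot, Subgroup.card_bot, mul_one, sup_comm, hNQ] at h1
    exact h1
  have hmn : (Nat.card Q).Coprime (Nat.card N) := by
    rw [ha]
    exact Nat.Coprime.pow_right a hQp
  have hQ'T : MulAut.conj b • Q ≤ T := by
    rw [conj_smul_le_iff]
    intro q hq
    exact (inferInstance : T.Normal).conj_mem q (hQT hq) b
  have hH' : Nat.card (Q.subgroupOf T) = Nat.card Q :=
    Nat.card_congr (Subgroup.subgroupOfEquivOfLe hQT).toEquiv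
  have hK' : (Nat.card ((MulAut.conj b • Q).subgroupOf T)).Coprime (Nat.card N) := by
    rw [Nat.card_congr (Subgroup.subgroupOfEquivOfLe hQ'T).toEquiv, card_conj_smul]
    exact hmn
  obtain ⟨g, hg⟩ := hall_le_conj (Nat.card Q) (Nat.card N) hcardT hmn (Q.subgroupOf T)
    ((MulAut.conj b • Q).subgroupOf T) hH' hK'
  have h1 : MulAut.conj b • Q ≤ MulAut.conj (g : G) • Q := le_conj_of_subgroupOf_le hQ'T g hg
  have h2 : MulAut.conj b • Q = MulAut.conj (g : G) • Q :=
    Subgroup.eq_of_le_of_card_ge h1 (by rw [card_conj_smul, card_conj_smul])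
  have h3 : (g : G)⁻¹ * b ∈ normalizer (Q : Set G) := by
    rw [← conj_smul_eq_self_iff_mem_normalizer, map_mul, mul_smul, h2, map_inv, inv_smul_smul]
  have h4 : (g : G)⁻¹ * b ∈ B ⊓ normalizer (Q : Set G) :=
    Subgroup.mem_inf.mpr ⟨mul_mem (inv_mem (hTB g.2)) hb, h3⟩
  have hQL : Q ≤ B ⊓ normalizer (Q : Set G) := le_inf (hQT.trans hTB) Subgroup.le_normalizer
  have h5 : (g : G) ∈ N ⊔ (B ⊓ normalizer (Q : Set G)) := by
    have h6 : (g : G) ∈ N ⊔ Q := by rw [hNQ]; exact g.2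
    exact (sup_le_sup_left hQL N) h6
  have e : b = (g : G) * ((g : G)⁻¹ * b) := by group
  rw [e]
  exact mul_mem h5 (Subgroup.mem_sup_right h4)

/-- `N ∩ N_G(Q) = 1`. -/
theorem normal_inf_normalizer_eq_bot (N Q : Subgroup G) [N.Normal] (hQN : Q ⊓ N = ⊥)
    (hNCQ : N ⊓ centralizer (Q : Set G) = ⊥) : N ⊓ normalizer (Q : Set G) = ⊥ := by
  rw [eq_bot_iff, ← hNCQ]
  intro n hn
  obtain ⟨hn1, hn2⟩ := Subgroup.mem_inf.mp hn
  refine Subgroup.mem_inf.mpr ⟨hn1, ?_⟩
  rw [Subgroup.mem_centralizer_iff]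
  intro q hq
  have h1 : n * q * n⁻¹ * q⁻¹ ∈ Q ⊓ N := by
    refine Subgroup.mem_inf.mpr ⟨mul_mem ((Subgroup.mem_normalizer_iff.mp hn2 q).mp hq) (inv_mem hq),
      ?_⟩
    have h2 : q * n⁻¹ * q⁻¹ ∈ N := (inferInstance : N.Normal).conj_mem _ (inv_mem hn1) q
    have e : n * q * n⁻¹ * q⁻¹ = n * (q * n⁻¹ * q⁻¹) := by group
    rw [e]
    exact mul_mem hn1 h2
  rw [hQN, Subgroup.mem_bot] at h1
  calc q * n = (n * q * n⁻¹ * q⁻¹)⁻¹ * (n * q) := by group
    _ = n * q := by rw [h1, inv_one, one_mul]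

/-- a `p`-subgroup of `M` lies in every subgroup normalized by `M` of index prime to `p`. -/
theorem pgroup_le_of_coprime_relIndex {p : ℕ} [Fact p.Prime] {N M Q : Subgroup G}
    (hn : M ≤ normalizer (N : Set G)) (hnd : (N.relIndex M).Coprime p) (hQ : IsPGroup p Q)
    (hQM : Q ≤ M) : Q ≤ N := by
  have hN : (N.subgroupOf M).Normal := Subgroup.normal_subgroupOf_of_le_normalizer hn
  have h1 : IsPGroup p ((Q.subgroupOf M).map (QuotientGroup.mk' (N.subgroupOf M))) :=
    (hQ.comap_subtype).map _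
  have h2 : (Nat.card (↥M ⧸ N.subgroupOf M)).Coprime p := by
    rw [← Subgroup.index_eq_card]
    exact hnd
  have h3 : (Q.subgroupOf M).map (QuotientGroup.mk' (N.subgroupOf M)) = ⊥ := by
    obtain ⟨k, hk⟩ := h1.exists_card_eq
    have hk0 : k = 0 := by
      by_contra hk0
      have h4 : p ∣ Nat.card (↥M ⧸ N.subgroupOf M) :=
        (by rw [hk]; exact dvd_pow_self p hk0 :
          p ∣ Nat.card ((Q.subgroupOf M).map (QuotientGroup.mk' (N.subgroupOf M)))).trans
          (Subgroup.card_subgroup_dvd_card _)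
      exact (Nat.Prime.coprime_iff_not_dvd Fact.out).mp h2.symm h4
    rw [hk0, pow_zero] at hk
    exact Subgroup.card_eq_one.mp hk
  intro q hq
  have h4 : QuotientGroup.mk' (N.subgroupOf M) ⟨q, hQM hq⟩ ∈
      (⊥ : Subgroup (↥M ⧸ N.subgroupOf M)) := by
    rw [← h3]
    exact ⟨⟨q, hQM hq⟩, (Subgroup.mem_subgroupOf.mpr hq : (⟨q, hQM hq⟩ : M) ∈ Q.subgroupOf M), rfl⟩
  rw [Subgroup.mem_bot, QuotientGroup.mk'_apply, QuotientGroup.eq_one_iff,
    Subgroup.mem_subgroupOf] at h4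
  exact h4

/-- a Sylow `p`-subgroup of a normal subgroup `U` that is normal in `U` is normal in `G`. -/
theorem normal_of_normal_sylow {p : ℕ} [Fact p.Prime] (U P : Subgroup G) [U.Normal]
    (hPU : P ≤ U) (hPp : IsPGroup p P) (hidx : (P.relIndex U).Coprime p)
    (hUP : U ≤ normalizer (P : Set G)) : P.Normal := by
  constructor
  intro y hy g
  have hR : IsPGroup p ↥(MulAut.conj g • P) := by
    rw [conj_smul_eq_map]
    exact hPp.map _
  have hRU : MulAut.conj g • P ≤ U := by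
    rw [conj_smul_le_iff]
    intro z hz
    exact (inferInstance : U.Normal).conj_mem z (hPU hz) g
  have h1 := pgroup_le_of_coprime_relIndex hUP hidx hR hRU
  apply h1
  rw [mem_conj_smul]
  have e : g⁻¹ * (g * y * g⁻¹) * g = y := by group
  rw [e]
  exact hy

/-- the pull-back of the upper `p`-series of `B / N`. -/
theorem exists_pchain_of_quotient {p : ℕ} [Fact p.Prime] (N B : Subgroup G) [N.Normal] [B.Normal]
    (hNB : N ≤ B) (h : Cfsg.PLengthLE p 1 ↥(B.map (QuotientGroup.mk' N))) :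
    ∃ T U : Subgroup G, T.Normal ∧ U.Normal ∧ N ≤ T ∧ T ≤ U ∧ U ≤ B ∧
      (N.relIndex T).Coprime p ∧ (∃ m, T.relIndex U = p ^ m) ∧ (U.relIndex B).Coprime p := by
  obtain ⟨Bq, hBqdef⟩ : ∃ Bq : Subgroup (G ⧸ N), Bq = B.map (QuotientGroup.mk' N) := ⟨_, rfl⟩
  rw [← hBqdef] at h
  have hsurj := QuotientGroup.mk'_surjective N
  have hBqn : Bq.Normal := by
    rw [hBqdef]
    exact Subgroup.Normal.map inferInstance _ hsurj
  have hc1 := Cfsg.Agent.Lib.Helper20.PLen.U_characteristic (p := p) (G := ↥Bq) 1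
  have hc2 := Cfsg.Agent.Lib.Helper20.PLen.U_characteristic (p := p) (G := ↥Bq) 2
  obtain ⟨Tq, hTqdef⟩ : ∃ Tq : Subgroup (G ⧸ N),
      Tq = (Cfsg.Agent.Lib.Helper20.PLen.U p ↥Bq 1).map Bq.subtype := ⟨_, rfl⟩
  obtain ⟨Uq, hUqdef⟩ : ∃ Uq : Subgroup (G ⧸ N),
      Uq = (Cfsg.Agent.Lib.Helper20.PLen.U p ↥Bq 2).map Bq.subtype := ⟨_, rfl⟩
  have hTqn : Tq.Normal := by
    rw [hTqdef]
    exact ConjAct.normal_of_characteristic_of_normal
  have hUqn : Uq.Normal := by
    rw [hUqdef]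
    exact ConjAct.normal_of_characteristic_of_normal
  have hTU : Tq ≤ Uq := by
    rw [hTqdef, hUqdef]
    exact Subgroup.map_mono (Cfsg.Agent.Lib.Helper20.PLen.U_mono p (by norm_num))
  have hUB : Uq ≤ Bq := by
    rw [hUqdef]
    exact Subgroup.map_subtype_le _
  have hinj : Function.Injective Bq.subtype := Subgroup.subtype_injective _
  have hBcomap : Bq.comap (QuotientGroup.mk' N) = B := by
    rw [hBqdef, Subgroup.comap_map_eq, QuotientGroup.ker_mk', sup_eq_left.mpr hNB]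
  have hNcomap : (⊥ : Subgroup (G ⧸ N)).comap (QuotientGroup.mk' N) = N := by
    rw [MonoidHom.comap_bot, QuotientGroup.ker_mk']
  refine ⟨Tq.comap (QuotientGroup.mk' N), Uq.comap (QuotientGroup.mk' N),
    Subgroup.Normal.comap hTqn _, Subgroup.Normal.comap hUqn _, ?_, Subgroup.comap_mono hTU, ?_,
    ?_, ?_, ?_⟩
  · exact (le_of_eq hNcomap.symm).trans (Subgroup.comap_mono bot_le)
  · exact (Subgroup.comap_mono hUB).trans (le_of_eq hBcomap)
  · have e : N.relIndex (Tq.comap (QuotientGroup.mk' N))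
        = ((⊥ : Subgroup (G ⧸ N)).comap (QuotientGroup.mk' N)).relIndex
          (Tq.comap (QuotientGroup.mk' N)) :=
      congrArg (fun X : Subgroup G => X.relIndex (Tq.comap (QuotientGroup.mk' N))) hNcomap.symm
    rw [e, Subgroup.relIndex_comap, Subgroup.map_comap_eq_self_of_surjective hsurj,
      Subgroup.relIndex_bot_left, hTqdef, Subgroup.card_map_of_injective hinj]
    exact Cfsg.Agent.Lib.Helper20.PLen.card_U_one_coprime
  · rw [Subgroup.relIndex_comap, Subgroup.map_comap_eq_self_of_surjective hsurj, hTqdef, hUqdef,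
      Subgroup.relIndex_map_map_of_injective _ _ hinj]
    exact Cfsg.Agent.Lib.Helper20.PLen.relIndex_U_odd 1 (by decide)
  · rw [Subgroup.relIndex_comap, ← hBqdef]
    have h3 : Bq = (⊤ : Subgroup ↥Bq).map Bq.subtype := by
      rw [← MonoidHom.range_eq_map, Subgroup.range_subtype]
    have h5 : ∀ K : Subgroup ↥Bq, (K.map Bq.subtype).relIndex Bq = K.relIndex ⊤ := fun K =>
      (congrArg (fun X => (K.map Bq.subtype).relIndex X) h3).trans
        (Subgroup.relIndex_map_map_of_injective K ⊤ hinj)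
    rw [hUqdef, h5]
    have h4 : Cfsg.Agent.Lib.Helper20.PLen.U p ↥Bq 3 = ⊤ :=
      (Cfsg.Agent.Lib.Helper20.PLen.pLengthLE_iff p 1).mp h
    rw [← h4]
    exact Cfsg.Agent.Lib.Helper20.PLen.relIndex_U_even 2 (by decide)

end Cfsg.Agent.Lib.Helper29.BG36
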