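import Mathlib
import Cfsg.Agent.Lib.Helper29.BG36g

/-!
BG Theorem 3.6 (S1444): the induction step, assuming the quotient transfer and the easy case.
-/

set_option autoImplicit false

namespace Cfsg.Agent.Lib.Helper29.BG36

open Subgroup Cfsg.Agent.Lib.Helper1 Cfsg.Agent.Lib.Helper10 Cfsg.Agent.Lib.Helper20
open scoped commutatorElement Pointwise

universe u

variable {G : Type u} [Group G] [Finite G]

omit [Finite G] in
theorem commutator_ne_self (K : Subgroup G) [Group.IsSolvable ↥K] (hK : K ≠ ⊥) : ⁅K, K⁆ ≠ K := by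
  intro h
  have hnt : Nontrivial ↥K := (Subgroup.nontrivial_iff_ne_bot K).mpr hK
  have h1 := Group.IsSolvable.commutator_lt_top_of_nontrivial ↥K
  have h2 : (_root_.commutator ↥K).map K.subtype = ⁅K, K⁆ := Subgroup.map_subtype_commutator K
  rw [h] at h2
  apply h1.ne
  rw [eq_top_iff]
  intro g _
  have hg : (g : G) ∈ (_root_.commutator ↥K).map K.subtype := by
    rw [h2]
    exact g.2
  obtain ⟨g', hg', hgg'⟩ := hg
  have e : g' = g := Subtype.ext hgg'
  rwa [e] at hg'

omit [Finite G] in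
theorem isCyclic_of_isZGroup_of_le {Z C : Subgroup G} [IsZGroup ↥Z] {p : ℕ} [Fact p.Prime]
    (hC : IsPGroup p ↥C) (hCZ : C ≤ Z) : IsCyclic ↥C := by
  have h1 : IsCyclic ↥(C.subgroupOf Z) := IsPGroup.isCyclic_of_isZGroup hC.comap_subtype
  exact isCyclic_of_surjective (Subgroup.subgroupOfEquivOfLe hCZ)
    (Subgroup.subgroupOfEquivOfLe hCZ).surjective

theorem isCyclic_of_isNilpotent_of_le {Z C Q' : Subgroup G} [IsZGroup ↥Z]
    (hQ' : Group.IsNilpotent ↥Q') (hCQ' : C ≤ Q') (hCZ : C ≤ Z) : IsCyclic ↥C := by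
  have h1 : IsZGroup ↥C :=
    IsZGroup.of_injective (f := Subgroup.inclusion hCZ) (Subgroup.inclusion_injective _)
  have h2 : Group.IsNilpotent ↥(C.subgroupOf Q') := inferInstance
  have h3 : Group.IsNilpotent ↥C := Group.nilpotent_of_mulEquiv (Subgroup.subgroupOfEquivOfLe hCQ')
  infer_instance

omit [Finite G] in
theorem mem_normalizer_sup {A B : Subgroup G} {g : G} (h1 : g ∈ normalizer (A : Set G))
    (h2 : g ∈ normalizer (B : Set G)) : g ∈ normalizer ((A ⊔ B : Subgroup G) : Set G) := by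
  rw [← conj_smul_eq_self_iff_mem_normalizer] at h1 h2 ⊢
  have h3 : MulAut.conj g • (A ⊔ B) = MulAut.conj g • A ⊔ MulAut.conj g • B :=
    Subgroup.map_sup A B (MulAut.conj g).toMonoidHom
  rw [h3, h1, h2]

/-- `p`-length of an extension, subgroup form. -/
theorem pLengthLE_of_normal_of_map {p : ℕ} [Fact p.Prime] (N B : Subgroup G) [N.Normal]
    (hNB : N ≤ B) {a b : ℕ} (ha : Cfsg.PLengthLE p a ↥N)
    (hb : Cfsg.PLengthLE p b ↥(B.map (QuotientGroup.mk' N))) :
    Cfsg.PLengthLE p (a + b) ↥B := by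
  have hn : (N.subgroupOf B).Normal := inferInstance
  have ha' : Cfsg.PLengthLE p a ↥(N.subgroupOf B) :=
    PLen.pLengthLE_of_mulEquiv (Subgroup.subgroupOfEquivOfLe hNB).symm ha
  have hf : Function.Surjective ((QuotientGroup.mk' N).subgroupMap B) :=
    (QuotientGroup.mk' N).subgroupMap_surjective B
  have hker : ((QuotientGroup.mk' N).subgroupMap B).ker = N.subgroupOf B := by
    ext y
    rw [MonoidHom.mem_ker, Subgroup.mem_subgroupOf]
    constructor
    · intro h
      have h1 : ((QuotientGroup.mk' N) (y : G)) = 1 := congrArg Subtype.val h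
      exact (QuotientGroup.eq_one_iff (y : G)).mp h1
    · intro h
      apply Subtype.ext
      exact (QuotientGroup.eq_one_iff (y : G)).mpr h
  have e : ↥B ⧸ N.subgroupOf B ≃* ↥(B.map (QuotientGroup.mk' N)) :=
    (QuotientGroup.quotientMulEquivOfEq hker.symm).trans
      (QuotientGroup.quotientKerEquivOfSurjective _ hf)
  have hb' : Cfsg.PLengthLE p b (↥B ⧸ N.subgroupOf B) := PLen.pLengthLE_of_mulEquiv e.symm hb
  exact PLen.pLengthLE_of_extension (N.subgroupOf B) ha' hb'

/-- a normal Sylow `p`-subgroup gives `p`-length one. -/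
theorem pLengthLE_one_of_normal_sylow {p : ℕ} [Fact p.Prime] (P B : Subgroup G) [P.Normal]
    (hPB : P ≤ B) (hPp : IsPGroup p ↥P) (hidx : (P.relIndex B).Coprime p) :
    Cfsg.PLengthLE p 1 ↥B := by
  have h1 : Cfsg.PLengthLE p 1 ↥P := PLen.pLengthLE_one_of_isPGroup hPp
  have h0 : Cfsg.PLengthLE p 0 ↥(B.map (QuotientGroup.mk' P)) := by
    rw [PLen.pLengthLE_zero_iff, ← PLen.relIndex_eq_card_map]
    exact hidx
  exact pLengthLE_of_normal_of_map P B hPB h1 h0

/-- the induction step of BG Theorem 3.6, assuming the quotient transfer `hQT` and the easy case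
`hL`. -/
theorem main_step [Group.IsSolvable G] (hodd : Odd (Nat.card G))
    (H R R₀ : Subgroup G) [H.Normal] (hHall : (Nat.card H).Coprime H.index)
    (hR : IsComplement' H R) (hR₀ : R₀ ≤ R) (hR₀p : (Nat.card R₀).Prime)
    (hZ : IsZGroup ↥(H ⊓ centralizer (R₀ : Set G))) (p : ℕ) [Fact p.Prime]
    (hQT : ∀ (N : Subgroup G) [N.Normal], N ≠ ⊥ → N ≤ H →
      Cfsg.PLengthLE p 1 ↥((⁅H, R⁆).map (QuotientGroup.mk' N)))
    (hL : ∀ (N B P₀ : Subgroup G) [N.Normal] [B.Normal] (x : G) (r : ℕ), N ≠ ⊥ →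
      (∀ K : Subgroup G, K.Normal → K ≤ N → K = ⊥ ∨ K = N) → IsPGroup p ↥N → N ≤ B →
      ⁅B, R⁆ = B → orderOf x = r → r.Prime → ¬ r ∣ Nat.card B →
      N ⊓ centralizer ({x} : Set G) = ⊥ → IsZGroup ↥(B ⊓ centralizer ({x} : Set G)) →
      P₀ ≤ B → IsPGroup p ↥P₀ → P₀ ≤ centralizer (N : Set G)) :
    Cfsg.PLengthLE p 1 ↥⁅H, R⁆ := by
  classical
  have hp : p.Prime := Fact.out
  obtain ⟨B, hBdef⟩ : ∃ B : Subgroup G, B = ⁅H, R⁆ := ⟨_, rfl⟩
  have hQT' : ∀ (N : Subgroup G) [N.Normal], N ≠ ⊥ → N ≤ H →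
      Cfsg.PLengthLE p 1 ↥(B.map (QuotientGroup.mk' N)) := by
    intro N _ h1 h2
    rw [hBdef]
    exact hQT N h1 h2
  rw [← hBdef]
  have hBH : B ≤ H := by
    rw [hBdef]
    exact Subgroup.commutator_le_left H R
  have hcardR : H.index = Nat.card R := hR.symm.index_eq_card
  have hcopRH : (Nat.card R).Coprime (Nat.card H) := by
    rw [← hcardR]
    exact hHall.symm
  have hRH : R ≤ normalizer (H : Set G) := by
    rw [Subgroup.normalizer_eq_top]
    exact le_top
  have hactRH : CoprimeAct R H := ⟨hRH, hcopRH, Or.inr inferInstance⟩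
  have hBR : ⁅B, R⁆ = B := by
    rw [hBdef]
    exact hactRH.commutator_commutator_eq
  have hBn : B.Normal := by
    have h1 : normalizer (B : Set G) = ⊤ := by
      rw [eq_top_iff, ← hR.sup_eq_top, hBdef]
      exact sup_le le_normalizer_commutator_left le_normalizer_commutator_right
    exact Subgroup.normalizer_eq_top_iff.mp h1
  -- the generator `x`
  obtain ⟨r, hrdef⟩ : ∃ r, r = Nat.card R₀ := ⟨_, rfl⟩
  have hr : r.Prime := by
    rw [hrdef]
    exact hR₀p
  have hrF : Fact r.Prime := ⟨hr⟩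
  obtain ⟨g, hg⟩ := exists_prime_orderOf_dvd_card' (G := ↥R₀) r (by rw [hrdef])
  obtain ⟨x, hxdef⟩ : ∃ x : G, x = (g : G) := ⟨_, rfl⟩
  have hxR₀ : x ∈ R₀ := by
    rw [hxdef]
    exact g.2
  have hx : orderOf x = r := by
    rw [hxdef, Subgroup.orderOf_coe]
    exact hg
  have hzp : zpowers x = R₀ := by
    apply Subgroup.eq_of_le_of_card_ge (Subgroup.zpowers_le.mpr hxR₀)
    rw [Nat.card_zpowers, hx, hrdef]
  have hCR₀ : centralizer (R₀ : Set G) = centralizer ({x} : Set G) := by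
    rw [← hzp, centralizer_zpowers]
  have hrR : r ∣ Nat.card R := by
    rw [hrdef]
    exact Subgroup.card_dvd_of_le hR₀
  have hrH : ¬ r ∣ Nat.card H := by
    intro h
    have h1 := Nat.dvd_gcd hrR h
    rw [Nat.Coprime.gcd_eq_one hcopRH] at h1
    exact hr.one_lt.ne' (Nat.dvd_one.mp h1)
  -- trivial case
  by_cases hBp : (Nat.card B).Coprime p
  · exact PLen.pLengthLE_mono (Nat.zero_le 1) (PLen.pLengthLE_zero_iff.mpr hBp)
  have hpB : p ∣ Nat.card B := by
    by_contra h
    exact hBp ((Nat.Prime.coprime_iff_not_dvd hp).mpr h).symm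
  have hpH : p ∣ Nat.card H := hpB.trans (Subgroup.card_dvd_of_le hBH)
  have hpr : p ≠ r := fun h => hrH (h ▸ hpH)
  have hp2 : p ≠ 2 := by
    intro h
    have h1 : p ∣ Nat.card G := hpH.trans (Subgroup.card_subgroup_dvd_card H)
    rw [h] at h1
    exact (Nat.not_even_iff_odd.mpr hodd) (even_iff_two_dvd.mpr h1)
  have hr2 : r ≠ 2 := by
    intro h
    have h1 : r ∣ Nat.card G := hrR.trans (Subgroup.card_subgroup_dvd_card R)
    rw [h] at h1
    exact (Nat.not_even_iff_odd.mpr hodd) (even_iff_two_dvd.mpr h1)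
  -- the reduction to (*)
  by_cases hstar : ∀ K : Subgroup G, K.Normal → K ≤ B → K ≠ ⊥ → p ∣ Nat.card K
  swap
  · push Not at hstar
    obtain ⟨K, hKn, hKB, hKne, hKp⟩ := hstar
    have h1 := hQT' K hKne (hKB.trans hBH)
    have h0 : Cfsg.PLengthLE p 0 ↥K :=
      PLen.pLengthLE_zero_iff.mpr ((Nat.Prime.coprime_iff_not_dvd hp).mpr hKp).symm
    have h2 := pLengthLE_of_normal_of_map K B hKB h0 h1
    rwa [Nat.zero_add] at h2
  have hBne : B ≠ ⊥ := by
    intro h
    rw [h, Subgroup.card_bot] at hpB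
    exact hp.one_lt.ne' (Nat.dvd_one.mp hpB)
  obtain ⟨N, ⟨hNn, hNB, hNne⟩, hNmin⟩ :=
    (Set.toFinite {K : Subgroup G | K.Normal ∧ K ≤ B ∧ K ≠ ⊥}).exists_minimal
      ⟨B, hBn, le_rfl, hBne⟩
  have hmin : ∀ K : Subgroup G, K.Normal → K ≤ N → K = ⊥ ∨ K = N := by
    intro K hK hKN
    by_cases h : K = ⊥
    · exact Or.inl h
    · exact Or.inr (le_antisymm hKN (hNmin ⟨hK, hKN.trans hNB, h⟩ hKN))
  have hNH : N ≤ H := hNB.trans hBH
  have hNab : ∀ a ∈ N, ∀ b ∈ N, a * b = b * a := by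
    have h1 : (⁅N, N⁆ : Subgroup G).Normal := inferInstance
    have h2 : ⁅N, N⁆ ≤ N := Subgroup.commutator_le_left N N
    rcases hmin _ h1 h2 with h | h
    · rw [Subgroup.commutator_eq_bot_iff_le_centralizer] at h
      intro a ha b hb
      exact Subgroup.mem_centralizer_iff.mp (h hb) a ha
    · exact absurd h (commutator_ne_self N hNne)
  have hpN : p ∣ Nat.card N := hstar N hNn hNB hNne
  have hNexp : ∀ n ∈ N, n ^ p = 1 := by
    obtain ⟨Ω, hΩ⟩ : ∃ Ω : Subgroup G, ∀ w, w ∈ Ω ↔ w ∈ N ∧ w ^ p = 1 :=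
      ⟨{ carrier := {w | w ∈ N ∧ w ^ p = 1}
         mul_mem' := by
           rintro a b ⟨ha, ha'⟩ ⟨hb, hb'⟩
           refine ⟨mul_mem ha hb, ?_⟩
           rw [(show Commute a b from hNab a ha b hb).mul_pow, ha', hb', one_mul]
         one_mem' := ⟨one_mem _, one_pow _⟩
         inv_mem' := by
           rintro a ⟨ha, ha'⟩
           exact ⟨inv_mem ha, by rw [inv_pow, ha', inv_one]⟩ }, fun w => Iff.rfl⟩
    have hΩN : Ω ≤ N := fun w hw => ((hΩ w).mp hw).1
    have hΩn : Ω.Normal := by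
      constructor
      intro w hw g
      rw [hΩ] at hw ⊢
      exact ⟨hNn.conj_mem w hw.1 g, by rw [conj_pow, hw.2, mul_one, mul_inv_cancel]⟩
    have hΩne : Ω ≠ ⊥ := by
      obtain ⟨g, hg⟩ := exists_prime_orderOf_dvd_card' (G := ↥N) p hpN
      intro h
      have h1 : (g : G) ∈ Ω := by
        rw [hΩ]
        refine ⟨g.2, ?_⟩
        have h2 : g ^ p = 1 := by rw [← hg]; exact pow_orderOf_eq_one g
        have h3 := congrArg Subtype.val h2
        rwa [Subgroup.coe_pow, Subgroup.coe_one] at h3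
      rw [h, Subgroup.mem_bot] at h1
      have h4 : g = 1 := Subtype.ext h1
      rw [h4, orderOf_one] at hg
      exact hp.one_lt.ne hg
    rcases hmin Ω hΩn hΩN with h | h
    · exact absurd h hΩne
    · intro n hn
      rw [← h] at hn
      exact ((hΩ n).mp hn).2
  have hNp : IsPGroup p ↥N := by
    intro g
    refine ⟨1, ?_⟩
    rw [pow_one]
    exact Subtype.ext (by rw [Subgroup.coe_pow, Subgroup.coe_one]; exact hNexp g g.2)
  -- the quotient
  have hq := hQT' N hNne hNH
  obtain ⟨T, U, hTn, hUn, hNT, hTU, hUB, hcopNT, ⟨m, hTUm⟩, hcopUB⟩ :=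
    exists_pchain_of_quotient N B hNB hq
  by_cases hTN : T = N
  · have hUp : IsPGroup p ↥U := by
      obtain ⟨a, ha⟩ := IsPGroup.iff_card.mp hNp
      apply IsPGroup.of_card (n := a + m)
      rw [← card_mul_relIndex_of_le hTU, hTUm, hTN, ha, pow_add]
    exact pLengthLE_one_of_normal_sylow U B hUB hUp hcopUB
  obtain ⟨Q, hQT, hQN, hNQ, hxQ, hQp⟩ :=
    exists_invariant_complement N T hNT hNp hcopNT x hx hr hpr.symm
  have hTB : T ≤ B := hTU.trans hUB
  have hQne : Q ≠ ⊥ := by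
    intro h
    apply hTN
    rw [← hNQ, h, sup_bot_eq]
  have hQCN := complement_inf_centralizer_eq_bot N T B Q hNab hNp hQT hNQ hQp hTB hstar
  have hNCQ := normal_inf_centralizer_eq_bot N T Q hNab hmin hQT hNQ hQCN hQne
  obtain ⟨L, hLdef⟩ : ∃ L : Subgroup G, L = B ⊓ normalizer (Q : Set G) := ⟨_, rfl⟩
  have hBL : B ≤ N ⊔ L := by
    rw [hLdef]
    exact frattini_complement N T B Q hNp hQT hQN hNQ hQp hTB
  have hLB : L ≤ B := by
    rw [hLdef]
    exact inf_le_left
  have hNL : N ⊓ L = ⊥ := by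
    rw [eq_bot_iff, ← normal_inf_normalizer_eq_bot N Q hQN hNCQ, hLdef]
    exact inf_le_inf_left _ inf_le_right
  have hNLB : N ⊔ L = B := le_antisymm (sup_le hNB hLB) hBL
  have hxL : x ∈ normalizer (L : Set G) := by
    rw [hLdef]
    apply Subgroup.inf_normalizer_le_normalizer_inf
    refine Subgroup.mem_inf.mpr ⟨?_, Subgroup.le_normalizer hxQ⟩
    rw [Subgroup.normalizer_eq_top]
    exact Subgroup.mem_top x
  have hLH : L ≤ H := hLB.trans hBH
  have hrL : (Nat.card (zpowers x)).Coprime (Nat.card L) := by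
    rw [Nat.card_zpowers, hx]
    exact (Nat.Prime.coprime_iff_not_dvd hr).mpr
      (fun h => hrH (h.trans (Subgroup.card_dvd_of_le hLH)))
  have hactL : CoprimeAct (zpowers x) L :=
    ⟨Subgroup.zpowers_le.mpr hxL, hrL, Or.inr inferInstance⟩
  obtain ⟨Ps, hPs⟩ := hactL.exists_invariant_sylow p
  obtain ⟨P₀, hP₀def⟩ : ∃ P₀ : Subgroup G, P₀ = (Ps : Subgroup ↥L).map L.subtype := ⟨_, rfl⟩
  rw [← hP₀def] at hPs
  have hP₀L : P₀ ≤ L := by
    rw [hP₀def]
    exact Subgroup.map_subtype_le _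
  have hP₀p : IsPGroup p ↥P₀ := by
    rw [hP₀def]
    exact Ps.2.map _
  have hxP₀ : x ∈ normalizer (P₀ : Set G) := hPs (Subgroup.mem_zpowers x)
  have hP₀idx : (P₀.relIndex L).Coprime p := by
    have h1 : P₀.subgroupOf L = (Ps : Subgroup ↥L) := by
      rw [hP₀def]
      exact Subgroup.comap_map_eq_self_of_injective (Subgroup.subtype_injective _) _
    show ((P₀.subgroupOf L).index).Coprime p
    rw [h1]
    exact ((Nat.Prime.coprime_iff_not_dvd hp).mpr Ps.not_dvd_index).symm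
  obtain ⟨P, hPdef⟩ : ∃ P : Subgroup G, P = N ⊔ P₀ := ⟨_, rfl⟩
  have hNP : N ≤ P := by rw [hPdef]; exact le_sup_left
  have hP₀P : P₀ ≤ P := by rw [hPdef]; exact le_sup_right
  have hPB : P ≤ B := by
    rw [hPdef]
    exact sup_le hNB (hP₀L.trans hLB)
  have hP₀N : P₀ ⊓ N = ⊥ := by
    rw [eq_bot_iff, ← hNL, inf_comm]
    exact inf_le_inf_left _ hP₀L
  have hcardP : Nat.card P = Nat.card P₀ * Nat.card N := by
    have h1 := card_sup_mul_card_inf P₀ N
    rw [hP₀N, Subgroup.card_bot, mul_one, sup_comm, ← hPdef] at h1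
    exact h1
  have hcardB : Nat.card B = Nat.card L * Nat.card N := by
    have h1 := card_sup_mul_card_inf L N
    rw [inf_comm, hNL, Subgroup.card_bot, mul_one, sup_comm, hNLB] at h1
    exact h1
  have hPp : IsPGroup p ↥P := by
    obtain ⟨a, ha⟩ := IsPGroup.iff_card.mp hNp
    obtain ⟨b, hb⟩ := IsPGroup.iff_card.mp hP₀p
    apply IsPGroup.of_card (n := b + a)
    rw [hcardP, ha, hb, pow_add]
  have hPidx : (P.relIndex B).Coprime p := by
    have h1 := card_mul_relIndex_of_le hPB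
    have h2 := card_mul_relIndex_of_le hP₀L
    have h3 : P.relIndex B = P₀.relIndex L := by
      rw [hcardP, hcardB, ← h2] at h1
      have h4 : (Nat.card P₀ * Nat.card N) * P.relIndex B
          = (Nat.card P₀ * Nat.card N) * P₀.relIndex L := by
        rw [h1]
        ring
      exact Nat.eq_of_mul_eq_mul_left (Nat.mul_pos Nat.card_pos Nat.card_pos) h4
    rw [h3]
    exact hP₀idx
  -- the dichotomy
  have hPH : P ≤ H := hPB.trans hBH
  have hZ' : IsZGroup ↥(H ⊓ centralizer ({x} : Set G)) := hCR₀ ▸ hZ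
  have hCcyc : IsCyclic ↥(P ⊓ centralizer ({x} : Set G)) :=
    isCyclic_of_isZGroup_of_le (hPp.to_le inf_le_left) (inf_le_inf_right _ hPH)
  have hdich := eq_bot_or_eq_bot_of_isCyclic (P ⊓ centralizer ({x} : Set G))
    (N ⊓ centralizer ({x} : Set G)) (P₀ ⊓ centralizer ({x} : Set G)) hCcyc
    (hPp.to_le inf_le_left) (inf_le_inf_right _ hNP) (inf_le_inf_right _ hP₀P) (by
      rw [eq_bot_iff, ← hNL]
      exact le_inf (inf_le_left.trans inf_le_left) ((inf_le_right.trans inf_le_left).trans hP₀L))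
  have hNtop : ∀ g : G, g ∈ normalizer (N : Set G) := by
    intro g
    rw [Subgroup.normalizer_eq_top]
    exact Subgroup.mem_top g
  have hP₀Q : P₀ ≤ normalizer (Q : Set G) := hP₀L.trans (by rw [hLdef]; exact inf_le_right)
  have hQH : Q ≤ H := (hQT.trans hTB).trans hBH
  have hclaim : P₀ ≤ centralizer (Q : Set G) := by
    by_contra hnc
    rcases hdich with hCN | hCP₀
    · have hZB : IsZGroup ↥(B ⊓ centralizer ({x} : Set G)) :=
        IsZGroup.of_injective (f := Subgroup.inclusion (inf_le_inf_right _ hBH))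
          (Subgroup.inclusion_injective _)
      have h1 : P₀ ≤ centralizer (N : Set G) :=
        hL N B P₀ x r hNne hmin hNp hNB hBR hx hr
          (fun h => hrH (h.trans (Subgroup.card_dvd_of_le hBH))) hCN hZB (hP₀L.trans hLB) hP₀p
      apply hnc
      have h2 : ⁅Q, P₀⁆ ≤ Q ⊓ centralizer (N : Set G) := by
        apply le_inf (commutator_le_of_le_normalizer hP₀Q)
        rw [Subgroup.commutator_le]
        intro q _ a ha
        rw [commutatorElement_def]
        have hCn : (centralizer (N : Set G)).Normal := inferInstance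
        exact mul_mem (hCn.conj_mem a (h1 ha) q) (inv_mem (h1 ha))
      rw [hQCN, le_bot_iff, Subgroup.commutator_eq_bot_iff_le_centralizer] at h2
      exact Subgroup.le_centralizer_iff.mp h2
    · have hQr : (Nat.card Q).Coprime r :=
        ((Nat.Prime.coprime_iff_not_dvd hr).mpr
          (fun h => hrH (h.trans (Subgroup.card_dvd_of_le hQH)))).symm
      have hCVx : Nat.card ↥(N ⊓ centralizer ({x} : Set G)) ≤ p := by
        have hc : IsCyclic ↥(N ⊓ centralizer ({x} : Set G)) :=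
          isCyclic_of_isZGroup_of_le (hNp.to_le inf_le_left) (inf_le_inf_right _ hNH)
        obtain ⟨g, hg⟩ := IsCyclic.exists_generator (α := ↥(N ⊓ centralizer ({x} : Set G)))
        rw [← orderOf_eq_card_of_forall_mem_zpowers hg]
        apply Nat.le_of_dvd hp.pos
        apply orderOf_dvd_of_pow_eq_one
        apply Subtype.ext
        rw [Subgroup.coe_pow, Subgroup.coe_one]
        exact hNexp g (Subgroup.mem_inf.mp g.2).1
      exact lemma_END hp2 hr2 hpr N Q P₀ x hNab hNp inferInstance hQp hQr hP₀p hx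
        (fun q _ => hNtop q) (fun a _ => hNtop a) (hNtop x) hP₀Q hxQ hxP₀ hCP₀ hnc hQCN hCVx
        (fun Q' hQ'Q _ hnil => isCyclic_of_isNilpotent_of_le hnil inf_le_left
          (inf_le_inf_right _ (hQ'Q.trans hQH)))
  -- conclusion
  have hQP : Q ≤ normalizer (P : Set G) := by
    intro q hq
    rw [hPdef]
    exact mem_normalizer_sup (hNtop q)
      (Subgroup.centralizer_le_normalizer _ ((Subgroup.le_centralizer_iff.mp hclaim) hq))
  have hTP : T ≤ normalizer (P : Set G) := by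
    rw [← hNQ]
    exact sup_le (hNP.trans Subgroup.le_normalizer) hQP
  have hBU : B ≤ normalizer (U : Set G) := by
    rw [Subgroup.normalizer_eq_top]
    exact le_top
  have hPU : P ≤ U := pgroup_le_of_coprime_relIndex hBU hcopUB hPp hPB
  have h3 : P.relIndex U ∣ P.relIndex B :=
    ⟨U.relIndex B, (Subgroup.relIndex_mul_relIndex P U B hPU hUB).symm⟩
  have hUTP : U ≤ T ⊔ P := by
    rw [← Subgroup.relIndex_eq_one]
    have h1 : (T ⊔ P).relIndex U ∣ T.relIndex U := Subgroup.relIndex_dvd_of_le_left U le_sup_left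
    have h2 : (T ⊔ P).relIndex U ∣ P.relIndex U := Subgroup.relIndex_dvd_of_le_left U le_sup_right
    rw [hTUm] at h1
    exact Nat.eq_one_of_dvd_coprimes (Nat.Coprime.pow_left m hPidx.symm) h1 (h2.trans h3)
  have hUP : U ≤ normalizer (P : Set G) := hUTP.trans (sup_le hTP Subgroup.le_normalizer)
  have hPidxU : (P.relIndex U).Coprime p := Nat.Coprime.coprime_dvd_left h3 hPidx
  have hPn : P.Normal := normal_of_normal_sylow U P hPU hPp hPidxU hUP
  exact pLengthLE_one_of_normal_sylow P B hPB hPp hPidx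

end Cfsg.Agent.Lib.Helper29.BG36
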