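import Mathlib
import Cfsg.Agent.Lib.Helper29.BG36h
import Cfsg.Agent.Lib.Helper10.XRepChief

/-!
BG Theorem 3.6 (S1444): Lemma L, the easy case `C_N(x) = 1`.
-/

set_option autoImplicit false

namespace Cfsg.Agent.Lib.Helper29.BG36

open Subgroup Cfsg.Agent.Lib.Helper1 Cfsg.Agent.Lib.Helper10 Cfsg.Agent.Lib.Helper20
open scoped commutatorElement

universe u

theorem lemma_L {G : Type u} [Group G] [Finite G] [Group.IsSolvable G] (hodd : Odd (Nat.card G))
    {p r : ℕ} [Fact p.Prime] (hr : r.Prime) (N B R : Subgroup G) [N.Normal] [B.Normal] (x : G)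
    (hN1 : N ≠ ⊥) (hNmin : ∀ K : Subgroup G, K.Normal → K ≤ N → K = ⊥ ∨ K = N)
    (hNp : IsPGroup p ↥N) (hNB : N ≤ B) (hBR : ⁅B, R⁆ = B) (hx : orderOf x = r)
    (hrB : ¬ r ∣ Nat.card B) (hCNx : N ⊓ centralizer ({x} : Set G) = ⊥)
    (hZ : IsZGroup ↥(B ⊓ centralizer ({x} : Set G)))
    (P0 : Subgroup G) (hP0 : IsPGroup p ↥P0) (hP0B : P0 ≤ B) :
    P0 ≤ centralizer (N : Set G) := by
  classical
  have hp : p.Prime := Fact.out
  have hNnil : Group.IsNilpotent ↥N := hNp.isNilpotent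
  have hxr : x ^ r = 1 := by
    rw [← hx]
    exact pow_orderOf_eq_one x
  have hVU : (⊥ : Subgroup G) < N := bot_lt_iff_ne_bot.mpr hN1
  have hchief : ∀ W : Subgroup G, W.Normal → ⊥ ≤ W → W ≤ N → W = ⊥ ∨ W = N :=
    fun W hW _ hWN => hNmin W hW hWN
  have hfpf : ∀ u ∈ N, u⁻¹ * (x * u * x⁻¹) ∈ (⊥ : Subgroup G) → u ∈ (⊥ : Subgroup G) := by
    intro u hu h
    rw [Subgroup.mem_bot] at h
    rw [← hCNx]
    refine Subgroup.mem_inf.mpr ⟨hu, ?_⟩
    rw [Subgroup.mem_centralizer_singleton_iff]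
    have h1 : x * u * x⁻¹ = u := by
      calc x * u * x⁻¹ = u * (u⁻¹ * (x * u * x⁻¹)) := by group
        _ = u := by rw [h, mul_one]
    calc u * x = (x * u * x⁻¹) * x := by rw [h1]
      _ = x * u := by group
  have hclaim1 := XRep.chief_centralize inferInstance hodd B hr hrB x hxr N ⊥ hVU hNB hNnil
    hchief hfpf
  have hD : ∀ k ∈ B, k * x * k⁻¹ * x⁻¹ ∈ centralizer (N : Set G) := by
    intro k hk
    rw [Subgroup.mem_centralizer_iff]
    intro u hu
    have h1 := hclaim1 k hk u hu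
    rw [Subgroup.mem_bot] at h1
    calc u * (k * x * k⁻¹ * x⁻¹)
        = (u * (k * x * k⁻¹ * x⁻¹) * u⁻¹ * (k * x * k⁻¹ * x⁻¹)⁻¹)
          * ((k * x * k⁻¹ * x⁻¹) * u) := by group
      _ = (k * x * k⁻¹ * x⁻¹) * u := by rw [h1, one_mul]
  obtain ⟨D, hDdef⟩ : ∃ D : Subgroup G, D = centralizer (N : Set G) := ⟨_, rfl⟩
  have hDn : D.Normal := by
    rw [hDdef]
    infer_instance
  have hsurj := QuotientGroup.mk'_surjective D
  have hcomm : ∀ k ∈ B, ∀ a ∈ zpowers x,
      (QuotientGroup.mk' D) a * (QuotientGroup.mk' D) k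
        = (QuotientGroup.mk' D) k * (QuotientGroup.mk' D) a := by
    intro k hk a ha
    have h1 : (QuotientGroup.mk' D) k * (QuotientGroup.mk' D) x
        = (QuotientGroup.mk' D) x * (QuotientGroup.mk' D) k := by
      have h2 : (QuotientGroup.mk' D) (k * x * k⁻¹ * x⁻¹) = 1 := by
        rw [QuotientGroup.mk'_apply, QuotientGroup.eq_one_iff, hDdef]
        exact hD k hk
      rw [map_mul, map_mul, map_mul, map_inv, map_inv] at h2
      calc (QuotientGroup.mk' D) k * (QuotientGroup.mk' D) x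
          = ((QuotientGroup.mk' D) k * (QuotientGroup.mk' D) x * ((QuotientGroup.mk' D) k)⁻¹
              * ((QuotientGroup.mk' D) x)⁻¹)
            * ((QuotientGroup.mk' D) x * (QuotientGroup.mk' D) k) := by group
        _ = (QuotientGroup.mk' D) x * (QuotientGroup.mk' D) k := by rw [h2, one_mul]
    have h3 : zpowers ((QuotientGroup.mk' D) x) ≤ centralizer {(QuotientGroup.mk' D) k} := by
      rw [Subgroup.zpowers_le, Subgroup.mem_centralizer_singleton_iff]
      exact h1.symm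
    have h4 : (QuotientGroup.mk' D) a ∈ zpowers ((QuotientGroup.mk' D) x) := by
      obtain ⟨i, rfl⟩ := Subgroup.mem_zpowers_iff.mp ha
      rw [map_zpow]
      exact zpow_mem (Subgroup.mem_zpowers _) i
    exact Subgroup.mem_centralizer_singleton_iff.mp (h3 h4)
  have hactB : CoprimeAct (zpowers x) B :=
    ⟨by rw [Subgroup.normalizer_eq_top]; exact le_top,
      by rw [Nat.card_zpowers, hx]; exact (Nat.Prime.coprime_iff_not_dvd hr).mpr hrB,
      Or.inr inferInstance⟩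
  have hBDnorm : zpowers x ≤ normalizer ((B ⊓ D : Subgroup G) : Set G) := by
    have : (B ⊓ D).Normal := inferInstance
    rw [Subgroup.normalizer_eq_top]
    exact le_top
  have hlift : ∀ k ∈ B, ∃ c ∈ B ⊓ centralizer ({x} : Set G),
      (QuotientGroup.mk' D) c = (QuotientGroup.mk' D) k := by
    intro k hk
    have hfix : ∀ a ∈ zpowers x, k⁻¹ * (a * k * a⁻¹) ∈ B ⊓ D := by
      intro a ha
      refine Subgroup.mem_inf.mpr
        ⟨mul_mem (inv_mem hk) ((inferInstance : B.Normal).conj_mem k hk a), ?_⟩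
      rw [← QuotientGroup.eq_one_iff, ← QuotientGroup.mk'_apply, map_mul, map_inv, map_mul,
        map_mul, map_inv, hcomm k hk a ha]
      group
    obtain ⟨u, hu, hc⟩ := hactB.exists_mul_mem_centralizer inf_le_left hBDnorm k hk hfix
    rw [centralizer_zpowers] at hc
    refine ⟨k * u, hc, ?_⟩
    rw [map_mul, QuotientGroup.mk'_apply, QuotientGroup.mk'_apply,
      (QuotientGroup.eq_one_iff u).mpr (Subgroup.mem_inf.mp hu).2, mul_one]
  obtain ⟨Bq, hBqdef⟩ : ∃ Bq : Subgroup (G ⧸ D), Bq = B.map (QuotientGroup.mk' D) := ⟨_, rfl⟩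
  have hBqZ : IsZGroup ↥Bq := by
    let f : ↥(B ⊓ centralizer ({x} : Set G)) →* ↥Bq :=
      ((QuotientGroup.mk' D).comp (B ⊓ centralizer ({x} : Set G)).subtype).codRestrict Bq
        (fun y => by rw [hBqdef]; exact Subgroup.mem_map_of_mem _ (Subgroup.mem_inf.mp y.2).1)
    have hf : Function.Surjective f := by
      rintro ⟨y, hy⟩
      rw [hBqdef] at hy
      obtain ⟨k, hk, rfl⟩ := hy
      obtain ⟨c, hc, hck⟩ := hlift k hk
      exact ⟨⟨c, hc⟩, Subtype.ext hck⟩
    exact IsZGroup.of_surjective (f := f) hf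
  have hBqn : Bq.Normal := by
    rw [hBqdef]
    exact Subgroup.Normal.map inferInstance _ hsurj
  have hBqR : ⁅Bq, R.map (QuotientGroup.mk' D)⁆ = Bq := by
    rw [hBqdef, ← Subgroup.map_commutator, hBR]
  have hBq'cyc : IsCyclic ↥(⁅Bq, Bq⁆ : Subgroup (G ⧸ D)) := by
    have h1 : IsCyclic ↥(_root_.commutator ↥Bq) := IsZGroup.isCyclic_commutator ↥Bq
    rw [← Subgroup.map_subtype_commutator]
    exact isCyclic_of_surjective
      ((_root_.commutator ↥Bq).equivMapOfInjective Bq.subtype (Subgroup.subtype_injective _))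
      (MulEquiv.surjective _)
  have hBq'n : (⁅Bq, Bq⁆ : Subgroup (G ⧸ D)).Normal := inferInstance
  have hcomm_le : ⁅(⊤ : Subgroup (G ⧸ D)), ⊤⁆
      ≤ centralizer ((⁅Bq, Bq⁆ : Subgroup (G ⧸ D)) : Set (G ⧸ D)) := by
    rw [Subgroup.commutator_le]
    intro g₁ _ g₂ _
    have h1 : (MulAut.conjNormal ⁅g₁, g₂⁆ : MulAut ↥(⁅Bq, Bq⁆ : Subgroup (G ⧸ D))) = 1 := by
      rw [commutatorElement_def, map_mul, map_mul, map_mul, map_inv, map_inv,
        mulAut_comm_of_isCyclic (MulAut.conjNormal g₁) (MulAut.conjNormal g₂)]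
      group
    rw [Subgroup.mem_centralizer_iff]
    intro z hz
    have h2 : ((MulAut.conjNormal ⁅g₁, g₂⁆ (⟨z, hz⟩ : ↥(⁅Bq, Bq⁆ : Subgroup (G ⧸ D))) :
        ↥(⁅Bq, Bq⁆ : Subgroup (G ⧸ D))) : G ⧸ D) = z := by
      rw [h1]
      rfl
    rw [MulAut.conjNormal_apply] at h2
    change ⁅g₁, g₂⁆ * z * ⁅g₁, g₂⁆⁻¹ = z at h2
    calc z * ⁅g₁, g₂⁆ = (⁅g₁, g₂⁆ * z * ⁅g₁, g₂⁆⁻¹) * ⁅g₁, g₂⁆ := by rw [h2]
      _ = ⁅g₁, g₂⁆ * z := by group
  have hBqle : Bq ≤ centralizer ((⁅Bq, Bq⁆ : Subgroup (G ⧸ D)) : Set (G ⧸ D)) :=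
    calc Bq = ⁅Bq, R.map (QuotientGroup.mk' D)⁆ := hBqR.symm
      _ ≤ ⁅⊤, ⊤⁆ := Subgroup.commutator_mono le_top le_top
      _ ≤ _ := hcomm_le
  have hBqnil : Group.IsNilpotent ↥Bq := by
    apply isNilpotent_of_commutator_commutator_eq_bot
    rw [Subgroup.commutator_eq_bot_iff_le_centralizer]
    exact Subgroup.le_centralizer_iff.mp hBqle
  -- the `p`-part of `Bq`
  obtain ⟨Oq, hOqdef⟩ : ∃ Oq : Subgroup (G ⧸ D), Oq = (Cfsg.pCore p ↥Bq).map Bq.subtype :=
    ⟨_, rfl⟩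
  have hOqn : Oq.Normal := by
    rw [hOqdef]
    have := pCore_characteristic (G := ↥Bq) p
    exact ConjAct.normal_of_characteristic_of_normal
  have hOqp : IsPGroup p ↥Oq := by
    rw [hOqdef]
    exact (pCore_isPGroup p).map _
  have hP0q : P0.map (QuotientGroup.mk' D) ≤ Oq := by
    have hle : P0.map (QuotientGroup.mk' D) ≤ Bq := by
      rw [hBqdef]
      exact Subgroup.map_mono hP0B
    have hK : IsPGroup p ↥((P0.map (QuotientGroup.mk' D)).subgroupOf Bq) :=
      (hP0.map _).comap_subtype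
    obtain ⟨S, hS⟩ := hK.exists_le_sylow
    have hSn : (S : Subgroup ↥Bq).Normal := inferInstance
    have hSle : (S : Subgroup ↥Bq) ≤ Cfsg.pCore p ↥Bq := le_pCore hSn S.2
    intro y hy
    rw [hOqdef]
    exact ⟨⟨y, hle hy⟩, hSle (hS (Subgroup.mem_subgroupOf.mpr hy)), rfl⟩
  obtain ⟨W, hWdef⟩ : ∃ W : Subgroup G, W = Oq.comap (QuotientGroup.mk' D) := ⟨_, rfl⟩
  have hWn : W.Normal := by
    rw [hWdef]
    exact Subgroup.Normal.comap hOqn _
  have hDW : D ≤ W := by
    rw [hWdef]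
    intro d hd
    rw [Subgroup.mem_comap, QuotientGroup.mk'_apply, (QuotientGroup.eq_one_iff d).mpr hd]
    exact one_mem _
  have hDWidx : ∃ m, D.relIndex W = p ^ m := by
    rw [PLen.relIndex_eq_card_map, hWdef, Subgroup.map_comap_eq_self_of_surjective hsurj]
    exact IsPGroup.iff_card.mp hOqp
  obtain ⟨Ys⟩ := (inferInstance : Nonempty (Sylow p ↥W))
  obtain ⟨Y, hYdef⟩ : ∃ Y : Subgroup G, Y = (Ys : Subgroup ↥W).map W.subtype := ⟨_, rfl⟩
  have hYW : Y ≤ W := by
    rw [hYdef]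
    exact Subgroup.map_subtype_le _
  have hYp : IsPGroup p ↥Y := by
    rw [hYdef]
    exact Ys.2.map _
  have hYidx : (Y.relIndex W).Coprime p := by
    have h1 : Y.subgroupOf W = (Ys : Subgroup ↥W) := by
      rw [hYdef]
      exact Subgroup.comap_map_eq_self_of_injective (Subgroup.subtype_injective _) _
    show ((Y.subgroupOf W).index).Coprime p
    rw [h1]
    exact ((Nat.Prime.coprime_iff_not_dvd hp).mpr Ys.not_dvd_index).symm
  have hWDY : W ≤ D ⊔ Y := by
    rw [← Subgroup.relIndex_eq_one]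
    obtain ⟨m, hm⟩ := hDWidx
    have h1 : (D ⊔ Y).relIndex W ∣ D.relIndex W := Subgroup.relIndex_dvd_of_le_left W le_sup_left
    have h2 : (D ⊔ Y).relIndex W ∣ Y.relIndex W := Subgroup.relIndex_dvd_of_le_left W le_sup_right
    rw [hm] at h1
    exact Nat.eq_one_of_dvd_coprimes (Nat.Coprime.pow_left m hYidx.symm) h1 h2
  have hYN : Y ≤ normalizer (N : Set G) := by
    rw [Subgroup.normalizer_eq_top]
    exact le_top
  have hCY : N ⊓ centralizer (Y : Set G) ≠ ⊥ :=
    inf_centralizer_ne_bot_of_isPGroup Y N hYp hNp hYN hN1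
  have hCW : N ⊓ centralizer (Y : Set G) ≤ N ⊓ centralizer (W : Set G) := by
    intro n hn
    obtain ⟨hn1, hn2⟩ := Subgroup.mem_inf.mp hn
    refine Subgroup.mem_inf.mpr ⟨hn1, ?_⟩
    have hsub : D ⊔ Y ≤ centralizer ({n} : Set G) := by
      refine sup_le ?_ ?_
      · intro d hd
        rw [Subgroup.mem_centralizer_singleton_iff]
        rw [hDdef] at hd
        exact (Subgroup.mem_centralizer_iff.mp hd n hn1).symm
      · intro y hy
        rw [Subgroup.mem_centralizer_singleton_iff]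
        exact Subgroup.mem_centralizer_iff.mp hn2 y hy
    rw [Subgroup.mem_centralizer_iff]
    intro w hw
    exact Subgroup.mem_centralizer_singleton_iff.mp (hsub (hWDY hw))
  have hNW : (N ⊓ centralizer (W : Set G)).Normal := inferInstance
  rcases hNmin _ hNW inf_le_left with h | h
  · exfalso
    apply hCY
    rw [eq_bot_iff, ← h]
    exact hCW
  · have h1 : N ≤ centralizer (W : Set G) := inf_eq_left.mp h
    have h2 : W ≤ D := by
      rw [hDdef]
      exact Subgroup.le_centralizer_iff.mp h1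
    have h3 : P0 ≤ W := by
      rw [hWdef]
      intro y hy
      exact hP0q (Subgroup.mem_map_of_mem _ hy)
    rw [← hDdef]
    exact h3.trans h2

end Cfsg.Agent.Lib.Helper29.BG36
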