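import Mathlib
import Cfsg.Agent.Lib.Helper1.Hall
import Cfsg.Agent.Lib.Helper1.Coprime

/-!
BG Theorem 3.6 (S1444): the hypotheses pass to the quotient by a normal subgroup `N ≤ H`.
-/

set_option autoImplicit false

namespace Cfsg.Agent.Lib.Helper29.BG36

open Subgroup Cfsg.Agent.Lib.Helper1
open scoped commutatorElement

theorem quotient_transfer {G : Type*} [Group G] [Finite G] (H R R₀ N : Subgroup G) [H.Normal]
    [N.Normal] (hHall : (Nat.card H).Coprime H.index) (hR : Subgroup.IsComplement' H R)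
    (hR₀ : R₀ ≤ R) (hR₀p : (Nat.card R₀).Prime)
    (hZ : IsZGroup ↥(H ⊓ Subgroup.centralizer (R₀ : Set G))) (hNH : N ≤ H) :
    (H.map (QuotientGroup.mk' N)).Normal ∧
    (Nat.card (H.map (QuotientGroup.mk' N))).Coprime (H.map (QuotientGroup.mk' N)).index ∧
    Subgroup.IsComplement' (H.map (QuotientGroup.mk' N)) (R.map (QuotientGroup.mk' N)) ∧
    R₀.map (QuotientGroup.mk' N) ≤ R.map (QuotientGroup.mk' N) ∧
    (Nat.card (R₀.map (QuotientGroup.mk' N))).Prime ∧
    IsZGroup ↥(H.map (QuotientGroup.mk' N) ⊓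
      Subgroup.centralizer ((R₀.map (QuotientGroup.mk' N) : Subgroup (G ⧸ N)) : Set (G ⧸ N))) ∧
    ⁅H.map (QuotientGroup.mk' N), R.map (QuotientGroup.mk' N)⁆
      = (⁅H, R⁆ : Subgroup G).map (QuotientGroup.mk' N) := by
  have hsurj := QuotientGroup.mk'_surjective N
  have hcardR : H.index = Nat.card R := hR.symm.index_eq_card
  have hcopRH : (Nat.card R).Coprime (Nat.card H) := by
    rw [← hcardR]
    exact hHall.symm
  have hRHbot : R ⊓ H = ⊥ := by
    rw [inf_comm]
    exact disjoint_iff.mp hR.disjoint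
  have hRN : R ⊓ N = ⊥ := by
    rw [eq_bot_iff, ← hRHbot]
    exact inf_le_inf_left _ hNH
  have hR₀N : R₀ ⊓ N = ⊥ := by
    rw [eq_bot_iff, ← hRN]
    exact inf_le_inf_right _ hR₀
  have hcH := card_map_mk_of_le N hNH
  have hcR := card_map_mk_of_disjoint N hRN
  have hcR₀ := card_map_mk_of_disjoint N hR₀N
  have hdvdH : Nat.card (H.map (QuotientGroup.mk' N)) ∣ Nat.card H := ⟨_, hcH.symm⟩
  have hidx : (H.map (QuotientGroup.mk' N)).index = H.index :=
    Subgroup.index_map_eq H hsurj (by rw [QuotientGroup.ker_mk']; exact hNH)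
  refine ⟨Subgroup.Normal.map inferInstance _ hsurj, ?_, ?_, Subgroup.map_mono hR₀, ?_, ?_,
    (Subgroup.map_commutator H R (QuotientGroup.mk' N)).symm⟩
  · rw [hidx]
    exact Nat.Coprime.coprime_dvd_left hdvdH hHall
  · apply Subgroup.isComplement'_of_coprime
    · have h1 := hR.card_mul_card
      have h2 := Subgroup.card_eq_card_quotient_mul_card_subgroup N
      rw [hcR]
      have h3 : Nat.card (H.map (QuotientGroup.mk' N)) * Nat.card R * Nat.card N
          = Nat.card (G ⧸ N) * Nat.card N := by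
        rw [← h2, ← h1, ← hcH]
        ring
      exact Nat.eq_of_mul_eq_mul_right Nat.card_pos h3
    · rw [hcR]
      exact Nat.Coprime.coprime_dvd_left hdvdH hcopRH.symm
  · rw [hcR₀]
    exact hR₀p
  · -- the Z-group
    have hR₀H : R₀ ≤ normalizer (H : Set G) := by
      rw [Subgroup.normalizer_eq_top]
      exact le_top
    have hR₀N' : R₀ ≤ normalizer (N : Set G) := by
      rw [Subgroup.normalizer_eq_top]
      exact le_top
    have hcyc : IsCyclic ↥R₀ := by
      have : Fact (Nat.card ↥R₀).Prime := ⟨hR₀p⟩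
      exact isCyclic_of_prime_card rfl
    have hsolv : Group.IsSolvable ↥R₀ := by
      apply Group.isSolvable_of_comm
      intro a b
      let _ := IsCyclic.commGroup (α := ↥R₀)
      exact mul_comm a b
    have hact : CoprimeAct R₀ H :=
      ⟨hR₀H, Nat.Coprime.coprime_dvd_left (Subgroup.card_dvd_of_le hR₀) hcopRH, Or.inl hsolv⟩
    have hmem : ∀ y : ↥(H ⊓ centralizer (R₀ : Set G)),
        (QuotientGroup.mk' N) (y : G) ∈ H.map (QuotientGroup.mk' N) ⊓
          centralizer ((R₀.map (QuotientGroup.mk' N) : Subgroup (G ⧸ N)) : Set (G ⧸ N)) := by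
      intro y
      obtain ⟨hy1, hy2⟩ := Subgroup.mem_inf.mp y.2
      refine Subgroup.mem_inf.mpr ⟨Subgroup.mem_map_of_mem _ hy1, ?_⟩
      rw [Subgroup.mem_centralizer_iff]
      rintro _ ⟨a, ha, rfl⟩
      rw [← map_mul, ← map_mul, Subgroup.mem_centralizer_iff.mp hy2 a ha]
    let f : ↥(H ⊓ centralizer (R₀ : Set G)) →* ↥(H.map (QuotientGroup.mk' N) ⊓
        centralizer ((R₀.map (QuotientGroup.mk' N) : Subgroup (G ⧸ N)) : Set (G ⧸ N))) :=
      ((QuotientGroup.mk' N).comp (H ⊓ centralizer (R₀ : Set G)).subtype).codRestrict _ hmem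
    have hf : Function.Surjective f := by
      rintro ⟨ybar, hybar⟩
      obtain ⟨hy1, hy2⟩ := Subgroup.mem_inf.mp hybar
      obtain ⟨h, hh, rfl⟩ := hy1
      have hfix : ∀ a ∈ R₀, h⁻¹ * (a * h * a⁻¹) ∈ N := by
        intro a ha
        have h1 := Subgroup.mem_centralizer_iff.mp hy2 _ (Subgroup.mem_map_of_mem _ ha)
        rw [← QuotientGroup.eq_one_iff, ← QuotientGroup.mk'_apply, map_mul, map_inv, map_mul,
          map_mul, map_inv, h1]
        group
      obtain ⟨u, hu, hc⟩ := hact.exists_mul_mem_centralizer hNH hR₀N' h hh hfix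
      refine ⟨⟨h * u, hc⟩, ?_⟩
      apply Subtype.ext
      show (QuotientGroup.mk' N) (h * u) = (QuotientGroup.mk' N) h
      rw [map_mul, QuotientGroup.mk'_apply, QuotientGroup.mk'_apply,
        (QuotientGroup.eq_one_iff u).mpr hu, mul_one]
    exact IsZGroup.of_surjective (f := f) hf

end Cfsg.Agent.Lib.Helper29.BG36
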