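import Mathlib
import Cfsg.Agent.Lib.Helper29.BG36h
import Cfsg.Agent.Lib.Helper29.BG36l
import Cfsg.Agent.Lib.Helper29.BG36q

/-!
BG Theorem 3.6 (S1444): the induction.
-/

set_option autoImplicit false

namespace Cfsg.Agent.Lib.Helper29.BG36

open Subgroup
open scoped commutatorElement

universe u

/-- **Bender–Glauberman, Theorem 3.6**. -/
theorem thm36 : ∀ (n : ℕ) (G : Type u) [Group G] [Finite G] [Group.IsSolvable G],
    Nat.card G = n → Odd (Nat.card G) →
    ∀ (H R R₀ : Subgroup G) [H.Normal], (Nat.card H).Coprime H.index → IsComplement' H R →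
    R₀ ≤ R → (Nat.card R₀).Prime → IsZGroup ↥(H ⊓ centralizer (R₀ : Set G)) →
    ∀ (p : ℕ) [Fact p.Prime], Cfsg.PLengthLE p 1 ↥⁅H, R⁆ := by
  intro n
  induction n using Nat.strong_induction_on with
  | _ n ih =>
    intro G _ _ _ hcard hodd H R R₀ _ hHall hR hR₀ hR₀p hZ p _
    apply main_step hodd H R R₀ hHall hR hR₀ hR₀p hZ p
    · intro N _ hNne hNH
      obtain ⟨h1, h2, h3, h4, h5, h6, h7⟩ :=
        quotient_transfer H R R₀ N hHall hR hR₀ hR₀p hZ hNH
      have hlt : Nat.card (G ⧸ N) < n := by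
        rw [← hcard]
        have h8 := Subgroup.card_eq_card_quotient_mul_card_subgroup N
        have h9 : 1 < Nat.card N := by
          rcases Nat.lt_or_ge 1 (Nat.card N) with h | h
          · exact h
          · exfalso
            apply hNne
            apply Subgroup.card_eq_one.mp
            have := Nat.card_pos (α := N)
            omega
        rw [h8]
        have h10 : 0 < Nat.card (G ⧸ N) := Nat.card_pos
        nlinarith
      have hodd' : Odd (Nat.card (G ⧸ N)) :=
        Odd.of_dvd_nat hodd (Subgroup.card_quotient_dvd_card N)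
      have h11 := ih (Nat.card (G ⧸ N)) hlt (G ⧸ N) rfl hodd' (H.map (QuotientGroup.mk' N))
        (R.map (QuotientGroup.mk' N)) (R₀.map (QuotientGroup.mk' N)) h2 h3 h4 h5 h6 p
      rw [h7] at h11
      exact h11
    · intro N B P₀ _ _ x r hNne hmin hNp hNB hBR hx hr hrB hCNx hZB hP₀B hP₀p
      exact lemma_L hodd hr N B R x hNne hmin hNp hNB hBR hx hrB hCNx hZB P₀ hP₀p hP₀B

end Cfsg.Agent.Lib.Helper29.BG36
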