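import Mathlib
import Cfsg.Agent.Lib.Helper9.BGExc3
import Cfsg.Agent.Lib.Helper10.BGTwelveB

/-!
# Helper29 library: assembly of BG Theorem 12.5 (= S1417)

`s1417_of` : the conclusion of S1417 from Proposition 12.4(b) (second half of S1416), Theorem 11.4,
Corollary 11.5 and Theorem 11.7 (all taken as hypotheses), using (E3), (E4).
-/

set_option autoImplicit false
set_option linter.style.haveILetI false
set_option linter.unusedSectionVars false

open Cfsg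
open Cfsg.Agent.Lib.Helper10.BG
open Cfsg.Agent.Lib.Helper9.BGExc

namespace Cfsg.Agent.Lib.Helper29.BG125

variable {G : Type*} [Group G] [Finite G]

/-- From 12.4(b): if `p ∉ σ(M)` and `A ≤ M` is elementary abelian of order `p^2`, then `M` is
exceptional w.r.t. some `A₀ ≤ A`. -/
theorem exists_exc {p : ℕ} [Fact p.Prime]
    (h124 : ∀ M : Subgroup G, IsCoatom M → ∀ A : Subgroup G,
      (A ≤ M ∧ Cfsg.IsElementaryAbelian p A ∧ Nat.card A = p ^ 2) →
      (∀ A₀ : Subgroup G, A₀ ≤ A → Nat.card A₀ = p →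
          ¬ (Subgroup.normalizer (A₀ : Set G) ≤ M ∧ ∀ L : Subgroup G, IsCoatom L →
            Subgroup.normalizer (A₀ : Set G) ≤ L → L = M)) → p ∈ Cfsg.sigma M)
    {M : Subgroup G} (hM : IsCoatom M) (hpσ : p ∉ sigma M) {A : Subgroup G}
    (hA : A ≤ M ∧ Cfsg.IsElementaryAbelian p A ∧ Nat.card A = p ^ 2) :
    ∃ A₀ : Subgroup G, Exc M p A₀ A := by
  by_contra hcon
  push Not at hcon
  apply hpσ
  apply h124 M hM A hA
  intro A₀ hA₀A hA₀ hN
  exact hcon A₀ ⟨hM, hpσ, hA₀A, hA.1, hA₀, hA.2.2, hA.2.1, hN.1⟩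

theorem s1417_of (hG : Cfsg.IsMinSimpleOddOrder G) (p : ℕ) [Fact p.Prime]
    (h124 : ∀ M : Subgroup G, IsCoatom M → ∀ A : Subgroup G,
      (A ≤ M ∧ Cfsg.IsElementaryAbelian p A ∧ Nat.card A = p ^ 2) →
      (∀ A₀ : Subgroup G, A₀ ≤ A → Nat.card A₀ = p →
          ¬ (Subgroup.normalizer (A₀ : Set G) ≤ M ∧ ∀ L : Subgroup G, IsCoatom L →
            Subgroup.normalizer (A₀ : Set G) ≤ L → L = M)) → p ∈ Cfsg.sigma M)
    (h114 : ∀ M A₀ A P : Subgroup G, Exc M p A₀ A → IsSylowIn p P M →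
      ∀ u ∈ P, ∀ v ∈ P, u * v = v * u)
    (h115 : ∀ M A₀ A P : Subgroup G, Exc M p A₀ A → IsSylowIn p P M → A ≤ P →
      (∀ x ∈ P, x ^ p = 1 ↔ x ∈ A) ∧
      Cfsg.sigmaCore M ⊓ Subgroup.centralizer (A : Set G) = ⊥ ∧
      ∃ A₁ : Subgroup G, A₁ ≤ A ∧ Nat.card A₁ = p ∧
        Cfsg.sigmaCore M ⊓ Subgroup.centralizer (A₁ : Set G) = ⊥)
    (h117 : ∀ M A₀ A : Subgroup G, Exc M p A₀ A →
      M ≤ Subgroup.normalizer ((Cfsg.sigmaCore M ⊔ A : Subgroup G) : Set G))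
    (M : Subgroup G) (hM : IsCoatom M) (hp : p ∈ Cfsg.tau2 M) (A : Subgroup G)
    (hA : (A ≤ M ∧ Cfsg.IsElementaryAbelian p A ∧ Nat.card A = p ^ 2)) :
    Group.IsNilpotent (Cfsg.sigmaCore M) ∧
      (∀ P : Sylow p M, IsMulCommutative (P : Subgroup M) ∧
        (A ≤ (P : Subgroup M).map M.subtype →
          (∀ x ∈ (P : Subgroup M).map M.subtype, x ^ p = 1 ↔ x ∈ A) ∧
          ¬ Subgroup.normalizer ((((P : Subgroup M).map M.subtype : Subgroup G)) : Set G) ≤ M)) ∧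
      M ≤ Subgroup.normalizer ((Cfsg.sigmaCore M ⊔ A : Subgroup G) : Set G) ∧
      Cfsg.sigmaCore M ⊓ Subgroup.centralizer (A : Set G) = ⊥ ∧
      (∀ Mstar : Subgroup G, IsCoatom Mstar → Mstar ≠ M → A ≤ Mstar →
        Cfsg.sigmaCore M ⊓ Mstar = ⊥) ∧
      ∃ A₁ : Subgroup G, A₁ ≤ A ∧ Nat.card A₁ = p ∧
        Cfsg.sigmaCore M ⊓ Subgroup.centralizer (A₁ : Set G) = ⊥ := by
  have hpp : p.Prime := Fact.out
  have hpσ : p ∉ sigma M := hp.2.1
  obtain ⟨A₀, hexc⟩ := exists_exc h124 hM hpσ hA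
  obtain ⟨hAM, hAel, hAcard⟩ := hA
  have hAp : IsPGroup p A := hexc.isPGroup
  -- a Sylow subgroup containing A, for (d), (f)
  obtain ⟨T, hT, hAT⟩ := exists_isSylowIn_ge hAM hAp
  obtain ⟨-, hd, hf⟩ := h115 M A₀ A T hexc hT hAT
  refine ⟨hexc.E3 hG, ?_, h117 M A₀ A hexc, hd, ?_, hf⟩
  · -- (b)
    intro P
    have hPS : IsSylowIn p ((P : Subgroup M).map M.subtype) M := isSylowIn_of_sylow P
    refine ⟨⟨⟨fun a b => ?_⟩⟩, fun hAP => ⟨(h115 M A₀ A _ hexc hPS hAP).1, ?_⟩⟩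
    · have := h114 M A₀ A _ hexc hPS (a : M) ⟨a.1, a.2, rfl⟩ (b : M) ⟨b.1, b.2, rfl⟩
      apply Subtype.ext
      apply Subtype.ext
      exact this
    · intro hN
      obtain ⟨g, hg, hgM⟩ :=
        Cfsg.Agent.Lib.Helper9.BG10.exists_normalizer_not_mem hpσ hexc.dvd_card hPS
      exact hgM (hN hg)
  · -- (e)
    intro H hH hHM hAH
    have hE4 : sigmaCore M ⊓ sigmaCore H = ⊥ := by
      by_contra hne
      exact hHM (hexc.E4 hG hH hAH hne)
    have hMσ : M ≤ Subgroup.normalizer (sigmaCore M : Set G) := le_normalizer_sigmaCore M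
    have hHσ : H ≤ Subgroup.normalizer (sigmaCore H : Set G) := le_normalizer_sigmaCore H
    -- it suffices to show that every commutator [d, a] lies in H_σ
    suffices hkey : ∀ d ∈ sigmaCore M ⊓ H, ∀ a ∈ A, d * a * d⁻¹ * a⁻¹ ∈ sigmaCore H by
      rw [eq_bot_iff, ← hd]
      intro d hdD
      refine ⟨hdD.1, ?_⟩
      change d ∈ Subgroup.centralizer (A : Set G)
      rw [Subgroup.mem_centralizer_iff]
      intro a ha
      have h1 : d * a * d⁻¹ * a⁻¹ ∈ sigmaCore M := by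
        have h3 : a * d⁻¹ * a⁻¹ ∈ sigmaCore M :=
          (Subgroup.mem_normalizer_iff.mp (hMσ (hAM ha)) d⁻¹).mp (Subgroup.inv_mem _ hdD.1)
        have : d * a * d⁻¹ * a⁻¹ = d * (a * d⁻¹ * a⁻¹) := by group
        rw [this]
        exact Subgroup.mul_mem _ hdD.1 h3
      have h2 : d * a * d⁻¹ * a⁻¹ ∈ sigmaCore M ⊓ sigmaCore H := ⟨h1, hkey d hdD a ha⟩
      rw [hE4, Subgroup.mem_bot] at h2
      have : a * d = (d * a * d⁻¹ * a⁻¹)⁻¹ * (d * a) := by group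
      rw [this, h2, inv_one, one_mul]
    by_cases hpH : p ∈ sigma H
    · -- A ≤ H_σ
      have hAHσ : A ≤ sigmaCore H := pgroup_le_sigmaCore hG hH hpH hAp hAH
      intro d hdD a ha
      have h1 : d * a * d⁻¹ ∈ sigmaCore H :=
        (Subgroup.mem_normalizer_iff.mp (hHσ hdD.2) a).mp (hAHσ ha)
      exact Subgroup.mul_mem _ h1 (Subgroup.inv_mem _ (hAHσ ha))
    · -- H is exceptional
      obtain ⟨B₀, hexcH⟩ := exists_exc h124 hH hpH ⟨hAH, hAel, hAcard⟩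
      have hnH := h117 H B₀ A hexcH
      intro d hdD a ha
      -- the subgroup generated by the commutator
      have h1 : d * a * d⁻¹ * a⁻¹ ∈ sigmaCore M := by
        have h3 : a * d⁻¹ * a⁻¹ ∈ sigmaCore M :=
          (Subgroup.mem_normalizer_iff.mp (hMσ (hAM ha)) d⁻¹).mp (Subgroup.inv_mem _ hdD.1)
        have : d * a * d⁻¹ * a⁻¹ = d * (a * d⁻¹ * a⁻¹) := by group
        rw [this]
        exact Subgroup.mul_mem _ hdD.1 h3
      have h2 : d * a * d⁻¹ * a⁻¹ ∈ sigmaCore H ⊔ A := by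
        have h3 : d * a * d⁻¹ ∈ sigmaCore H ⊔ A :=
          (Subgroup.mem_normalizer_iff.mp (hnH hdD.2) a).mp (Subgroup.mem_sup_right ha)
        exact Subgroup.mul_mem _ h3 (Subgroup.inv_mem _ (Subgroup.mem_sup_right ha))
      have h4 : Subgroup.zpowers (d * a * d⁻¹ * a⁻¹) ≤ sigmaCore H := by
        apply le_of_le_sup_of_coprime (hAH.trans hHσ) ((Subgroup.zpowers_le).mpr h2)
        rw [hAcard]
        apply Nat.Coprime.pow_right
        exact Nat.Coprime.coprime_dvd_left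
          (Subgroup.card_dvd_of_le ((Subgroup.zpowers_le).mpr h1))
          (coprime_card_sigmaCore hG hM hpp hpσ)
      exact h4 (Subgroup.mem_zpowers _)

end Cfsg.Agent.Lib.Helper29.BG125
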