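import Mathlib
import Cfsg.Agent.Lib.Helper29.BG125
import Cfsg.Agent.Lib.Helper9.BGExc10

/-!
# Helper29 library: BG Theorem 12.5 against helper9's interfaces `Thm114`, `Thm117`, `Prop124`
-/

set_option autoImplicit false
set_option linter.style.haveILetI false
set_option linter.unusedSectionVars false

open Cfsg
open Cfsg.Agent.Lib.Helper10.BG
open Cfsg.Agent.Lib.Helper9.BGExc

namespace Cfsg.Agent.Lib.Helper29.BG125

variable {G : Type*} [Group G] [Finite G]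

/-- Theorem 12.5 (the conclusion of S1417, verbatim). -/
theorem thm_12_5 (hG : Cfsg.IsMinSimpleOddOrder G) (h114 : Thm114 G) (h117 : Thm117 G)
    {p : ℕ} [Fact p.Prime] (h124 : Prop124 G p)
    (M : Subgroup G) (hM : IsCoatom M) (hp : p ∈ Cfsg.tau2 M) (A : Subgroup G)
    (hA : (A ≤ M ∧ Cfsg.IsElementaryAbelian p A ∧ Nat.card A = p ^ 2)) :
    Group.IsNilpotent (Cfsg.sigmaCore M) ∧
      (∀ P : Sylow p M, IsMulCommutative (P : Subgroup M) ∧
        (A ≤ (P : Subgroup M).map M.subtype →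
          (∀ x ∈ (P : Subgroup M).map M.subtype, x ^ p = 1 ↔ x ∈ A) ∧
          ¬ Subgroup.normalizer ((((P : Subgroup M).map M.subtype : Subgroup G)) : Set G) ≤ M)) ∧
      M ≤ Subgroup.normalizer ((Cfsg.sigmaCore M ⊔ A : Subgroup G) : Set G) ∧
      Cfsg.sigmaCore M ⊓ Subgroup.centralizer (A : Set G) = ⊥ ∧
      (∀ Mstar : Subgroup G, IsCoatom Mstar → Mstar ≠ M → A ≤ Mstar →
        Cfsg.sigmaCore M ⊓ Mstar = ⊥) ∧
      ∃ A₁ : Subgroup G, A₁ ≤ A ∧ Nat.card A₁ = p ∧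
        Cfsg.sigmaCore M ⊓ Subgroup.centralizer (A₁ : Set G) = ⊥ := by
  refine s1417_of hG p
    (fun M hM A hA h => ((h124 M A hM hA.1 hA.2.1 hA.2.2).2 h).1)
    (fun M A₀ A P h hP => h114 M p A₀ A P Fact.out h hP)
    (fun M A₀ A P h hP hAP => ⟨h.mem_iff_of_sylow hG h114 hP hAP, h.centralizer_regular hG h114, ?_⟩)
    (fun M A₀ A h => h117 M p A₀ A Fact.out h) M hM hp A hA
  obtain ⟨A₁, -, h1, -, c1, -, -, -, r1, -⟩ := h.exists_two_regular hG h114
  exact ⟨A₁, h1, c1, r1⟩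

/-- Theorem 12.5(e) in helper9's interface form. -/
theorem thm125e_of (hG : Cfsg.IsMinSimpleOddOrder G) (h114 : Thm114 G) (h117 : Thm117 G)
    {p : ℕ} [Fact p.Prime] (h124 : Prop124 G p) : Thm125e G p := by
  intro M A Mstar hM hp hAM hAe hAc hMs hne hAMs
  exact (thm_12_5 hG h114 h117 h124 M hM hp A ⟨hAM, hAe, hAc⟩).2.2.2.2.1 Mstar hMs hne hAMs

end Cfsg.Agent.Lib.Helper29.BG125
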