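import Mathlib
import Cfsg.Prelude
import Cfsg.Agent.Lib.Helper9.BGExc1
import Cfsg.Agent.Lib.Helper10.BGNine2
import Cfsg.Agent.Lib.Helper1.Hall
import Cfsg.Agent.S1412
import Cfsg.Agent.S1453

/-!
# The `p`-group piece (PG) of Bender--Glauberman Theorem 11.4

`S` a Sylow `p`-subgroup of a minimal simple group of odd order containing a maximal elementary
abelian subgroup `A` of order `p ^ 2`: either `S` is abelian, or `Ω₁(Z(S))` has order `p` and
`C_S(A)` is abelian.
-/

set_option autoImplicit false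
open Cfsg

namespace Cfsg.Agent.Lib.Helper29.BGExc

open Cfsg.Agent.Lib.Helper10.BG
open Cfsg.Agent.Lib.Helper9.BGExc (MaxEA)

variable {G : Type*} [Group G]

/-- `Ω₁(Z(S))`: the elements of `S` centralizing `S` with `z ^ p = 1`. -/
def omegaZ (p : ℕ) (S : Subgroup G) : Subgroup G where
  carrier := {z | z ∈ S ∧ (∀ s ∈ S, s * z = z * s) ∧ z ^ p = 1}
  one_mem' := ⟨S.one_mem, by simp, one_pow p⟩
  mul_mem' := by
    rintro a b ⟨ha, hac, hap⟩ ⟨hb, hbc, hbp⟩
    refine ⟨S.mul_mem ha hb, ?_, ?_⟩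
    · intro s hs
      rw [← mul_assoc, hac s hs, mul_assoc, hbc s hs, mul_assoc]
    · have hab : Commute a b := hbc a ha
      rw [hab.mul_pow, hap, hbp, one_mul]
  inv_mem' := by
    rintro a ⟨ha, hac, hap⟩
    refine ⟨S.inv_mem ha, ?_, ?_⟩
    · intro s hs
      have h := hac s hs
      calc s * a⁻¹ = a⁻¹ * (a * s) * a⁻¹ := by group
        _ = a⁻¹ * (s * a) * a⁻¹ := by rw [h]
        _ = a⁻¹ * s := by group
    · rw [inv_pow, hap, inv_one]

theorem mem_omegaZ {p : ℕ} {S : Subgroup G} {z : G} :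
    z ∈ omegaZ p S ↔ z ∈ S ∧ (∀ s ∈ S, s * z = z * s) ∧ z ^ p = 1 := Iff.rfl

theorem omegaZ_le (p : ℕ) (S : Subgroup G) : omegaZ p S ≤ S := fun _ hz => hz.1

/-- `Ω₁(Z(S)) ≤ A` for a maximal elementary abelian subgroup `A ≤ S`. -/
theorem omegaZ_le_of_maxEA {p : ℕ} {S A : Subgroup G} (hA : MaxEA p A) (hAS : A ≤ S) :
    omegaZ p S ≤ A := by
  intro z hz
  apply hA.mem_of_mem_centralizer _ hz.2.2
  rw [Subgroup.mem_centralizer_iff]
  intro a ha
  exact hz.2.1 a (hAS ha)

/-- a nontrivial `p`-subgroup has a nontrivial `Ω₁(Z(S))`. -/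
theorem omegaZ_ne_bot [Finite G] {p : ℕ} [Fact p.Prime] {S : Subgroup G} (hS : IsPGroup p S)
    (hS1 : S ≠ ⊥) : omegaZ p S ≠ ⊥ := by
  have hnt : Nontrivial S := (Subgroup.nontrivial_iff_ne_bot S).mpr hS1
  have hcnt : Nontrivial (Subgroup.center S) := hS.center_nontrivial
  have hcp : IsPGroup p (Subgroup.center S) := hS.to_subgroup _
  obtain ⟨n, hn⟩ := hcp.exists_card_eq
  have hn0 : n ≠ 0 := by
    rintro rfl
    rw [pow_zero] at hn
    have := (Nat.card_eq_one_iff_unique.mp hn).1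
    exact not_subsingleton _ this
  have hdvd : p ∣ Nat.card (Subgroup.center S) := by rw [hn]; exact dvd_pow_self p hn0
  obtain ⟨z, hz⟩ := exists_prime_orderOf_dvd_card' (G := Subgroup.center S) p hdvd
  intro hb
  have hmem : ((z : S) : G) ∈ omegaZ p S := by
    refine ⟨(z : S).2, ?_, ?_⟩
    · intro s hs
      have h1 := Subgroup.mem_center_iff.mp z.2 ⟨s, hs⟩
      exact congrArg Subtype.val h1
    · have h1 : z ^ p = 1 := by rw [← hz]; exact pow_orderOf_eq_one z
      have h2 : ((z ^ p : Subgroup.center S) : S) = 1 := by rw [h1]; rfl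
      have h3 : (((z ^ p : Subgroup.center S) : S) : G) = 1 := by rw [h2]; rfl
      simpa using h3
  rw [hb, Subgroup.mem_bot] at hmem
  have hz1 : z = 1 := by
    apply Subtype.ext
    apply Subtype.ext
    exact hmem
  rw [hz1, orderOf_one] at hz
  exact (Fact.out : p.Prime).one_lt.ne hz

/-- Lemma Z: if `S` contains an element of order dividing `p` outside `A`, then
`|Ω₁(Z(S))| = p`. -/
theorem card_omegaZ [Finite G] {p : ℕ} [Fact p.Prime] {S A : Subgroup G} (hSp : IsPGroup p S)
    (hA : MaxEA p A) (hAcard : Nat.card A = p ^ 2) (hAS : A ≤ S)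
    (hs : ∃ s ∈ S, s ∉ A ∧ s ^ p = 1) : Nat.card (omegaZ p S) = p := by
  have hp : p.Prime := Fact.out
  have hle := omegaZ_le_of_maxEA hA hAS
  have hdvd : Nat.card (omegaZ p S) ∣ p ^ 2 := hAcard ▸ Subgroup.card_dvd_of_le hle
  obtain ⟨k, hk2, hk⟩ := (Nat.dvd_prime_pow hp).mp hdvd
  have hA1 : A ≠ ⊥ := by
    intro hb
    rw [hb, Subgroup.card_bot] at hAcard
    have : 1 < p ^ 2 := Nat.one_lt_pow (by norm_num) hp.one_lt
    omega
  have hS1 : S ≠ ⊥ := fun hb => hA1 (eq_bot_iff.mpr (hb ▸ hAS))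
  have hne := omegaZ_ne_bot hSp hS1
  have hk0 : k ≠ 0 := by
    rintro rfl
    rw [pow_zero] at hk
    exact hne (Subgroup.card_eq_one.mp hk)
  have hk2' : k ≠ 2 := by
    rintro rfl
    have heq : omegaZ p S = A := Subgroup.eq_of_le_of_card_ge hle (by rw [hk, hAcard])
    obtain ⟨s, hsS, hsA, hsp⟩ := hs
    apply hsA
    apply hA.mem_of_mem_centralizer _ hsp
    rw [Subgroup.mem_centralizer_iff]
    intro a ha
    rw [← heq] at ha
    exact (ha.2.1 s hsS).symm
  have hk1 : k = 1 := by omega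
  rw [hk, hk1, pow_one]

/-- a subgroup whose order is a proper divisor of `p ^ 3` is commutative. -/
theorem comm_of_card_lt_cube [Finite G] {p : ℕ} [Fact p.Prime] {C : Subgroup G}
    (hdvd : Nat.card C ∣ p ^ 3) (hlt : Nat.card C < p ^ 3) :
    ∀ x ∈ C, ∀ y ∈ C, x * y = y * x := by
  have hp : p.Prime := Fact.out
  obtain ⟨k, hk3, hk⟩ := (Nat.dvd_prime_pow hp).mp hdvd
  have hk2 : k ≤ 2 := by
    by_contra hcon
    have : k = 3 := by omega
    rw [this] at hk
    omega
  have hcomm : ∀ a b : C, a * b = b * a := by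
    rcases (by omega : k = 0 ∨ k = 1 ∨ k = 2) with rfl | rfl | rfl
    · rw [pow_zero] at hk
      have := (Nat.card_eq_one_iff_unique.mp hk).1
      intro a b
      rw [Subsingleton.elim a 1, Subsingleton.elim b 1]
    · rw [pow_one] at hk
      have hc : IsCyclic C := isCyclic_of_prime_card hk
      intro a b
      exact (IsCyclic.commGroup (α := C)).mul_comm a b
    · intro a b
      exact (IsPGroup.isMulCommutative_of_card_eq_prime_sq hk).is_comm.comm a b
  intro x hx y hy
  exact congrArg Subtype.val (hcomm ⟨x, hx⟩ ⟨y, hy⟩)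

/-- Case 1 of (PG): in a central product `S = P₁ P₂`, `|P₁| = p ^ 3`, `P₂` cyclic, the
centralizer of a noncentral element is abelian. -/
theorem comm_of_central_product [Finite G] {p : ℕ} [Fact p.Prime] {S P₁ P₂ : Subgroup G}
    (hsup : P₁ ⊔ P₂ = S) (hcomm : ∀ a ∈ P₁, ∀ b ∈ P₂, a * b = b * a)
    (hP₁ : Nat.card P₁ = p ^ 3) (hP₂ : IsCyclic P₂) {a : G} (haS : a ∈ S)
    (hnc : ∃ s ∈ S, a * s ≠ s * a) :
    ∀ u ∈ S, ∀ v ∈ S, u * a = a * u → v * a = a * v → u * v = v * u := by
  have hP₂c : ∀ y ∈ P₂, ∀ y' ∈ P₂, y * y' = y' * y := by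
    intro y hy y' hy'
    have h := (IsCyclic.commGroup (α := P₂)).mul_comm ⟨y, hy⟩ ⟨y', hy'⟩
    exact congrArg Subtype.val h
  have hdec : ∀ s ∈ S, ∃ x ∈ P₁, ∃ y ∈ P₂, s = x * y := by
    intro s hs
    rw [← hsup] at hs
    exact mem_sup_of_commute' hcomm hs
  -- multiplication in the central product
  have hmul : ∀ x ∈ P₁, ∀ y ∈ P₂, ∀ x' ∈ P₁, ∀ y' ∈ P₂,
      (x * y) * (x' * y') = (x * x') * (y * y') := by
    intro x _ y hy x' hx' y' _
    calc (x * y) * (x' * y') = x * (y * x') * y' := by group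
      _ = x * (x' * y) * y' := by rw [(hcomm x' hx' y hy).symm]
      _ = (x * x') * (y * y') := by group
  -- commuting of products is commuting of the `P₁`-parts
  have hiff : ∀ x ∈ P₁, ∀ y ∈ P₂, ∀ x' ∈ P₁, ∀ y' ∈ P₂,
      ((x * y) * (x' * y') = (x' * y') * (x * y) ↔ x * x' = x' * x) := by
    intro x hx y hy x' hx' y' hy'
    rw [hmul x hx y hy x' hx' y' hy', hmul x' hx' y' hy' x hx y hy, hP₂c y hy y' hy']
    exact mul_left_inj _
  obtain ⟨xa, hxa, ya, hya, rfl⟩ := hdec a haS
  obtain ⟨s, hsS, hsa⟩ := hnc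
  obtain ⟨xs, hxs, ys, hys, rfl⟩ := hdec s hsS
  have hxas : xa * xs ≠ xs * xa := fun h => hsa ((hiff xa hxa ya hya xs hxs ys hys).mpr h)
  -- `C = C_{P₁}(xa)` is a proper subgroup of `P₁`
  set C := P₁ ⊓ Subgroup.centralizer ({xa} : Set G) with hC
  have hCP : C ≤ P₁ := inf_le_left
  have hCne : C ≠ P₁ := by
    intro h
    have h1 : xs ∈ C := h ▸ hxs
    have h2 := Subgroup.mem_centralizer_iff.mp (Subgroup.mem_inf.mp h1).2 xa rfl
    exact hxas h2
  have hCdvd : Nat.card C ∣ p ^ 3 := hP₁ ▸ Subgroup.card_dvd_of_le hCP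
  have hClt : Nat.card C < p ^ 3 := by
    rw [← hP₁]
    by_contra hcon
    push Not at hcon
    exact hCne (Subgroup.eq_of_le_of_card_ge hCP hcon)
  have hCc := comm_of_card_lt_cube hCdvd hClt
  intro u hu v hv hua hva
  obtain ⟨xu, hxu, yu, hyu, rfl⟩ := hdec u hu
  obtain ⟨xv, hxv, yv, hyv, rfl⟩ := hdec v hv
  have h1 : xu * xa = xa * xu := (hiff xu hxu yu hyu xa hxa ya hya).mp hua
  have h2 : xv * xa = xa * xv := (hiff xv hxv yv hyv xa hxa ya hya).mp hva
  have hxuC : xu ∈ C := Subgroup.mem_inf.mpr ⟨hxu, by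
    rw [Subgroup.mem_centralizer_iff]
    intro z hz
    rw [Set.mem_singleton_iff] at hz
    rw [hz]; exact h1.symm⟩
  have hxvC : xv ∈ C := Subgroup.mem_inf.mpr ⟨hxv, by
    rw [Subgroup.mem_centralizer_iff]
    intro z hz
    rw [Set.mem_singleton_iff] at hz
    rw [hz]; exact h2.symm⟩
  exact (hiff xu hxu yu hyu xv hxv yv hyv).mpr (hCc xu hxuC xv hxvC)

/-- Case 2 of (PG), abstract form: in a `p`-group `R` (`p` odd) of rank at least three, the
centralizer of a maximal elementary abelian subgroup of order `p ^ 2` is abelian. -/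
theorem comm_centralizer_of_rank3 {R : Type*} [Group R] [Finite R] (p : ℕ) [Fact p.Prime]
    (hp : p ≠ 2) (hR : IsPGroup p R) (hr : ¬ PRankLE p 2 R) (E : Subgroup R)
    (hE : IsElementaryAbelian p E) (hE2 : Nat.card E = p ^ 2)
    (hEmax : ∀ B : Subgroup R, IsElementaryAbelian p B → E ≤ B → B = E) :
    ∀ u ∈ Subgroup.centralizer (E : Set R), ∀ v ∈ Subgroup.centralizer (E : Set R),
      u * v = v * u := by
  have hpp : p.Prime := Fact.out
  have hMA : MaxEA p E := ⟨hE, hEmax⟩
  obtain ⟨h1, h2, -, hTchar, hTidx⟩ := Cfsg.Agent.S1453.result p hp hR hr E hE hE2 hEmax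
  set W := Subgroup.closure {x : R | x ∈ Subgroup.upperCentralSeries R 2 ∧ x ^ p = 1} with hW
  set T := Subgroup.centralizer (W : Set R) with hT
  -- `Z = Ω₁(Z(R))`
  have hZeq : Subgroup.closure {x : R | x ∈ Subgroup.center R ∧ x ^ p = 1} =
      omegaZ p (⊤ : Subgroup R) := by
    apply le_antisymm
    · rw [Subgroup.closure_le]
      intro x hx
      exact ⟨Subgroup.mem_top x, fun s _ => Subgroup.mem_center_iff.mp hx.1 s, hx.2⟩
    · intro z hz
      apply Subgroup.subset_closure
      exact ⟨Subgroup.mem_center_iff.mpr (fun g => hz.2.1 g (Subgroup.mem_top g)), hz.2.2⟩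
  rw [hZeq] at h2
  set Z := omegaZ p (⊤ : Subgroup R) with hZ
  have hZE : Z ≤ E := omegaZ_le_of_maxEA hMA le_top
  have hZT : Z ≤ T := by
    intro z hz
    rw [hT, Subgroup.mem_centralizer_iff]
    intro w _
    exact hz.2.1 w (Subgroup.mem_top w)
  obtain ⟨a, haE, haT⟩ := SetLike.not_le_iff_exists.mp h1
  have haZ : a ∉ Z := fun h => haT (hZT h)
  -- `E ∩ T = Z`
  have hET : E ⊓ T = Z := by
    symm
    apply Subgroup.eq_of_le_of_card_ge (le_inf hZE hZT)
    rw [h2]
    have hdvd : Nat.card (E ⊓ T : Subgroup R) ∣ p ^ 2 := hE2 ▸ Subgroup.card_dvd_of_le inf_le_left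
    obtain ⟨k, hk2, hk⟩ := (Nat.dvd_prime_pow hpp).mp hdvd
    have hk2' : k ≠ 2 := by
      rintro rfl
      have heq : E ⊓ T = E := Subgroup.eq_of_le_of_card_ge inf_le_left (by rw [hk, hE2])
      have haET : a ∈ E ⊓ T := by rw [heq]; exact haE
      exact haT haET.2
    rw [hk]
    calc p ^ k ≤ p ^ 1 := Nat.pow_le_pow_right hpp.pos (by omega)
      _ = p := pow_one p
  -- the key claim
  have hkey : ∀ y ∈ T, a * y = y * a → y ^ p = 1 → y ∈ Z := by
    intro y hyT hya hyp
    set F := E ⊓ Subgroup.centralizer ({y} : Set R) with hF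
    have hZF : Z ≤ F := by
      refine le_inf hZE ?_
      intro z hz
      rw [Subgroup.mem_centralizer_iff]
      intro w hw
      rw [Set.mem_singleton_iff] at hw
      rw [hw]
      exact hz.2.1 y (Subgroup.mem_top y)
    have haF : a ∈ F := by
      refine Subgroup.mem_inf.mpr ⟨haE, ?_⟩
      rw [Subgroup.mem_centralizer_iff]
      intro w hw
      rw [Set.mem_singleton_iff] at hw
      rw [hw]
      exact hya.symm
    have hFE : F = E := by
      apply Subgroup.eq_of_le_of_card_ge inf_le_left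
      have hdvd : Nat.card F ∣ p ^ 2 := hE2 ▸ Subgroup.card_dvd_of_le inf_le_left
      obtain ⟨k, hk2, hk⟩ := (Nat.dvd_prime_pow hpp).mp hdvd
      have hlt : Nat.card Z < Nat.card F := by
        apply Cfsg.Agent.Lib.Helper10.BG.card_lt_of_le_of_ne hZF
        intro h
        exact haZ (h ▸ haF)
      rw [h2, hk] at hlt
      have hk1 : 1 < k := by
        by_contra hcon
        have : p ^ k ≤ p ^ 1 := Nat.pow_le_pow_right hpp.pos (by omega)
        rw [pow_one] at this
        omega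
      have : k = 2 := by omega
      rw [hE2, hk, this]
    have hyE : y ∈ Subgroup.centralizer (E : Set R) := by
      rw [Subgroup.mem_centralizer_iff]
      intro e he
      have he' : e ∈ F := hFE ▸ he
      exact (Subgroup.mem_centralizer_iff.mp (Subgroup.mem_inf.mp he').2 y rfl).symm
    have hyE' : y ∈ E := hMA.mem_of_mem_centralizer hyE hyp
    rw [← hET]
    exact Subgroup.mem_inf.mpr ⟨hyE', hyT⟩
  -- `C = C_T(a)` is cyclic
  set C := T ⊓ Subgroup.centralizer ({a} : Set R) with hC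
  have hCp : IsPGroup p C := hR.to_subgroup C
  have hCr : PRankLE p 1 C := by
    intro B hBc hBp
    rw [pow_one, ← h2]
    have hmem : ∀ b : B, (((b : C) : R)) ∈ Z := by
      intro b
      have hbC := (b : C).2
      have hbT : ((b : C) : R) ∈ T := (Subgroup.mem_inf.mp hbC).1
      have hba : a * ((b : C) : R) = ((b : C) : R) * a :=
        (Subgroup.mem_centralizer_iff.mp (Subgroup.mem_inf.mp hbC).2 a rfl)
      have hbp : ((b : C) : R) ^ p = 1 := by
        have h3 := hBp (b : C) b.2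
        have h4 : (((b : C) ^ p : C) : R) = 1 := by rw [h3]; rfl
        simpa using h4
      exact hkey _ hbT hba hbp
    apply Nat.card_le_card_of_injective (fun b : B => (⟨((b : C) : R), hmem b⟩ : Z))
    intro b b' hbb
    apply Subtype.ext
    apply Subtype.ext
    have h5 : ((⟨((b : C) : R), hmem b⟩ : Z) : R) = ((⟨((b' : C) : R), hmem b'⟩ : Z) : R) :=
      congrArg Subtype.val hbb
    exact h5
  have hCcyc : IsCyclic C := by
    by_contra hnc
    exact not_pRankLE_one_of_not_isCyclic hp hCp hnc hCr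
  have hCc : ∀ x ∈ C, ∀ y ∈ C, x * y = y * x := by
    intro x hx y hy
    have h := (IsCyclic.commGroup (α := C)).mul_comm ⟨x, hx⟩ ⟨y, hy⟩
    exact congrArg Subtype.val h
  -- decomposition `R = ⟨a⟩ T`
  have hTn : T.Normal := Subgroup.normal_of_characteristic T
  have hqcard : Nat.card (R ⧸ T) = p := by rw [← Subgroup.index_eq_card]; exact hTidx
  have hπa : (QuotientGroup.mk' T a) ≠ 1 := by
    intro h
    rw [QuotientGroup.mk'_apply, QuotientGroup.eq_one_iff] at h
    exact haT h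
  have hdec : ∀ u : R, u * a = a * u → ∃ i : ℤ, ∃ t ∈ C, u = a ^ i * t := by
    intro u hua
    have h3 : QuotientGroup.mk' T u ∈ Subgroup.zpowers (QuotientGroup.mk' T a) :=
      mem_zpowers_of_prime_card hqcard hπa
    obtain ⟨i, hi⟩ := Subgroup.mem_zpowers_iff.mp h3
    refine ⟨i, (a ^ i)⁻¹ * u, ?_, by group⟩
    refine Subgroup.mem_inf.mpr ⟨?_, ?_⟩
    · rw [← map_zpow] at hi
      exact QuotientGroup.eq.mp hi
    · rw [Subgroup.mem_centralizer_iff]
      intro w hw
      rw [Set.mem_singleton_iff] at hw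
      rw [hw]
      have hc1 : Commute a u := hua.symm
      have hc2 : Commute a ((a ^ i)⁻¹) := ((Commute.refl a).zpow_right i).inv_right
      exact (hc2.mul_right hc1).eq
  intro u hu v hv
  have hua : u * a = a * u := (Subgroup.mem_centralizer_iff.mp hu a haE).symm
  have hva : v * a = a * v := (Subgroup.mem_centralizer_iff.mp hv a haE).symm
  obtain ⟨i, t, ht, rfl⟩ := hdec u hua
  obtain ⟨j, t', ht', rfl⟩ := hdec v hva
  have hta : Commute t a :=
    (Subgroup.mem_centralizer_iff.mp (Subgroup.mem_inf.mp ht).2 a rfl).symm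
  have ht'a : Commute t' a :=
    (Subgroup.mem_centralizer_iff.mp (Subgroup.mem_inf.mp ht').2 a rfl).symm
  have htt' : Commute t t' := hCc t ht t' ht'
  have hc1 : Commute (a ^ i) (a ^ j) := (Commute.refl a).zpow_zpow i j
  have hc2 : Commute (a ^ i) t' := (ht'a.zpow_right i).symm
  have hc3 : Commute t (a ^ j) := hta.zpow_right j
  exact ((hc1.mul_right hc2).mul_left (hc3.mul_right htt')).eq

/-- a maximal elementary abelian subgroup of `G` inside `H` is maximal elementary abelian in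
the group `H`. -/
theorem maxEA_subgroupOf {p : ℕ} {A H : Subgroup G} (hA : MaxEA p A) (hAH : A ≤ H) :
    IsElementaryAbelian p (A.subgroupOf H) ∧
      ∀ B : Subgroup H, IsElementaryAbelian p B → A.subgroupOf H ≤ B → B = A.subgroupOf H := by
  constructor
  · refine ⟨?_, ?_⟩
    · refine ⟨⟨fun a b => ?_⟩⟩
      apply Subtype.ext
      apply Subtype.ext
      have h := hA.1.1.is_comm.comm (⟨((a : H) : G), a.2⟩ : A) ⟨((b : H) : G), b.2⟩
      have h2 : ((a : H) : G) * ((b : H) : G) = ((b : H) : G) * ((a : H) : G) :=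
        congrArg Subtype.val h
      simpa using h2
    · intro a ha
      apply Subtype.ext
      simp only [Subgroup.coe_pow, Subgroup.coe_one]
      exact hA.1.2 _ (Subgroup.mem_subgroupOf.mp ha)
  · intro B hB hle
    have hB' : IsElementaryAbelian p (B.map H.subtype) := by
      refine ⟨?_, ?_⟩
      · refine ⟨⟨?_⟩⟩
        rintro ⟨a, ha⟩ ⟨b, hb⟩
        obtain ⟨a', ha', rfl⟩ := Subgroup.mem_map.mp ha
        obtain ⟨b', hb', rfl⟩ := Subgroup.mem_map.mp hb
        apply Subtype.ext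
        have h := hB.1.is_comm.comm (⟨a', ha'⟩ : B) ⟨b', hb'⟩
        have h2 : a' * b' = b' * a' := congrArg Subtype.val h
        show H.subtype a' * H.subtype b' = H.subtype b' * H.subtype a'
        rw [← map_mul, ← map_mul, h2]
      · intro a ha
        obtain ⟨a', ha', rfl⟩ := Subgroup.mem_map.mp ha
        rw [← map_pow, hB.2 a' ha', map_one]
    have hle' : A ≤ B.map H.subtype := by
      intro a ha
      exact Subgroup.mem_map.mpr ⟨⟨a, hAH ha⟩, hle (Subgroup.mem_subgroupOf.mpr ha), rfl⟩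
    have h3 := hA.2 _ hB' hle'
    apply le_antisymm _ hle
    intro b hb
    rw [Subgroup.mem_subgroupOf, ← h3]
    exact Subgroup.mem_map.mpr ⟨b, hb, rfl⟩

/-- (PG): a Sylow `p`-subgroup `S` of `G` containing a maximal elementary abelian subgroup `A`
of order `p ^ 2` is abelian, or `|Ω₁(Z(S))| = p` and `C_S(A)` is abelian. -/
theorem PG [Finite G] (hG : IsMinSimpleOddOrder G) {p : ℕ} [Fact p.Prime] {S A : Subgroup G}
    (hS : IsSylowIn p S ⊤) (hA : MaxEA p A) (hAcard : Nat.card A = p ^ 2) (hAS : A ≤ S) :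
    (∀ u ∈ S, ∀ v ∈ S, u * v = v * u) ∨
      (Nat.card (omegaZ p S) = p ∧
        ∀ u ∈ S ⊓ Subgroup.centralizer (A : Set G), ∀ v ∈ S ⊓ Subgroup.centralizer (A : Set G),
          u * v = v * u) := by
  have hp : p.Prime := Fact.out
  have hSp : IsPGroup p S := hS.isPGroup
  have hpG : p ∣ Nat.card G := by
    have h1 : p ∣ Nat.card A := by rw [hAcard]; exact dvd_pow_self p (by norm_num)
    exact h1.trans (Subgroup.card_subgroup_dvd_card A)
  have hp2 : p ≠ 2 := prime_ne_two hG hpG
  have hlt : p < p ^ 2 := by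
    have := hp.one_lt
    nlinarith
  by_cases hr : PRankLE p 2 ↥S
  · -- rank at most two
    have hcoe : ((hS.toSylowTop : Sylow p G) : Subgroup G) = S := hS.coe_toSylowTop
    have h12 := Cfsg.Agent.S1412.result hG p hS.toSylowTop (by rw [hcoe]; exact hr)
    rw [hcoe] at h12
    rcases h12 with hab | ⟨P₁, P₂, hsup, hcomm, -, hP₁card, hP₁exp, hP₂cyc, -⟩
    · left
      intro u hu v hv
      exact congrArg Subtype.val (hab.is_comm.comm ⟨u, hu⟩ ⟨v, hv⟩)
    · right
      have hP₁S : P₁ ≤ S := hsup ▸ le_sup_left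
      have hs : ∃ s ∈ S, s ∉ A ∧ s ^ p = 1 := by
        have hnle : ¬ P₁ ≤ A := by
          intro hle
          have h1 := Subgroup.card_le_of_le hle
          rw [hP₁card, hAcard] at h1
          have h2 : p ^ 2 < p ^ 3 := Nat.pow_lt_pow_right hp.one_lt (by norm_num)
          omega
        obtain ⟨s, hs1, hsA⟩ := SetLike.not_le_iff_exists.mp hnle
        refine ⟨s, hP₁S hs1, hsA, ?_⟩
        have h := Monoid.pow_exponent_eq_one (⟨s, hs1⟩ : P₁)
        rw [hP₁exp] at h
        have h2 : (((⟨s, hs1⟩ : P₁) ^ p : P₁) : G) = 1 := by rw [h]; rfl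
        simpa using h2
      have hcardZ := card_omegaZ hSp hA hAcard hAS hs
      refine ⟨hcardZ, ?_⟩
      have hex : ∃ a ∈ A, ∃ s ∈ S, a * s ≠ s * a := by
        by_contra hcon
        push Not at hcon
        have hAZ : A ≤ omegaZ p S :=
          fun a ha => ⟨hAS ha, fun s hs => (hcon a ha s hs).symm, hA.1.2 a ha⟩
        have h1 := Subgroup.card_le_of_le hAZ
        rw [hAcard, hcardZ] at h1
        omega
      obtain ⟨a, haA, hnc⟩ := hex
      have key := comm_of_central_product hsup hcomm hP₁card hP₂cyc (hAS haA) hnc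
      intro u hu v hv
      exact key u hu.1 v hv.1 (Subgroup.mem_centralizer_iff.mp hu.2 a haA).symm
        (Subgroup.mem_centralizer_iff.mp hv.2 a haA).symm
  · -- rank at least three
    right
    have hs : ∃ s ∈ S, s ∉ A ∧ s ^ p = 1 := by
      have hr' := hr
      unfold PRankLE at hr'
      push Not at hr'
      obtain ⟨B, -, hBp, hBcard⟩ := hr'
      have hnle : ¬ B.map S.subtype ≤ A := by
        intro hle
        have h1 := Subgroup.card_le_of_le hle
        rw [Subgroup.card_map_of_injective S.subtype_injective, hAcard] at h1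
        omega
      obtain ⟨s, hsB, hsA⟩ := SetLike.not_le_iff_exists.mp hnle
      obtain ⟨b, hb, rfl⟩ := Subgroup.mem_map.mp hsB
      refine ⟨b, b.2, hsA, ?_⟩
      have h := hBp b hb
      have h2 : ((b ^ p : S) : G) = 1 := by rw [h]; rfl
      simpa using h2
    refine ⟨card_omegaZ hSp hA hAcard hAS hs, ?_⟩
    obtain ⟨hE, hEmax⟩ := maxEA_subgroupOf hA hAS
    have hE2 : Nat.card (A.subgroupOf S) = p ^ 2 := by
      rw [← hAcard]
      exact Nat.card_congr (Subgroup.subgroupOfEquivOfLe hAS).toEquiv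
    have key := comm_centralizer_of_rank3 p hp2 (hSp : IsPGroup p ↥S) hr (A.subgroupOf S) hE hE2
      hEmax
    have hmem : ∀ u ∈ S ⊓ Subgroup.centralizer (A : Set G), ∀ hu : u ∈ S,
        (⟨u, hu⟩ : S) ∈ Subgroup.centralizer ((A.subgroupOf S : Subgroup S) : Set S) := by
      intro u hu huS
      rw [Subgroup.mem_centralizer_iff]
      intro e he
      apply Subtype.ext
      exact Subgroup.mem_centralizer_iff.mp hu.2 e (Subgroup.mem_subgroupOf.mp he)
    intro u hu v hv
    exact congrArg Subtype.val (key _ (hmem u hu hu.1) _ (hmem v hv hv.1))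

end Cfsg.Agent.Lib.Helper29.BGExc
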