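import Mathlib
import Cfsg.Agent.Lib.Helper9.BGExc10
import Cfsg.Agent.Lib.Helper10.BGEleven
import Cfsg.Agent.Lib.Helper10.BGUniq3
import Cfsg.Agent.Lib.Helper11.Semidirect
import Cfsg.Agent.Lib.Helper1.Nilpotent
import Cfsg.Agent.Lib.Lead.BGTrans5
import Cfsg.Agent.S1394
import Cfsg.Agent.S1395
import Cfsg.Agent.S1414

/-!
# Helper29 library: Steps 5 to 7 of B & G Theorem 11.7

The configuration `Cfg` (helper9, `Lib/Helper9/BGExc10.lean`) reached after Steps 1 to 4 of the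
proof of Theorem 11.7 is impossible.
-/

set_option autoImplicit false
set_option linter.style.haveILetI false
set_option linter.unusedSectionVars false

open Cfsg
open scoped commutatorElement
open Cfsg.Agent.Lib.Helper10.BG
open Cfsg.Agent.Lib.Helper1 (CoprimeAct)
open Cfsg.Agent.Lib.Lead.Trans (Inv MaxInv)
open Cfsg.Agent.Lib.Helper9.BGExc

namespace Cfsg.Agent.Lib.Helper29.BGExcCfg

variable {G : Type*} [Group G] [Finite G]

/-- a Sylow `q`-subgroup of `H` whose normalizer lies in `H` witnesses `q ∈ σ(H)`. -/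
theorem mem_sigma_of_sylow {H S : Subgroup G} {q : ℕ} [Fact q.Prime] (hS : IsSylowIn q S H)
    (hN : Subgroup.normalizer (S : Set G) ≤ H) (hqH : q ∣ Nat.card H) : q ∈ sigma H := by
  refine ⟨Fact.out, hqH, hS.toSylow, ?_⟩
  have h1 : ((hS.toSylow : Sylow q ↥H) : Subgroup H).map H.subtype = S := by
    rw [hS.coe_toSylow, Subgroup.map_subgroupOf_eq_of_le hS.le]
  rw [h1]
  exact hN

variable {p r : ℕ} [Fact p.Prime] [Fact r.Prime] {M A₀ A B₀ B Pr : Subgroup G}

theorem normalizer_Pr_le (hG : IsMinSimpleOddOrder G) (h114 : Thm114 G)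
    (h : Cfg M p A₀ A r B₀ B Pr) :
    Subgroup.normalizer (Pr : Set G) ≤ Subgroup.normalizer (B : Set G) :=
  h.excr.normalizer_sylow_le hG h114 h.sylow h.le

theorem line_ne_bot (h : Cfg M p A₀ A r B₀ B Pr) :
    (B ⊓ Subgroup.centralizer (A : Set G) : Subgroup G) ≠ ⊥ :=
  ne_bot_of_card_prime h.cardLine

theorem dvd_card_of_le (h : Cfg M p A₀ A r B₀ B Pr) {H : Subgroup G} (hBH : B ≤ H) :
    r ∣ Nat.card H :=
  (dvd_pow_self r two_ne_zero).trans (h.excr.card ▸ Subgroup.card_dvd_of_le hBH)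

/-- Step 5: `r ∈ σ(H)`. -/
theorem step5 (hG : IsMinSimpleOddOrder G) (h114 : Thm114 G)
    (h : Cfg M p A₀ A r B₀ B Pr) {H : Subgroup G} (hH : IsCoatom H)
    (hNH : Subgroup.normalizer ((B ⊓ Subgroup.centralizer (A : Set G) : Subgroup G) : Set G) ≤ H) :
    r ∈ sigma H := by
  have hr : r.Prime := Fact.out
  have hB₂p : IsPGroup r (B ⊓ Subgroup.centralizer (A : Set G) : Subgroup G) :=
    h.excr.isPGroup.to_le inf_le_left
  have hNB : Subgroup.normalizer (B : Set G) ≤ H := h.line.trans hNH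
  have hBH : B ≤ H := Subgroup.le_normalizer.trans hNB
  rcases mem_sigma_or_tau2_of_normalizer_le hG hH hB₂p (line_ne_bot h) hNH with h1 | h1
  · exact h1
  · exfalso
    have hexc : Exc H r (B ⊓ Subgroup.centralizer (A : Set G)) B :=
      ⟨hH, h1.2.1, inf_le_left, hBH, h.cardLine, h.excr.card, h.excr.elem, hNH⟩
    have hNPr := normalizer_Pr_le hG h114 h
    have hPrH : Pr ≤ H := (Subgroup.le_normalizer.trans hNPr).trans hNB
    obtain ⟨P', hP', hPrP'⟩ := exists_isSylowIn_ge hPrH h.sylow.isPGroup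
    have hab := h114 H r _ B P' hr hexc hP'
    have hP'C : P' ≤ Subgroup.centralizer (B : Set G) := by
      intro x hx
      rw [Subgroup.mem_centralizer_iff]
      intro b hb
      exact hab b (hPrP' (h.le hb)) x hx
    have hP'M : P' ≤ M := hP'C.trans h.excr.centralizer_le
    have heq : P' = Pr := h.sylow.eq_of_le hP'M hP'.isPGroup hPrP'
    rw [heq] at hP'
    exact h1.2.1 (mem_sigma_of_sylow hP' (hNPr.trans hNB) (dvd_card_of_le h hBH))

/-- Step 6: `p ∉ σ(H)`. -/
theorem step6 (hG : IsMinSimpleOddOrder G)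
    (h : Cfg M p A₀ A r B₀ B Pr) {H : Subgroup G} (hH : IsCoatom H)
    (hNH : Subgroup.normalizer ((B ⊓ Subgroup.centralizer (A : Set G) : Subgroup G) : Set G) ≤ H)
    (hrH : r ∈ sigma H) : p ∉ sigma H := by
  have hr : r.Prime := Fact.out
  intro hpH
  have hNB : Subgroup.normalizer (B : Set G) ≤ H := h.line.trans hNH
  have hBH : B ≤ H := Subgroup.le_normalizer.trans hNB
  have hAH : A ≤ H := h.normB.trans hNB
  have hAσ : A ≤ sigmaCore H := pgroup_le_sigmaCore hG hH hpH h.exc.isPGroup hAH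
  have hBσ : B ≤ sigmaCore H := pgroup_le_sigmaCore hG hH hrH h.excr.isPGroup hBH
  have hrβ : r ∉ beta H := fun hβ => h.excr.not_ideal hG hβ.2
  have hnpc : HasNormalPComplement r ↥(sigmaCore H) :=
    ((Cfsg.Agent.S1414.result hG H hH).2.2.2.2 r hr (dvd_card_of_le h hBH) hrβ).2.1
  have hAT : A ≤ ppCoreOf r (sigmaCore H) :=
    pgroup_le_ppCoreOf_of_hasNormalPComplement h.lt.ne hnpc hAσ h.exc.isPGroup
  have hbot : ppCoreOf r (sigmaCore H) ⊓ B₀ = ⊥ := by
    apply inf_eq_bot_of_coprime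
    rw [h.excr.card₀]
    exact coprime_card_ppCoreOf r _
  apply h.act
  intro a ha
  rw [Subgroup.mem_centralizer_iff]
  intro b hb
  have hbσ : b ∈ sigmaCore H := hBσ (h.excr.le₀ hb)
  have hbN : b ∈ Subgroup.normalizer ((ppCoreOf r (sigmaCore H) : Subgroup G) : Set G) :=
    le_normalizer_ppCoreOf r _ hbσ
  have h1 : b * a * b⁻¹ * a⁻¹ ∈ ppCoreOf r (sigmaCore H) :=
    Subgroup.mul_mem _ ((Subgroup.mem_normalizer_iff.mp hbN a).mp (hAT ha))
      (Subgroup.inv_mem _ (hAT ha))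
  have haN : a ∈ Subgroup.normalizer (B₀ : Set G) := h.normal (h.exc.le ha)
  have h2 : b * a * b⁻¹ * a⁻¹ ∈ B₀ := by
    have h3 : a * b⁻¹ * a⁻¹ ∈ B₀ :=
      (Subgroup.mem_normalizer_iff.mp haN b⁻¹).mp (Subgroup.inv_mem _ hb)
    have : b * a * b⁻¹ * a⁻¹ = b * (a * b⁻¹ * a⁻¹) := by group
    rw [this]
    exact Subgroup.mul_mem _ hb h3
  have h4 : b * a * b⁻¹ * a⁻¹ ∈ ppCoreOf r (sigmaCore H) ⊓ B₀ := ⟨h1, h2⟩
  rw [hbot, Subgroup.mem_bot] at h4
  calc b * a = (b * a * b⁻¹ * a⁻¹) * (a * b) := by group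
    _ = a * b := by rw [h4, one_mul]

/-- Step 7 (i): `C_G(A) ≤ N_G(B)`. -/
theorem step7i (hG : IsMinSimpleOddOrder G) (h114 : Thm114 G)
    (h : Cfg M p A₀ A r B₀ B Pr) :
    Subgroup.centralizer (A : Set G) ≤ Subgroup.normalizer (B : Set G) := by
  have hp : p.Prime := Fact.out
  have hr : r.Prime := Fact.out
  have hM := h.exc.coatom
  have hMσN : M ≤ Subgroup.normalizer (sigmaCore M : Set G) := le_normalizer_sigmaCore M
  have hYM : sigmaCore M ⊔ B ≤ M := sup_le (sigmaCore_le M) h.excr.le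
  have hBY : B ≤ sigmaCore M ⊔ B := le_sup_right
  have hσY : sigmaCore M ≤ sigmaCore M ⊔ B := le_sup_left
  have hσr : (Nat.card (sigmaCore M)).Coprime r := coprime_card_sigmaCore hG hM hr h.excr.notσ
  have hσp : (Nat.card (sigmaCore M)).Coprime p := coprime_card_sigmaCore hG hM hp h.exc.notσ
  have hσB : sigmaCore M ⊓ B = ⊥ := by
    apply inf_eq_bot_of_coprime
    rw [h.excr.card]
    exact Nat.Coprime.pow_right 2 hσr
  have hYcard : Nat.card (sigmaCore M ⊔ B : Subgroup G) = Nat.card (sigmaCore M) * r ^ 2 := by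
    rw [Cfsg.Agent.Lib.Helper11.card_sup_eq (sigmaCore M) B (h.excr.le.trans hMσN) hσB,
      h.excr.card]
  have hrp : (r ^ 2).Coprime p :=
    Nat.Coprime.pow_left 2 ((Nat.coprime_primes hr hp).mpr h.lt.ne')
  have hYp : (Nat.card (sigmaCore M ⊔ B : Subgroup G)).Coprime p := by
    rw [hYcard]
    exact Nat.Coprime.mul_left hσp hrp
  have hAY : A ≤ Subgroup.normalizer ((sigmaCore M ⊔ B : Subgroup G) : Set G) :=
    h.exc.le.trans h.sup
  have hact : CoprimeAct A (sigmaCore M ⊔ B) := h.exc.coprimeAct hG hAY hYp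
  -- `B` is a Sylow `r`-subgroup of `Y`
  have hBS : IsSylowIn r B (sigmaCore M ⊔ B) := by
    refine ⟨hBY, h.excr.isPGroup, ?_⟩
    intro Q hQY hQ hBQ
    symm
    apply Subgroup.eq_of_le_of_card_ge hBQ
    obtain ⟨n, hn⟩ := hQ.exists_card_eq
    have h1 : r ^ n ∣ Nat.card (sigmaCore M) * r ^ 2 := by
      rw [← hn, ← hYcard]
      exact Subgroup.card_dvd_of_le hQY
    have h2 : r ^ n ∣ r ^ 2 :=
      Nat.Coprime.dvd_of_dvd_mul_left (Nat.Coprime.pow_left n hσr.symm) h1
    rw [hn, h.excr.card]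
    exact Nat.le_of_dvd (pow_pos hr.pos 2) h2
  -- `D = C_Y(A) ≤ B`
  have hD : (sigmaCore M ⊔ B) ⊓ Subgroup.centralizer (A : Set G) ≤ B := by
    have hDσ : sigmaCore M ⊓ ((sigmaCore M ⊔ B) ⊓ Subgroup.centralizer (A : Set G)) = ⊥ := by
      rw [eq_bot_iff, ← h.exc.centralizer_regular hG h114]
      exact le_inf inf_le_left (inf_le_right.trans inf_le_right)
    have hDN : (sigmaCore M ⊔ B) ⊓ Subgroup.centralizer (A : Set G) ≤
        Subgroup.normalizer (sigmaCore M : Set G) := (inf_le_left.trans hYM).trans hMσN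
    have hDcard : Nat.card ((sigmaCore M ⊔ B) ⊓ Subgroup.centralizer (A : Set G) : Subgroup G)
        ∣ r ^ 2 := by
      have h1 := Cfsg.Agent.Lib.Helper11.card_sup_eq (sigmaCore M) _ hDN hDσ
      have h2 : Nat.card (sigmaCore M ⊔
          ((sigmaCore M ⊔ B) ⊓ Subgroup.centralizer (A : Set G)) : Subgroup G) ∣
          Nat.card (sigmaCore M ⊔ B : Subgroup G) :=
        Subgroup.card_dvd_of_le (sup_le hσY inf_le_left)
      rw [h1, hYcard] at h2
      exact Nat.dvd_of_mul_dvd_mul_left Nat.card_pos h2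
    have hDr : IsPGroup r ((sigmaCore M ⊔ B) ⊓ Subgroup.centralizer (A : Set G) : Subgroup G) := by
      obtain ⟨k, -, hk⟩ := (Nat.dvd_prime_pow hr).mp hDcard
      exact IsPGroup.of_card hk
    have hAD : A ≤ Subgroup.normalizer
        (((sigmaCore M ⊔ B) ⊓ Subgroup.centralizer (A : Set G) : Subgroup G) : Set G) := by
      refine le_trans ?_ (Subgroup.centralizer_le_normalizer _)
      intro a ha
      rw [Subgroup.mem_centralizer_iff]
      intro d hd
      exact ((Subgroup.mem_centralizer_iff.mp hd.2) a ha).symm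
    obtain ⟨Q, hQ, hDQ, hAQ⟩ := coprime_exists_isSylowIn_ge hact inf_le_left hDr hAD
    obtain ⟨e, he, hQe⟩ := coprime_isSylowIn_conj hact hBS hQ h.normB hAQ
    have heQ : e ∈ Q := hDQ he
    have hBQ : B = Q := by
      have h3 : cj e⁻¹ Q = B := by rw [hQe, cj_inv_cj]
      rw [← h3]
      exact cj_eq_self_of_mem (Q.inv_mem heQ)
    exact hDQ.trans hBQ.ge
  -- main argument
  intro c hc
  have hcM : c ∈ M := h.exc.centralizer_le hc
  have hcY : cj c (sigmaCore M ⊔ B) = sigmaCore M ⊔ B := cj_eq_self_of_mem_normalizer (h.sup hcM)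
  have hcA : cj c A = A :=
    cj_eq_self_of_mem_normalizer (Subgroup.centralizer_le_normalizer _ hc)
  have hS2 : IsSylowIn r (cj c B) (sigmaCore M ⊔ B) := by
    have h5 : IsSylowIn r (cj c B) (cj c (sigmaCore M ⊔ B)) := hBS.map_conj_gen c
    rwa [hcY] at h5
  have hA2 : A ≤ Subgroup.normalizer ((cj c B : Subgroup G) : Set G) := by
    have h6 : cj c A ≤ Subgroup.normalizer ((cj c B : Subgroup G) : Set G) :=
      le_normalizer_cj (g := c) h.normB
    rwa [hcA] at h6
  obtain ⟨d, hd, hBd⟩ := coprime_isSylowIn_conj hact hBS hS2 h.normB hA2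
  have hdB : d ∈ B := hD hd
  rw [cj_eq_self_of_mem hdB] at hBd
  exact mem_normalizer_of_map_conj_eq hBd

/-- Step 7 (ii): `N_G(Q) ≤ N_G(B₂)` for a maximal `A`-invariant `r`-subgroup `Q ≥ P_r`. -/
theorem step7ii (hG : IsMinSimpleOddOrder G) (h114 : Thm114 G)
    (h : Cfg M p A₀ A r B₀ B Pr) {Q : Subgroup G} (hQ : MaxInv A r Q) (hPrQ : Pr ≤ Q) :
    Subgroup.normalizer (Q : Set G) ≤
      Subgroup.normalizer ((B ⊓ Subgroup.centralizer (A : Set G) : Subgroup G) : Set G) := by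
  have hr : r.Prime := Fact.out
  have hNPr := normalizer_Pr_le hG h114 h
  have hQp : IsPGroup r Q := hQ.1.1
  have hQM : Q ⊓ M = Pr :=
    h.sylow.eq_of_le inf_le_right (hQp.to_le inf_le_left) (le_inf hPrQ h.sylow.le)
  rcases eq_or_lt_of_le hPrQ with heq | hlt
  · rw [← heq]
    exact hNPr.trans h.line
  · obtain ⟨g, hgQ, hgN, hgPr⟩ := Cfsg.Agent.Lib.Lead.Trans.exists_normalizer_not_mem hQp hlt
    have hgB2 : g ∈ Subgroup.normalizer
        ((B ⊓ Subgroup.centralizer (A : Set G) : Subgroup G) : Set G) := h.line (hNPr hgN)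
    have hgM : g ∉ M := fun hm => hgPr (hQM ▸ (⟨hgQ, hm⟩ : g ∈ Q ⊓ M))
    have hBQ : B ≤ Q := h.le.trans hPrQ
    have hB1 : B ≠ ⊥ := h.excr.ne_bot
    have hQ1 : Q ≠ ⊥ := fun hbot => hB1 (le_bot_iff.mp (hbot ▸ hBQ))
    have hZ1 : omegaZ r Q ≠ ⊥ := omegaZ_ne_bot hQp hQ1
    have hZC : omegaZ r Q ≤ Subgroup.centralizer (Q : Set G) := omegaZ_le_centralizer r Q
    have hZM : omegaZ r Q ≤ M :=
      (hZC.trans (Subgroup.centralizer_le (SetLike.coe_subset_coe.mpr hBQ))).trans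
        h.excr.centralizer_le
    have hZPr : omegaZ r Q ≤ Pr := hQM ▸ le_inf (omegaZ_le r Q) hZM
    have hZB : omegaZ r Q ≤ B := fun z hz =>
      (h.excr.mem_iff_of_sylow hG h114 h.sylow h.le z (hZPr hz)).mp (mem_omegaZ.mp hz).2.2
    -- `g` centralizes `B₂`
    have hgp : IsPGroup r (Subgroup.zpowers g) := hQp.to_le (Subgroup.zpowers_le.mpr hgQ)
    have hgC : Subgroup.zpowers g ≤ Subgroup.centralizer
        (((B ⊓ Subgroup.centralizer (A : Set G) : Subgroup G)) : Set G) :=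
      le_centralizer_of_le_normalizer_of_card_prime hgp h.cardLine (Subgroup.zpowers_le.mpr hgB2)
    have hgC' : ∀ b ∈ (B ⊓ Subgroup.centralizer (A : Set G) : Subgroup G), b * g = g * b :=
      fun b hb => Subgroup.mem_centralizer_iff.mp (hgC (Subgroup.mem_zpowers g)) b hb
    have hB2X : (B ⊓ Subgroup.centralizer (A : Set G) : Subgroup G) ≤
        B ⊓ Subgroup.centralizer ({g} : Set G) := by
      intro b hb
      refine ⟨hb.1, ?_⟩
      change b ∈ Subgroup.centralizer ({g} : Set G)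
      rw [Subgroup.mem_centralizer_iff]
      intro y hy
      rw [Set.mem_singleton_iff] at hy
      rw [hy]
      exact (hgC' b hb).symm
    have hXne : B ⊓ Subgroup.centralizer ({g} : Set G) ≠ B := by
      intro hXB
      apply hgM
      apply h.excr.centralizer_le
      rw [Subgroup.mem_centralizer_iff]
      intro b hb
      have hbX : b ∈ B ⊓ Subgroup.centralizer ({g} : Set G) := by
        rw [hXB]
        exact hb
      exact (Subgroup.mem_centralizer_iff.mp hbX.2 g rfl).symm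
    have hXcard : Nat.card (B ⊓ Subgroup.centralizer ({g} : Set G) : Subgroup G) = r := by
      apply card_eq_prime_of_le_of_ne h.excr.card inf_le_left _ hXne
      rw [← h.cardLine]
      exact Subgroup.card_le_of_le hB2X
    have hXeq : (B ⊓ Subgroup.centralizer (A : Set G) : Subgroup G) =
        B ⊓ Subgroup.centralizer ({g} : Set G) :=
      eq_of_le_of_ne_bot_of_card_prime hXcard hB2X (line_ne_bot h)
    have hZX : omegaZ r Q ≤ B ⊓ Subgroup.centralizer ({g} : Set G) := by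
      refine le_inf hZB (hZC.trans (Subgroup.centralizer_le ?_))
      intro y hy
      rw [Set.mem_singleton_iff] at hy
      rw [hy]
      exact hgQ
    have hZeq : omegaZ r Q = (B ⊓ Subgroup.centralizer (A : Set G) : Subgroup G) :=
      eq_of_le_of_ne_bot_of_card_prime h.cardLine (hXeq ▸ hZX) hZ1
    rw [← hZeq]
    exact normalizer_le_normalizer_omegaZ r Q

/-- Step 7 (iii): `p ∈ σ(H)`. -/
theorem step7 (hG : IsMinSimpleOddOrder G) (h114 : Thm114 G)
    (h : Cfg M p A₀ A r B₀ B Pr) {H : Subgroup G} (hH : IsCoatom H)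
    (hNH : Subgroup.normalizer ((B ⊓ Subgroup.centralizer (A : Set G) : Subgroup G) : Set G) ≤ H) :
    p ∈ sigma H := by
  have hp : p.Prime := Fact.out
  have hr : r.Prime := Fact.out
  have hTH := h.exc.transitivity hG
  have hAp := h.exc.isPGroup
  obtain ⟨S, hS, hAS⟩ := exists_isSylowIn_ge (le_top : A ≤ ⊤) hAp
  have hAC : A ≤ Subgroup.centralizer (A : Set G) :=
    Subgroup.le_centralizer_iff_isMulCommutative.mpr h.exc.elem.1
  have hZ : ¬ RankLE 1 ↥(A ⊓ Subgroup.centralizer (A : Set G)) := by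
    apply not_rankLE_of_le hp (le_inf le_rfl hAC) h.exc.elem
    rw [h.exc.card]
    exact Nat.pow_lt_pow_right hp.one_lt (by norm_num)
  have hrA : ¬ r ∣ Nat.card A := h.exc.not_dvd_card hr h.lt.ne'
  have hrC : r ∣ Nat.card (Subgroup.centralizer (A : Set G)) := by
    rw [← h.cardLine]
    exact Subgroup.card_dvd_of_le inf_le_right
  have htr := Cfsg.Agent.S1394.result hG A hTH hZ r hr hrA hrC
  have hSne : S ≠ ⊤ := Cfsg.Agent.Lib.Lead.BGTrans.pgroup_ne_top hG.2 hS.isPGroup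
  have hSπ : ∀ q : ℕ, q.Prime → q ∣ Nat.card S → q ∣ Nat.card A := by
    intro q hq hqS
    obtain ⟨n, hn⟩ := hS.isPGroup.exists_card_eq
    rw [hn] at hqS
    have hqp : q = p := (Nat.prime_dvd_prime_iff_eq hq hp).mp (hq.dvd_of_dvd_pow hqS)
    rw [hqp, h.exc.card]
    exact dvd_pow_self p two_ne_zero
  have hsn : (A.subgroupOf S).IsSubnormal := by
    haveI : Group.IsNilpotent ↥S := hS.isPGroup.isNilpotent
    exact Cfsg.Agent.Lib.Helper1.isNilpotent_iff_forall_isSubnormal.mp inferInstance _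
  obtain ⟨hK, -, hsub, hN⟩ := Cfsg.Agent.S1395.result hG A hTH r hr hrA S hSne hSπ hAS hsn htr
  obtain ⟨Q', -, hQ'⟩ := Cfsg.Agent.Lib.Lead.BGTrans5.exists_maxInv S r
    (Cfsg.Agent.Lib.Lead.BGTrans5.inv_bot S r)
  have hQ'mem := Cfsg.Agent.Lib.Lead.BGTrans.mem_of_maxInv hQ'
  have hQ'A := hsub hQ'mem
  obtain ⟨Q, hPrQ, hQ⟩ := Cfsg.Agent.Lib.Lead.BGTrans5.exists_maxInv A r
    (⟨h.sylow.isPGroup, h.normPr⟩ : Inv A r Pr)
  obtain ⟨k, hk, hkQ⟩ := htr Q (Cfsg.Agent.Lib.Lead.BGTrans.mem_of_maxInv hQ) Q' hQ'A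
  have hKA : piCoreOf (primesNotDvd (Nat.card A)) (Subgroup.centralizer (A : Set G)) ≤ H :=
    (Cfsg.Agent.Lib.Lead.BGTrans.piCoreOf_le _ _).trans
      ((step7i hG h114 h).trans (h.line.trans hNH))
  have hkH : k ∈ H := hKA hk
  have hNQ' : Subgroup.normalizer (Q' : Set G) ≤ H := by
    have h1 : Subgroup.normalizer (Q' : Set G) = cj k (Subgroup.normalizer (Q : Set G)) := by
      rw [hkQ]
      exact normalizer_cj k Q
    rw [h1, ← cj_eq_self_of_mem hkH]
    exact cj_mono k ((step7ii hG h114 h hQ hPrQ).trans hNH)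
  have hNS : Subgroup.normalizer (S : Set G) ≤ H := by
    rw [(hN Q' hQ'mem).2]
    apply sup_le
    · rw [← hK]
      exact inf_le_left.trans hKA
    · exact inf_le_right.trans hNQ'
  have hSH : S ≤ H := Subgroup.le_normalizer.trans hNS
  refine mem_sigma_of_sylow (hS.of_le hSH le_top) hNS ?_
  exact (dvd_pow_self p two_ne_zero).trans
    (h.exc.card ▸ Subgroup.card_dvd_of_le (hAS.trans hSH))

/-- **Steps 5 to 7 of Theorem 11.7**: the configuration `Cfg` is impossible. -/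
theorem cfg_false (hG : IsMinSimpleOddOrder G) (h114 : Thm114 G)
    (h : Cfg M p A₀ A r B₀ B Pr) : False := by
  have hne : Subgroup.normalizer
      ((B ⊓ Subgroup.centralizer (A : Set G) : Subgroup G) : Set G) ≠ ⊤ := by
    apply Cfsg.Agent.Lib.Lead.BGTrans.normalizer_ne_top hG.2 (line_ne_bot h)
    exact Cfsg.Agent.Lib.Lead.BGTrans.pgroup_ne_top hG.2 (h.excr.isPGroup.to_le inf_le_left)
  obtain ⟨H, hH, hNH⟩ := exists_isCoatom_ge hne
  exact step6 hG h hH hNH (step5 hG h114 h hH hNH) (step7 hG h114 h hH hNH)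

end Cfsg.Agent.Lib.Helper29.BGExcCfg
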