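import Mathlib
import Cfsg.Agent.Lib.Helper9.BGExc2
import Cfsg.Agent.Lib.Lead.BGTrans

/-!
# Helper29 library: BG Corollary 12.6 from Theorem 12.5 and Lemma 12.1 (first half)

`s1418_of` : the conclusion of S1418 from `C_G(A) ≤ M` (first half of S1416) and the
conclusion of S1417.
-/

set_option autoImplicit false
set_option linter.style.haveILetI false
set_option linter.unusedSectionVars false

open Cfsg
open Cfsg.Agent.Lib.Helper10.BG

namespace Cfsg.Agent.Lib.Helper29.BG126

variable {G : Type*} [Group G] [Finite G]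

theorem s1418_of (hG : Cfsg.IsMinSimpleOddOrder G)
    (M : Subgroup G) (hM : IsCoatom M) (E : Subgroup G)
    (hE : Cfsg.IsComplIn E (Cfsg.sigmaCore M) M) (p : ℕ) [Fact p.Prime]
    (A : Subgroup G)
    (hA : (A ≤ E ∧ Cfsg.IsElementaryAbelian p A ∧ Nat.card A = p ^ 2))
    (h16 : Subgroup.centralizer (A : Set G) ≤ M)
    (h17 : Group.IsNilpotent (Cfsg.sigmaCore M) ∧
      (∀ P : Sylow p M, IsMulCommutative (P : Subgroup M) ∧
        (A ≤ (P : Subgroup M).map M.subtype →
          (∀ x ∈ (P : Subgroup M).map M.subtype, x ^ p = 1 ↔ x ∈ A) ∧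
          ¬ Subgroup.normalizer ((((P : Subgroup M).map M.subtype : Subgroup G)) : Set G) ≤ M)) ∧
      M ≤ Subgroup.normalizer ((Cfsg.sigmaCore M ⊔ A : Subgroup G) : Set G) ∧
      Cfsg.sigmaCore M ⊓ Subgroup.centralizer (A : Set G) = ⊥ ∧
      (∀ Mstar : Subgroup G, IsCoatom Mstar → Mstar ≠ M → A ≤ Mstar →
        Cfsg.sigmaCore M ⊓ Mstar = ⊥) ∧
      ∃ A₁ : Subgroup G, A₁ ≤ A ∧ Nat.card A₁ = p ∧
        Cfsg.sigmaCore M ⊓ Subgroup.centralizer (A₁ : Set G) = ⊥) :
    (E ≤ Subgroup.normalizer (A : Set G) ∧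
        ∀ X : Subgroup G, X ≤ E → Nat.card X = p → X ≤ A) ∧
      (Subgroup.centralizer (A : Set G) ≤ M ⊓ Subgroup.normalizer (A : Set G) ∧
        M ⊓ Subgroup.normalizer (A : Set G) = E ∧
        ¬ Subgroup.normalizer (A : Set G) ≤ M) ∧
      ∀ X : Subgroup G, X ≤ A → Nat.card X = p →
        Cfsg.sigmaCore M ⊓ Subgroup.centralizer (X : Set G) ≠ ⊥ →
        (Subgroup.centralizer (X : Set G) ≤ M ∧
          ∀ L : Subgroup G, IsCoatom L → Subgroup.centralizer (X : Set G) ≤ L → L = M) := by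
  obtain ⟨hEM, hσM, hEσ, hprod⟩ := hE
  obtain ⟨hAE, hAel, hAcard⟩ := hA
  obtain ⟨-, hSyl, hnorm, hcent, hstar, -⟩ := h17
  have hAM : A ≤ M := hAE.trans hEM
  have hMσ : M ≤ Subgroup.normalizer (sigmaCore M : Set G) := le_normalizer_sigmaCore M
  -- key claim: (M_σ ⊔ A) ⊓ E ≤ A
  have claim : ∀ x : G, x ∈ sigmaCore M ⊔ A → x ∈ E → x ∈ A := by
    intro x hx hxE
    obtain ⟨s, hs, a, ha, rfl⟩ :=
      exists_mul_of_mem_sup_of_le_normalizer (hAM.trans hMσ) hx
    have hsE : s ∈ E := by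
      have : s = s * a * a⁻¹ := by group
      rw [this]
      exact E.mul_mem hxE (E.inv_mem (hAE ha))
    have hs1 : s ∈ E ⊓ sigmaCore M := ⟨hsE, hs⟩
    rw [hEσ, Subgroup.mem_bot] at hs1
    rw [hs1, one_mul]
    exact ha
  -- (1a)
  have h1a : E ≤ Subgroup.normalizer (A : Set G) := by
    apply Cfsg.Agent.Lib.Helper1.le_normalizer_of_forall_conj_mem
    intro e he a ha
    apply claim
    · have he' : e ∈ Subgroup.normalizer ((sigmaCore M ⊔ A : Subgroup G) : Set G) :=
        hnorm (hEM he)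
      exact (Subgroup.mem_normalizer_iff.mp he' a).mp (Subgroup.mem_sup_right ha)
    · exact E.mul_mem (E.mul_mem he (hAE ha)) (E.inv_mem he)
  -- the Sylow subgroup of M containing A
  have hAp : IsPGroup p A := by
    intro a
    refine ⟨1, ?_⟩
    rw [pow_one]
    exact Subtype.ext (by simpa using hAel.2 a.1 a.2)
  obtain ⟨T, hT, hAT⟩ := exists_isSylowIn_ge hAM hAp
  have hPT : ((hT.toSylow : Sylow p M) : Subgroup M).map M.subtype = T := by
    rw [hT.coe_toSylow, Subgroup.map_subgroupOf_eq_of_le hT.le]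
  obtain ⟨-, hP2⟩ := hSyl hT.toSylow
  rw [hPT] at hP2
  obtain ⟨hTA, hNT⟩ := hP2 hAT
  -- (1b)
  have h1b : ∀ X : Subgroup G, X ≤ E → Nat.card X = p → X ≤ A := by
    intro X hXE hXc x hx
    have hXp : IsPGroup p X := IsPGroup.of_card (n := 1) (by rw [hXc, pow_one])
    obtain ⟨T₂, hT₂, hXT₂⟩ := exists_isSylowIn_ge (hXE.trans hEM) hXp
    obtain ⟨m, hm, rfl⟩ := hT.exists_conj hT₂
    obtain ⟨t, ht, htx⟩ := hXT₂ hx
    simp only [MulEquiv.coe_toMonoidHom, MulAut.conj_apply] at htx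
    have hxp : x ^ p = 1 := by
      have := pow_card_eq_one' (G := X) (x := ⟨x, hx⟩)
      rw [hXc] at this
      exact congrArg Subtype.val this
    have htp : t ^ p = 1 := by
      have : t = m⁻¹ * x * (m⁻¹)⁻¹ := by rw [← htx]; group
      rw [this, conj_pow, hxp]
      group
    have htA : t ∈ A := (hTA t ht).mp htp
    apply claim _ _ (hXE hx)
    rw [← htx]
    have hm' : m ∈ Subgroup.normalizer ((sigmaCore M ⊔ A : Subgroup G) : Set G) := hnorm hm
    exact (Subgroup.mem_normalizer_iff.mp hm' t).mp (Subgroup.mem_sup_right htA)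
  refine ⟨⟨h1a, h1b⟩, ⟨?_, ?_, ?_⟩, ?_⟩
  · exact le_inf h16 (Subgroup.centralizer_le_normalizer _)
  · apply le_antisymm
    · rintro n ⟨hnM, hnN⟩
      obtain ⟨e, he, s, hs, rfl⟩ := hprod n hnM
      have hsN : s ∈ Subgroup.normalizer (A : Set G) := by
        have : s = e⁻¹ * (e * s) := by group
        rw [this]
        exact Subgroup.mul_mem _ (Subgroup.inv_mem _ (h1a he)) hnN
      have hsC : s ∈ sigmaCore M ⊓ Subgroup.centralizer (A : Set G) := by
        refine ⟨hs, ?_⟩
        change s ∈ Subgroup.centralizer (A : Set G)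
        rw [Subgroup.mem_centralizer_iff]
        intro a ha
        have h1 : s * a * s⁻¹ * a⁻¹ ∈ A :=
          A.mul_mem ((Subgroup.mem_normalizer_iff.mp hsN a).mp ha) (A.inv_mem ha)
        have h2 : s * a * s⁻¹ * a⁻¹ ∈ sigmaCore M := by
          have h3 : a * s⁻¹ * a⁻¹ ∈ sigmaCore M :=
            (Subgroup.mem_normalizer_iff.mp (hMσ (hAM ha)) s⁻¹).mp (Subgroup.inv_mem _ hs)
          have : s * a * s⁻¹ * a⁻¹ = s * (a * s⁻¹ * a⁻¹) := by group
          rw [this]
          exact Subgroup.mul_mem _ hs h3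
        have h4 : s * a * s⁻¹ * a⁻¹ ∈ E ⊓ sigmaCore M := ⟨hAE h1, h2⟩
        rw [hEσ, Subgroup.mem_bot] at h4
        have : a * s = (s * a * s⁻¹ * a⁻¹)⁻¹ * (s * a) := by group
        rw [this, h4, inv_one, one_mul]
      rw [hcent, Subgroup.mem_bot] at hsC
      rw [hsC, mul_one]
      exact he
    · exact le_inf hEM h1a
  · intro hNA
    apply hNT
    refine le_trans ?_ hNA
    apply Cfsg.Agent.Lib.Helper1.le_normalizer_of_forall_conj_mem
    intro g hg a ha
    have h1 : g * a * g⁻¹ ∈ T := (Subgroup.mem_normalizer_iff.mp hg a).mp (hAT ha)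
    apply (hTA _ h1).mp
    rw [conj_pow, hAel.2 a ha]
    group
  · intro X hXA hXc hne
    have hAC : A ≤ Subgroup.centralizer (X : Set G) := by
      intro a ha
      rw [Subgroup.mem_centralizer_iff]
      intro x hx
      have := hAel.1.is_comm.comm ⟨x, hXA hx⟩ ⟨a, ha⟩
      exact congrArg Subtype.val this
    have huniq : ∀ L : Subgroup G, IsCoatom L → Subgroup.centralizer (X : Set G) ≤ L → L = M := by
      intro L hL hCL
      by_contra hLM
      apply hne
      rw [eq_bot_iff]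
      intro s hs
      have := hstar L hL hLM (hAC.trans hCL)
      rw [← this]
      exact ⟨hs.1, hCL hs.2⟩
    have hXne : ∃ x ∈ X, x ≠ 1 := by
      by_contra hcon
      push Not at hcon
      have hXbot : X = ⊥ := by
        rw [eq_bot_iff]
        intro x hx
        rw [Subgroup.mem_bot]
        exact hcon x hx
      rw [hXbot, Subgroup.card_bot] at hXc
      exact (Fact.out : p.Prime).one_lt.ne hXc
    obtain ⟨x, hx, hx1⟩ := hXne
    have hCne : Subgroup.centralizer (X : Set G) ≠ ⊤ := by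
      intro htop
      apply Cfsg.Agent.Lib.Lead.BGTrans.centralizer_singleton_ne_top hG.2 hx1
      rw [eq_top_iff, ← htop]
      apply Subgroup.centralizer_le
      intro y hy
      rw [Set.mem_singleton_iff] at hy
      rw [hy]
      exact hx
    obtain ⟨L, hL, hCL⟩ := exists_isCoatom_ge hCne
    have := huniq L hL hCL
    rw [this] at hCL
    exact ⟨hCL, huniq⟩

end Cfsg.Agent.Lib.Helper29.BG126
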