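import Mathlib
import Cfsg.Prelude
import Cfsg.Agent.Lib.Helper29.BGExcPG
import Cfsg.Agent.Lib.Helper9.BGExc4

/-!
# The `p`-group piece (PG2), for Bender--Glauberman Theorem 12.7

`S` a nonabelian Sylow `p`-subgroup of a minimal simple group of odd order containing a maximal
elementary abelian subgroup `A` of order `p ^ 2`: for `u ∈ C_S(A)` with `u ^ p` of order at most
`p`, `u ^ p ∈ Ω₁(Z(S))`.
-/

set_option autoImplicit false
open Cfsg

namespace Cfsg.Agent.Lib.Helper29.BGExc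

open Cfsg.Agent.Lib.Helper10.BG
open Cfsg.Agent.Lib.Helper9.BGExc (MaxEA)

variable {G : Type*} [Group G]

/-- the two versions of `Ω₁(Z(S))` agree. -/
theorem omegaZ_eq (p : ℕ) (S : Subgroup G) :
    omegaZ p S = Cfsg.Agent.Lib.Helper9.BGExc.omegaZ p S := by
  ext z
  rw [mem_omegaZ, Cfsg.Agent.Lib.Helper9.BGExc.mem_omegaZ, Subgroup.mem_centralizer_iff]
  exact Iff.rfl

/-- The set-up of case 2 of (PG): in a `p`-group `R` (`p` odd) of rank at least three with a
maximal elementary abelian subgroup `E` of order `p ^ 2`, there are `a ∈ E` and a normal subgroup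
`T` of index `p` not containing `a`, such that the elements of order dividing `p` of `C_T(a)`
lie in `Ω₁(Z(R))`. -/
theorem rank3_setup {R : Type*} [Group R] [Finite R] (p : ℕ) [Fact p.Prime]
    (hp : p ≠ 2) (hR : IsPGroup p R) (hr : ¬ PRankLE p 2 R) (E : Subgroup R)
    (hE : IsElementaryAbelian p E) (hE2 : Nat.card E = p ^ 2)
    (hEmax : ∀ B : Subgroup R, IsElementaryAbelian p B → E ≤ B → B = E) :
    ∃ a ∈ E, ∃ T : Subgroup R, T.Normal ∧ T.index = p ∧ a ∉ T ∧
      ∀ y ∈ T, a * y = y * a → y ^ p = 1 → y ∈ omegaZ p (⊤ : Subgroup R) := by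
  have hpp : p.Prime := Fact.out
  have hMA : MaxEA p E := ⟨hE, hEmax⟩
  obtain ⟨h1, h2, -, hTchar, hTidx⟩ := Cfsg.Agent.S1453.result p hp hR hr E hE hE2 hEmax
  set W := Subgroup.closure {x : R | x ∈ Subgroup.upperCentralSeries R 2 ∧ x ^ p = 1} with hW
  set T := Subgroup.centralizer (W : Set R) with hT
  have hZeq : Subgroup.closure {x : R | x ∈ Subgroup.center R ∧ x ^ p = 1} =
      omegaZ p (⊤ : Subgroup R) := by
    apply le_antisymm
    · rw [Subgroup.closure_le]
      intro x hx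
      exact ⟨Subgroup.mem_top x, fun s _ => Subgroup.mem_center_iff.mp hx.1 s, hx.2⟩
    · intro z hz
      apply Subgroup.subset_closure
      exact ⟨Subgroup.mem_center_iff.mpr (fun g => hz.2.1 g (Subgroup.mem_top g)), hz.2.2⟩
  rw [hZeq] at h2
  set Z := omegaZ p (⊤ : Subgroup R) with hZ
  have hZE : Z ≤ E := omegaZ_le_of_maxEA hMA le_top
  have hZT : Z ≤ T := by
    intro z hz
    rw [hT, Subgroup.mem_centralizer_iff]
    intro w _
    exact hz.2.1 w (Subgroup.mem_top w)
  obtain ⟨a, haE, haT⟩ := SetLike.not_le_iff_exists.mp h1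
  have haZ : a ∉ Z := fun h => haT (hZT h)
  have hET : E ⊓ T = Z := by
    symm
    apply Subgroup.eq_of_le_of_card_ge (le_inf hZE hZT)
    rw [h2]
    have hdvd : Nat.card (E ⊓ T : Subgroup R) ∣ p ^ 2 := hE2 ▸ Subgroup.card_dvd_of_le inf_le_left
    obtain ⟨k, hk2, hk⟩ := (Nat.dvd_prime_pow hpp).mp hdvd
    have hk2' : k ≠ 2 := by
      rintro rfl
      have heq : E ⊓ T = E := Subgroup.eq_of_le_of_card_ge inf_le_left (by rw [hk, hE2])
      have haET : a ∈ E ⊓ T := by rw [heq]; exact haE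
      exact haT haET.2
    rw [hk]
    calc p ^ k ≤ p ^ 1 := Nat.pow_le_pow_right hpp.pos (by omega)
      _ = p := pow_one p
  have hTn : T.Normal := Subgroup.normal_of_characteristic T
  refine ⟨a, haE, T, hTn, hTidx, haT, ?_⟩
  intro y hyT hya hyp
  set F := E ⊓ Subgroup.centralizer ({y} : Set R) with hF
  have hZF : Z ≤ F := by
    refine le_inf hZE ?_
    intro z hz
    rw [Subgroup.mem_centralizer_iff]
    intro w hw
    rw [Set.mem_singleton_iff] at hw
    rw [hw]
    exact hz.2.1 y (Subgroup.mem_top y)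
  have haF : a ∈ F := by
    refine Subgroup.mem_inf.mpr ⟨haE, ?_⟩
    rw [Subgroup.mem_centralizer_iff]
    intro w hw
    rw [Set.mem_singleton_iff] at hw
    rw [hw]
    exact hya.symm
  have hFE : F = E := by
    apply Subgroup.eq_of_le_of_card_ge inf_le_left
    have hdvd : Nat.card F ∣ p ^ 2 := hE2 ▸ Subgroup.card_dvd_of_le inf_le_left
    obtain ⟨k, hk2, hk⟩ := (Nat.dvd_prime_pow hpp).mp hdvd
    have hlt : Nat.card Z < Nat.card F := by
      apply Cfsg.Agent.Lib.Helper10.BG.card_lt_of_le_of_ne hZF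
      intro h
      exact haZ (h ▸ haF)
    rw [h2, hk] at hlt
    have hk1 : 1 < k := by
      by_contra hcon
      have : p ^ k ≤ p ^ 1 := Nat.pow_le_pow_right hpp.pos (by omega)
      rw [pow_one] at this
      omega
    have : k = 2 := by omega
    rw [hE2, hk, this]
  have hyE : y ∈ Subgroup.centralizer (E : Set R) := by
    rw [Subgroup.mem_centralizer_iff]
    intro e he
    have he' : e ∈ F := hFE ▸ he
    exact (Subgroup.mem_centralizer_iff.mp (Subgroup.mem_inf.mp he').2 y rfl).symm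
  have hyE' : y ∈ E := hMA.mem_of_mem_centralizer hyE hyp
  rw [← hET]
  exact Subgroup.mem_inf.mpr ⟨hyE', hyT⟩

/-- Case 2 of (PG2), abstract form. -/
theorem pow_mem_omegaZ_of_rank3 {R : Type*} [Group R] [Finite R] (p : ℕ) [Fact p.Prime]
    (hp : p ≠ 2) (hR : IsPGroup p R) (hr : ¬ PRankLE p 2 R) (E : Subgroup R)
    (hE : IsElementaryAbelian p E) (hE2 : Nat.card E = p ^ 2)
    (hEmax : ∀ B : Subgroup R, IsElementaryAbelian p B → E ≤ B → B = E) :
    ∀ u ∈ Subgroup.centralizer (E : Set R), (u ^ p) ^ p = 1 →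
      u ^ p ∈ omegaZ p (⊤ : Subgroup R) := by
  obtain ⟨a, haE, T, hTn, hTidx, haT, hkey⟩ := rank3_setup p hp hR hr E hE hE2 hEmax
  have hqcard : Nat.card (R ⧸ T) = p := by rw [← Subgroup.index_eq_card]; exact hTidx
  have hπa : (QuotientGroup.mk' T a) ≠ 1 := by
    intro h
    rw [QuotientGroup.mk'_apply, QuotientGroup.eq_one_iff] at h
    exact haT h
  have hap : a ^ p = 1 := hE.2 a haE
  intro u hu hupp
  have hua : Commute a u := (Subgroup.mem_centralizer_iff.mp hu a haE)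
  have h3 : QuotientGroup.mk' T u ∈ Subgroup.zpowers (QuotientGroup.mk' T a) :=
    mem_zpowers_of_prime_card hqcard hπa
  obtain ⟨i, hi⟩ := Subgroup.mem_zpowers_iff.mp h3
  have htT : (a ^ i)⁻¹ * u ∈ T := by
    rw [← map_zpow] at hi
    exact QuotientGroup.eq.mp hi
  have hc2 : Commute a ((a ^ i)⁻¹) := ((Commute.refl a).zpow_right i).inv_right
  have hta : Commute a ((a ^ i)⁻¹ * u) := hc2.mul_right hua
  have hai_t : Commute (a ^ i) ((a ^ i)⁻¹ * u) := hta.zpow_left i
  have hu_eq : u = a ^ i * ((a ^ i)⁻¹ * u) := by group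
  have hup : u ^ p = ((a ^ i)⁻¹ * u) ^ p := by
    conv_lhs => rw [hu_eq]
    rw [hai_t.mul_pow, ← zpow_natCast, ← zpow_mul, mul_comm, zpow_mul, zpow_natCast, hap, one_zpow,
      one_mul]
  rw [hup]
  apply hkey
  · exact T.pow_mem htT p
  · exact (hta.pow_right p).eq
  · rw [← hup]
    exact hupp

/-- (PG2): in a nonabelian Sylow `p`-subgroup `S` of `G` containing a maximal elementary abelian
subgroup `A` of order `p ^ 2`, for `u ∈ C_S(A)` with `(u ^ p) ^ p = 1` we have
`u ^ p ∈ Ω₁(Z(S))`. -/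
theorem PG2 [Finite G] (hG : IsMinSimpleOddOrder G) {p : ℕ} [Fact p.Prime] {S A : Subgroup G}
    (hS : IsSylowIn p S ⊤) (hA : MaxEA p A) (hAcard : Nat.card A = p ^ 2) (hAS : A ≤ S)
    (hna : ¬ (∀ u ∈ S, ∀ v ∈ S, u * v = v * u)) :
    ∀ u ∈ S ⊓ Subgroup.centralizer (A : Set G), (u ^ p) ^ p = 1 → u ^ p ∈ omegaZ p S := by
  have hp : p.Prime := Fact.out
  have hSp : IsPGroup p S := hS.isPGroup
  have hpG : p ∣ Nat.card G := by
    have h1 : p ∣ Nat.card A := by rw [hAcard]; exact dvd_pow_self p (by norm_num)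
    exact h1.trans (Subgroup.card_subgroup_dvd_card A)
  have hp2 : p ≠ 2 := prime_ne_two hG hpG
  by_cases hr : PRankLE p 2 ↥S
  · have hcoe : ((hS.toSylowTop : Sylow p G) : Subgroup G) = S := hS.coe_toSylowTop
    have h12 := Cfsg.Agent.S1412.result hG p hS.toSylowTop (by rw [hcoe]; exact hr)
    rw [hcoe] at h12
    rcases h12 with hab | ⟨P₁, P₂, hsup, hcomm, -, hP₁card, hP₁exp, hP₂cyc, -⟩
    · exfalso
      apply hna
      intro u hu v hv
      exact congrArg Subtype.val (hab.is_comm.comm ⟨u, hu⟩ ⟨v, hv⟩)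
    · have hP₂S : P₂ ≤ S := hsup ▸ le_sup_right
      have hP₂c : ∀ y ∈ P₂, ∀ y' ∈ P₂, y * y' = y' * y := by
        intro y hy y' hy'
        have h := (IsCyclic.commGroup (α := P₂)).mul_comm ⟨y, hy⟩ ⟨y', hy'⟩
        exact congrArg Subtype.val h
      have hdec : ∀ s ∈ S, ∃ x ∈ P₁, ∃ y ∈ P₂, s = x * y := by
        intro s hs
        rw [← hsup] at hs
        exact mem_sup_of_commute' hcomm hs
      -- `P₂` is central in `S`
      have hP₂Z : ∀ y ∈ P₂, ∀ s ∈ S, s * y = y * s := by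
        intro y hy s hs
        obtain ⟨x', hx', y', hy', rfl⟩ := hdec s hs
        calc x' * y' * y = x' * (y' * y) := by group
          _ = x' * (y * y') := by rw [hP₂c y' hy' y hy]
          _ = (x' * y) * y' := by group
          _ = (y * x') * y' := by rw [hcomm x' hx' y hy]
          _ = y * (x' * y') := by group
      intro u hu hupp
      obtain ⟨x, hx, y, hy, rfl⟩ := hdec u hu.1
      have hxp : x ^ p = 1 := by
        have h := Monoid.pow_exponent_eq_one (⟨x, hx⟩ : P₁)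
        rw [hP₁exp] at h
        have h2 : (((⟨x, hx⟩ : P₁) ^ p : P₁) : G) = 1 := by rw [h]; rfl
        simpa using h2
      have hxy : Commute x y := hcomm x hx y hy
      have hup : (x * y) ^ p = y ^ p := by rw [hxy.mul_pow, hxp, one_mul]
      rw [hup] at hupp ⊢
      exact ⟨hP₂S (P₂.pow_mem hy p), hP₂Z _ (P₂.pow_mem hy p), hupp⟩
  · obtain ⟨hE, hEmax⟩ := maxEA_subgroupOf hA hAS
    have hE2 : Nat.card (A.subgroupOf S) = p ^ 2 := by
      rw [← hAcard]
      exact Nat.card_congr (Subgroup.subgroupOfEquivOfLe hAS).toEquiv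
    have key := pow_mem_omegaZ_of_rank3 p hp2 (hSp : IsPGroup p ↥S) hr (A.subgroupOf S) hE hE2
      hEmax
    intro u hu hupp
    have hmem : (⟨u, hu.1⟩ : S) ∈ Subgroup.centralizer ((A.subgroupOf S : Subgroup S) : Set S) := by
      rw [Subgroup.mem_centralizer_iff]
      intro e he
      apply Subtype.ext
      exact Subgroup.mem_centralizer_iff.mp hu.2 e (Subgroup.mem_subgroupOf.mp he)
    have hupp' : ((⟨u, hu.1⟩ : S) ^ p) ^ p = 1 := by
      apply Subtype.ext
      simpa using hupp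
    have h1 := key _ hmem hupp'
    refine ⟨S.pow_mem hu.1 p, ?_, hupp⟩
    intro s hs
    have h2 := h1.2.1 ⟨s, hs⟩ (Subgroup.mem_top _)
    have h3 := congrArg Subtype.val h2
    simpa using h3

/-- (PG2) for helper9's `omegaZ`. -/
theorem PG2' [Finite G] (hG : IsMinSimpleOddOrder G) {p : ℕ} [Fact p.Prime] {S A : Subgroup G}
    (hS : IsSylowIn p S ⊤) (hA : MaxEA p A) (hAcard : Nat.card A = p ^ 2) (hAS : A ≤ S)
    (hna : ¬ (∀ u ∈ S, ∀ v ∈ S, u * v = v * u)) :
    ∀ u ∈ S ⊓ Subgroup.centralizer (A : Set G), (u ^ p) ^ p = 1 →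
      u ^ p ∈ Cfsg.Agent.Lib.Helper9.BGExc.omegaZ p S := by
  intro u hu hupp
  rw [← omegaZ_eq]
  exact PG2 hG hS hA hAcard hAS hna u hu hupp

end Cfsg.Agent.Lib.Helper29.BGExc
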