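import Mathlib
import Cfsg.Agent.S1416
import Cfsg.Agent.S1417
import Cfsg.Agent.S1418
import Cfsg.Agent.S1410
import Cfsg.Agent.Lib.Helper9.BGTenD
import Cfsg.Agent.Lib.Helper9.BGExc7
import Cfsg.Agent.Lib.Helper10.Rank2Core
import Cfsg.Agent.Lib.Helper10.BGSolv

/-!
# Helper29 library: B & G Theorem 12.9 (the abelian Sylow case for `p ∈ τ₂(M)`)

`M` maximal, `E` a complement of `M_σ`, `p ∈ τ₂(M)`, `A ≤ E` elementary abelian of order `p²`,
`P` a Sylow `p`-subgroup of `E`, and the Sylow `p`-subgroups of `G` abelian. Then `P` is a Sylow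
`p`-subgroup of `G`, `N_G(P) ≤ N_G(A)`, `N_G(A)' ≤ C_G(A) ≤ E`, `E ⊴ N_G(A)`, and
`P ≤ F(E) ≤ C_G(P)`.
-/

set_option autoImplicit false
set_option linter.style.haveILetI false
set_option linter.unusedSectionVars false

open Cfsg
open scoped commutatorElement
open Cfsg.Agent.Lib.Helper10.BG
open Cfsg.Agent.Lib.Helper9.BGExc

namespace Cfsg.Agent.Lib.Helper29.BG129

variable {G : Type*} [Group G]

/-- an element two coprime powers of which lie in `H` lies in `H`. -/
theorem mem_of_pow_mem_of_coprime {H : Subgroup G} {x : G} {m n : ℕ} (hc : m.Coprime n)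
    (hm : x ^ m ∈ H) (hn : x ^ n ∈ H) : x ∈ H := by
  have h1 : (m : ℤ) * Nat.gcdA m n + n * Nat.gcdB m n = 1 := by
    have h2 := Nat.gcd_eq_gcd_ab m n
    rw [hc.gcd_eq_one] at h2
    exact_mod_cast h2.symm
  have h3 : x = (x ^ m) ^ (Nat.gcdA m n) * (x ^ n) ^ (Nat.gcdB m n) := by
    rw [← zpow_natCast, ← zpow_natCast, ← zpow_mul, ← zpow_mul, ← zpow_add, h1, zpow_one]
  rw [h3]
  exact H.mul_mem (H.zpow_mem hm _) (H.zpow_mem hn _)

variable [Finite G]

/-- if `C ⊴ L` contains a Sylow `p`-subgroup of `L`, then `x ∈ L` with `x ^ (p ^ k) ∈ C` lies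
in `C`. -/
theorem mem_of_pow_mem_of_sylow_le {p : ℕ} [Fact p.Prime] {L C P : Subgroup G}
    (hPL : IsSylowIn p P L) (hPC : P ≤ C) (hnorm : L ≤ Subgroup.normalizer (C : Set G))
    {x : G} (hx : x ∈ L) {k : ℕ} (hxk : x ^ p ^ k ∈ C) : x ∈ C := by
  have hp : p.Prime := Fact.out
  have hn0 : orderOf x ≠ 0 := (orderOf_pos x).ne'
  obtain ⟨a, m, hm, hn⟩ := Nat.exists_eq_pow_mul_and_not_dvd hn0 p hp.ne_one
  -- the `p`-part `x ^ m`
  have hy : (x ^ m) ^ p ^ a = 1 := by
    rw [← pow_mul, mul_comm, ← hn, pow_orderOf_eq_one]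
  have hyp : IsPGroup p (Subgroup.zpowers (x ^ m)) := by
    have h1 : orderOf (x ^ m) ∣ p ^ a := orderOf_dvd_of_pow_eq_one hy
    obtain ⟨j, -, hj⟩ := (Nat.dvd_prime_pow hp).mp h1
    apply IsPGroup.of_card (n := j)
    rw [Nat.card_zpowers, hj]
  have hyL : Subgroup.zpowers (x ^ m) ≤ L := Subgroup.zpowers_le.mpr (L.pow_mem hx m)
  obtain ⟨T, hT, hyT⟩ := exists_isSylowIn_ge hyL hyp
  obtain ⟨l, hl, rfl⟩ := hPL.exists_conj hT
  have hTC : cj l P ≤ C := by
    rw [← cj_eq_self_of_mem_normalizer (hnorm hl)]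
    exact cj_mono l hPC
  have h1 : x ^ m ∈ C := hTC (hyT (Subgroup.mem_zpowers _))
  have h2 : x ^ p ^ (a + k) ∈ C := by
    rw [pow_add, mul_comm, pow_mul]
    exact C.pow_mem hxk _
  have hc : m.Coprime (p ^ (a + k)) :=
    Nat.Coprime.pow_right _ ((Nat.Prime.coprime_iff_not_dvd hp).mpr hm).symm
  exact mem_of_pow_mem_of_coprime hc h1 h2

theorem pRankLE_of_le {q k : ℕ} {K M : Subgroup G} (hKM : K ≤ M) (h : PRankLE q k ↥M) :
    PRankLE q k ↥K := by
  intro B hBc hBe
  have h1 := h (B.map (Subgroup.inclusion hKM))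
    (Cfsg.Agent.Lib.Helper10.isMulCommutative_map' _ hBc) (by
      rintro _ ⟨b, hb, rfl⟩
      rw [← map_pow, hBe b hb, map_one])
  rwa [Subgroup.card_map_of_injective (Subgroup.inclusion_injective hKM)] at h1

/-- **B & G, Theorem 12.9.** -/
theorem abelian_tau2 (hG : IsMinSimpleOddOrder G) {M E A P : Subgroup G} (hM : IsCoatom M)
    (hE : IsComplIn E (sigmaCore M) M) {p : ℕ} [Fact p.Prime] (hp : p ∈ tau2 M)
    (hA : A ≤ E ∧ IsElementaryAbelian p A ∧ Nat.card A = p ^ 2)
    (hP : IsSylowIn p P E)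
    (hab : ∀ S : Subgroup G, IsSylowIn p S ⊤ → ∀ u ∈ S, ∀ v ∈ S, u * v = v * u) :
    IsSylowIn p P ⊤ ∧ A ≤ P ∧
      Subgroup.normalizer (P : Set G) ≤ Subgroup.normalizer (A : Set G) ∧
      ⁅Subgroup.normalizer (A : Set G), Subgroup.normalizer (A : Set G)⁆ ≤
        Subgroup.centralizer (A : Set G) ∧
      Subgroup.centralizer (A : Set G) ≤ E ∧
      Subgroup.normalizer (A : Set G) ≤ Subgroup.normalizer (E : Set G) ∧
      P ≤ fittingOf E ∧ fittingOf E ≤ Subgroup.centralizer (P : Set G) := by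
  have hpp : p.Prime := Fact.out
  have hpσ : p ∉ sigma M := hp.2.1
  have hEM : E ≤ M := hE.1
  have hAM : A ≤ M := hA.1.trans hEM
  have hAp : IsPGroup p A := Cfsg.Agent.Lib.Lead.BGTrans.isPGroup_of_pow_eq_one hA.2.1.2
  have h18 := Cfsg.Agent.S1418.result hG M hM E hE p hp A hA
  have h17 := Cfsg.Agent.S1417.result hG M hM p hp A ⟨hAM, hA.2⟩
  have h16 := (Cfsg.Agent.S1416.result hG M hM p A ⟨hAM, hA.2⟩).1
  have hEA : E ≤ Subgroup.normalizer (A : Set G) := h18.1.1
  have hCE : Subgroup.centralizer (A : Set G) ≤ E := by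
    have := h18.2.1.1
    rw [h18.2.1.2.1] at this
    exact this
  have hPM : IsSylowIn p P M := IsComplIn.isSylowIn hG hM hE hpσ hP
  have hAP : A ≤ P := hP.normal_le hA.1 hAp hEA
  -- the Sylow data from S1417
  have hPT : ((hPM.toSylow : Sylow p M) : Subgroup M).map M.subtype = P := by
    rw [hPM.coe_toSylow, Subgroup.map_subgroupOf_eq_of_le hPM.le]
  obtain ⟨-, hP2⟩ := h17.2.1 hPM.toSylow
  rw [hPT] at hP2
  obtain ⟨hΩ, -⟩ := hP2 hAP
  -- `P` is a Sylow subgroup of `G`
  obtain ⟨S, hS, hPS⟩ := exists_isSylowIn_ge (le_top : P ≤ ⊤) hP.isPGroup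
  have hSab := hab S hS
  have hSC : S ≤ Subgroup.centralizer (A : Set G) := by
    intro s hs
    rw [Subgroup.mem_centralizer_iff]
    intro a ha
    exact hSab a (hPS (hAP ha)) s hs
  have hSP : S = P := hPM.eq_of_le (hSC.trans h16) hS.isPGroup hPS
  rw [hSP] at hS hSab
  have hPab := hSab
  -- `N(P) ≤ N(A)`
  have hNPA : Subgroup.normalizer (P : Set G) ≤ Subgroup.normalizer (A : Set G) := by
    apply Cfsg.Agent.Lib.Helper1.le_normalizer_of_forall_conj_mem
    intro g hg a ha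
    have h1 : g * a * g⁻¹ ∈ P := (Subgroup.mem_normalizer_iff.mp hg a).mp (hAP ha)
    apply (hΩ _ h1).mp
    rw [conj_pow, hA.2.1.2 a ha]
    group
  -- `L = N(A)`
  have hA1 : A ≠ ⊥ := by
    intro hbot
    have h1 := hA.2.2
    rw [hbot, Subgroup.card_bot] at h1
    have : 1 < p ^ 2 := Nat.one_lt_pow (by norm_num) hpp.one_lt
    omega
  have hAtop : A ≠ ⊤ := Cfsg.Agent.Lib.Lead.BGTrans.pgroup_ne_top hG.2 hAp
  have hLtop : Subgroup.normalizer (A : Set G) ≠ ⊤ :=
    Cfsg.Agent.Lib.Lead.BGTrans.normalizer_ne_top hG.2 hA1 hAtop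
  have hLs : Group.IsSolvable ↥(Subgroup.normalizer (A : Set G)) := isSolvable_of_ne_top hG hLtop
  have hLodd : Odd (Nat.card ↥(Subgroup.normalizer (A : Set G))) := odd_card_subgroup hG _
  have hpG : p ∣ Nat.card G :=
    ((dvd_pow_self p two_ne_zero).trans (hA.2.2 ▸ dvd_rfl)).trans
      (Subgroup.card_subgroup_dvd_card A)
  have hp2 : p ≠ 2 := prime_ne_two hG hpG
  have hrkA : PRankLE p 2 ↥A := by
    intro B _ _
    calc Nat.card B ≤ Nat.card ↥A := Subgroup.card_le_card_group B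
      _ = p ^ 2 := hA.2.2
  have hcomm := Cfsg.Agent.Lib.Helper10.rank_two_commutator_pgroup hp2 A
    (Subgroup.normalizer (A : Set G)) hAp hrkA le_rfl hLs hLodd
  have hPC : P ≤ Subgroup.centralizer (A : Set G) := hSP ▸ hSC
  have hPL : P ≤ Subgroup.normalizer (A : Set G) :=
    hPC.trans (Subgroup.centralizer_le_normalizer _)
  have hPLs : IsSylowIn p P (Subgroup.normalizer (A : Set G)) := hS.of_le hPL le_top
  have hLC : Subgroup.normalizer (A : Set G) ≤
      Subgroup.normalizer ((Subgroup.centralizer (A : Set G) : Subgroup G) : Set G) := by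
    apply Cfsg.Agent.Lib.Helper1.le_normalizer_of_forall_conj_mem
    intro l hl c hc
    rw [Subgroup.mem_centralizer_iff]
    intro a ha
    have ha' : l⁻¹ * a * l ∈ A := by
      have := (Subgroup.mem_normalizer_iff.mp (Subgroup.inv_mem _ hl) a).mp ha
      simpa using this
    have h1 := Subgroup.mem_centralizer_iff.mp hc _ ha'
    calc a * (l * c * l⁻¹) = l * ((l⁻¹ * a * l) * c) * l⁻¹ := by group
      _ = l * (c * (l⁻¹ * a * l)) * l⁻¹ := by rw [h1]
      _ = l * c * l⁻¹ * a := by group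
  have hL'C : ⁅Subgroup.normalizer (A : Set G), Subgroup.normalizer (A : Set G)⁆ ≤
      Subgroup.centralizer (A : Set G) := by
    intro x hx
    obtain ⟨k, hk⟩ := hcomm x hx
    exact mem_of_pow_mem_of_sylow_le hPLs hPC hLC (Subgroup.commutator_le_self _ hx) hk
  -- `E ⊴ L`
  have hLE : Subgroup.normalizer (A : Set G) ≤ Subgroup.normalizer (E : Set G) := by
    apply Cfsg.Agent.Lib.Helper1.le_normalizer_of_forall_conj_mem
    intro l hl y hy
    have h1 : ⁅l, y⁆ ∈ ⁅Subgroup.normalizer (A : Set G), Subgroup.normalizer (A : Set G)⁆ :=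
      Subgroup.commutator_mem_commutator hl (hEA hy)
    have h2 : ⁅l, y⁆ ∈ E := hCE (hL'C h1)
    have h3 : l * y * l⁻¹ = ⁅l, y⁆ * y := by
      rw [commutatorElement_def]
      group
    rw [h3]
    exact E.mul_mem h2 hy
  -- `P ≤ L'`
  have hpl : Cfsg.Agent.Lib.Helper9.BG10.AllPLengthOne G := fun q hq Z hZ => by
    haveI : Fact q.Prime := ⟨hq⟩
    exact Cfsg.Agent.S1410.result hG q Z hZ
  have hPL' : P ≤ ⁅Subgroup.normalizer (A : Set G), Subgroup.normalizer (A : Set G)⁆ := by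
    have h1 := Cfsg.Agent.Lib.Helper9.BG10.sylow_le_commutator_normalizer hG hpl hS.toSylowTop
    rw [hS.coe_toSylowTop] at h1
    exact h1.trans (Subgroup.commutator_mono hPL hNPA)
  -- `P` centralizes each `O_q(E)`
  have hEtop : E ≠ ⊤ := fun htop => hM.1 (top_le_iff.mp (htop ▸ hEM))
  have hEs : Group.IsSolvable ↥E := isSolvable_of_ne_top hG hEtop
  have hcop := IsComplIn.coprime_sigmaCore hG hM hE
  have hcen : ∀ q : Nat.Primes, P ≤ Subgroup.centralizer ((pCoreOf (q : ℕ) E : Subgroup G) : Set G) := by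
    intro q
    haveI : Fact (q : ℕ).Prime := ⟨q.2⟩
    by_cases hqp : (q : ℕ) = p
    · rw [hqp]
      intro e he
      rw [Subgroup.mem_centralizer_iff]
      intro y hy
      exact hPab y (hP.pCoreOf_le hy) e he
    · by_cases hbot : pCoreOf (q : ℕ) E = ⊥
      · rw [hbot]
        intro e _
        rw [Subgroup.mem_centralizer_iff]
        intro y hy
        rw [Subgroup.coe_bot, Set.mem_singleton_iff] at hy
        rw [hy, one_mul, mul_one]
      · -- `q` divides `|E|`, so `q ∉ σ(M)` and `M` has `q`-rank at most two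
        have hQp : IsPGroup (q : ℕ) (pCoreOf (q : ℕ) E) := isPGroup_pCoreOf _ E
        have hQE : pCoreOf (q : ℕ) E ≤ E := Cfsg.Agent.Lib.Helper10.BG.pCoreOf_le _ E
        have hqE : (q : ℕ) ∣ Nat.card E := by
          obtain ⟨n, hn⟩ := hQp.exists_card_eq
          have hn0 : n ≠ 0 := by
            rintro rfl
            rw [pow_zero] at hn
            exact hbot (Subgroup.card_eq_one.mp hn)
          exact ((dvd_pow_self (q : ℕ) hn0).trans (hn ▸ dvd_rfl)).trans
            (Subgroup.card_dvd_of_le hQE)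
        have hqσ : (q : ℕ) ∉ sigma M := by
          intro hqσ
          have h1 : (q : ℕ) ∣ Nat.card (sigmaCore M) := by
            have h2 := (Cfsg.Agent.S1350.result hG M hM).1.2.2 q q.2 hqσ
            have h3 := Cfsg.Agent.Lib.Helper12.card_mul_relIndex_eq (sigmaCore_le M)
            have h4 : (q : ℕ) ∣ Nat.card M := hqσ.2.1
            rw [← h3] at h4
            exact (Nat.Prime.dvd_mul q.2).mp h4 |>.resolve_right h2
          exact q.2.one_lt.ne' (Nat.eq_one_of_dvd_coprimes hcop hqE h1)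
        have hrkM : PRankLE (q : ℕ) 2 ↥M :=
          alpha_rank M q q.2 (fun h => hqσ (alpha_subset_sigma hG hM h))
        have hrkQ : PRankLE (q : ℕ) 2 ↥(pCoreOf (q : ℕ) E) := pRankLE_of_le (hQE.trans hEM) hrkM
        have hq2 : (q : ℕ) ≠ 2 :=
          prime_ne_two hG (hqE.trans ((Subgroup.card_dvd_of_le hEM).trans
            (Subgroup.card_subgroup_dvd_card M)))
        have hLQ : Subgroup.normalizer (A : Set G) ≤
            Subgroup.normalizer ((pCoreOf (q : ℕ) E : Subgroup G) : Set G) :=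
          le_normalizer_pCoreOf_of_le hLE
        have hcq := Cfsg.Agent.Lib.Helper10.rank_two_commutator_pgroup hq2 (pCoreOf (q : ℕ) E)
          (Subgroup.normalizer (A : Set G)) hQp hrkQ hLQ hLs hLodd
        intro e he
        obtain ⟨k, hk⟩ := hcq e (hPL' he)
        obtain ⟨j, hj⟩ := (hP.isPGroup ⟨e, he⟩)
        have hej : e ^ p ^ j = 1 := by
          have := congrArg Subtype.val hj
          simpa using this
        have hc : ((q : ℕ) ^ k).Coprime (p ^ j) :=
          Nat.Coprime.pow _ _ ((Nat.coprime_primes q.2 hpp).mpr hqp)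
        apply mem_of_pow_mem_of_coprime hc hk
        rw [hej]
        exact Subgroup.one_mem _
  have hPF : P ≤ Subgroup.centralizer ((fittingOf E : Subgroup G) : Set G) := by
    intro e he
    rw [fittingOf_eq_iSup, mem_centralizer_iSup_iff]
    intro q
    exact hcen q he
  refine ⟨hS, hAP, hNPA, hL'C, hCE, hLE, ?_, le_centralizer_symm hPF⟩
  intro e he
  exact inf_centralizer_fittingOf_le E hEs ⟨hP.le he, hPF he⟩

end Cfsg.Agent.Lib.Helper29.BG129
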