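import Mathlib
import Cfsg.Agent.Lib.Helper29.BG129
import Cfsg.Agent.Lib.Helper19.BG12B
import Cfsg.Agent.Lib.Helper9.BGExc11
import Cfsg.Agent.Lib.Helper12.Generation

/-!
B & G, Theorem 12.12 (statement S1421), part 1: basic facts and the existence of an
`E`-invariant regular line in the abelian case.
-/

set_option autoImplicit false
set_option linter.unusedVariables false
set_option linter.unusedSectionVars false
set_option linter.style.longLine false
set_option linter.unusedSimpArgs false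

open Cfsg
open scoped commutatorElement
open Cfsg.Agent.Lib.Helper10.BG
open Cfsg.Agent.Lib.Helper10
open Cfsg.Agent.Lib.Helper9.BGExc
open Cfsg.Agent.Lib.Helper19.BG12
open Cfsg.Agent.Lib.Helper19.BGCompl

namespace Cfsg.Agent.Lib.Helper29.BG1212

variable {G : Type*} [Group G]

/-- hypothesis (H) of Theorem 12.12. -/
def HypReg (M E : Subgroup G) : Prop :=
  ∀ e ∈ E, e ≠ 1 → (∀ p : ℕ, p.Prime → p ∣ orderOf e → p ∈ tau1 M ∪ tau3 M) →
    sigmaCore M ⊓ Subgroup.centralizer ({e} : Set G) = ⊥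

/-- all Sylow `q`-subgroups of `G` are abelian, for all `q ∈ τ₂(M)`. -/
def AbTau2 (M : Subgroup G) : Prop :=
  ∀ q : ℕ, q ∈ tau2 M → ∀ S : Subgroup G, IsSylowIn q S ⊤ → ∀ u ∈ S, ∀ v ∈ S, u * v = v * u

section ConjEnd

variable (A : Subgroup G)

/-- conjugation by `n ∈ N(A)` as an element of the monoid `End A`. -/
def cE (n : G) (hn : n ∈ Subgroup.normalizer (A : Set G)) : Monoid.End ↥A :=
  Cfsg.Agent.Lib.Helper12.conjEnd A n hn

theorem coe_cE (n : G) (hn : n ∈ Subgroup.normalizer (A : Set G)) (a : ↥A) :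
    ((cE A n hn a : ↥A) : G) = n * a * n⁻¹ := rfl

theorem cE_mul (n m : G) (hn : n ∈ Subgroup.normalizer (A : Set G))
    (hm : m ∈ Subgroup.normalizer (A : Set G)) :
    cE A n hn * cE A m hm = cE A (n * m) (Subgroup.mul_mem _ hn hm) := by
  ext a
  rw [Monoid.End.coe_mul, Function.comp_apply, coe_cE, coe_cE, coe_cE]
  group

theorem cE_one : cE A 1 (Subgroup.one_mem _) = 1 := by
  ext a
  rw [coe_cE, Monoid.End.coe_one, id_eq]
  group

theorem cE_pow (n : G) (hn : n ∈ Subgroup.normalizer (A : Set G)) (k : ℕ) :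
    cE A n hn ^ k = cE A (n ^ k) (Subgroup.pow_mem _ hn k) := by
  induction k with
  | zero => simp only [pow_zero]; exact (cE_one A).symm
  | succ k ih =>
    rw [pow_succ, ih, cE_mul]
    congr 1
    exact (pow_succ n k).symm

theorem cE_eq_one (n : G) (hn : n ∈ Subgroup.normalizer (A : Set G))
    (hc : n ∈ Subgroup.centralizer (A : Set G)) : cE A n hn = 1 := by
  ext a
  rw [coe_cE, Monoid.End.coe_one, id_eq]
  rw [Subgroup.mem_centralizer_iff] at hc
  rw [← hc a a.2]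
  group

end ConjEnd

variable [Finite G]

section Basic

variable {M E : Subgroup G}

/-- a prime dividing `|E|` lies in `τ₁(M) ∪ τ₂(M) ∪ τ₃(M)`. -/
theorem mem_tau_of_dvd_card (hG : IsMinSimpleOddOrder G) (hM : IsCoatom M)
    (hE : IsComplIn E (sigmaCore M) M) {q : ℕ} (hq : q.Prime) (hd : q ∣ Nat.card E) :
    (q ∈ tau1 M ∪ tau3 M) ∨ q ∈ tau2 M := by
  have hqσ : q ∉ sigma M := compl_not_mem_sigma hG hM hE hq hd
  have hqM : q ∣ Nat.card M := hd.trans (Subgroup.card_dvd_of_le hE.1)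
  have hrk2 : PRankLE q 2 ↥M := alpha_rank M q hq (fun h => hqσ (alpha_subset_sigma hG hM h))
  by_cases hrk1 : PRankLE q 1 ↥M
  · left
    by_cases hc : q ∣ Nat.card ↥⁅M, M⁆
    · exact Or.inr ⟨hq, hqσ, hc, hrk1⟩
    · exact Or.inl ⟨hq, hqσ, hqM, hc, hrk1⟩
  · exact Or.inr ⟨hq, hqσ, hrk2, hrk1⟩

theorem pRankLE_one_of_mem_tau13 {q : ℕ} (h : q ∈ tau1 M ∪ tau3 M) : PRankLE q 1 ↥M := by
  rcases h with h | h
  · exact h.2.2.2.2
  · exact h.2.2.2

theorem prime_of_mem_tau13 {q : ℕ} (h : q ∈ tau1 M ∪ tau3 M) : q.Prime := by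
  rcases h with h | h
  · exact h.1
  · exact h.1

/-- an element of `E` of prime order in `τ₁(M) ∪ τ₃(M)` is regular. -/
theorem reg_of_orderOf (hH : HypReg M E) {e : G} (he : e ∈ E) {q : ℕ} (hq : q ∈ tau1 M ∪ tau3 M)
    (ho : orderOf e = q) : sigmaCore M ⊓ Subgroup.centralizer ({e} : Set G) = ⊥ := by
  have hqp : q.Prime := prime_of_mem_tau13 hq
  apply hH e he
  · rintro rfl
    rw [orderOf_one] at ho
    exact hqp.one_lt.ne ho
  · intro p hp hd
    rw [ho] at hd
    rw [(Nat.prime_dvd_prime_iff_eq hp hqp).mp hd]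
    exact hq

/-- a nontrivial `q`-group contains an element of order `q`. -/
theorem exists_orderOf_eq_of_ne_bot {q : ℕ} [Fact q.Prime] {T : Subgroup G} (hT : IsPGroup q T)
    (h1 : T ≠ ⊥) : ∃ t ∈ T, orderOf t = q := by
  obtain ⟨k, hk⟩ := hT.exists_card_eq
  have hk0 : k ≠ 0 := by
    rintro rfl
    rw [pow_zero] at hk
    exact h1 (Subgroup.card_eq_one.mp hk)
  have hd : q ∣ Nat.card T := by rw [hk]; exact dvd_pow_self q hk0
  obtain ⟨t, ht⟩ := exists_prime_orderOf_dvd_card' (G := T) q hd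
  refine ⟨t, t.2, ?_⟩
  rw [← ht]
  exact (Subgroup.orderOf_coe t)

theorem orderOf_conj' (g f : G) : orderOf (g * f * g⁻¹) = orderOf f :=
  MulEquiv.orderOf_eq (MulAut.conj g) f

/-- conjugation by `g ∈ N(A) \ M` maps singular lines of `A` to regular lines. -/
theorem regular_cj (hG : IsMinSimpleOddOrder G) (hM : IsCoatom M) {p : ℕ} [Fact p.Prime]
    (hp : p ∈ tau2 M) {A X : Subgroup G} (hAM : A ≤ M) (hAe : IsElementaryAbelian p A)
    (hAc : Nat.card A = p ^ 2) (hXA : X ≤ A) (hX1 : X ≠ ⊥)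
    (hs : sigmaCore M ⊓ Subgroup.centralizer (X : Set G) ≠ ⊥) {g : G}
    (hgA : g ∈ Subgroup.normalizer (A : Set G)) (hgM : g ∉ M) :
    sigmaCore M ⊓ Subgroup.centralizer ((cj g X : Subgroup G) : Set G) = ⊥ := by
  by_contra hs'
  have hXA' : cj g X ≤ A := by
    have := cj_mono g hXA
    rwa [cj_eq_self_of_mem_normalizer hgA] at this
  have hX1' : cj g X ≠ ⊥ := fun h => hX1 (cj_eq_bot_iff.mp h)
  obtain ⟨hC, hu⟩ := tau2_singular hG hM hp hAM hAe hAc hXA hX1 hs
  obtain ⟨hC', hu'⟩ := tau2_singular hG hM hp hAM hAe hAc hXA' hX1' hs'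
  have h1 : Subgroup.centralizer ((cj g X : Subgroup G) : Set G) ≤ cj g M := by
    rw [centralizer_cj]
    exact cj_mono g hC
  have h2 := hu' _ (isCoatom_map_conj g hM) h1
  exact hgM (mem_of_map_conj_eq_self hG hM h2)

/-- Lemma (1a) for a regular element `f` of prime order of `E`. -/
theorem comm_le_centralizer_sigmaCore (hG : IsMinSimpleOddOrder G) (hM : IsCoatom M)
    (hE : IsComplIn E (sigmaCore M) M) (hH : HypReg M E)
    (hnil : Group.IsNilpotent ↥(sigmaCore M)) {f : G} (hfE : f ∈ E) {r : ℕ}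
    (hr : r ∈ tau1 M ∪ tau3 M) (hfo : orderOf f = r) {Y : Subgroup G} (hYE : Y ≤ E)
    (hfY : f ∈ Subgroup.normalizer (Y : Set G)) (hYr : (Nat.card Y).Coprime r) :
    ⁅Y, Subgroup.zpowers f⁆ ≤ Subgroup.centralizer (sigmaCore M : Set G) := by
  have hrp : r.Prime := prime_of_mem_tau13 hr
  have hrσ : r ∉ sigma M := by
    rcases hr with h | h
    · exact h.2.1
    · exact h.2.1
  have hfM : f ∈ M := hE.1 hfE
  apply lem1a hG (sigmaCore M) Y (Subgroup.zpowers f) r hrp
  · rw [Nat.card_zpowers, hfo]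
  · exact hnil
  · exact Subgroup.zpowers_le.mpr (le_normalizer_sigmaCore M hfM)
  · exact Subgroup.zpowers_le.mpr hfY
  · exact (hYE.trans hE.1).trans (le_normalizer_sigmaCore M)
  · exact Nat.Coprime.coprime_dvd_left (Subgroup.card_dvd_of_le hYE) (compl_coprime hG hM hE)
  · exact hYr
  · exact coprime_card_sigmaCore hG hM hrp hrσ
  · have h1 := reg_of_orderOf hH hfE hr hfo
    rw [eq_bot_iff, ← h1]
    apply inf_le_inf_left
    apply Subgroup.centralizer_le
    intro x hx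
    rw [Set.mem_singleton_iff] at hx
    rw [hx]
    exact Subgroup.mem_zpowers f
  · apply isSolvable_of_ne_top hG
    apply ne_top_of_le_isCoatom hM
    exact sup_le (sup_le (sigmaCore_le M) (hYE.trans hE.1)) (Subgroup.zpowers_le.mpr hfM)

end Basic

section TauTwo

variable {M E : Subgroup G}

/-- In the abelian case, a regular element `f` of prime order `r ∈ τ₁ ∪ τ₃` of `E` centralizes
`O_q(E)` for every `q ∈ τ₂(M)`. -/
theorem centralizes_pCoreOf_tau2 (hG : IsMinSimpleOddOrder G) (hM : IsCoatom M)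
    (hE : IsComplIn E (sigmaCore M) M) (hH : HypReg M E) (hab : AbTau2 M) {q : ℕ}
    [Fact q.Prime] (hq : q ∈ tau2 M) {f : G} (hfE : f ∈ E) {r : ℕ}
    (hr : r ∈ tau1 M ∪ tau3 M) (hfo : orderOf f = r) :
    f ∈ Subgroup.centralizer (pCoreOf q E : Set G) := by
  have hqp : q.Prime := Fact.out
  have hrp : r.Prime := prime_of_mem_tau13 hr
  obtain ⟨B, hBE, hBe, hBc⟩ := tau2_elem_sq_compl hG hM hE hq
  have hBM : B ≤ M := hBE.trans hE.1
  obtain ⟨⟨hEB, hXB⟩, ⟨-, -, hnot⟩, -⟩ :=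
    Cfsg.Agent.S1418.result hG M hM E hE q hq B ⟨hBE, hBe, hBc⟩
  obtain ⟨hnil, -, -, -, -, -⟩ := Cfsg.Agent.S1417.result hG M hM q hq B ⟨hBM, hBe, hBc⟩
  have hBq : IsPGroup q B := isPGroup_of_elem hBe
  obtain ⟨P, hP, hBP⟩ := exists_isSylowIn_ge hBE hBq
  obtain ⟨-, -, -, -, -, hNE, -, -⟩ :=
    Cfsg.Agent.Lib.Helper29.BG129.abelian_tau2 hG hM hE hq ⟨hBE, hBe, hBc⟩ hP (hab q hq)
  obtain ⟨g, hgB, hgM⟩ := SetLike.not_le_iff_exists.mp hnot
  have hgE : g ∈ Subgroup.normalizer (E : Set G) := hNE hgB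
  have hgE' : g⁻¹ ∈ Subgroup.normalizer (E : Set G) := inv_mem hgE
  set Y := pCoreOf q E with hY
  have hYE : Y ≤ E := pCoreOf_le q E
  have hYq : IsPGroup q Y := isPGroup_pCoreOf q E
  have hEY : E ≤ Subgroup.normalizer (Y : Set G) := le_normalizer_pCoreOf_of_le Subgroup.le_normalizer
  have hgY : g ∈ Subgroup.normalizer (Y : Set G) :=
    le_normalizer_pCoreOf_of_le (le_refl (Subgroup.normalizer (E : Set G))) hgE
  have hqr : q ≠ r := by
    rintro rfl
    apply hq.2.2.2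
    exact pRankLE_one_of_mem_tau13 hr
  have hYr : (Nat.card Y).Coprime r := by
    obtain ⟨k, hk⟩ := hYq.exists_card_eq
    rw [hk]
    exact Nat.Coprime.pow_left k ((Nat.coprime_primes hqp hrp).mpr hqr)
  set Y₀ := Y ⊓ Subgroup.centralizer (sigmaCore M : Set G) with hY₀
  -- the key property
  have key : ∀ f' ∈ E, orderOf f' = r → ∀ y ∈ Y, ⁅y, f'⁆ ∈ Y₀ := by
    intro f' hf'E hf'o y hy
    have h1 := comm_le_centralizer_sigmaCore hG hM hE hH hnil hf'E hr hf'o hYE (hEY hf'E) hYr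
    refine ⟨?_, h1 (Subgroup.commutator_mem_commutator hy (Subgroup.mem_zpowers f'))⟩
    have h2 : f' * y⁻¹ * f'⁻¹ ∈ Y := conj_mem_of_mem_normalizer (hEY hf'E) (Y.inv_mem hy)
    have h3 : ⁅y, f'⁆ = y * (f' * y⁻¹ * f'⁻¹) := by rw [commutatorElement_def]; group
    rw [h3]
    exact Y.mul_mem hy h2
  -- the intersection of `Y₀` and its conjugate is trivial
  have hT : Y₀ ⊓ cj g Y₀ = ⊥ := by
    by_contra hne
    have hTq : IsPGroup q (Y₀ ⊓ cj g Y₀ : Subgroup G) := hYq.to_le (inf_le_left.trans inf_le_left)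
    obtain ⟨t, ht, hto⟩ := exists_orderOf_eq_of_ne_bot hTq hne
    have hs : g⁻¹ * t * g ∈ Y₀ := mem_cj.mp ht.2
    set s' := g⁻¹ * t * g with hs'
    have hso : orderOf s' = q := by
      have := orderOf_conj' g⁻¹ t
      rw [inv_inv] at this
      rw [hs', this, hto]
    have hXc : Nat.card (Subgroup.zpowers s') = q := by rw [Nat.card_zpowers, hso]
    have hXE : Subgroup.zpowers s' ≤ E := Subgroup.zpowers_le.mpr (hYE hs.1)
    have hXB' : Subgroup.zpowers s' ≤ B := hXB _ hXE hXc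
    have hX1 : Subgroup.zpowers s' ≠ ⊥ := ne_bot_of_card_prime hXc
    have hcent : ∀ z : G, z ∈ Subgroup.centralizer (sigmaCore M : Set G) →
        sigmaCore M ≤ Subgroup.centralizer ((Subgroup.zpowers z : Subgroup G) : Set G) := by
      intro z hz
      apply le_centralizer_symm
      exact Subgroup.zpowers_le.mpr hz
    have hsing : sigmaCore M ⊓ Subgroup.centralizer ((Subgroup.zpowers s' : Subgroup G) : Set G) ≠ ⊥ := by
      rw [inf_eq_left.mpr (hcent s' hs.2)]
      exact sigmaCore_ne_bot hG hM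
    have hreg := regular_cj hG hM hq hBM hBe hBc hXB' hX1 hsing hgB hgM
    have hcj : cj g (Subgroup.zpowers s') = Subgroup.zpowers t := by
      rw [cj, MonoidHom.map_zpowers]
      congr 1
      simp only [MulEquiv.coe_toMonoidHom, MulAut.conj_apply, hs']
      group
    rw [hcj, inf_eq_left.mpr (hcent t ht.1.2)] at hreg
    exact sigmaCore_ne_bot hG hM hreg
  -- `g f g⁻¹` centralizes `Y`
  have hf'E : g * f * g⁻¹ ∈ E := conj_mem_of_mem_normalizer hgE hfE
  have hf'o : orderOf (g * f * g⁻¹) = r := by rw [orderOf_conj', hfo]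
  have hcomm : ∀ y ∈ Y, ⁅y, g * f * g⁻¹⁆ = 1 := by
    intro y hy
    have h1 := key _ hf'E hf'o y hy
    have hy' : g⁻¹ * y * g ∈ Y := conj_mem_of_mem_normalizer' hgY hy
    have h2 := key f hfE hfo _ hy'
    have h3 : ⁅y, g * f * g⁻¹⁆ = g * ⁅g⁻¹ * y * g, f⁆ * g⁻¹ := by
      simp only [commutatorElement_def]
      group
    have h4 : ⁅y, g * f * g⁻¹⁆ ∈ cj g Y₀ := by
      rw [h3]
      exact conj_mem_cj h2
    have h5 : ⁅y, g * f * g⁻¹⁆ ∈ Y₀ ⊓ cj g Y₀ := ⟨h1, h4⟩
    rw [hT, Subgroup.mem_bot] at h5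
    exact h5
  rw [Subgroup.mem_centralizer_iff]
  intro y hy
  have hy' : g * y * g⁻¹ ∈ Y := conj_mem_of_mem_normalizer hgY hy
  have h1 := hcomm _ hy'
  rw [commutatorElement_eq_one_iff_mul_comm] at h1
  have h2 : y * f = g⁻¹ * ((g * y * g⁻¹) * (g * f * g⁻¹)) * g := by group
  rw [h2, h1]
  group

/-- an `r`-subgroup of `M` is cyclic, for `r ∈ τ₁(M) ∪ τ₃(M)`. -/
theorem isCyclic_of_mem_tau13 (hG : IsMinSimpleOddOrder G) {r : ℕ} [Fact r.Prime]
    (hr : r ∈ tau1 M ∪ tau3 M) {Q : Subgroup G} (hQM : Q ≤ M) (hQ : IsPGroup r Q) :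
    IsCyclic ↥Q := by
  by_cases hQ1 : Q = ⊥
  · rw [hQ1]
    exact inferInstance
  · exact isCyclic_of_pRankLE_one (prime_ne_two_of_pgroup hG hQ hQ1)
      (pRankLE_one_of_mem_tau13 hr) hQM hQ

/-- In the abelian case a regular element of prime order `r ∈ τ₁ ∪ τ₃` of `E` lies in `F(E)`. -/
theorem mem_fittingOf_of_regular (hG : IsMinSimpleOddOrder G) (hM : IsCoatom M)
    (hE : IsComplIn E (sigmaCore M) M) (hH : HypReg M E) (hab : AbTau2 M)
    (hnil : Group.IsNilpotent ↥(sigmaCore M)) {f : G} (hfE : f ∈ E) {r : ℕ}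
    (hr : r ∈ tau1 M ∪ tau3 M) (hfo : orderOf f = r) : f ∈ fittingOf E := by
  have hrp : r.Prime := prime_of_mem_tau13 hr
  have : Fact r.Prime := ⟨hrp⟩
  have hEtop : E ≠ ⊤ := ne_top_of_le_isCoatom hM hE.1
  have hEs : Group.IsSolvable ↥E := isSolvable_of_ne_top hG hEtop
  apply inf_centralizer_fittingOf_le E hEs
  suffices hc : f ∈ Subgroup.centralizer (fittingOf E : Set G) from ⟨hfE, hc⟩
  rw [fittingOf_eq_iSup, mem_centralizer_iSup_iff]
  intro q
  have hqp : (q : ℕ).Prime := q.2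
  haveI : Fact (q : ℕ).Prime := ⟨hqp⟩
  have hYE : pCoreOf (q : ℕ) E ≤ E := pCoreOf_le _ E
  have hYq : IsPGroup (q : ℕ) (pCoreOf (q : ℕ) E) := isPGroup_pCoreOf _ E
  have hEY : E ≤ Subgroup.normalizer (pCoreOf (q : ℕ) E : Set G) :=
    le_normalizer_pCoreOf_of_le Subgroup.le_normalizer
  have hfr : IsPGroup r (Subgroup.zpowers f) := by
    apply IsPGroup.of_card (n := 1)
    rw [Nat.card_zpowers, hfo, pow_one]
  by_cases hqr : (q : ℕ) = r
  · -- `O_r(E) ⟨f⟩` is a cyclic group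
    have hW : IsPGroup r (Subgroup.zpowers f ⊔ pCoreOf (q : ℕ) E : Subgroup G) := by
      apply IsPGroup.to_sup_of_normal_right' hfr (hqr ▸ hYq)
      exact Subgroup.zpowers_le.mpr (hEY hfE)
    have hWM : (Subgroup.zpowers f ⊔ pCoreOf (q : ℕ) E : Subgroup G) ≤ M :=
      sup_le (Subgroup.zpowers_le.mpr (hE.1 hfE)) (hYE.trans hE.1)
    haveI hcyc := isCyclic_of_mem_tau13 hG hr hWM hW
    rw [Subgroup.mem_centralizer_iff]
    intro y hy
    have h1 := mul_comm' (⟨y, Subgroup.mem_sup_right hy⟩ :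
        ↥(Subgroup.zpowers f ⊔ pCoreOf (q : ℕ) E : Subgroup G))
      ⟨f, Subgroup.mem_sup_left (Subgroup.mem_zpowers f)⟩
    exact congrArg Subtype.val h1
  · by_cases hqd : (q : ℕ) ∣ Nat.card E
    · rcases mem_tau_of_dvd_card hG hM hE hqp hqd with h13 | h2
      · -- `q ∈ τ₁ ∪ τ₃`
        have hYr : (Nat.card (pCoreOf (q : ℕ) E)).Coprime r := by
          obtain ⟨k, hk⟩ := hYq.exists_card_eq
          rw [hk]
          exact Nat.Coprime.pow_left k ((Nat.coprime_primes hqp hrp).mpr hqr)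
        have h1 := comm_le_centralizer_sigmaCore hG hM hE hH hnil hfE hr hfo hYE (hEY hfE) hYr
        have hle : ⁅pCoreOf (q : ℕ) E, Subgroup.zpowers f⁆ ≤ pCoreOf (q : ℕ) E := by
          rw [Subgroup.commutator_le]
          intro y hy z hz
          have hz' : z ∈ Subgroup.normalizer (pCoreOf (q : ℕ) E : Set G) :=
            Subgroup.zpowers_le.mpr (hEY hfE) hz
          have h2 : z * y⁻¹ * z⁻¹ ∈ pCoreOf (q : ℕ) E :=
            conj_mem_of_mem_normalizer hz' (Subgroup.inv_mem _ hy)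
          have h3 : ⁅y, z⁆ = y * (z * y⁻¹ * z⁻¹) := by rw [commutatorElement_def]; group
          rw [h3]
          exact Subgroup.mul_mem _ hy h2
        have hbot : ⁅pCoreOf (q : ℕ) E, Subgroup.zpowers f⁆ = ⊥ := by
          by_contra hne
          obtain ⟨z, hz, hzo⟩ := exists_orderOf_eq_of_ne_bot (hYq.to_le hle) hne
          have hzE : z ∈ E := hYE (hle hz)
          have hreg := reg_of_orderOf hH hzE h13 hzo
          have hzc : z ∈ Subgroup.centralizer (sigmaCore M : Set G) := h1 hz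
          have h4 : sigmaCore M ≤ Subgroup.centralizer ({z} : Set G) := by
            intro x hx
            rw [Subgroup.mem_centralizer_singleton_iff]
            rw [Subgroup.mem_centralizer_iff] at hzc
            exact hzc x hx
          rw [inf_eq_left.mpr h4] at hreg
          exact sigmaCore_ne_bot hG hM hreg
        rw [Subgroup.commutator_eq_bot_iff_le_centralizer] at hbot
        rw [Subgroup.mem_centralizer_iff]
        intro y hy
        have h5 := hbot hy
        rw [Subgroup.mem_centralizer_iff] at h5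
        exact (h5 f (Subgroup.mem_zpowers f)).symm
      · exact centralizes_pCoreOf_tau2 hG hM hE hH hab h2 hfE hr hfo
    · have hb : pCoreOf (q : ℕ) E = ⊥ :=
        eq_bot_of_isPGroup_of_not_dvd_card hYq
          (fun h => hqd (h.trans (Subgroup.card_dvd_of_le hYE)))
      rw [hb, Subgroup.mem_centralizer_iff]
      intro y hy
      rw [Subgroup.coe_bot, Set.mem_singleton_iff] at hy
      rw [hy, one_mul, mul_one]

/-- a subgroup of order `r` of `F(E)` is normalized by `N(E)`, for `r ∈ τ₁ ∪ τ₃`. -/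
theorem normalizer_le_normalizer_zpowers (hG : IsMinSimpleOddOrder G) (hM : IsCoatom M)
    (hE : IsComplIn E (sigmaCore M) M) {f : G} (hfF : f ∈ fittingOf E) {r : ℕ}
    (hr : r ∈ tau1 M ∪ tau3 M) (hfo : orderOf f = r) :
    Subgroup.normalizer (E : Set G) ≤ Subgroup.normalizer ((Subgroup.zpowers f : Subgroup G) : Set G) := by
  have hrp : r.Prime := prime_of_mem_tau13 hr
  haveI : Fact r.Prime := ⟨hrp⟩
  have hfr : IsPGroup r (Subgroup.zpowers f) := by
    apply IsPGroup.of_card (n := 1)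
    rw [Nat.card_zpowers, hfo, pow_one]
  have hYE : pCoreOf r E ≤ E := pCoreOf_le _ E
  have hYr : IsPGroup r (pCoreOf r E) := isPGroup_pCoreOf _ E
  have hfY : f ∈ pCoreOf r E :=
    pgroup_le_pCoreOf_of_le_fittingOf hrp (Subgroup.zpowers_le.mpr hfF) hfr (Subgroup.mem_zpowers f)
  haveI hcyc : IsCyclic ↥(pCoreOf r E) := isCyclic_of_mem_tau13 hG hr (hYE.trans hE.1) hYr
  have hfr' : f ^ r = 1 := by rw [← hfo]; exact pow_orderOf_eq_one f
  have hrk : PRankLE r 1 ↥(pCoreOf r E) :=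
    Cfsg.Agent.Lib.Helper29.BG129.pRankLE_of_le (hYE.trans hE.1) (pRankLE_one_of_mem_tau13 hr)
  have key : ∀ g ∈ Subgroup.normalizer (E : Set G), g * f * g⁻¹ ∈ Subgroup.zpowers f := by
    intro g hg
    have hgY : g ∈ Subgroup.normalizer (pCoreOf r E : Set G) :=
      le_normalizer_pCoreOf_of_le (le_refl (Subgroup.normalizer (E : Set G))) hg
    have hf'Y : g * f * g⁻¹ ∈ pCoreOf r E := conj_mem_of_mem_normalizer hgY hfY
    have hcen : (⟨f, hfY⟩ : ↥(pCoreOf r E)) ∈ Subgroup.center ↥(pCoreOf r E) := by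
      rw [Subgroup.mem_center_iff]
      intro y
      exact mul_comm' y _
    have hzp : (⟨f, hfY⟩ : ↥(pCoreOf r E)) ^ r = 1 := by
      apply Subtype.ext
      simpa using hfr'
    have hwp : (⟨g * f * g⁻¹, hf'Y⟩ : ↥(pCoreOf r E)) ^ r = 1 := by
      apply Subtype.ext
      simp only [Subgroup.coe_pow, Subgroup.coe_one]
      rw [conj_pow, hfr']
      group
    have hEA := isElementaryAbelian_zpowers_sup_zpowers hcen hzp hwp
    have hcard := hrk _ hEA.1 hEA.2
    rw [pow_one] at hcard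
    have hzc : Nat.card (Subgroup.zpowers (⟨f, hfY⟩ : ↥(pCoreOf r E))) = r := by
      rw [Nat.card_zpowers, Subgroup.orderOf_mk]
      exact hfo
    have heq : Subgroup.zpowers (⟨f, hfY⟩ : ↥(pCoreOf r E)) =
        Subgroup.zpowers (⟨f, hfY⟩ : ↥(pCoreOf r E)) ⊔
          Subgroup.zpowers (⟨g * f * g⁻¹, hf'Y⟩ : ↥(pCoreOf r E)) := by
      apply Subgroup.eq_of_le_of_card_ge le_sup_left
      rw [hzc]
      exact hcard
    have hmem : (⟨g * f * g⁻¹, hf'Y⟩ : ↥(pCoreOf r E)) ∈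
        Subgroup.zpowers (⟨f, hfY⟩ : ↥(pCoreOf r E)) := by
      rw [heq]
      exact Subgroup.mem_sup_right (Subgroup.mem_zpowers _)
    obtain ⟨k, hk⟩ := Subgroup.mem_zpowers_iff.mp hmem
    rw [Subgroup.mem_zpowers_iff]
    refine ⟨k, ?_⟩
    have := congrArg Subtype.val hk
    simpa using this
  apply Cfsg.Agent.Lib.Helper10.BG.le_normalizer_of_conj_mem
  intro g hg x hx
  obtain ⟨k, rfl⟩ := Subgroup.mem_zpowers_iff.mp hx
  have h1 : g * f ^ k * g⁻¹ = (g * f * g⁻¹) ^ k := by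
    rw [conj_zpow]
  rw [h1]
  exact Subgroup.zpow_mem _ (key g hg) k

end TauTwo

section ClaimR

variable {M E : Subgroup G}

theorem eq_one_of_cE_fixed {A : Subgroup G} {x : G} (hx : x ∈ Subgroup.normalizer (A : Set G))
    (hbot : A ⊓ Subgroup.centralizer ({x} : Set G) = ⊥) (v : ↥A) (hv : cE A x hx v = v) :
    v = 1 := by
  have h1 : x * (v : G) * x⁻¹ = v := by
    rw [← coe_cE A x hx v, hv]
  have h2 : (v : G) ∈ A ⊓ Subgroup.centralizer ({x} : Set G) := by
    have h3 : (v : G) ∈ Subgroup.centralizer ({x} : Set G) := by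
      rw [Subgroup.mem_centralizer_singleton_iff]
      calc (v : G) * x = x * v * x⁻¹ * x := by rw [h1]
        _ = x * v := by group
    exact ⟨v.2, h3⟩
  rw [hbot, Subgroup.mem_bot] at h2
  exact Subtype.ext h2

/-- conjugation by elements of `N(A)` commutes on `A` when `[N(A), N(A)] ≤ C(A)`. -/
theorem conj_comm_of_commutator_le {A : Subgroup G}
    (hLK : ⁅Subgroup.normalizer (A : Set G), Subgroup.normalizer (A : Set G)⁆ ≤
      Subgroup.centralizer (A : Set G)) {x e : G} (hx : x ∈ Subgroup.normalizer (A : Set G))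
    (he : e ∈ Subgroup.normalizer (A : Set G)) {d : G} (hd : d ∈ A) :
    x * e * d * (x * e)⁻¹ = e * x * d * (e * x)⁻¹ := by
  have hc : ⁅x⁻¹, e⁻¹⁆ ∈ Subgroup.centralizer (A : Set G) :=
    hLK (Subgroup.commutator_mem_commutator (inv_mem hx) (inv_mem he))
  have hc' : x⁻¹ * e⁻¹ * x * e ∈ Subgroup.centralizer (A : Set G) := by
    have : ⁅x⁻¹, e⁻¹⁆ = x⁻¹ * e⁻¹ * x * e := by rw [commutatorElement_def]; group
    rwa [this] at hc
  rw [Subgroup.mem_centralizer_iff] at hc'
  have h1 := hc' d hd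
  calc x * e * d * (x * e)⁻¹ = e * x * ((x⁻¹ * e⁻¹ * x * e) * d) * (x * e)⁻¹ := by group
    _ = e * x * (d * (x⁻¹ * e⁻¹ * x * e)) * (x * e)⁻¹ := by rw [h1]
    _ = e * x * d * (e * x)⁻¹ := by group

/-- **Claim R.** In the abelian case, `A` has an `E`-invariant regular line. -/
theorem exists_invariant_regular_line (hG : IsMinSimpleOddOrder G) (hM : IsCoatom M)
    (hE : IsComplIn E (sigmaCore M) M) (hH : HypReg M E) (hab : AbTau2 M) {p : ℕ}
    [Fact p.Prime] (hp : p ∈ tau2 M) {A : Subgroup G}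
    (hA : A ≤ E ∧ IsElementaryAbelian p A ∧ Nat.card A = p ^ 2) :
    ∃ A₁ : Subgroup G, A₁ ≤ A ∧ Nat.card A₁ = p ∧ E ≤ Subgroup.normalizer (A₁ : Set G) ∧
      sigmaCore M ⊓ Subgroup.centralizer (A₁ : Set G) = ⊥ := by
  have hpp : p.Prime := Fact.out
  obtain ⟨hAE, hAe, hAc⟩ := hA
  have hAM : A ≤ M := hAE.trans hE.1
  have hAp : IsPGroup p A := isPGroup_of_elem hAe
  have hA1 : A ≠ ⊥ := Cfsg.Agent.Lib.Helper19.BG12.ne_bot_of_card_sq hAc
  obtain ⟨⟨hEA, hXA⟩, ⟨hCA, hMA, hnot⟩, -⟩ :=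
    Cfsg.Agent.S1418.result hG M hM E hE p hp A ⟨hAE, hAe, hAc⟩
  obtain ⟨hnil, hb, -, hd, -, A₁, hA₁A, hA₁c, hA₁r⟩ :=
    Cfsg.Agent.S1417.result hG M hM p hp A ⟨hAM, hAe, hAc⟩
  obtain ⟨P, hP, hAP⟩ := exists_isSylowIn_ge hAE hAp
  obtain ⟨hPT, -, hNPA, hLK, hKE, hLE, hPF, hFC⟩ :=
    Cfsg.Agent.Lib.Helper29.BG129.abelian_tau2 hG hM hE hp ⟨hAE, hAe, hAc⟩ hP (hab p hp)
  by_contra hno
  push Not at hno
  obtain ⟨g, hgA, hgM⟩ := SetLike.not_le_iff_exists.mp hnot
  -- Step 1: no `E`-invariant line at all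
  have hno' : ∀ X : Subgroup G, X ≤ A → Nat.card X = p →
      ¬ E ≤ Subgroup.normalizer (X : Set G) := by
    intro X hXA' hXc hEX
    have hs := hno X hXA' hXc hEX
    have hX1 : X ≠ ⊥ := ne_bot_of_card_prime hXc
    have hreg := regular_cj hG hM hp hAM hAe hAc hXA' hX1 hs hgA hgM
    have hle : cj g X ≤ A := by
      have := cj_mono g hXA'
      rwa [cj_eq_self_of_mem_normalizer hgA] at this
    have hEn : E ≤ Subgroup.normalizer ((cj g X : Subgroup G) : Set G) := by
      rw [normalizer_cj]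
      have := cj_mono g hEX
      rwa [cj_eq_self_of_mem_normalizer (hLE hgA)] at this
    exact hno (cj g X) hle (by rw [card_cj, hXc]) hEn hreg
  -- Step 2: the dichotomy
  have hdich : ∀ x ∈ Subgroup.normalizer (A : Set G),
      A ⊓ Subgroup.centralizer ({x} : Set G) = ⊥ ∨ x ∈ Subgroup.centralizer (A : Set G) := by
    intro x hx
    have hdvd : Nat.card (A ⊓ Subgroup.centralizer ({x} : Set G) : Subgroup G) ∣ p ^ 2 :=
      hAc ▸ Subgroup.card_dvd_of_le inf_le_left
    obtain ⟨k, hk2, hk⟩ := (Nat.dvd_prime_pow hpp).mp hdvd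
    interval_cases k
    · left
      rw [pow_zero] at hk
      exact Subgroup.card_eq_one.mp hk
    · exfalso
      rw [pow_one] at hk
      apply hno' _ inf_le_left hk
      apply Cfsg.Agent.Lib.Helper10.BG.le_normalizer_of_conj_mem
      intro e he d hd'
      refine ⟨conj_mem_of_mem_normalizer (hEA he) hd'.1, ?_⟩
      have hdx : d * x = x * d := Subgroup.mem_centralizer_singleton_iff.mp hd'.2
      have hkey := conj_comm_of_commutator_le hLK hx (hEA he) hd'.1
      change e * d * e⁻¹ ∈ Subgroup.centralizer ({x} : Set G)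
      rw [Subgroup.mem_centralizer_singleton_iff]
      have h3 : x * d * x⁻¹ = d := by rw [← hdx]; group
      calc e * d * e⁻¹ * x = (e * x * d * (e * x)⁻¹) * x := by
            have : e * x * d * (e * x)⁻¹ = e * (x * d * x⁻¹) * e⁻¹ := by group
            rw [this, h3]
        _ = (x * e * d * (x * e)⁻¹) * x := by rw [hkey]
        _ = x * (e * d * e⁻¹) := by group
    · right
      have h1 : A ⊓ Subgroup.centralizer ({x} : Set G) = A :=
        Subgroup.eq_of_le_of_card_ge inf_le_left (by rw [hk, hAc])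
      have h2 : A ≤ Subgroup.centralizer ({x} : Set G) := inf_eq_left.mp h1
      rw [Subgroup.mem_centralizer_iff]
      intro a ha
      exact Subgroup.mem_centralizer_singleton_iff.mp (h2 ha)
  -- Step 3: an element `e₁ ∈ E \ C(A)` of minimal order
  have hex : {e : G | e ∈ E ∧ e ∉ Subgroup.centralizer (A : Set G)}.Nonempty := by
    by_contra hall
    rw [Set.not_nonempty_iff_eq_empty] at hall
    apply hno' A₁ hA₁A hA₁c
    apply Cfsg.Agent.Lib.Helper10.BG.le_normalizer_of_conj_mem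
    intro e he a ha
    have hec : e ∈ Subgroup.centralizer (A : Set G) := by
      by_contra hec
      have : e ∈ ({e : G | e ∈ E ∧ e ∉ Subgroup.centralizer (A : Set G)} : Set G) := ⟨he, hec⟩
      rw [hall] at this
      exact this
    rw [Subgroup.mem_centralizer_iff] at hec
    have h1 : e * a * e⁻¹ = a := by rw [← hec a (hA₁A ha)]; group
    rw [h1]
    exact ha
  obtain ⟨e₁, ⟨he₁E, he₁K⟩, hmin⟩ := Set.exists_min_image _ orderOf (Set.toFinite _) hex
  have he₁N : e₁ ∈ Subgroup.normalizer (A : Set G) := hEA he₁E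
  have hn0 : orderOf e₁ ≠ 0 := (orderOf_pos e₁).ne'
  have hpow : ∀ s : ℕ, s.Prime → s ∣ orderOf e₁ → e₁ ^ s ∈ Subgroup.centralizer (A : Set G) := by
    intro s hs hsd
    by_contra hc
    have h1 := hmin (e₁ ^ s) ⟨E.pow_mem he₁E s, hc⟩
    rw [orderOf_pow_of_dvd hs.ne_zero hsd] at h1
    have h2 : orderOf e₁ / s < orderOf e₁ := Nat.div_lt_self (orderOf_pos e₁) hs.one_lt
    omega
  have hn1 : orderOf e₁ ≠ 1 := by
    intro h
    rw [orderOf_eq_one_iff] at h
    apply he₁K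
    rw [h]
    exact Subgroup.one_mem _
  obtain ⟨r, hrp, hrd⟩ := Nat.exists_prime_and_dvd hn1
  haveI : Fact r.Prime := ⟨hrp⟩
  have huniq : ∀ {s : ℕ}, s.Prime → s ∣ orderOf e₁ → s = r := by
    intro s hs hsd
    by_contra hsr
    apply he₁K
    exact Cfsg.Agent.Lib.Helper29.BG129.mem_of_pow_mem_of_coprime
      ((Nat.coprime_primes hs hrp).mpr hsr) (hpow s hs hsd) (hpow r hrp hrd)
  have hord := Nat.eq_prime_pow_of_unique_prime_dvd hn0 huniq
  set k := (orderOf e₁).primeFactorsList.length with hk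
  have hk0 : k ≠ 0 := by
    intro h0
    rw [h0, pow_zero] at hord
    exact hn1 hord
  have he₁r : IsPGroup r (Subgroup.zpowers e₁) := by
    apply IsPGroup.of_card (n := k)
    rw [Nat.card_zpowers, hord]
  -- `r ≠ p`
  have hrp_ne : r ≠ p := by
    rintro rfl
    apply he₁K
    have hQ : IsPGroup r (Subgroup.zpowers e₁ ⊔ A : Subgroup G) :=
      IsPGroup.to_sup_of_normal_right' he₁r hAp (Subgroup.zpowers_le.mpr he₁N)
    have hQM : (Subgroup.zpowers e₁ ⊔ A : Subgroup G) ≤ M :=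
      sup_le (Subgroup.zpowers_le.mpr (hE.1 he₁E)) hAM
    have hcomm := tau2_pgroup_comm hG hM hp hQ hQM
    rw [Subgroup.mem_centralizer_iff]
    intro a ha
    exact hcomm a (Subgroup.mem_sup_right ha) e₁
      (Subgroup.mem_sup_left (Subgroup.mem_zpowers e₁))
  -- `r ∈ τ₁ ∪ τ₃`
  have hrE : r ∣ Nat.card E := hrd.trans (Subgroup.orderOf_dvd_natCard E he₁E)
  have hr13 : r ∈ tau1 M ∪ tau3 M := by
    rcases mem_tau_of_dvd_card hG hM hE hrp hrE with h | h
    · exact h
    · exfalso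
      apply he₁K
      exact tau2_cross_centralize hG hM hE hp h (Ne.symm hrp_ne) hAE hAe hAc he₁E he₁r
  -- the element `f` of order `r`
  obtain ⟨k', hk'⟩ := Nat.exists_eq_succ_of_ne_zero hk0
  have hfo : orderOf (e₁ ^ r ^ k') = r := by
    rw [orderOf_pow_of_dvd (pow_ne_zero _ hrp.ne_zero), hord, hk', pow_succ,
      Nat.mul_div_cancel_left _ (pow_pos hrp.pos _)]
    rw [hord, hk']
    exact pow_dvd_pow r (Nat.le_succ k')
  have hfE : e₁ ^ r ^ k' ∈ E := E.pow_mem he₁E _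
  -- Step 4
  have hfF := mem_fittingOf_of_regular hG hM hE hH hab hnil hfE hr13 hfo
  have hN := normalizer_le_normalizer_zpowers hG hM hE hfF hr13 hfo
  -- Step 5
  have hfr : IsPGroup r (Subgroup.zpowers (e₁ ^ r ^ k')) := by
    apply IsPGroup.of_card (n := 1)
    rw [Nat.card_zpowers, hfo, pow_one]
  have hZ1 : Subgroup.zpowers (e₁ ^ r ^ k') ≠ ⊥ := by
    apply ne_bot_of_card_prime (p := r)
    rw [Nat.card_zpowers, hfo]
  have hZtop : Subgroup.zpowers (e₁ ^ r ^ k') ≠ ⊤ :=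
    ne_top_of_le_isCoatom hM (Subgroup.zpowers_le.mpr (hE.1 hfE))
  have hNtop := Cfsg.Agent.Lib.Lead.BGTrans.normalizer_ne_top hG.2 hZ1 hZtop
  obtain ⟨Ms, hMs, hNMs⟩ := exists_isCoatom_ge hNtop
  have hLMs : Subgroup.normalizer (A : Set G) ≤ Ms := (hLE.trans hN).trans hNMs
  have hAMs : A ≤ Ms := Subgroup.le_normalizer.trans hLMs
  have hpσ : p ∈ sigma Ms := mem_sigma_of_normalizer_elem_le hG hMs hAe hAc hLMs
  have he₁Ms : e₁ ∈ Ms := hLMs he₁N
  rcases mem_sigma_or_tau2_of_normalizer_le hG hMs hfr hZ1 hNMs with hrσ | hrτ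
  · -- `r ∈ σ(M*)`
    have he₁σ : e₁ ∈ sigmaCore Ms :=
      pgroup_le_sigmaCore hG hMs hrσ he₁r (Subgroup.zpowers_le.mpr he₁Ms) (Subgroup.mem_zpowers e₁)
    have hpd : p ∣ Nat.card Ms := by
      have : p ∣ Nat.card A := by rw [hAc]; exact dvd_pow_self p (by norm_num)
      exact this.trans (Subgroup.card_dvd_of_le hAMs)
    have hnpc := hasNormalPComplement_sigmaCore hG hMs hpp hpd (tau2_not_ideal hG hM hp)
    apply he₁K
    rw [Subgroup.mem_centralizer_iff]
    intro a ha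
    exact (commute_of_hasNormalPComplement hrp_ne hnpc he₁σ he₁r
      (hAMs.trans (le_normalizer_sigmaCore Ms)) hAp he₁N ha).symm
  · -- `r ∈ τ₂(M*)`
    obtain ⟨B, hBMs, hBe, hBc⟩ := tau2_elem_sq hrτ
    obtain ⟨hnil', -⟩ := Cfsg.Agent.S1417.result hG Ms hMs r hrτ B ⟨hBMs, hBe, hBc⟩
    have hPMs : P ≤ Ms := (hP.le.trans hEA).trans hLMs
    have hPσ : P ≤ sigmaCore Ms := pgroup_le_sigmaCore hG hMs hpσ hP.isPGroup hPMs
    have hPsyl : IsSylowIn p P Ms := hPT.of_le hPMs le_top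
    have hMsP : Ms ≤ Subgroup.normalizer (P : Set G) :=
      le_normalizer_of_isSylowIn_of_le_nilpotent hnil' (sigmaCore_le Ms)
        (le_normalizer_sigmaCore Ms) hPσ hPsyl
    have hBNA : B ≤ Subgroup.normalizer (A : Set G) := hBMs.trans (hMsP.trans hNPA)
    have he₁rK : e₁ ^ r ∈ Subgroup.centralizer (A : Set G) := hpow r hrp hrd
    have hBE : B ≤ E := by
      intro b hb
      have hbN := hBNA hb
      have hbr : b ^ r = 1 := hBe.2 b hb
      by_contra hbE
      have hj : ∀ j : ℕ, b * e₁ ^ j ∉ Subgroup.centralizer (A : Set G) := by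
        intro j hjK
        apply hbE
        have h1 : b = (b * e₁ ^ j) * (e₁ ^ j)⁻¹ := by group
        rw [h1]
        exact E.mul_mem (hKE hjK) (E.inv_mem (E.pow_mem he₁E j))
      have hjN : ∀ j : ℕ, b * e₁ ^ j ∈ Subgroup.normalizer (A : Set G) := fun j =>
        Subgroup.mul_mem _ hbN (Subgroup.pow_mem _ he₁N j)
      have hV : ∀ v w : ↥A, v * w = w * v := fun v w =>
        Subtype.ext (comm_of_elem hAe v.2 w.2)
      have hcomm : Commute (cE A b hbN) (cE A e₁ he₁N) := by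
        show cE A b hbN * cE A e₁ he₁N = cE A e₁ he₁N * cE A b hbN
        rw [cE_mul, cE_mul]
        ext a
        rw [coe_cE, coe_cE]
        exact conj_comm_of_commutator_le hLK hbN he₁N a.2
      have hσ : cE A b hbN ^ r = 1 := by
        rw [cE_pow]
        apply cE_eq_one
        rw [hbr]
        exact Subgroup.one_mem _
      have hτ : cE A e₁ he₁N ^ r = 1 := by
        rw [cE_pow]
        exact cE_eq_one A _ _ he₁rK
      have hfτ : ∀ v, cE A e₁ he₁N v = v → v = 1 := by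
        intro v hv
        rcases hdich e₁ he₁N with h | h
        · exact eq_one_of_cE_fixed he₁N h v hv
        · exact absurd h he₁K
      have hfσ : ∀ j : ℕ, ∀ v, (cE A b hbN * cE A e₁ he₁N ^ j) v = v → v = 1 := by
        intro j v hv
        rw [cE_pow, cE_mul] at hv
        rcases hdich _ (hjN j) with h | h
        · exact eq_one_of_cE_fixed _ h v hv
        · exact absurd h (hj j)
      have hexp := Cfsg.Agent.Lib.Helper12.pow_eq_one_of_fixedPointFree' hV
        (cE A b hbN) (cE A e₁ he₁N) hcomm hσ hτ hfτ hfσ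
      apply hA1
      rw [eq_bot_iff]
      intro a ha
      rw [Subgroup.mem_bot]
      have h1 : a ^ r = 1 := by
        have := congrArg Subtype.val (hexp ⟨a, ha⟩)
        simpa using this
      have h2 : a ^ p = 1 := hAe.2 a ha
      have h3 : orderOf a ∣ Nat.gcd r p := Nat.dvd_gcd (orderOf_dvd_of_pow_eq_one h1)
        (orderOf_dvd_of_pow_eq_one h2)
      rw [(Nat.coprime_primes hrp hpp).mpr hrp_ne] at h3
      exact orderOf_eq_one_iff.mp (Nat.dvd_one.mp h3)
    have hcard := Cfsg.Agent.Lib.Helper10.BG.card_le_of_pRankLE (hBE.trans hE.1) hBe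
      (pRankLE_one_of_mem_tau13 hr13)
    rw [hBc, pow_one] at hcard
    have : r < r ^ 2 := by
      have := hrp.one_lt
      nlinarith
    omega

end ClaimR

end Cfsg.Agent.Lib.Helper29.BG1212
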