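import Mathlib
import Cfsg.Agent.Lib.Helper29.BG1212a
import Cfsg.Agent.Lib.Helper10.BGTwelve
import Cfsg.Agent.Lib.Helper10.BGTwelveF
import Cfsg.Agent.Lib.Helper1.Hall
import Cfsg.Agent.Lib.Helper11.Semidirect
import Cfsg.Agent.S1420

/-!
B & G, Theorem 12.12 (statement S1421), part 2: the abelian case.
-/

set_option autoImplicit false
set_option linter.unusedVariables false
set_option linter.unusedSectionVars false
set_option linter.style.longLine false
set_option linter.unusedSimpArgs false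

open Cfsg
open scoped commutatorElement
open Cfsg.Agent.Lib.Helper10.BG
open Cfsg.Agent.Lib.Helper10
open Cfsg.Agent.Lib.Helper9.BGExc
open Cfsg.Agent.Lib.Helper19.BG12
open Cfsg.Agent.Lib.Helper19.BGCompl

namespace Cfsg.Agent.Lib.Helper29.BG1212

variable {G : Type*} [Group G]

/-- the statement of the invariant cyclic subgroup lemma (proved elsewhere). -/
def InvCycStatement (G : Type*) [Group G] : Prop :=
  ∀ {p : ℕ} [Fact p.Prime] {P H A₁ : Subgroup G}, IsPGroup p P →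
    (∀ x ∈ P, ∀ y ∈ P, x * y = y * x) → H ≤ Subgroup.normalizer (P : Set G) →
    (Nat.card H).Coprime p → A₁ ≤ P → Nat.card A₁ = p →
    H ≤ Subgroup.normalizer (A₁ : Set G) → ∀ n : ℕ, (∀ x ∈ P, x ^ p ^ (n + 1) = 1) →
    (∃ c ∈ P, c ^ p ^ n ∈ A₁ ∧ c ^ p ^ n ≠ 1) →
    ∃ C : Subgroup G, C ≤ P ∧ IsCyclic ↥C ∧ Nat.card C = p ^ (n + 1) ∧ A₁ ≤ C ∧
      H ≤ Subgroup.normalizer (C : Set G)

variable [Finite G]

section Generic

/-- two subgroups have the same exponent when `p`-elements of the big one have their orders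
realized in the small one. -/
theorem exponent_eq_of_forall {E₀ E : Subgroup G} (hle : E₀ ≤ E)
    (h : ∀ q : ℕ, q.Prime → ∀ y ∈ E, IsPGroup q (Subgroup.zpowers y) →
      ∃ c ∈ E₀, orderOf y ∣ orderOf c) :
    Monoid.exponent ↥E₀ = Monoid.exponent ↥E := by
  apply Nat.dvd_antisymm
  · exact Monoid.exponent_dvd_of_monoidHom (Subgroup.inclusion hle)
      (Subgroup.inclusion_injective hle)
  · rw [Monoid.exponent_dvd_iff_forall_pow_eq_one]
    intro y
    rw [← orderOf_dvd_iff_pow_eq_one, Nat.dvd_iff_prime_pow_dvd_dvd]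
    intro q k hq hqk
    rw [← Subgroup.orderOf_coe] at hqk
    have hn0 : orderOf (y : G) ≠ 0 := (orderOf_pos (y : G)).ne'
    obtain ⟨m, hm⟩ := hqk
    have hm0 : m ≠ 0 := by
      rintro rfl
      rw [mul_zero] at hm
      exact hn0 hm
    have hz : orderOf ((y : G) ^ m) = q ^ k := by
      rw [orderOf_pow_of_dvd hm0 ⟨q ^ k, by rw [hm, mul_comm]⟩, hm]
      exact Nat.mul_div_cancel _ (Nat.pos_of_ne_zero hm0)
    have hzE : (y : G) ^ m ∈ E := E.pow_mem y.2 m
    have hzq : IsPGroup q (Subgroup.zpowers ((y : G) ^ m)) := by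
      haveI : Fact q.Prime := ⟨hq⟩
      apply IsPGroup.of_card (n := k)
      rw [Nat.card_zpowers, hz]
    obtain ⟨c, hc, hd⟩ := h q hq _ hzE hzq
    rw [hz] at hd
    apply hd.trans
    have h1 := Monoid.order_dvd_exponent (⟨c, hc⟩ : ↥E₀)
    rwa [Subgroup.orderOf_mk] at h1

/-- conjugating a `q`-element into a subgroup of index prime to `q`. -/
theorem exists_conj_mem_of_not_dvd_relIndex {q : ℕ} [Fact q.Prime] {D' D : Subgroup G}
    (hle : D' ≤ D) (hnd : ¬ q ∣ D'.relIndex D) {c : G} (hc : c ∈ D)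
    (hcq : IsPGroup q (Subgroup.zpowers c)) : ∃ d ∈ D, d * c * d⁻¹ ∈ D' := by
  obtain ⟨T', hT'⟩ := exists_isSylowIn q D'
  have hT'D : IsSylowIn q T' D := hT'.of_not_dvd_relIndex hle hnd
  obtain ⟨T, hT, hcT⟩ := exists_isSylowIn_ge (Subgroup.zpowers_le.mpr hc) hcq
  obtain ⟨d, hd, hTd⟩ := hT.exists_conj hT'D
  refine ⟨d, hd, hT'.le ?_⟩
  rw [hTd]
  exact ⟨c, hcT (Subgroup.mem_zpowers c), by simp [MulAut.conj_apply]⟩

/-- in a cyclic group the elements with `x ^ q = 1` form the subgroup of order `q`. -/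
theorem mem_of_pow_eq_one_of_isCyclic {q : ℕ} {C A₁ : Subgroup G} (hC : IsCyclic ↥C)
    (hA₁C : A₁ ≤ C) (hA₁ : Nat.card A₁ = q) {x : G} (hx : x ∈ C) (hxq : x ^ q = 1) :
    x ∈ A₁ := by
  classical
  by_contra hxA
  have hq : 0 < q := by rw [← hA₁]; exact Nat.card_pos
  haveI : Fintype ↥C := Fintype.ofFinite _
  have h1 : (Finset.univ.filter (fun a : ↥C => a ^ q = 1)).card ≤ q :=
    IsCyclic.card_pow_eq_one_le hq
  have hexp : ∀ a : ↥A₁, (a : G) ^ q = 1 := by
    intro a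
    have h2 : a ^ Nat.card ↥A₁ = 1 := pow_card_eq_one'
    rw [hA₁] at h2
    have := congrArg Subtype.val h2
    simpa using this
  let f : Option ↥A₁ → {a : ↥C // a ^ q = 1} := fun o =>
    match o with
    | none => ⟨⟨x, hx⟩, Subtype.ext (by simpa using hxq)⟩
    | some a => ⟨⟨a, hA₁C a.2⟩, Subtype.ext (by simpa using hexp a)⟩
  have hf : Function.Injective f := by
    intro o₁ o₂ h
    match o₁, o₂, h with
    | none, none, _ => rfl
    | none, some a, h =>
      exfalso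
      have h3 : x = (a : G) := congrArg (fun z : {a : ↥C // a ^ q = 1} => ((z : ↥C) : G)) h
      exact hxA (h3 ▸ a.2)
    | some a, none, h =>
      exfalso
      have h3 : (a : G) = x := congrArg (fun z : {a : ↥C // a ^ q = 1} => ((z : ↥C) : G)) h
      exact hxA (h3 ▸ a.2)
    | some a, some b, h =>
      have h3 : (a : G) = b := congrArg (fun z : {a : ↥C // a ^ q = 1} => ((z : ↥C) : G)) h
      rw [Subtype.ext h3]
  have h2 := Nat.card_le_card_of_injective f hf
  rw [Finite.card_option, hA₁, Nat.card_eq_fintype_card, Fintype.card_subtype] at h2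
  omega

end Generic

section Reg

variable {M E : Subgroup G}

/-- regularity of all nonidentity elements follows from regularity of the elements of prime
order in `τ₂(M)`. -/
theorem regular_of_prime_regular (hG : IsMinSimpleOddOrder G) (hM : IsCoatom M)
    (hE : IsComplIn E (sigmaCore M) M) (hH : HypReg M E) {E₀ : Subgroup G} (hle : E₀ ≤ E)
    (h : ∀ q ∈ tau2 M, ∀ e ∈ E₀, orderOf e = q →
      sigmaCore M ⊓ Subgroup.centralizer ({e} : Set G) = ⊥) :
    ∀ e ∈ E₀, e ≠ 1 → sigmaCore M ⊓ Subgroup.centralizer ({e} : Set G) = ⊥ := by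
  intro e he he1
  have hne : orderOf e ≠ 1 := by rwa [Ne, orderOf_eq_one_iff]
  obtain ⟨q, hq, m, hm⟩ := Nat.exists_prime_and_dvd hne
  have hn0 : orderOf e ≠ 0 := (orderOf_pos e).ne'
  have hm0 : m ≠ 0 := by
    rintro rfl
    rw [mul_zero] at hm
    exact hn0 hm
  have hfo : orderOf (e ^ m) = q := by
    rw [orderOf_pow_of_dvd hm0 ⟨q, by rw [hm, mul_comm]⟩, hm]
    exact Nat.mul_div_cancel _ (Nat.pos_of_ne_zero hm0)
  have hfE₀ : e ^ m ∈ E₀ := E₀.pow_mem he m
  have hreg : sigmaCore M ⊓ Subgroup.centralizer ({e ^ m} : Set G) = ⊥ := by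
    have hqE : q ∣ Nat.card E := by
      rw [← hfo]
      exact Subgroup.orderOf_dvd_natCard E (hle hfE₀)
    rcases mem_tau_of_dvd_card hG hM hE hq hqE with h13 | h2
    · exact reg_of_orderOf hH (hle hfE₀) h13 hfo
    · exact h q h2 _ hfE₀ hfo
  rw [eq_bot_iff, ← hreg]
  apply inf_le_inf_left
  intro c hc
  rw [Subgroup.mem_centralizer_singleton_iff] at hc ⊢
  have h3 : Commute c e := hc
  exact (h3.pow_right m)

/-- an `E`-invariant regular line inside a nontrivial characteristic subgroup of `A`. -/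
theorem exists_invariant_regular_line_in (hG : IsMinSimpleOddOrder G) (hM : IsCoatom M)
    (hE : IsComplIn E (sigmaCore M) M) (hH : HypReg M E) (hab : AbTau2 M) {p : ℕ}
    [Fact p.Prime] (hp : p ∈ tau2 M) {A : Subgroup G}
    (hA : A ≤ E ∧ IsElementaryAbelian p A ∧ Nat.card A = p ^ 2) {W : Subgroup G} (hWA : W ≤ A)
    (hW1 : W ≠ ⊥)
    (hNW : Subgroup.normalizer (A : Set G) ≤ Subgroup.normalizer (W : Set G)) :
    ∃ A₁ : Subgroup G, A₁ ≤ W ∧ Nat.card A₁ = p ∧ E ≤ Subgroup.normalizer (A₁ : Set G) ∧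
      sigmaCore M ⊓ Subgroup.centralizer (A₁ : Set G) = ⊥ := by
  have hpp : p.Prime := Fact.out
  obtain ⟨hAE, hAe, hAc⟩ := hA
  have hAM : A ≤ M := hAE.trans hE.1
  obtain ⟨⟨hEA, hXA⟩, ⟨hCA, hMA, hnot⟩, -⟩ :=
    Cfsg.Agent.S1418.result hG M hM E hE p hp A ⟨hAE, hAe, hAc⟩
  have hd : Nat.card W ∣ p ^ 2 := by
    rw [← hAc]
    exact Subgroup.card_dvd_of_le hWA
  obtain ⟨k, hk2, hk⟩ := (Nat.dvd_prime_pow hpp).mp hd
  have hk0 : k ≠ 0 := by
    rintro rfl
    rw [pow_zero] at hk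
    exact hW1 (Subgroup.card_eq_one.mp hk)
  by_cases hk1 : k = 1
  · rw [hk1, pow_one] at hk
    refine ⟨W, le_refl W, hk, hEA.trans hNW, ?_⟩
    by_contra hs
    obtain ⟨hC, hu⟩ := tau2_singular hG hM hp hAM hAe hAc hWA hW1 hs
    exact hnot (hNW.trans (normalizer_le_of_unique hG hM hC hu))
  · have hk2' : k = 2 := by omega
    rw [hk2'] at hk
    have hWA' : W = A := Subgroup.eq_of_le_of_card_ge hWA (by rw [hk, hAc])
    rw [hWA']
    exact exists_invariant_regular_line hG hM hE hH hab hp ⟨hAE, hAe, hAc⟩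

end Reg

section Step

variable {M E : Subgroup G}

theorem isPGroup_zpowers_of_orderOf {r : ℕ} [Fact r.Prime] {c : G} {j : ℕ}
    (h : orderOf c = r ^ j) : IsPGroup r (Subgroup.zpowers c) := by
  apply IsPGroup.of_card (n := j)
  rw [Nat.card_zpowers, h]

theorem exists_orderOf_of_isPGroup_zpowers {r : ℕ} [Fact r.Prime] {c : G}
    (h : IsPGroup r (Subgroup.zpowers c)) : ∃ j : ℕ, orderOf c = r ^ j := by
  obtain ⟨j, hj⟩ := h.exists_card_eq
  exact ⟨j, by rw [← hj, Nat.card_zpowers]⟩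

theorem isPGroup_zpowers_conj {r : ℕ} [Fact r.Prime] {c : G} (d : G)
    (h : IsPGroup r (Subgroup.zpowers c)) : IsPGroup r (Subgroup.zpowers (d * c * d⁻¹)) := by
  obtain ⟨j, hj⟩ := exists_orderOf_of_isPGroup_zpowers h
  exact isPGroup_zpowers_of_orderOf (j := j) (by rw [orderOf_conj', hj])

/-- conjugation by an element of `M` preserves regularity. -/
theorem regular_conj {t c : G} (ht : t ∈ M)
    (hc : sigmaCore M ⊓ Subgroup.centralizer ({c} : Set G) = ⊥) :
    sigmaCore M ⊓ Subgroup.centralizer ({t * c * t⁻¹} : Set G) = ⊥ := by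
  rw [eq_bot_iff]
  rintro x ⟨hx1, hx2⟩
  rw [Subgroup.mem_bot]
  have hx2' : x ∈ Subgroup.centralizer ({t * c * t⁻¹} : Set G) := hx2
  rw [Subgroup.mem_centralizer_singleton_iff] at hx2'
  have htN : t ∈ Subgroup.normalizer (sigmaCore M : Set G) := le_normalizer_sigmaCore M ht
  have hy1 : t⁻¹ * x * t ∈ sigmaCore M := conj_mem_of_mem_normalizer' htN hx1
  have hy2 : t⁻¹ * x * t ∈ Subgroup.centralizer ({c} : Set G) := by
    rw [Subgroup.mem_centralizer_singleton_iff]
    calc t⁻¹ * x * t * c = t⁻¹ * (x * (t * c * t⁻¹)) * t := by group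
      _ = t⁻¹ * ((t * c * t⁻¹) * x) * t := by rw [hx2']
      _ = c * (t⁻¹ * x * t) := by group
  have hy : t⁻¹ * x * t ∈ sigmaCore M ⊓ Subgroup.centralizer ({c} : Set G) := ⟨hy1, hy2⟩
  rw [hc, Subgroup.mem_bot] at hy
  calc x = t * (t⁻¹ * x * t) * t⁻¹ := by group
    _ = 1 := by rw [hy]; group

theorem centralizer_singleton_le_of_eq_zpowers {A₁ : Subgroup G} {c : G}
    (h : A₁ = Subgroup.zpowers c) :
    Subgroup.centralizer ({c} : Set G) ≤ Subgroup.centralizer (A₁ : Set G) := by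
  intro z hz
  rw [Subgroup.mem_centralizer_singleton_iff] at hz
  rw [Subgroup.mem_centralizer_iff]
  intro a ha
  have ha' : a ∈ Subgroup.zpowers c := by rw [← h]; exact ha
  obtain ⟨k, rfl⟩ := Subgroup.mem_zpowers_iff.mp ha'
  have h3 : Commute z c := hz
  exact (h3.zpow_right k).symm

/-- the invariant of the induction over the primes of `τ₂(M)`. -/
def Inv (M E : Subgroup G) (S : Finset ℕ) (D : Subgroup G) : Prop :=
  D ≤ E ∧ (∀ q : ℕ, q.Prime → q ∣ D.relIndex E → q ∈ S) ∧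
    ∀ q ∈ S, (∀ e ∈ D, orderOf e = q →
        sigmaCore M ⊓ Subgroup.centralizer ({e} : Set G) = ⊥) ∧
      ∃ c ∈ D, IsPGroup q (Subgroup.zpowers c) ∧
        ∀ y ∈ E, IsPGroup q (Subgroup.zpowers y) → orderOf y ∣ orderOf c

set_option maxHeartbeats 1600000 in
/-- one step of the induction: treat the prime `q ∈ τ₂(M)`. -/
theorem inv_step (hG : IsMinSimpleOddOrder G) (hM : IsCoatom M)
    (hE : IsComplIn E (sigmaCore M) M) (hH : HypReg M E) (hab : AbTau2 M)
    (hIC : InvCycStatement G) {S : Finset ℕ} (hS : ∀ r ∈ S, r.Prime) {D : Subgroup G}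
    (hD : Inv M E S D) {q : ℕ} (hq : q ∈ tau2 M) (hqS : q ∉ S) :
    ∃ D' : Subgroup G, Inv M E (insert q S) D' := by
  have hqp : q.Prime := hq.1
  haveI : Fact q.Prime := ⟨hqp⟩
  obtain ⟨hDE, hidx, hprop⟩ := hD
  obtain ⟨B, hBE, hBe, hBc⟩ := tau2_elem_sq_compl hG hM hE hq
  have hBM : B ≤ M := hBE.trans hE.1
  have hBp : IsPGroup q B := isPGroup_of_elem hBe
  obtain ⟨P, hP, hBP⟩ := exists_isSylowIn_ge hBE hBp
  obtain ⟨hPT, -, hNPB, hLK, hKE, hNBE, hPF, hFC⟩ :=
    Cfsg.Agent.Lib.Helper29.BG129.abelian_tau2 hG hM hE hq ⟨hBE, hBe, hBc⟩ hP (hab q hq)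
  have hPp : IsPGroup q P := hP.isPGroup
  have hPE : P ≤ E := hP.le
  have hPM : P ≤ M := hPE.trans hE.1
  have hPc : ∀ u ∈ P, ∀ v ∈ P, u * v = v * u := hab q hq P hPT
  have hEP : E ≤ Subgroup.normalizer (P : Set G) :=
    le_normalizer_of_isSylowIn_of_le_nilpotent (isNilpotent_fittingOf E) (fittingOf_le E)
      (le_normalizer_fittingOf E) hPF hP
  have huniq : ∀ T : Subgroup G, IsSylowIn q T E → T = P := by
    intro T hT
    obtain ⟨x, hx, hTx⟩ := hP.exists_conj hT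
    rw [hTx]
    exact map_conj_eq_of_mem_normalizer P x (hEP hx)
  have hqel : ∀ y ∈ E, IsPGroup q (Subgroup.zpowers y) → y ∈ P := by
    intro y hy hyq
    obtain ⟨T, hT, hyT⟩ := exists_isSylowIn_ge (Subgroup.zpowers_le.mpr hy) hyq
    rw [huniq T hT] at hyT
    exact hyT (Subgroup.mem_zpowers y)
  have hqnd : ¬ q ∣ D.relIndex E := fun h => hqS (hidx q hqp h)
  have hPD : P ≤ D := by
    obtain ⟨T, hT⟩ := exists_isSylowIn q D
    have hTE : IsSylowIn q T E := hT.of_not_dvd_relIndex hDE hqnd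
    rw [← huniq T hTE]
    exact hT.le
  have hPDs : IsSylowIn q P D := hP.of_le hPD hDE
  have hNEP : Subgroup.normalizer (E : Set G) ≤ Subgroup.normalizer (P : Set G) := by
    intro g hg
    apply mem_normalizer_of_map_conj_eq
    exact huniq _ (hP.map_conj hg)
  -- the exponent of `P`
  obtain ⟨c₀, hc₀P, hc₀max⟩ := Set.exists_max_image (P : Set G) orderOf (Set.toFinite _)
    ⟨1, P.one_mem⟩
  have hord : ∀ x ∈ P, ∃ j : ℕ, orderOf x = q ^ j := by
    intro x hx
    obtain ⟨j, hj⟩ := (IsPGroup.iff_orderOf.mp hPp) ⟨x, hx⟩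
    exact ⟨j, by rw [← hj, Subgroup.orderOf_mk]⟩
  obtain ⟨k, hk⟩ := hord c₀ hc₀P
  have hexpk : ∀ x ∈ P, x ^ q ^ k = 1 := by
    intro x hx
    obtain ⟨j, hj⟩ := hord x hx
    have hle : q ^ j ≤ q ^ k := by
      rw [← hj, ← hk]
      exact hc₀max x hx
    have hjk : j ≤ k := (Nat.pow_le_pow_iff_right hqp.one_lt).mp hle
    rw [← orderOf_dvd_iff_pow_eq_one, hj]
    exact pow_dvd_pow q hjk
  have hk0 : k ≠ 0 := by
    rintro rfl
    have hB1 : B ≠ ⊥ := Cfsg.Agent.Lib.Helper19.BG12.ne_bot_of_card_sq hBc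
    apply hB1
    rw [eq_bot_iff]
    intro b hb
    have := hexpk b (hBP hb)
    rw [pow_zero, pow_one] at this
    exact Subgroup.mem_bot.mpr this
  obtain ⟨n, hn⟩ : ∃ n : ℕ, k = n + 1 := ⟨k - 1, by omega⟩
  subst hn
  -- the subgroup `W` of `q ^ n`-th powers
  let φ : ↥P →* G :=
    { toFun := fun x => (x : G) ^ q ^ n
      map_one' := by simp
      map_mul' := fun x y => by
        have hc : Commute (x : G) (y : G) := hPc x x.2 y y.2
        simp only [Subgroup.coe_mul]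
        exact hc.mul_pow _ }
  have hWmem : ∀ w ∈ φ.range, ∃ x ∈ P, w = x ^ q ^ n := by
    intro w hw
    obtain ⟨x, rfl⟩ := MonoidHom.mem_range.mp hw
    exact ⟨x, x.2, rfl⟩
  have hmemW : ∀ x ∈ P, x ^ q ^ n ∈ φ.range := fun x hx =>
    MonoidHom.mem_range.mpr ⟨⟨x, hx⟩, rfl⟩
  have hWP : φ.range ≤ P := by
    intro w hw
    obtain ⟨x, hx, rfl⟩ := hWmem w hw
    exact P.pow_mem hx _
  have hWB : φ.range ≤ B := by
    intro w hw
    obtain ⟨x, hx, rfl⟩ := hWmem w hw
    apply tau2_omega hG hM hq hBM hBe hBc hPp hPM hBP (P.pow_mem hx _)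
    rw [← pow_mul, ← pow_succ]
    exact hexpk x hx
  have hW1 : φ.range ≠ ⊥ := by
    intro hW
    have h1 : c₀ ^ q ^ n ∈ φ.range := hmemW c₀ hc₀P
    rw [hW, Subgroup.mem_bot] at h1
    have h2 : orderOf c₀ ∣ q ^ n := orderOf_dvd_of_pow_eq_one h1
    rw [hk] at h2
    have := (Nat.pow_dvd_pow_iff_le_right hqp.one_lt).mp h2
    omega
  have hNW : Subgroup.normalizer (B : Set G) ≤ Subgroup.normalizer (φ.range : Set G) := by
    apply Cfsg.Agent.Lib.Helper10.BG.le_normalizer_of_conj_mem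
    intro g hg w hw
    obtain ⟨x, hx, rfl⟩ := hWmem w hw
    have hgP : g ∈ Subgroup.normalizer (P : Set G) := hNEP (hNBE hg)
    have h1 : g * x ^ q ^ n * g⁻¹ = (g * x * g⁻¹) ^ q ^ n := (conj_pow).symm
    rw [h1]
    exact hmemW _ (conj_mem_of_mem_normalizer hgP hx)
  obtain ⟨A₁, hA₁W, hA₁c, hEA₁, hA₁r⟩ :=
    exists_invariant_regular_line_in hG hM hE hH hab hq ⟨hBE, hBe, hBc⟩ hWB hW1 hNW
  have hA₁P : A₁ ≤ P := hA₁W.trans hWP
  have hcex : ∃ c ∈ P, c ^ q ^ n ∈ A₁ ∧ c ^ q ^ n ≠ 1 := by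
    by_contra hcon
    push Not at hcon
    have hA₁1 : A₁ ≠ ⊥ := ne_bot_of_card_prime hA₁c
    apply hA₁1
    rw [eq_bot_iff]
    intro a ha
    obtain ⟨x, hx, rfl⟩ := hWmem a (hA₁W ha)
    exact Subgroup.mem_bot.mpr (hcon x hx ha)
  -- a Hall `q'`-subgroup of `D`
  have hDtop : D ≠ ⊤ := ne_top_of_le_isCoatom hM (hDE.trans hE.1)
  haveI hDs : Group.IsSolvable ↥D := isSolvable_of_ne_top hG hDtop
  have hcard : Nat.card D = P.relIndex D * Nat.card P := by
    rw [mul_comm]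
    exact (Cfsg.Agent.Lib.Helper12.card_mul_relIndex_eq hPD).symm
  have hqm : ¬ q ∣ P.relIndex D := hPDs.not_dvd_relIndex
  have hqm' : q.Coprime (P.relIndex D) := (Nat.Prime.coprime_iff_not_dvd hqp).mpr hqm
  obtain ⟨a, ha⟩ := hPp.exists_card_eq
  have hcop : (P.relIndex D).Coprime (Nat.card P) := by
    rw [ha]
    exact Nat.Coprime.pow_right _ hqm'.symm
  obtain ⟨H', hH'⟩ := Cfsg.Agent.Lib.Helper1.hall_exists (G := ↥D) (P.relIndex D) (Nat.card P)
    hcard hcop
  have hHD : H'.map D.subtype ≤ D := Subgroup.map_subtype_le H'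
  have hHc : Nat.card (H'.map D.subtype) = P.relIndex D := by
    rw [Subgroup.card_map_of_injective D.subtype_injective, hH']
  have hHq : (Nat.card (H'.map D.subtype)).Coprime q := by
    rw [hHc]
    exact hqm'.symm
  have hHE : H'.map D.subtype ≤ E := hHD.trans hDE
  obtain ⟨C, hCP, hCcyc, hCc, hA₁C, hHC⟩ :=
    hIC hPp hPc (hHE.trans hEP) hHq hA₁P hA₁c (hHE.trans hEA₁) n hexpk hcex
  have hCD : C ≤ D := hCP.trans hPD
  have hD'D : C ⊔ H'.map D.subtype ≤ D := sup_le hCD hHD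
  have hdisj : C ⊓ H'.map D.subtype = ⊥ := by
    apply inf_eq_bot_of_coprime
    rw [hCc, hHc]
    exact Nat.Coprime.pow_left _ hqm'
  have hD'c : Nat.card ↥(C ⊔ H'.map D.subtype) = q ^ (n + 1) * P.relIndex D := by
    rw [Cfsg.Agent.Lib.Helper11.card_sup_eq C (H'.map D.subtype) hHC hdisj, hCc, hHc]
  have hCp : IsPGroup q C := hPp.to_le hCP
  have hCD' : C ≤ C ⊔ H'.map D.subtype := le_sup_left
  have hCs : IsSylowIn q C (C ⊔ H'.map D.subtype) := by
    apply isSylowIn_of_card_ge hCD' hCp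
    intro Q hQD' hQ _
    obtain ⟨j, hj⟩ := hQ.exists_card_eq
    have h1 : Nat.card Q ∣ q ^ (n + 1) * P.relIndex D := by
      rw [← hD'c]
      exact Subgroup.card_dvd_of_le hQD'
    have h2 : (Nat.card Q).Coprime (P.relIndex D) := by
      rw [hj]
      exact Nat.Coprime.pow_left _ hqm'
    have h3 : Nat.card Q ∣ q ^ (n + 1) := h2.dvd_of_dvd_mul_right h1
    rw [hCc]
    exact Nat.le_of_dvd (pow_pos hqp.pos _) h3
  have hrel : (C ⊔ H'.map D.subtype).relIndex D ∣ q ^ a := by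
    have h1 := Cfsg.Agent.Lib.Helper12.card_mul_relIndex_eq hD'D
    rw [hD'c, hcard, ha] at h1
    have hm0 : 0 < P.relIndex D :=
      Nat.pos_of_ne_zero (fun h0 => hqm (by rw [h0]; exact dvd_zero q))
    have h2 : P.relIndex D * (q ^ (n + 1) * (C ⊔ H'.map D.subtype).relIndex D) =
        P.relIndex D * q ^ a := by
      rw [← h1]
      ring
    have h3 := Nat.eq_of_mul_eq_mul_left hm0 h2
    exact ⟨q ^ (n + 1), by rw [← h3, mul_comm]⟩
  have hrelq : ∀ r : ℕ, r.Prime → r ∣ (C ⊔ H'.map D.subtype).relIndex D → r = q := by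
    intro r hr hd
    exact (Nat.prime_dvd_prime_iff_eq hr hqp).mp (hr.dvd_of_dvd_pow (hd.trans hrel))
  have hD'M : C ⊔ H'.map D.subtype ≤ M := (hD'D.trans hDE).trans hE.1
  refine ⟨C ⊔ H'.map D.subtype, hD'D.trans hDE, ?_, ?_⟩
  · intro r hr hd
    rw [← Subgroup.relIndex_mul_relIndex _ _ _ hD'D hDE] at hd
    rcases (Nat.Prime.dvd_mul hr).mp hd with h1 | h1
    · rw [hrelq r hr h1]
      exact Finset.mem_insert_self q S
    · exact Finset.mem_insert_of_mem (hidx r hr h1)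
  · intro r hr
    rcases Finset.mem_insert.mp hr with rfl | hrS
    · constructor
      · intro e he heo
        have heq : IsPGroup r (Subgroup.zpowers e) :=
          isPGroup_zpowers_of_orderOf (j := 1) (by rw [heo, pow_one])
        obtain ⟨T, hT, heT⟩ := exists_isSylowIn_ge (Subgroup.zpowers_le.mpr he) heq
        obtain ⟨t, ht, hTt⟩ := hCs.exists_conj hT
        have heT' : e ∈ T := heT (Subgroup.mem_zpowers e)
        rw [hTt] at heT'
        obtain ⟨c, hcC, hce⟩ := heT'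
        have hce' : e = t * c * t⁻¹ := by
          rw [← hce]
          simp [MulAut.conj_apply]
        have hco : orderOf c = r := by
          rw [← heo, hce', orderOf_conj']
        have hcq : c ^ r = 1 := by
          rw [← hco]
          exact pow_orderOf_eq_one c
        have hcA₁ : c ∈ A₁ := mem_of_pow_eq_one_of_isCyclic hCcyc hA₁C hA₁c hcC hcq
        have hc1 : c ≠ 1 := by
          rintro rfl
          rw [orderOf_one] at hco
          exact hqp.one_lt.ne hco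
        have hA₁z : A₁ = Subgroup.zpowers c := eq_zpowers_of_card_prime hA₁c hcA₁ hc1
        have hcr : sigmaCore M ⊓ Subgroup.centralizer ({c} : Set G) = ⊥ := by
          rw [eq_bot_iff, ← hA₁r]
          exact inf_le_inf_left _ (centralizer_singleton_le_of_eq_zpowers hA₁z)
        rw [hce']
        exact regular_conj (hD'M ht) hcr
      · obtain ⟨g, hg⟩ := IsCyclic.exists_generator (α := ↥C)
        have hgo : orderOf (g : G) = r ^ (n + 1) := by
          rw [Subgroup.orderOf_coe, orderOf_eq_card_of_forall_mem_zpowers hg, hCc]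
        refine ⟨(g : G), hCD' g.2, isPGroup_zpowers_of_orderOf hgo, ?_⟩
        intro y hy hyq
        rw [hgo]
        exact orderOf_dvd_of_pow_eq_one (hexpk y (hqel y hy hyq))
    · have hrp : r.Prime := hS r hrS
      haveI : Fact r.Prime := ⟨hrp⟩
      obtain ⟨hreg, c, hcD, hcr, hcmax⟩ := hprop r hrS
      constructor
      · intro e he heo
        exact hreg e (hD'D he) heo
      · have hnd : ¬ r ∣ (C ⊔ H'.map D.subtype).relIndex D := by
          intro hd
          have := hrelq r hrp hd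
          rw [this] at hrS
          exact hqS hrS
        obtain ⟨d, hd, hdc⟩ := exists_conj_mem_of_not_dvd_relIndex hD'D hnd hcD hcr
        refine ⟨d * c * d⁻¹, hdc, isPGroup_zpowers_conj d hcr, ?_⟩
        intro y hy hyr
        rw [orderOf_conj']
        exact hcmax y hy hyr

theorem exists_inv (hG : IsMinSimpleOddOrder G) (hM : IsCoatom M)
    (hE : IsComplIn E (sigmaCore M) M) (hH : HypReg M E) (hab : AbTau2 M)
    (hIC : InvCycStatement G) (S : Finset ℕ) (hS : ∀ r ∈ S, r ∈ tau2 M) :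
    ∃ D : Subgroup G, Inv M E S D := by
  induction S using Finset.induction_on with
  | empty =>
    refine ⟨E, le_refl E, ?_, ?_⟩
    · intro q hq hd
      rw [Subgroup.relIndex_self] at hd
      exact absurd (Nat.dvd_one.mp hd) hq.ne_one
    · intro q hq
      exact absurd hq (Finset.notMem_empty q)
  | insert q S hqS ih =>
    obtain ⟨D, hD⟩ := ih (fun r hr => hS r (Finset.mem_insert_of_mem hr))
    exact inv_step hG hM hE hH hab hIC
      (fun r hr => (hS r (Finset.mem_insert_of_mem hr)).1) hD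
      (hS q (Finset.mem_insert_self q S)) hqS

/-- **Theorem 12.12 (b), abelian case.** -/
theorem exists_regular_subgroup_of_abTau2 (hG : IsMinSimpleOddOrder G) (hM : IsCoatom M)
    (hE : IsComplIn E (sigmaCore M) M) (hH : HypReg M E) (hab : AbTau2 M)
    (hIC : InvCycStatement G) :
    ∃ E₀ : Subgroup G, E₀ ≤ E ∧ Monoid.exponent ↥E₀ = Monoid.exponent ↥E ∧
      ∀ e ∈ E₀, e ≠ 1 → sigmaCore M ⊓ Subgroup.centralizer ({e} : Set G) = ⊥ := by
  classical
  obtain ⟨D, hDE, hidx, hprop⟩ := exists_inv hG hM hE hH hab hIC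
    ((Nat.card E).primeFactors.filter (fun r => r ∈ tau2 M))
    (fun r hr => (Finset.mem_filter.mp hr).2)
  refine ⟨D, hDE, ?_, ?_⟩
  · apply exponent_eq_of_forall hDE
    intro r hr y hy hyr
    by_cases hrS : r ∈ (Nat.card E).primeFactors.filter (fun r => r ∈ tau2 M)
    · obtain ⟨c, hc, -, hmax⟩ := (hprop r hrS).2
      exact ⟨c, hc, hmax y hy hyr⟩
    · haveI : Fact r.Prime := ⟨hr⟩
      have hnd : ¬ r ∣ D.relIndex E := fun h => hrS (hidx r hr h)
      obtain ⟨d, hd, hdy⟩ := exists_conj_mem_of_not_dvd_relIndex hDE hnd hy hyr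
      exact ⟨d * y * d⁻¹, hdy, by rw [orderOf_conj']⟩
  · apply regular_of_prime_regular hG hM hE hH hDE
    intro r hr e he heo
    have hrS : r ∈ (Nat.card E).primeFactors.filter (fun r => r ∈ tau2 M) := by
      rw [Finset.mem_filter, Nat.mem_primeFactors]
      refine ⟨⟨hr.1, ?_, Nat.card_pos.ne'⟩, hr⟩
      rw [← heo]
      exact Subgroup.orderOf_dvd_natCard E (hDE he)
    exact (hprop r hrS).1 e he heo

/-- in the abelian case the Sylow `q`-subgroup of `E` is normal and lies in `F(E)`, for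
`q ∈ τ₂(M)`. -/
theorem tau2_sylow_le_fittingOf (hG : IsMinSimpleOddOrder G) (hM : IsCoatom M)
    (hE : IsComplIn E (sigmaCore M) M) (hab : AbTau2 M) {q : ℕ} (hq : q ∈ tau2 M) :
    ∃ P : Subgroup G, IsSylowIn q P E ∧ P ≤ fittingOf E ∧
      ∀ y ∈ E, IsPGroup q (Subgroup.zpowers y) → y ∈ P := by
  have hqp : q.Prime := hq.1
  haveI : Fact q.Prime := ⟨hqp⟩
  obtain ⟨B, hBE, hBe, hBc⟩ := tau2_elem_sq_compl hG hM hE hq
  have hBp : IsPGroup q B := isPGroup_of_elem hBe
  obtain ⟨P, hP, hBP⟩ := exists_isSylowIn_ge hBE hBp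
  obtain ⟨hPT, -, hNPB, hLK, hKE, hNBE, hPF, hFC⟩ :=
    Cfsg.Agent.Lib.Helper29.BG129.abelian_tau2 hG hM hE hq ⟨hBE, hBe, hBc⟩ hP (hab q hq)
  have hEP : E ≤ Subgroup.normalizer (P : Set G) :=
    le_normalizer_of_isSylowIn_of_le_nilpotent (isNilpotent_fittingOf E) (fittingOf_le E)
      (le_normalizer_fittingOf E) hPF hP
  have huniq : ∀ T : Subgroup G, IsSylowIn q T E → T = P := by
    intro T hT
    obtain ⟨x, hx, hTx⟩ := hP.exists_conj hT
    rw [hTx]
    exact map_conj_eq_of_mem_normalizer P x (hEP hx)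
  refine ⟨P, hP, hPF, ?_⟩
  intro y hy hyq
  obtain ⟨T, hT, hyT⟩ := exists_isSylowIn_ge (Subgroup.zpowers_le.mpr hy) hyq
  rw [huniq T hT] at hyT
  exact hyT (Subgroup.mem_zpowers y)

/-- **Theorem 12.12 (a), abelian case.** -/
theorem exists_abelian_normal_of_abTau2 (hG : IsMinSimpleOddOrder G) (hM : IsCoatom M)
    (hE : IsComplIn E (sigmaCore M) M) (hH : HypReg M E) (hab : AbTau2 M) :
    ∃ A₀ : Subgroup G, A₀ ≤ E ∧ E ≤ Subgroup.normalizer (A₀ : Set G) ∧ IsMulCommutative ↥A₀ ∧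
      ∀ x ∈ sigmaCore M, x ≠ 1 → E ⊓ Subgroup.centralizer ({x} : Set G) ≤ A₀ := by
  refine ⟨fittingOf E, fittingOf_le E, le_normalizer_fittingOf E, ?_, ?_⟩
  · apply (Cfsg.Agent.S1420.result hG M hM E hE).1 (fittingOf E) ((fittingOf_le E).trans hE.1)
      (isNilpotent_fittingOf E)
    intro p hp hd
    exact compl_not_mem_sigma hG hM hE hp (hd.trans (Subgroup.card_dvd_of_le (fittingOf_le E)))
  · intro x hx hx1
    apply le_of_forall_sylow_le
    intro r hr
    haveI : Fact r.Prime := ⟨hr⟩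
    obtain ⟨Q, hQ⟩ := exists_isSylowIn r (E ⊓ Subgroup.centralizer ({x} : Set G))
    refine ⟨Q, hQ, ?_⟩
    by_cases hQ1 : Q = ⊥
    · rw [hQ1]
      exact bot_le
    obtain ⟨t, htQ, hto⟩ := exists_orderOf_eq_of_ne_bot hQ.isPGroup hQ1
    have htK := hQ.le htQ
    have htE : t ∈ E := htK.1
    have htx : t ∈ Subgroup.centralizer ({x} : Set G) := htK.2
    rw [Subgroup.mem_centralizer_singleton_iff] at htx
    have hxt : x ∈ Subgroup.centralizer ({t} : Set G) := by
      rw [Subgroup.mem_centralizer_singleton_iff]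
      exact htx.symm
    have hns : sigmaCore M ⊓ Subgroup.centralizer ({t} : Set G) ≠ ⊥ := by
      intro hb
      have hmem : x ∈ sigmaCore M ⊓ Subgroup.centralizer ({t} : Set G) := ⟨hx, hxt⟩
      rw [hb, Subgroup.mem_bot] at hmem
      exact hx1 hmem
    have hrE : r ∣ Nat.card E := by
      rw [← hto]
      exact Subgroup.orderOf_dvd_natCard E htE
    rcases mem_tau_of_dvd_card hG hM hE hr hrE with h13 | h2
    · exact absurd (reg_of_orderOf hH htE h13 hto) hns
    · obtain ⟨P, hP, hPF, hqel⟩ := tau2_sylow_le_fittingOf hG hM hE hab h2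
      intro y hy
      apply hPF
      apply hqel y (hQ.le hy).1
      exact hQ.isPGroup.to_le (Subgroup.zpowers_le.mpr hy)

/-- **Theorem 12.12, abelian case.** -/
theorem result_of_abTau2 (hG : IsMinSimpleOddOrder G) (hM : IsCoatom M)
    (hE : IsComplIn E (sigmaCore M) M) (hH : HypReg M E) (hab : AbTau2 M)
    (hIC : InvCycStatement G) :
    (∃ A₀ : Subgroup G, A₀ ≤ E ∧ E ≤ Subgroup.normalizer (A₀ : Set G) ∧ IsMulCommutative ↥A₀ ∧
        ∀ x ∈ sigmaCore M, x ≠ 1 → E ⊓ Subgroup.centralizer ({x} : Set G) ≤ A₀) ∧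
      ∃ E₀ : Subgroup G, E₀ ≤ E ∧ Monoid.exponent ↥E₀ = Monoid.exponent ↥E ∧
        ∀ e ∈ E₀, e ≠ 1 → sigmaCore M ⊓ Subgroup.centralizer ({e} : Set G) = ⊥ :=
  ⟨exists_abelian_normal_of_abTau2 hG hM hE hH hab,
    exists_regular_subgroup_of_abTau2 hG hM hE hH hab hIC⟩

/-- if some Sylow `p`-subgroup of `G` is nonabelian for a `p ∈ τ₂(M)`, all are. -/
theorem not_isMulCommutative_sylow_of_not_abTau2 (hab : ¬ AbTau2 M) :
    ∃ p : ℕ, p ∈ tau2 M ∧ ∀ [Fact p.Prime] (S : Sylow p G),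
      ¬ IsMulCommutative ↥(S : Subgroup G) := by
  unfold AbTau2 at hab
  push Not at hab
  obtain ⟨p, hp, S₀, hS₀, u, hu, v, hv, huv⟩ := hab
  refine ⟨p, hp, ?_⟩
  intro hpF S hcomm
  have hS : IsSylowIn p (S : Subgroup G) ⊤ := isSylowIn_top_of_sylow S
  obtain ⟨x, -, hx⟩ := hS.exists_conj hS₀
  rw [hx] at hu hv
  obtain ⟨u', hu', rfl⟩ := hu
  obtain ⟨v', hv', rfl⟩ := hv
  apply huv
  have h1 : u' * v' = v' * u' := by
    have := mul_comm' (⟨u', hu'⟩ : ↥(S : Subgroup G)) ⟨v', hv'⟩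
    exact congrArg Subtype.val this
  rw [← map_mul, ← map_mul, h1]

end Step

end Cfsg.Agent.Lib.Helper29.BG1212
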