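import Mathlib
import Cfsg.Agent.S1428
import Cfsg.Agent.S1415
import Cfsg.Agent.S1417
import Cfsg.Agent.Lib.Helper7.BG13B
import Cfsg.Agent.Lib.Helper10.BGThirteenA
import Cfsg.Agent.Lib.Helper10.BGUniq3
import Cfsg.Agent.Lib.Helper29.BG1212b

/-!
B & G, Section 13: prime action of Hall `κ(M)`-subgroups (towards statement S1430, part 1).
-/

set_option autoImplicit false
set_option linter.unusedVariables false
set_option linter.unusedSectionVars false
set_option linter.style.longLine false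
set_option linter.unusedSimpArgs false

open Cfsg
open scoped commutatorElement
open Cfsg.Agent.Lib.Helper10.BG
open Cfsg.Agent.Lib.Helper10
open Cfsg.Agent.Lib.Helper9.BGExc
open Cfsg.Agent.Lib.Helper19.BG12
open Cfsg.Agent.Lib.Helper19.BGCompl
open Cfsg.Agent.Lib.Helper29.BG1212

namespace Cfsg.Agent.Lib.Helper29.BG13K

variable {G : Type*} [Group G] [Finite G] {M E : Subgroup G}

/-- a subgroup of a cyclic normal subgroup is normal. -/
theorem le_normalizer_of_le_cyclic {E E₃ P : Subgroup G}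
    (hn : E ≤ Subgroup.normalizer (E₃ : Set G)) (hc : IsCyclic ↥E₃) (hPE₃ : P ≤ E₃) :
    E ≤ Subgroup.normalizer (P : Set G) := by
  apply Cfsg.Agent.Lib.Helper10.BG.le_normalizer_of_conj_mem
  intro g hg x hx
  apply mem_of_pow_eq_one_of_isCyclic hc hPE₃ rfl
    (conj_mem_of_mem_normalizer (hn hg) (hPE₃ hx))
  rw [conj_pow]
  have h1 : (⟨x, hx⟩ : ↥P) ^ Nat.card ↥P = 1 := pow_card_eq_one'
  have h2 : x ^ Nat.card ↥P = 1 := by
    have := congrArg Subtype.val h1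
    rw [Subgroup.coe_pow, Subgroup.coe_one] at this
    exact this
  rw [h2]
  group

theorem isPGroup_of_card_prime {P : Subgroup G} (hP : (Nat.card P).Prime) :
    IsPGroup (Nat.card P) P := by
  haveI : Fact (Nat.card P).Prime := ⟨hP⟩
  apply IsPGroup.of_card (n := 1)
  rw [pow_one]

/-- a maximal subgroup containing the normalizer of a subgroup of prime order. -/
theorem exists_coatom_normalizer_ge (hG : IsMinSimpleOddOrder G) {P : Subgroup G}
    (hP : (Nat.card P).Prime) :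
    ∃ H : Subgroup G, IsCoatom H ∧ Subgroup.normalizer (P : Set G) ≤ H := by
  haveI : Fact (Nat.card P).Prime := ⟨hP⟩
  have hPp : IsPGroup (Nat.card P) P := isPGroup_of_card_prime hP
  have hP1 : P ≠ ⊥ := ne_bot_of_card_prime rfl
  have hPtop : P ≠ ⊤ := Cfsg.Agent.Lib.Lead.BGTrans.pgroup_ne_top hG.2 hPp
  exact exists_isCoatom_ge (Cfsg.Agent.Lib.Lead.BGTrans.normalizer_ne_top hG.2 hP1 hPtop)

/-- **B & G, Theorem 13.5**: `E₃` acts in a prime manner on `M_σ`. -/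
theorem tau3_prime_action (hG : IsMinSimpleOddOrder G) (hM : IsCoatom M)
    (hE : IsComplIn E (sigmaCore M) M) {E₃ : Subgroup G} (hE₃ : IsPiHallOf (tau3 M) E₃ E)
    {P : Subgroup G} (hPE₃ : P ≤ E₃) (hP : (Nat.card P).Prime) :
    sigmaCore M ⊓ Subgroup.centralizer (P : Set G) ≤ Subgroup.centralizer (E₃ : Set G) := by
  obtain ⟨-, -, h3⟩ := Cfsg.Agent.S1415.result hG M hM E hE
  obtain ⟨hcyc, hE₃E', hEn⟩ := h3 E₃ hE₃
  have hEP := le_normalizer_of_le_cyclic hEn hcyc hPE₃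
  haveI : Fact (Nat.card P).Prime := ⟨hP⟩
  have hp3 : Nat.card P ∈ tau3 M := hE₃.2.1 _ hP (Subgroup.card_dvd_of_le hPE₃)
  have hPp : IsPGroup (Nat.card P) P := isPGroup_of_card_prime hP
  have hP1 : P ≠ ⊥ := ne_bot_of_card_prime rfl
  obtain ⟨H, hH, hNH⟩ := exists_coatom_normalizer_ge hG hP
  obtain ⟨hnc, ha, hb, hc⟩ :=
    Cfsg.Agent.Lib.Helper7.BG13.cor_13_2 hG hM hH (Or.inr hp3) hPp hP1 hNH
  have hEH : E ≤ H := hEP.trans hNH
  have hE₃MH : E₃ ≤ M ⊓ H := le_inf (hE₃.1.trans hE.1) (hE₃.1.trans hEH)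
  have h1 := hb E₃ hE₃MH (by
    intro r hr hd
    have hr3 : r ∈ tau3 M := hE₃.2.1 r hr hd
    refine ⟨hr3.2.1, ?_⟩
    intro hr1
    apply hr1.2.2.2.1
    exact hd.trans (Subgroup.card_dvd_of_le (hE₃E'.trans (Subgroup.commutator_mono hEH hEH))))
  rw [Subgroup.commutator_eq_bot_iff_le_centralizer] at h1
  refine le_trans ?_ h1
  exact inf_le_inf_left _ ((Subgroup.centralizer_le_normalizer _).trans hNH)

/-- a nontrivial subgroup contains a subgroup of prime order. -/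
theorem exists_le_card_prime {T : Subgroup G} (hT : T ≠ ⊥) :
    ∃ P : Subgroup G, P ≤ T ∧ (Nat.card P).Prime := by
  have hc : Nat.card T ≠ 1 := fun h => hT (Subgroup.card_eq_one.mp h)
  obtain ⟨p, hp, hd⟩ := Nat.exists_prime_and_dvd hc
  haveI : Fact p.Prime := ⟨hp⟩
  obtain ⟨t, ht⟩ := exists_prime_orderOf_dvd_card' (G := T) p hd
  refine ⟨Subgroup.zpowers (t : G), Subgroup.zpowers_le.mpr t.2, ?_⟩
  rw [Nat.card_zpowers, Subgroup.orderOf_coe, ht]
  exact hp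

/-- **B & G, Corollary 13.7**, first part: if `E₃` does not act regularly on `M_σ` then
`τ₂(M)` is empty. -/
theorem not_mem_tau2_of_tau3_nonregular (hG : IsMinSimpleOddOrder G) (hM : IsCoatom M)
    (hE : IsComplIn E (sigmaCore M) M) {E₃ : Subgroup G} (hE₃ : IsPiHallOf (tau3 M) E₃ E)
    (hE₃1 : E₃ ≠ ⊥) (hD : sigmaCore M ⊓ Subgroup.centralizer (E₃ : Set G) ≠ ⊥) (q : ℕ) :
    q ∉ tau2 M := by
  intro hq
  haveI : Fact q.Prime := ⟨hq.1⟩
  obtain ⟨A, hAE, hAe, hAc⟩ := tau2_elem_sq_compl hG hM hE hq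
  have hAM : A ≤ M := hAE.trans hE.1
  obtain ⟨P, hPE₃, hP⟩ := exists_le_card_prime hE₃1
  obtain ⟨-, -, h3⟩ := Cfsg.Agent.S1415.result hG M hM E hE
  obtain ⟨hcyc, hE₃E', hEn⟩ := h3 E₃ hE₃
  have hEP := le_normalizer_of_le_cyclic hEn hcyc hPE₃
  haveI : Fact (Nat.card P).Prime := ⟨hP⟩
  have hp3 : Nat.card P ∈ tau3 M := hE₃.2.1 _ hP (Subgroup.card_dvd_of_le hPE₃)
  have hPp : IsPGroup (Nat.card P) P := isPGroup_of_card_prime hP
  have hP1 : P ≠ ⊥ := ne_bot_of_card_prime rfl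
  obtain ⟨H, hH, hNH⟩ := exists_coatom_normalizer_ge hG hP
  obtain ⟨hnc, ha, hb, hc⟩ :=
    Cfsg.Agent.Lib.Helper7.BG13.cor_13_2 hG hM hH (Or.inr hp3) hPp hP1 hNH
  have hEH : E ≤ H := hEP.trans hNH
  have hAMH : A ≤ M ⊓ H := le_inf hAM (hAE.trans hEH)
  have h1 := hb A hAMH (by
    intro r hr hd
    rw [hAc] at hd
    have hrq : r = q := (Nat.prime_dvd_prime_iff_eq hr hq.1).mp (hr.dvd_of_dvd_pow hd)
    rw [hrq]
    refine ⟨hq.2.1, ?_⟩
    intro hq1
    apply not_pRankLE_of_le (hAE.trans hEH) hAe (k := 1) _ hq1.2.2.2.2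
    rw [hAc, pow_one]
    have := hq.1.one_lt
    nlinarith)
  rw [Subgroup.commutator_eq_bot_iff_le_centralizer] at h1
  obtain ⟨-, -, -, hd, -⟩ := Cfsg.Agent.S1417.result hG M hM q hq A ⟨hAM, hAe, hAc⟩
  apply hD
  rw [eq_bot_iff, ← hd]
  apply le_inf inf_le_left
  refine le_trans ?_ h1
  apply le_inf inf_le_left
  refine inf_le_right.trans ?_
  exact (Subgroup.centralizer_le hPE₃).trans ((Subgroup.centralizer_le_normalizer _).trans hNH)

/-- a subgroup of `M` all of whose prime divisors lie in `τ₁(M)` is abelian. -/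
theorem commute_of_tau1_group {K : Subgroup G} (hKM : K ≤ M)
    (hK : ∀ p : ℕ, p.Prime → p ∣ Nat.card K → p ∈ tau1 M) :
    ∀ a ∈ K, ∀ b ∈ K, a * b = b * a := by
  have hdisj : K ⊓ ⁅M, M⁆ = ⊥ := by
    apply inf_eq_bot_of_coprime
    apply Nat.coprime_of_dvd
    intro p hp hd1 hd2
    exact (hK p hp hd1).2.2.2.1 hd2
  intro a ha b hb
  have h1 : ⁅a, b⁆ ∈ K ⊓ ⁅M, M⁆ :=
    ⟨K.mul_mem (K.mul_mem (K.mul_mem ha hb) (K.inv_mem ha)) (K.inv_mem hb),
      Subgroup.commutator_mem_commutator (hKM ha) (hKM hb)⟩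
  rw [hdisj, Subgroup.mem_bot, commutatorElement_def] at h1
  calc a * b = (a * b * a⁻¹ * b⁻¹) * (b * a) := by group
    _ = b * a := by rw [h1, one_mul]

/-- **B & G, Theorem 13.3**, symmetric form for two commuting subgroups of prime order in
`τ₁(M)`. -/
theorem tau1_centralizer_eq (hG : IsMinSimpleOddOrder G) (hM : IsCoatom M)
    (hE : IsComplIn E (sigmaCore M) M) {R₁ R₂ : Subgroup G} (h₁E : R₁ ≤ E) (h₂E : R₂ ≤ E)
    (h₁ : Nat.card R₁ ∈ tau1 M) (h₂ : Nat.card R₂ ∈ tau1 M)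
    (hcomm : ∀ a ∈ R₁, ∀ b ∈ R₂, a * b = b * a) :
    sigmaCore M ⊓ Subgroup.centralizer (R₁ : Set G) =
      sigmaCore M ⊓ Subgroup.centralizer (R₂ : Set G) := by
  apply le_antisymm
  · apply Cfsg.Agent.S1428.result hG M hM E hE _ h₁ R₁ h₁E rfl R₂ _ h₂.1
    apply le_inf h₂E
    intro b hb
    rw [Subgroup.mem_centralizer_iff]
    intro a ha
    exact hcomm a ha b hb
  · apply Cfsg.Agent.S1428.result hG M hM E hE _ h₂ R₂ h₂E rfl R₁ _ h₁.1
    apply le_inf h₁E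
    intro a ha
    rw [Subgroup.mem_centralizer_iff]
    intro b hb
    exact (hcomm a ha b hb).symm

end Cfsg.Agent.Lib.Helper29.BG13K
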