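import Mathlib
import Cfsg.Agent.Lib.Helper29.BG13K1
import Cfsg.Agent.Lib.Helper9.BGExc7

/-!
B & G, Section 13: prime action of a Hall `κ(M)`-subgroup on `M_σ` when `κ(M) ⊆ τ₁(M)`
(statement S1430, part 1).
-/

set_option autoImplicit false
set_option linter.unusedVariables false
set_option linter.unusedSectionVars false
set_option linter.style.longLine false
set_option linter.unusedSimpArgs false

open Cfsg
open scoped commutatorElement
open Cfsg.Agent.Lib.Helper10.BG
open Cfsg.Agent.Lib.Helper10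
open Cfsg.Agent.Lib.Helper9.BGExc
open Cfsg.Agent.Lib.Helper19.BG12
open Cfsg.Agent.Lib.Helper19.BGCompl
open Cfsg.Agent.Lib.Helper29.BG1212

namespace Cfsg.Agent.Lib.Helper29.BG13K

variable {G : Type*} [Group G] [Finite G] {M E : Subgroup G}

/-- a subgroup containing, for every prime `p`, a maximal `p`-subgroup of `K`, contains `K`. -/
theorem le_of_forall_isSylowIn_le {K C : Subgroup G}
    (h : ∀ p : ℕ, p.Prime → ∃ T : Subgroup G, IsSylowIn p T K ∧ T ≤ C) : K ≤ C := by
  have hdvd : Nat.card K ∣ Nat.card (K ⊓ C : Subgroup G) := by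
    rw [← Nat.factorization_prime_le_iff_dvd Nat.card_pos.ne' Nat.card_pos.ne']
    intro p hp
    haveI : Fact p.Prime := ⟨hp⟩
    obtain ⟨T, hT, hTC⟩ := h p hp
    rw [← hp.pow_dvd_iff_le_factorization Nat.card_pos.ne', ← hT.card_eq]
    exact Subgroup.card_dvd_of_le (le_inf hT.le hTC)
  have h1 : K ⊓ C = K := by
    apply Subgroup.eq_of_le_of_card_ge inf_le_left
    exact Nat.le_of_dvd Nat.card_pos hdvd
  rw [← h1]
  exact inf_le_right

/-- the Sylow subgroups of a Hall `κ(M)`-subgroup are cyclic Sylow subgroups of `M`. -/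
theorem kappa_sylow_cyclic {K : Subgroup G} (hK : IsPiHallOf (kappa M) K M) {p : ℕ}
    [Fact p.Prime] (hp : p ∈ kappa M) {T : Subgroup G} (hT : IsSylowIn p T K) :
    IsSylowIn p T M ∧ IsCyclic ↥T := by
  have hTM : IsSylowIn p T M := hT.of_not_dvd_relIndex hK.1 (hK.2.2 p Fact.out hp)
  refine ⟨hTM, ?_⟩
  have h1 := (hp.2.2.2 hTM.toSylow).1
  have h2 : IsCyclic ↥(T.subgroupOf M) := by
    have h3 : ((hTM.toSylow : Sylow p ↥M) : Subgroup ↥M) = T.subgroupOf M := hTM.coe_toSylow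
    rw [← h3]
    exact h1
  exact isCyclic_of_surjective (Subgroup.subgroupOfEquivOfLe hTM.le).toMonoidHom
    (Subgroup.subgroupOfEquivOfLe hTM.le).surjective

/-- **B & G, Theorem 13.9 (prime action), `τ₁` case**: if `κ(M) ⊆ τ₁(M)` then a Hall
`κ(M)`-subgroup `K` of `M` acts in a prime manner on `M_σ`. -/
theorem prime_action_of_kappa_tau1 (hG : IsMinSimpleOddOrder G) (hM : IsCoatom M)
    (hκ : ∀ p : ℕ, p ∈ kappa M → p ∈ tau1 M) {K : Subgroup G}
    (hK : IsPiHallOf (kappa M) K M) :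
    ∀ k ∈ K, k ≠ 1 → sigmaCore M ⊓ Subgroup.centralizer ({k} : Set G) =
      sigmaCore M ⊓ Subgroup.centralizer (K : Set G) := by
  have hKσ : ∀ q : ℕ, q.Prime → q ∣ Nat.card K → q ∉ sigma M :=
    fun q hq hd => (hK.2.1 q hq hd).2.2.1
  obtain ⟨E, hE, hKE⟩ := exists_isComplIn_sigmaCore_ge hG hM hK.1
    (coprime_card_sigmaCore_of hG hM hKσ)
  have hKab := commute_of_tau1_group hK.1 (fun p hp hd => hκ p (hK.2.1 p hp hd))
  have key : ∀ R₁ R₂ : Subgroup G, R₁ ≤ K → R₂ ≤ K → (Nat.card R₁).Prime → (Nat.card R₂).Prime →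
      sigmaCore M ⊓ Subgroup.centralizer (R₁ : Set G) =
        sigmaCore M ⊓ Subgroup.centralizer (R₂ : Set G) := by
    intro R₁ R₂ h₁ h₂ hR₁ hR₂
    exact tau1_centralizer_eq hG hM hE (h₁.trans hKE) (h₂.trans hKE)
      (hκ _ (hK.2.1 _ hR₁ (Subgroup.card_dvd_of_le h₁)))
      (hκ _ (hK.2.1 _ hR₂ (Subgroup.card_dvd_of_le h₂)))
      (fun a ha b hb => hKab a (h₁ ha) b (h₂ hb))
  have hRK : ∀ R : Subgroup G, R ≤ K → (Nat.card R).Prime →
      sigmaCore M ⊓ Subgroup.centralizer (R : Set G) ≤ Subgroup.centralizer (K : Set G) := by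
    intro R hRK hR
    rw [← Subgroup.le_centralizer_iff]
    apply le_of_forall_isSylowIn_le
    intro p hp
    haveI : Fact p.Prime := ⟨hp⟩
    obtain ⟨T, hT⟩ := exists_isSylowIn p K
    refine ⟨T, hT, ?_⟩
    by_cases hT1 : T = ⊥
    · rw [hT1]
      exact bot_le
    obtain ⟨X, hXT, hX⟩ := exists_le_card_prime hT1
    have hXp : Nat.card X = p := by
      have h1 : Nat.card X ∣ Nat.card T := Subgroup.card_dvd_of_le hXT
      rw [hT.card_eq] at h1
      exact (Nat.prime_dvd_prime_iff_eq hX hp).mp (hX.dvd_of_dvd_pow h1)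
    have hpK : p ∣ Nat.card K := by
      rw [← hXp]
      exact Subgroup.card_dvd_of_le (hXT.trans hT.le)
    have hpκ : p ∈ kappa M := hK.2.1 p hp hpK
    obtain ⟨hTM, hTc⟩ := kappa_sylow_cyclic hK hpκ hT
    rw [Subgroup.le_centralizer_iff, key R X hRK (hXT.trans hT.le) hR hX]
    exact sigmaCore_inf_centralizer_le_of_cyclic hG hM hpκ.2.2.1 hTM hTc hXp hXT
  intro k hk hk1
  have hz1 : Subgroup.zpowers k ≠ ⊥ := by
    intro h
    apply hk1
    have : k ∈ Subgroup.zpowers k := Subgroup.mem_zpowers k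
    rw [h, Subgroup.mem_bot] at this
    exact this
  obtain ⟨R, hRz, hR⟩ := exists_le_card_prime hz1
  have hzK : Subgroup.zpowers k ≤ K := Subgroup.zpowers_le.mpr hk
  apply le_antisymm
  · apply le_inf inf_le_left
    refine le_trans ?_ (hRK R (hRz.trans hzK) hR)
    apply inf_le_inf_left
    exact (centralizer_singleton_le_of_eq_zpowers rfl).trans (Subgroup.centralizer_le hRz)
  · apply inf_le_inf_left
    apply Subgroup.centralizer_le
    intro x hx
    rw [Set.mem_singleton_iff] at hx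
    rw [hx]
    exact hk

end Cfsg.Agent.Lib.Helper29.BG13K
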