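import Mathlib
import Cfsg.Agent.Lib.Helper29.BG13K2
import Cfsg.Agent.Lib.Helper25.BG1431
import Cfsg.Agent.Lib.Helper3.BG14F
import Cfsg.Agent.S3745
import Cfsg.Agent.S1420

/-!
Assembly of statement S1430 (B & G, Theorem 14.2 (a), (b)), part A: hypotheses-as-props for the
pieces proved elsewhere, general tools, and the case where `E₃` does not act regularly on `M_σ`.
-/

set_option autoImplicit false
set_option linter.unusedVariables false
set_option linter.unusedSectionVars false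
set_option linter.style.longLine false
set_option linter.unusedSimpArgs false

open Cfsg
open scoped commutatorElement
open Cfsg.Agent.Lib.Helper10.BG
open Cfsg.Agent.Lib.Helper10
open Cfsg.Agent.Lib.Helper9.BGExc
open Cfsg.Agent.Lib.Helper19.BG12
open Cfsg.Agent.Lib.Helper19.BGCompl
open Cfsg.Agent.Lib.Helper29.BG1212
open Cfsg.Agent.Lib.Helper29.BG13K

namespace Cfsg.Agent.Lib.Helper29.BG1430Asm

/-- (C1): a subgroup `X` of prime order `p ∈ τ₁(M) ∪ τ₃(M)` of `M` with `C_{M_σ}(X) ≠ 1` lies in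
`M*_σ` for every maximal `M* ≥ N_G(X)` (in the form `p ∈ σ(M*)`). -/
def C1 (G : Type*) [Group G] : Prop :=
  ∀ M Mstar X : Subgroup G, IsCoatom M → IsCoatom Mstar → ∀ p : ℕ, (p ∈ tau1 M ∨ p ∈ tau3 M) →
    X ≤ M → Nat.card X = p → sigmaCore M ⊓ Subgroup.centralizer (X : Set G) ≠ ⊥ →
    Subgroup.normalizer (X : Set G) ≤ Mstar → p ∈ sigma Mstar

/-- (L3): a subgroup of order `p ∈ τ₁(M)` of `E` with `C_{M_σ}(P) ≠ 1` centralizes no subgroup of
order `s ∈ τ₂(M)` of `E`. -/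
def L3 (G : Type*) [Group G] : Prop :=
  ∀ M E P Y : Subgroup G, IsCoatom M → IsComplIn E (sigmaCore M) M → ∀ p s : ℕ, p ∈ tau1 M →
    P ≤ E → Nat.card P = p → sigmaCore M ⊓ Subgroup.centralizer (P : Set G) ≠ ⊥ → s ∈ tau2 M →
    Y ≤ E ⊓ Subgroup.centralizer (P : Set G) → Nat.card Y = s → False

/-- (L5) = B & G, Corollary 13.7: if `E₃ ≠ 1` does not act regularly on `M_σ` then `E` acts in a
prime manner on `M_σ`, `C_{M_σ}(E) ≠ 1` and every subgroup of prime order of `E` is normal in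
`E`. -/
def L5 (G : Type*) [Group G] : Prop :=
  ∀ M E E₃ : Subgroup G, IsCoatom M → IsComplIn E (sigmaCore M) M → IsPiHallOf (tau3 M) E₃ E →
    E₃ ≠ ⊥ → sigmaCore M ⊓ Subgroup.centralizer (E₃ : Set G) ≠ ⊥ →
    (∀ x ∈ E, x ≠ 1 → sigmaCore M ⊓ Subgroup.centralizer ({x} : Set G) =
        sigmaCore M ⊓ Subgroup.centralizer (E : Set G)) ∧
      sigmaCore M ⊓ Subgroup.centralizer (E : Set G) ≠ ⊥ ∧
      ∀ X : Subgroup G, X ≤ E → (Nat.card X).Prime → E ≤ Subgroup.normalizer (X : Set G)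

/-- the conclusion of the frozen statement S1430 for `M` and `K`. -/
def Concl {G : Type*} [Group G] (M K : Subgroup G) : Prop :=
  (∀ k ∈ K, k ≠ 1 → Cfsg.sigmaCore M ⊓ Subgroup.centralizer ({k} : Set G) = (Cfsg.sigmaCore M ⊓ Subgroup.centralizer (K : Set G))) ∧
      (∃ U : Subgroup G, IsMulCommutative U ∧ Cfsg.IsPiHallOf {q | q.Prime ∧ q ∉ Cfsg.kappa M ∧ q ∉ Cfsg.sigma M} U M ∧
        K ≤ Subgroup.normalizer (U : Set G) ∧ ∀ k ∈ K, k ≠ 1 → U ⊓ Subgroup.centralizer ({k} : Set G) = ⊥) ∧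
      ∀ X : Subgroup G, X ≤ K → (Nat.card X).Prime →
        M ⊓ Subgroup.normalizer (X : Set G) = K ⊔ (Cfsg.sigmaCore M ⊓ Subgroup.centralizer (K : Set G)) ∧ M ⊓ Subgroup.normalizer (K : Set G) = K ⊔ (Cfsg.sigmaCore M ⊓ Subgroup.centralizer (K : Set G)) ∧
        ∀ Mstar : Subgroup G, IsCoatom Mstar → Subgroup.normalizer (X : Set G) ≤ Mstar → X ≤ Cfsg.sigmaCore Mstar

variable {G : Type*} [Group G] [Finite G] {M E : Subgroup G}

/-- Hall `π`-subgroups of a proper subgroup `E` containing a given `π`-subgroup. -/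
theorem exists_hall_ge (hG : IsMinSimpleOddOrder G) {E : Subgroup G} (hE : E ≠ ⊤) (π : Set ℕ)
    {U : Subgroup G} (hUE : U ≤ E) (hU : ∀ p : ℕ, p.Prime → p ∣ Nat.card U → p ∈ π) :
    ∃ H : Subgroup G, IsPiHallOf π H E ∧ U ≤ H := by
  have hsolv : Group.IsSolvable ↥E := isSolvable_of_ne_top hG hE
  have hcop : (Nat.card (⊥ : Subgroup G)).Coprime (Nat.card E) := by
    rw [Subgroup.card_bot]; exact Nat.coprime_one_left _
  obtain ⟨K, hK, -, hUK⟩ := (Cfsg.Agent.S3745.result (⊥ : Subgroup G) E bot_le hcop hsolv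
    π).2.2 U hUE bot_le hU
  exact ⟨K, hK, hUK⟩

theorem exists_hall (hG : IsMinSimpleOddOrder G) {E : Subgroup G} (hE : E ≠ ⊤) (π : Set ℕ) :
    ∃ H : Subgroup G, IsPiHallOf π H E := by
  obtain ⟨H, hH, -⟩ := exists_hall_ge hG hE π (bot_le : (⊥ : Subgroup G) ≤ E) (by
    intro p hp hd
    rw [Subgroup.card_bot] at hd
    exact absurd (Nat.dvd_one.mp hd) hp.ne_one)
  exact ⟨H, hH⟩

/-- the primes of `M` outside `σ(M)` lie in `τ₁(M) ∪ τ₂(M) ∪ τ₃(M)`. -/
theorem mem_tau_of_not_sigma (hG : IsMinSimpleOddOrder G) (hM : IsCoatom M) {q : ℕ}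
    (hq : q.Prime) (hd : q ∣ Nat.card M) (hσ : q ∉ sigma M) :
    q ∈ tau1 M ∨ q ∈ tau2 M ∨ q ∈ tau3 M := by
  have h2 : PRankLE q 2 ↥M := alpha_rank M q hq (fun hα => hσ (alpha_subset_sigma hG hM hα))
  by_cases h1 : PRankLE q 1 ↥M
  · by_cases h3 : q ∣ Nat.card ↥⁅M, M⁆
    · exact Or.inr (Or.inr ⟨hq, hσ, h3, h1⟩)
    · exact Or.inl ⟨hq, hσ, hd, h3, h1⟩
  · exact Or.inr (Or.inl ⟨hq, hσ, h2, h1⟩)

/-- a Hall `π`-subgroup `K` of `M` contained in a `π`-subgroup `E` of `M` equals `E`. -/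
theorem eq_of_hall_of_le {π : Set ℕ} {K E M : Subgroup G} (hK : IsPiHallOf π K M)
    (hKE : K ≤ E) (hEM : E ≤ M) (hE : ∀ q : ℕ, q.Prime → q ∣ Nat.card E → q ∈ π) : K = E := by
  apply le_antisymm hKE
  rw [← Subgroup.relIndex_eq_one]
  by_contra h
  obtain ⟨q, hq, hd⟩ := Nat.exists_prime_and_dvd h
  have h1 : K.relIndex E ∣ K.relIndex M :=
    ⟨E.relIndex M, (Subgroup.relIndex_mul_relIndex K E M hKE hEM).symm⟩
  have h2 : q ∣ Nat.card E := hd.trans (Subgroup.relIndex_dvd_card K E)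
  exact hK.2.2 q hq (hE q hq h2) (hd.trans h1)

theorem exists_ne_one_of_ne_bot {H : Subgroup G} (h : H ≠ ⊥) : ∃ y ∈ H, y ≠ 1 := by
  by_contra hc
  apply h
  rw [Subgroup.eq_bot_iff_forall]
  intro y hy
  by_contra hy1
  exact hc ⟨y, hy, hy1⟩

/-- a Hall subgroup of a subgroup of `M` of index prime to the relevant primes is Hall in `M`. -/
theorem isPiHallOf_of_le {π : Set ℕ} {U E M : Subgroup G} (hU : IsPiHallOf π U E) (hEM : E ≤ M)
    (h : ∀ q : ℕ, q.Prime → q ∈ π → ¬ q ∣ E.relIndex M) : IsPiHallOf π U M := by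
  refine ⟨hU.1.trans hEM, hU.2.1, ?_⟩
  intro q hq hqπ hd
  rw [← Subgroup.relIndex_mul_relIndex U E M hU.1 hEM] at hd
  rcases (Nat.Prime.dvd_mul hq).mp hd with h1 | h1
  · exact hU.2.2 q hq hqπ h1
  · exact h q hq hqπ h1

/-- in the nonregular case every prime of `|E|` lies in `κ(M)`. -/
theorem mem_kappa_of_dvd_card_compl (hG : IsMinSimpleOddOrder G) (hM : IsCoatom M)
    (hE : IsComplIn E (sigmaCore M) M) (hτ₂ : ∀ q : ℕ, q ∉ tau2 M)
    (hne : sigmaCore M ⊓ Subgroup.centralizer (E : Set G) ≠ ⊥) {q : ℕ} (hq : q.Prime)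
    (hd : q ∣ Nat.card E) : q ∈ kappa M ∧ (q ∈ tau1 M ∨ q ∈ tau3 M) := by
  haveI : Fact q.Prime := ⟨hq⟩
  have hσ := compl_not_mem_sigma hG hM hE hq hd
  have hdM : q ∣ Nat.card M := hd.trans (Subgroup.card_dvd_of_le hE.1)
  have h13 : q ∈ tau1 M ∨ q ∈ tau3 M := by
    rcases mem_tau_of_not_sigma hG hM hq hdM hσ with h | h | h
    · exact Or.inl h
    · exact absurd h (hτ₂ q)
    · exact Or.inr h
  have hr1 : PRankLE q 1 ↥M := by
    rcases h13 with h | h
    · exact h.2.2.2.2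
    · exact h.2.2.2
  obtain ⟨x, hx⟩ := exists_prime_orderOf_dvd_card' (G := E) q hd
  obtain ⟨y, hy, hy1⟩ := exists_ne_one_of_ne_bot hne
  refine ⟨Cfsg.Agent.Lib.Helper3.BG14.mem_kappa_of_commute hG hσ hr1 (hE.1 x.2)
    (by rw [Subgroup.orderOf_coe]; exact hx) hy.1 hy1 ?_, h13⟩
  exact (Subgroup.mem_centralizer_iff.mp hy.2) x x.2

/-- `N_M(X) = E C_{M_σ}(E)` for a nontrivial normal subgroup `X` of `E`, when `E` acts in a prime
manner on `M_σ`. -/
theorem inf_normalizer_eq_of_prime_action (hE : IsComplIn E (sigmaCore M) M)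
    (h5a : ∀ x ∈ E, x ≠ 1 → sigmaCore M ⊓ Subgroup.centralizer ({x} : Set G) =
      sigmaCore M ⊓ Subgroup.centralizer (E : Set G))
    {X : Subgroup G} (hXE : X ≤ E) (hX1 : X ≠ ⊥) (hEX : E ≤ Subgroup.normalizer (X : Set G)) :
    M ⊓ Subgroup.normalizer (X : Set G) =
      E ⊔ (sigmaCore M ⊓ Subgroup.centralizer (E : Set G)) := by
  apply le_antisymm
  · intro g hg
    obtain ⟨hgM, hgN⟩ := Subgroup.mem_inf.mp hg
    obtain ⟨a, ha, b, hb, rfl⟩ := hE.2.2.2 g hgM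
    have hbN : b ∈ Subgroup.normalizer (X : Set G) := by
      have : b = a⁻¹ * (a * b) := by group
      rw [this]
      exact Subgroup.mul_mem _ (Subgroup.inv_mem _ (hEX ha)) hgN
    have hbC : b ∈ Subgroup.centralizer (X : Set G) := by
      rw [Subgroup.mem_centralizer_iff]
      intro x hx
      have hxM : x ∈ M := hE.1 (hXE hx)
      have h1 : b * x * b⁻¹ * x⁻¹ ∈ X :=
        X.mul_mem ((Subgroup.mem_normalizer_iff.mp hbN x).mp hx) (X.inv_mem hx)
      have h2 : b * x * b⁻¹ * x⁻¹ ∈ sigmaCore M := by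
        have h3 : x * b⁻¹ * x⁻¹ ∈ sigmaCore M :=
          conj_mem_of_mem_normalizer (le_normalizer_sigmaCore M hxM) (Subgroup.inv_mem _ hb)
        have : b * x * b⁻¹ * x⁻¹ = b * (x * b⁻¹ * x⁻¹) := by group
        rw [this]
        exact Subgroup.mul_mem _ hb h3
      have h4 : b * x * b⁻¹ * x⁻¹ ∈ E ⊓ sigmaCore M := ⟨hXE h1, h2⟩
      rw [hE.2.2.1, Subgroup.mem_bot] at h4
      calc x * b = (b * x * b⁻¹ * x⁻¹)⁻¹ * (b * x) := by group
        _ = b * x := by rw [h4, inv_one, one_mul]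
    obtain ⟨x₀, hx₀, hx₀1⟩ := exists_ne_one_of_ne_bot hX1
    have hb2 : b ∈ sigmaCore M ⊓ Subgroup.centralizer (E : Set G) := by
      rw [← h5a x₀ (hXE hx₀) hx₀1]
      refine ⟨hb, ?_⟩
      apply Subgroup.centralizer_le _ hbC
      intro z hz
      rw [Set.mem_singleton_iff] at hz
      rw [hz]
      exact hx₀
    exact Subgroup.mul_mem_sup ha hb2
  · apply sup_le
    · exact le_inf hE.1 hEX
    · apply le_inf (inf_le_left.trans (sigmaCore_le M))
      exact inf_le_right.trans ((Subgroup.centralizer_le hXE).trans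
        (Subgroup.centralizer_le_normalizer _))

/-- **Case II** of S1430: `E` acts in a prime manner on `M_σ` with `C_{M_σ}(E) ≠ 1`, every
subgroup of prime order of `E` is normal in `E`, and `τ₂(M) = ∅`. Then `K = E`, `U = 1`. -/
theorem concl_caseII (hG : IsMinSimpleOddOrder G) (hM : IsCoatom M) (hC1 : C1 G)
    (hE : IsComplIn E (sigmaCore M) M) (hτ₂ : ∀ q : ℕ, q ∉ tau2 M)
    (h5a : ∀ x ∈ E, x ≠ 1 → sigmaCore M ⊓ Subgroup.centralizer ({x} : Set G) =
      sigmaCore M ⊓ Subgroup.centralizer (E : Set G))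
    (h5b : sigmaCore M ⊓ Subgroup.centralizer (E : Set G) ≠ ⊥)
    (h5c : ∀ X : Subgroup G, X ≤ E → (Nat.card X).Prime → E ≤ Subgroup.normalizer (X : Set G))
    {K : Subgroup G} (hK : IsPiHallOf (kappa M) K M) (hK1 : K ≠ ⊥) (hKE : K ≤ E) :
    Concl M K := by
  have hKeq : K = E := eq_of_hall_of_le hK hKE hE.1
    (fun q hq hd => (mem_kappa_of_dvd_card_compl hG hM hE hτ₂ h5b hq hd).1)
  subst hKeq
  refine ⟨h5a, ⟨⊥, ?_, ?_, ?_, ?_⟩, ?_⟩
  · exact ⟨⟨fun a b => Subsingleton.elim _ _⟩⟩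
  · refine ⟨bot_le, ?_, ?_⟩
    · intro p hp hd
      rw [Subgroup.card_bot] at hd
      exact absurd (Nat.dvd_one.mp hd) hp.ne_one
    · intro p hp hpπ hd
      rw [Subgroup.relIndex_bot_left, compl_card hE] at hd
      rcases (Nat.Prime.dvd_mul hp).mp hd with h1 | h1
      · exact hpπ.2.1 (mem_kappa_of_dvd_card_compl hG hM hE hτ₂ h5b hp h1).1
      · exact hpπ.2.2 (mem_sigma_of_dvd_card_sigmaCore hG hM hp h1)
  · intro k hk
    rw [Subgroup.mem_normalizer_iff]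
    intro h
    simp only [Subgroup.mem_bot]
    constructor
    · intro h1
      rw [h1]
      group
    · intro h1
      calc h = k⁻¹ * (k * h * k⁻¹) * k := by group
        _ = 1 := by rw [h1]; group
  · intro k hk hk1
    exact bot_inf_eq _
  · intro X hXK hXp
    have hX1 : X ≠ ⊥ := by
      intro h
      rw [h, Subgroup.card_bot] at hXp
      exact Nat.not_prime_one hXp
    refine ⟨inf_normalizer_eq_of_prime_action hE h5a hXK hX1 (h5c X hXK hXp),
      inf_normalizer_eq_of_prime_action hE h5a le_rfl hK1 Subgroup.le_normalizer, ?_⟩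
    intro Mstar hMstar hNX
    have hd : Nat.card X ∣ Nat.card K := Subgroup.card_dvd_of_le hXK
    obtain ⟨-, h13⟩ := mem_kappa_of_dvd_card_compl hG hM hE hτ₂ h5b hXp hd
    have hne : sigmaCore M ⊓ Subgroup.centralizer (X : Set G) ≠ ⊥ := by
      intro h
      apply h5b
      rw [eq_bot_iff, ← h]
      exact inf_le_inf_left _ (Subgroup.centralizer_le hXK)
    have hpσ := hC1 M Mstar X hM hMstar _ h13 (hXK.trans hE.1) rfl hne hNX
    haveI : Fact (Nat.card X).Prime := ⟨hXp⟩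
    exact pgroup_le_sigmaCore hG hMstar hpσ (isPGroup_of_card_prime hXp)
      (Subgroup.le_normalizer.trans hNX)

end Cfsg.Agent.Lib.Helper29.BG1430Asm
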