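import Mathlib
import Cfsg.Agent.Lib.Helper29.BG1430A

/-!
Assembly of statement S1430 (B & G, Theorem 14.2 (a), (b)), part B: the case where `E₃` acts
regularly on `M_σ` (then `κ(M) ⊆ τ₁(M)`, `K` is a Hall `τ₁(M)`-subgroup of `E` and `U` is the
normal Hall `(κ(M) ∪ σ(M))'`-subgroup of `E`).
-/

set_option autoImplicit false
set_option linter.unusedVariables false
set_option linter.unusedSectionVars false
set_option linter.style.longLine false
set_option linter.unusedSimpArgs false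

open Cfsg
open scoped commutatorElement
open Cfsg.Agent.Lib.Helper10.BG
open Cfsg.Agent.Lib.Helper10
open Cfsg.Agent.Lib.Helper9.BGExc
open Cfsg.Agent.Lib.Helper19.BG12
open Cfsg.Agent.Lib.Helper19.BGCompl
open Cfsg.Agent.Lib.Helper29.BG1212
open Cfsg.Agent.Lib.Helper29.BG13K

namespace Cfsg.Agent.Lib.Helper29.BG1430Asm

variable {G : Type*} [Group G] [Finite G] {M E : Subgroup G}

theorem zpowers_ne_bot {x : G} (hx : x ≠ 1) : Subgroup.zpowers x ≠ ⊥ := by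
  intro h
  apply hx
  have : x ∈ Subgroup.zpowers x := Subgroup.mem_zpowers x
  rw [h, Subgroup.mem_bot] at this
  exact this

theorem commute_of_mem_zpowers {k u : G} (h : k * u = u * k) {a b : G}
    (ha : a ∈ Subgroup.zpowers k) (hb : b ∈ Subgroup.zpowers u) : a * b = b * a := by
  obtain ⟨i, rfl⟩ := Subgroup.mem_zpowers_iff.mp ha
  obtain ⟨j, rfl⟩ := Subgroup.mem_zpowers_iff.mp hb
  have h1 : Commute k u := h
  exact (h1.zpow_zpow i j)

theorem card_prime_ne_bot {X : Subgroup G} (hX : (Nat.card X).Prime) : X ≠ ⊥ := by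
  intro h
  rw [h, Subgroup.card_bot] at hX
  exact Nat.not_prime_one hX

/-- a generator of a subgroup of prime order. -/
theorem exists_orderOf_eq_card {X : Subgroup G} (hX : (Nat.card X).Prime) :
    ∃ w ∈ X, w ≠ 1 ∧ orderOf w = Nat.card X := by
  obtain ⟨w, hw, hw1⟩ := exists_ne_one_of_ne_bot (card_prime_ne_bot hX)
  refine ⟨w, hw, hw1, ?_⟩
  have h1 : orderOf w ∣ Nat.card X := Subgroup.orderOf_dvd_natCard X hw
  rcases (Nat.dvd_prime hX).mp h1 with h | h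
  · exact absurd (orderOf_eq_one_iff.mp h) hw1
  · exact h

/-- the regularity hypothesis of Case I: no subgroup of prime order of `E₃` centralizes a
non-identity element of `M_σ`. -/
def Reg (M E₃ : Subgroup G) : Prop :=
  ∀ Y₀ : Subgroup G, Y₀ ≤ E₃ → (Nat.card Y₀).Prime →
    sigmaCore M ⊓ Subgroup.centralizer (Y₀ : Set G) = ⊥

/-- in Case I, `κ(M) ⊆ τ₁(M)`. -/
theorem kappa_subset_tau1_of_regular (hG : IsMinSimpleOddOrder G) (hM : IsCoatom M)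
    (hE : IsComplIn E (sigmaCore M) M) {E₃ : Subgroup G} (hE₃ : IsPiHallOf (tau3 M) E₃ E)
    (hreg : Reg M E₃) : ∀ p : ℕ, p ∈ kappa M → p ∈ tau1 M := by
  intro p hp
  have hpp := hp.1
  haveI : Fact p.Prime := ⟨hpp⟩
  rcases mem_tau_of_not_sigma hG hM hpp hp.2.1 hp.2.2.1 with h | h | h
  · exact h
  · exfalso
    obtain ⟨T⟩ : Nonempty (Sylow p ↥M) := inferInstance
    exact h.2.2.2 (Cfsg.Agent.Lib.Helper25.BG1431.pRankLE_one_of_cyclic_sylow hpp T (hp.2.2.2 T).1)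
  · exfalso
    obtain ⟨T, hT⟩ := exists_isSylowIn p E
    have hTM : IsSylowIn p T M := compl_isSylowIn hG hM hE hp.2.2.1 hT
    obtain ⟨hcyc, hE₃E', hEn⟩ := (Cfsg.Agent.S1415.result hG M hM E hE).2.2 E₃ hE₃
    have hTE₃ : T ≤ E₃ :=
      pgroup_le_of_not_dvd_relIndex hEn (hE₃.2.2 p hpp h) hT.isPGroup hT.le
    obtain ⟨x, hxT, hx1, y, hy, hy1, hxy⟩ := Cfsg.Agent.Lib.Helper3.BG14.kappa_witness hp hTM
    obtain ⟨Y₀, hY₀z, hY₀⟩ := exists_le_card_prime (zpowers_ne_bot hx1)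
    have hY₀E₃ : Y₀ ≤ E₃ := hY₀z.trans ((Subgroup.zpowers_le.mpr hxT).trans hTE₃)
    have h0 := hreg Y₀ hY₀E₃ hY₀
    have hy' : y ∈ sigmaCore M ⊓ Subgroup.centralizer (Y₀ : Set G) := by
      refine ⟨hy, ?_⟩
      apply Subgroup.centralizer_le hY₀z
      apply centralizer_singleton_le_of_eq_zpowers rfl
      rw [Subgroup.mem_centralizer_singleton_iff]
      exact hxy.symm
    rw [h0, Subgroup.mem_bot] at hy'
    exact hy1 hy'

/-- subgroups of prime order of a Hall `κ(M)`-subgroup acting in a prime manner have nontrivial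
centralizer in `M_σ`. -/
theorem kstar_ne_bot {K : Subgroup G} (hK : IsPiHallOf (kappa M) K M) (hK1 : K ≠ ⊥)
    (h1 : ∀ k ∈ K, k ≠ 1 → sigmaCore M ⊓ Subgroup.centralizer ({k} : Set G) =
      sigmaCore M ⊓ Subgroup.centralizer (K : Set G)) :
    sigmaCore M ⊓ Subgroup.centralizer (K : Set G) ≠ ⊥ := by
  obtain ⟨X, hXK, hX⟩ := exists_le_card_prime hK1
  have hpκ : Nat.card X ∈ kappa M := hK.2.1 _ hX (Subgroup.card_dvd_of_le hXK)
  haveI : Fact (Nat.card X).Prime := ⟨hX⟩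
  obtain ⟨T, hT⟩ := exists_isSylowIn (Nat.card X) K
  obtain ⟨hTM, -⟩ := kappa_sylow_cyclic hK hpκ hT
  obtain ⟨x, hxT, hx1, y, hy, hy1, hxy⟩ := Cfsg.Agent.Lib.Helper3.BG14.kappa_witness hpκ hTM
  intro hbot
  have hy' : y ∈ sigmaCore M ⊓ Subgroup.centralizer ({x} : Set G) :=
    Subgroup.mem_inf.mpr ⟨hy, Subgroup.mem_centralizer_singleton_iff.mpr hxy.symm⟩
  rw [h1 x (hT.le hxT) hx1, hbot, Subgroup.mem_bot] at hy'
  exact hy1 hy'

theorem centralizer_ne_bot_of_le {K : Subgroup G}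
    (hne : sigmaCore M ⊓ Subgroup.centralizer (K : Set G) ≠ ⊥) {X : Subgroup G} (hXK : X ≤ K) :
    sigmaCore M ⊓ Subgroup.centralizer (X : Set G) ≠ ⊥ := by
  intro h
  apply hne
  rw [eq_bot_iff, ← h]
  exact inf_le_inf_left _ (Subgroup.centralizer_le hXK)

/-- the set of primes of the Hall subgroup `U`. -/
def piU (M : Subgroup G) : Set ℕ := {q | q.Prime ∧ q ∉ Cfsg.kappa M ∧ q ∉ Cfsg.sigma M}

/-- in Case I, `E` has a normal Hall `(κ(M) ∪ σ(M))'`-subgroup, which is Hall in `M`. -/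
theorem exists_U (hG : IsMinSimpleOddOrder G) (hM : IsCoatom M)
    (hE : IsComplIn E (sigmaCore M) M) (hκ : ∀ p : ℕ, p ∈ kappa M → p ∈ tau1 M) :
    ∃ U : Subgroup G, IsPiHallOf (piU M) U E ∧ IsPiHallOf (piU M) U M ∧
      E ≤ Subgroup.normalizer (U : Set G) := by
  have hEtop : E ≠ ⊤ := by
    intro h
    apply hM.1
    rw [eq_top_iff, ← h]
    exact hE.1
  obtain ⟨U, hU, hE'U⟩ := exists_hall_ge hG hEtop (piU M) (commutator_self_le E) (by
    intro q hq hd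
    have hdE : q ∣ Nat.card E := hd.trans (Subgroup.card_dvd_of_le (commutator_self_le E))
    refine ⟨hq, ?_, compl_not_mem_sigma hG hM hE hq hdE⟩
    intro hqκ
    apply (hκ q hqκ).2.2.2.1
    exact hd.trans (Subgroup.card_dvd_of_le (Subgroup.commutator_mono hE.1 hE.1)))
  refine ⟨U, hU, ?_, ?_⟩
  · apply isPiHallOf_of_le hU hE.1
    intro q hq hqπ
    rw [compl_relIndex' hE]
    intro hd
    exact hqπ.2.2 (mem_sigma_of_dvd_card_sigmaCore hG hM hq hd)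
  · apply Cfsg.Agent.Lib.Helper10.BG.le_normalizer_of_conj_mem
    intro e he u hu
    have h1 : e * u * e⁻¹ * u⁻¹ ∈ ⁅E, E⁆ := by
      have := Subgroup.commutator_mem_commutator he (hU.1 hu)
      rwa [commutatorElement_def] at this
    have : e * u * e⁻¹ = (e * u * e⁻¹ * u⁻¹) * u := by group
    rw [this]
    exact U.mul_mem (hE'U h1) hu

/-- in Case I, `K` acts regularly on `U`. -/
theorem regular_on_U (hG : IsMinSimpleOddOrder G) (hM : IsCoatom M) (hL3 : L3 G)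
    (hE : IsComplIn E (sigmaCore M) M) {E₃ : Subgroup G} (hE₃ : IsPiHallOf (tau3 M) E₃ E)
    (hreg : Reg M E₃) (hκ : ∀ p : ℕ, p ∈ kappa M → p ∈ tau1 M)
    {K : Subgroup G} (hK : IsPiHallOf (kappa M) K M) (hKE : K ≤ E)
    (hne : sigmaCore M ⊓ Subgroup.centralizer (K : Set G) ≠ ⊥)
    {U : Subgroup G} (hU : IsPiHallOf (piU M) U E) :
    ∀ k ∈ K, k ≠ 1 → U ⊓ Subgroup.centralizer ({k} : Set G) = ⊥ := by
  intro k hk hk1
  by_contra hbot
  obtain ⟨u, hu, hu1⟩ := exists_ne_one_of_ne_bot hbot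
  obtain ⟨huU, huk⟩ := Subgroup.mem_inf.mp hu
  rw [Subgroup.mem_centralizer_singleton_iff] at huk
  obtain ⟨P₀, hP₀z, hP₀⟩ := exists_le_card_prime (zpowers_ne_bot hk1)
  obtain ⟨Y₀, hY₀z, hY₀⟩ := exists_le_card_prime (zpowers_ne_bot hu1)
  have hP₀K : P₀ ≤ K := hP₀z.trans (Subgroup.zpowers_le.mpr hk)
  have hP₀E : P₀ ≤ E := hP₀K.trans hKE
  have hY₀U : Y₀ ≤ U := hY₀z.trans (Subgroup.zpowers_le.mpr huU)
  have hY₀E : Y₀ ≤ E := hY₀U.trans hU.1
  have hcomm : ∀ a ∈ P₀, ∀ b ∈ Y₀, a * b = b * a := fun a ha b hb =>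
    commute_of_mem_zpowers huk.symm (hP₀z ha) (hY₀z hb)
  have hpκ : Nat.card P₀ ∈ kappa M := hK.2.1 _ hP₀ (Subgroup.card_dvd_of_le hP₀K)
  have hpτ : Nat.card P₀ ∈ tau1 M := hκ _ hpκ
  have hsU : Nat.card Y₀ ∈ piU M := hU.2.1 _ hY₀ (Subgroup.card_dvd_of_le hY₀U)
  have hsM : Nat.card Y₀ ∣ Nat.card M := Subgroup.card_dvd_of_le (hY₀E.trans hE.1)
  have hneP : sigmaCore M ⊓ Subgroup.centralizer (P₀ : Set G) ≠ ⊥ :=
    centralizer_ne_bot_of_le hne hP₀K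
  have hY₀C : Y₀ ≤ E ⊓ Subgroup.centralizer (P₀ : Set G) := by
    apply le_inf hY₀E
    intro b hb
    rw [Subgroup.mem_centralizer_iff]
    intro a ha
    exact hcomm a ha b hb
  rcases mem_tau_of_not_sigma hG hM hY₀ hsM hsU.2.2 with h | h | h
  · -- `s ∈ τ₁(M)`: then `s ∈ κ(M)`
    have heq := tau1_centralizer_eq hG hM hE hP₀E hY₀E hpτ h hcomm
    rw [heq] at hneP
    obtain ⟨y, hy, hy1⟩ := exists_ne_one_of_ne_bot hneP
    obtain ⟨w, hw, hw1, hwo⟩ := exists_orderOf_eq_card hY₀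
    haveI : Fact (Nat.card Y₀).Prime := ⟨hY₀⟩
    apply hsU.2.1
    exact Cfsg.Agent.Lib.Helper3.BG14.mem_kappa_of_commute hG hsU.2.2 h.2.2.2.2
      (hE.1 (hY₀E hw)) hwo hy.1 hy1 ((Subgroup.mem_centralizer_iff.mp hy.2) w hw)
  · exact hL3 M E P₀ Y₀ hM hE _ _ hpτ hP₀E rfl hneP h hY₀C rfl
  · obtain ⟨hcyc, hE₃E', hEn⟩ := (Cfsg.Agent.S1415.result hG M hM E hE).2.2 E₃ hE₃
    haveI : Fact (Nat.card Y₀).Prime := ⟨hY₀⟩
    have hY₀E₃ : Y₀ ≤ E₃ :=
      pgroup_le_of_not_dvd_relIndex hEn (hE₃.2.2 _ hY₀ h) (isPGroup_of_card_prime hY₀) hY₀E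
    have h0 := hreg Y₀ hY₀E₃ hY₀
    have h2 := Cfsg.Agent.S1428.result hG M hM E hE _ hpτ P₀ hP₀E rfl Y₀ hY₀C hY₀
    apply hneP
    rw [eq_bot_iff, ← h0]
    exact h2

/-- `E = U K`. -/
theorem compl_le_sup (hG : IsMinSimpleOddOrder G) (hM : IsCoatom M)
    (hE : IsComplIn E (sigmaCore M) M) {K U : Subgroup G} (hK : IsPiHallOf (kappa M) K M)
    (hKE : K ≤ E) (hU : IsPiHallOf (piU M) U E) : E ≤ U ⊔ K := by
  rw [← Subgroup.relIndex_eq_one]
  by_contra h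
  obtain ⟨q, hq, hd⟩ := Nat.exists_prime_and_dvd h
  have hUKE : U ⊔ K ≤ E := sup_le hU.1 hKE
  have hdE : q ∣ Nat.card E := hd.trans (Subgroup.relIndex_dvd_card _ E)
  have hσ := compl_not_mem_sigma hG hM hE hq hdE
  by_cases hqκ : q ∈ kappa M
  · apply hK.2.2 q hq hqκ
    have h1 : (U ⊔ K).relIndex E ∣ K.relIndex E :=
      ⟨K.relIndex (U ⊔ K), by
        rw [mul_comm]; exact (Subgroup.relIndex_mul_relIndex K (U ⊔ K) E le_sup_right hUKE).symm⟩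
    have h2 : K.relIndex E ∣ K.relIndex M :=
      ⟨E.relIndex M, (Subgroup.relIndex_mul_relIndex K E M hKE hE.1).symm⟩
    exact hd.trans (h1.trans h2)
  · apply hU.2.2 q hq ⟨hq, hqκ, hσ⟩
    have h1 : (U ⊔ K).relIndex E ∣ U.relIndex E :=
      ⟨U.relIndex (U ⊔ K), by
        rw [mul_comm]; exact (Subgroup.relIndex_mul_relIndex U (U ⊔ K) E le_sup_left hUKE).symm⟩
    exact hd.trans h1

/-- `C_M(x₀) ≤ K K*` for `x₀ ∈ K#` in Case I. -/
theorem inf_centralizer_le_caseI (hE : IsComplIn E (sigmaCore M) M) {K U : Subgroup G}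
    (hKU : K ≤ Subgroup.normalizer (U : Set G)) (hEUK : E ≤ U ⊔ K) (hKE : K ≤ E)
    (hKab : ∀ a ∈ K, ∀ b ∈ K, a * b = b * a)
    (h1 : ∀ k ∈ K, k ≠ 1 → sigmaCore M ⊓ Subgroup.centralizer ({k} : Set G) =
      sigmaCore M ⊓ Subgroup.centralizer (K : Set G))
    (hfree : ∀ k ∈ K, k ≠ 1 → U ⊓ Subgroup.centralizer ({k} : Set G) = ⊥)
    {x₀ : G} (hx₀ : x₀ ∈ K) (hx₀1 : x₀ ≠ 1) :
    M ⊓ Subgroup.centralizer ({x₀} : Set G) ≤
      K ⊔ (sigmaCore M ⊓ Subgroup.centralizer (K : Set G)) := by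
  intro g hg
  obtain ⟨hgM, hgC⟩ := Subgroup.mem_inf.mp hg
  rw [Subgroup.mem_centralizer_singleton_iff] at hgC
  obtain ⟨a, ha, b, hb, rfl⟩ := hE.2.2.2 g hgM
  have hx₀E : x₀ ∈ E := hKE hx₀
  have hx₀M : x₀ ∈ M := hE.1 hx₀E
  -- `b x₀ b⁻¹ = a⁻¹ x₀ a`
  have hkey : b * x₀ * b⁻¹ = a⁻¹ * x₀ * a := by
    calc b * x₀ * b⁻¹ = a⁻¹ * (a * b * x₀) * b⁻¹ := by group
      _ = a⁻¹ * (x₀ * (a * b)) * b⁻¹ := by rw [hgC]
      _ = a⁻¹ * x₀ * a := by group
  have hc : x₀⁻¹ * (a⁻¹ * x₀ * a) ∈ E ⊓ sigmaCore M := by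
    refine ⟨E.mul_mem (E.inv_mem hx₀E) (E.mul_mem (E.mul_mem (E.inv_mem ha) hx₀E) ha), ?_⟩
    rw [← hkey]
    have h3 : x₀⁻¹ * b * (x₀⁻¹)⁻¹ ∈ sigmaCore M :=
      conj_mem_of_mem_normalizer (le_normalizer_sigmaCore M (M.inv_mem hx₀M)) hb
    have : x₀⁻¹ * (b * x₀ * b⁻¹) = (x₀⁻¹ * b * (x₀⁻¹)⁻¹) * b⁻¹ := by group
    rw [this]
    exact Subgroup.mul_mem _ h3 (Subgroup.inv_mem _ hb)
  rw [hE.2.2.1, Subgroup.mem_bot] at hc
  have hax : a⁻¹ * x₀ * a = x₀ := by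
    calc a⁻¹ * x₀ * a = x₀ * (x₀⁻¹ * (a⁻¹ * x₀ * a)) := by group
      _ = x₀ := by rw [hc, mul_one]
  have hbx : b * x₀ = x₀ * b := by
    calc b * x₀ = (b * x₀ * b⁻¹) * b := by group
      _ = x₀ * b := by rw [hkey, hax]
  have hb2 : b ∈ sigmaCore M ⊓ Subgroup.centralizer (K : Set G) := by
    rw [← h1 x₀ hx₀ hx₀1]
    exact ⟨hb, Subgroup.mem_centralizer_singleton_iff.mpr hbx⟩
  obtain ⟨u, hu, k, hk, hak⟩ := exists_mul_of_mem_sup_of_le_normalizer hKU (hEUK ha)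
  have hkx : k * x₀ = x₀ * k := hKab k hk x₀ hx₀
  have hux : u * x₀ = x₀ * u := by
    have hu' : u = a * k⁻¹ := by rw [hak]; group
    have hax' : a * x₀ = x₀ * a := by
      calc a * x₀ = a * (a⁻¹ * x₀ * a) := by rw [hax]
        _ = x₀ * a := by group
    have hkx' : k⁻¹ * x₀ = x₀ * k⁻¹ := by
      calc k⁻¹ * x₀ = k⁻¹ * (x₀ * k) * k⁻¹ := by group
        _ = k⁻¹ * (k * x₀) * k⁻¹ := by rw [hkx]
        _ = x₀ * k⁻¹ := by group
    rw [hu']
    calc a * k⁻¹ * x₀ = a * (k⁻¹ * x₀) := by group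
      _ = a * (x₀ * k⁻¹) := by rw [hkx']
      _ = (a * x₀) * k⁻¹ := by group
      _ = x₀ * a * k⁻¹ := by rw [hax']
      _ = x₀ * (a * k⁻¹) := by group
  have hu1 : u ∈ U ⊓ Subgroup.centralizer ({x₀} : Set G) :=
    ⟨hu, Subgroup.mem_centralizer_singleton_iff.mpr hux⟩
  rw [hfree x₀ hx₀ hx₀1, Subgroup.mem_bot] at hu1
  have hak' : a = k := by rw [hak, hu1, one_mul]
  rw [hak']
  exact Subgroup.mul_mem_sup hk hb2

/-- **Case I** of S1430: `E₃` acts regularly on `M_σ`. -/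
theorem concl_caseI (hG : IsMinSimpleOddOrder G) (hM : IsCoatom M) (hC1 : C1 G) (hL3 : L3 G)
    (hE : IsComplIn E (sigmaCore M) M) {E₃ : Subgroup G} (hE₃ : IsPiHallOf (tau3 M) E₃ E)
    (hreg : Reg M E₃) {K : Subgroup G} (hK : IsPiHallOf (kappa M) K M) (hK1 : K ≠ ⊥)
    (hKE : K ≤ E) : Concl M K := by
  have hκ := kappa_subset_tau1_of_regular hG hM hE hE₃ hreg
  have h1 := prime_action_of_kappa_tau1 hG hM hκ hK
  have hne := kstar_ne_bot hK hK1 h1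
  have hKτ : ∀ p : ℕ, p.Prime → p ∣ Nat.card K → p ∈ tau1 M :=
    fun p hp hd => hκ p (hK.2.1 p hp hd)
  have hKab := commute_of_tau1_group hK.1 hKτ
  have hKM' : K ⊓ ⁅M, M⁆ = ⊥ := by
    apply inf_eq_bot_of_coprime
    apply Nat.coprime_of_dvd
    intro p hp hd1 hd2
    exact (hKτ p hp hd1).2.2.2.1 hd2
  obtain ⟨U, hUE, hUM, hEU⟩ := exists_U hG hM hE hκ
  have hKU : K ≤ Subgroup.normalizer (U : Set G) := hKE.trans hEU
  have hfree := regular_on_U hG hM hL3 hE hE₃ hreg hκ hK hKE hne hUE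
  have hEUK := compl_le_sup hG hM hE hK hKE hUE
  obtain ⟨k₀, hk₀, hk₀1⟩ := exists_ne_one_of_ne_bot hK1
  have hUcomm : U ≤ ⁅E, E⁆ :=
    Cfsg.Agent.Lib.Helper25.BG1431.U_le_commutator' hUE.1 hKE hKU hk₀ (hfree k₀ hk₀ hk₀1)
  have hE'ab : IsMulCommutative ↥⁅E, E⁆ := (Cfsg.Agent.S1420.result hG M hM E hE).2.1
  have hUab : IsMulCommutative U := by
    refine ⟨⟨fun a b => ?_⟩⟩
    have h2 : (⟨(a : G), hUcomm a.2⟩ : ↥⁅E, E⁆) * ⟨(b : G), hUcomm b.2⟩ =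
        ⟨(b : G), hUcomm b.2⟩ * ⟨(a : G), hUcomm a.2⟩ := mul_comm' _ _
    have h3 := congrArg Subtype.val h2
    simp only [Subgroup.coe_mul] at h3
    apply Subtype.ext
    rw [Subgroup.coe_mul, Subgroup.coe_mul]
    exact h3
  -- the centralizer of a non-identity element of `K`
  have hcent : ∀ x₀ ∈ K, x₀ ≠ 1 → M ⊓ Subgroup.centralizer ({x₀} : Set G) ≤
      K ⊔ (sigmaCore M ⊓ Subgroup.centralizer (K : Set G)) :=
    fun x₀ hx₀ hx₀1 => inf_centralizer_le_caseI hE hKU hEUK hKE hKab h1 hfree hx₀ hx₀1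
  -- elements of `M` normalizing a subgroup `X ≤ K` centralize it
  have hnc : ∀ X : Subgroup G, X ≤ K → ∀ g ∈ M, g ∈ Subgroup.normalizer (X : Set G) →
      ∀ x ∈ X, g * x = x * g := by
    intro X hXK g hgM hgN x hx
    have h2 : g * x * g⁻¹ * x⁻¹ ∈ K ⊓ ⁅M, M⁆ := by
      refine ⟨hXK (X.mul_mem ((Subgroup.mem_normalizer_iff.mp hgN x).mp hx) (X.inv_mem hx)), ?_⟩
      have := Subgroup.commutator_mem_commutator hgM (hK.1 (hXK hx))
      rwa [commutatorElement_def] at this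
    rw [hKM', Subgroup.mem_bot] at h2
    calc g * x = (g * x * g⁻¹ * x⁻¹) * (x * g) := by group
      _ = x * g := by rw [h2, one_mul]
  have hKstar_le : sigmaCore M ⊓ Subgroup.centralizer (K : Set G) ≤ M :=
    inf_le_left.trans (sigmaCore_le M)
  refine ⟨h1, ⟨U, hUab, hUM, hKU, hfree⟩, ?_⟩
  intro X hXK hXp
  obtain ⟨x₀, hx₀, hx₀1, -⟩ := exists_orderOf_eq_card hXp
  refine ⟨?_, ?_, ?_⟩
  · apply le_antisymm
    · intro g hg
      obtain ⟨hgM, hgN⟩ := Subgroup.mem_inf.mp hg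
      apply hcent x₀ (hXK hx₀) hx₀1
      exact ⟨hgM, Subgroup.mem_centralizer_singleton_iff.mpr (hnc X hXK g hgM hgN x₀ hx₀)⟩
    · apply sup_le
      · apply le_inf hK.1
        refine le_trans ?_ (Subgroup.centralizer_le_normalizer _)
        intro k hk
        rw [Subgroup.mem_centralizer_iff]
        intro x hx
        exact hKab x (hXK hx) k hk
      · apply le_inf hKstar_le
        exact inf_le_right.trans ((Subgroup.centralizer_le hXK).trans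
          (Subgroup.centralizer_le_normalizer _))
  · apply le_antisymm
    · intro g hg
      obtain ⟨hgM, hgN⟩ := Subgroup.mem_inf.mp hg
      apply hcent x₀ (hXK hx₀) hx₀1
      exact ⟨hgM, Subgroup.mem_centralizer_singleton_iff.mpr
        (hnc K le_rfl g hgM hgN x₀ (hXK hx₀))⟩
    · apply sup_le
      · exact le_inf hK.1 Subgroup.le_normalizer
      · apply le_inf hKstar_le
        exact inf_le_right.trans (Subgroup.centralizer_le_normalizer _)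
  · intro Mstar hMstar hNX
    have hpτ : Nat.card X ∈ tau1 M := hKτ _ hXp (Subgroup.card_dvd_of_le hXK)
    have hneX := centralizer_ne_bot_of_le hne hXK
    have hpσ := hC1 M Mstar X hM hMstar _ (Or.inl hpτ) (hXK.trans hK.1) rfl hneX hNX
    haveI : Fact (Nat.card X).Prime := ⟨hXp⟩
    exact pgroup_le_sigmaCore hG hMstar hpσ (isPGroup_of_card_prime hXp)
      (Subgroup.le_normalizer.trans hNX)

end Cfsg.Agent.Lib.Helper29.BG1430Asm
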