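import Mathlib
import Cfsg.Agent.Lib.Helper29.BG1430B

/-!
Assembly of statement S1430 (B & G, Theorem 14.2 (a), (b)), part C: the frozen statement from the
three hypotheses `C1`, `L3`, `L5`.
-/

set_option autoImplicit false
set_option linter.unusedVariables false
set_option linter.unusedSectionVars false
set_option linter.style.longLine false
set_option linter.unusedSimpArgs false

open Cfsg
open scoped commutatorElement
open Cfsg.Agent.Lib.Helper10.BG
open Cfsg.Agent.Lib.Helper10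
open Cfsg.Agent.Lib.Helper9.BGExc
open Cfsg.Agent.Lib.Helper19.BG12
open Cfsg.Agent.Lib.Helper19.BGCompl
open Cfsg.Agent.Lib.Helper29.BG1212
open Cfsg.Agent.Lib.Helper29.BG13K

namespace Cfsg.Agent.Lib.Helper29.BG1430Asm

variable {G : Type*} [Group G] [Finite G]

/-- **S1430** from `C1`, `L3`, `L5`. -/
theorem s1430_of (hG : IsMinSimpleOddOrder G) (hC1 : C1 G) (hL3 : L3 G) (hL5 : L5 G)
    (M : Subgroup G) (hM : IsCoatom M) (K : Subgroup G) (hK : IsPiHallOf (kappa M) K M)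
    (hK1 : K ≠ ⊥) : Concl M K := by
  have hKσ : ∀ q : ℕ, q.Prime → q ∣ Nat.card K → q ∉ sigma M :=
    fun q hq hd => (hK.2.1 q hq hd).2.2.1
  obtain ⟨E, hE, hKE⟩ := exists_isComplIn_sigmaCore_ge hG hM hK.1
    (coprime_card_sigmaCore_of hG hM hKσ)
  have hEtop : E ≠ ⊤ := by
    intro h
    apply hM.1
    rw [eq_top_iff, ← h]
    exact hE.1
  obtain ⟨E₃, hE₃⟩ := exists_hall hG hEtop (tau3 M)
  by_cases hII : E₃ ≠ ⊥ ∧ sigmaCore M ⊓ Subgroup.centralizer (E₃ : Set G) ≠ ⊥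
  · obtain ⟨h5a, h5b, h5c⟩ := hL5 M E E₃ hM hE hE₃ hII.1 hII.2
    exact concl_caseII hG hM hC1 hE
      (not_mem_tau2_of_tau3_nonregular hG hM hE hE₃ hII.1 hII.2) h5a h5b h5c hK hK1 hKE
  · have hreg : Reg M E₃ := by
      intro Y₀ hY₀ hY₀p
      by_contra hne
      apply hII
      refine ⟨?_, ?_⟩
      · intro h
        rw [h, le_bot_iff] at hY₀
        exact card_prime_ne_bot hY₀p hY₀
      · intro h
        apply hne
        rw [eq_bot_iff, ← h]
        exact le_inf inf_le_left (tau3_prime_action hG hM hE hE₃ hY₀ hY₀p)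
    exact concl_caseI hG hM hC1 hL3 hE hE₃ hreg hK hK1 hKE

/-- the same with the conclusion written out as in the frozen statement. -/
theorem s1430_of' (hG : IsMinSimpleOddOrder G) (hC1 : C1 G) (hL3 : L3 G) (hL5 : L5 G)
    (M : Subgroup G) (hM : IsCoatom M) (K : Subgroup G) (hK : Cfsg.IsPiHallOf (Cfsg.kappa M) K M) (hK1 : K ≠ ⊥) :
    (∀ k ∈ K, k ≠ 1 → Cfsg.sigmaCore M ⊓ Subgroup.centralizer ({k} : Set G) = (Cfsg.sigmaCore M ⊓ Subgroup.centralizer (K : Set G))) ∧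
      (∃ U : Subgroup G, IsMulCommutative U ∧ Cfsg.IsPiHallOf {q | q.Prime ∧ q ∉ Cfsg.kappa M ∧ q ∉ Cfsg.sigma M} U M ∧
        K ≤ Subgroup.normalizer (U : Set G) ∧ ∀ k ∈ K, k ≠ 1 → U ⊓ Subgroup.centralizer ({k} : Set G) = ⊥) ∧
      ∀ X : Subgroup G, X ≤ K → (Nat.card X).Prime →
        M ⊓ Subgroup.normalizer (X : Set G) = K ⊔ (Cfsg.sigmaCore M ⊓ Subgroup.centralizer (K : Set G)) ∧ M ⊓ Subgroup.normalizer (K : Set G) = K ⊔ (Cfsg.sigmaCore M ⊓ Subgroup.centralizer (K : Set G)) ∧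
        ∀ Mstar : Subgroup G, IsCoatom Mstar → Subgroup.normalizer (X : Set G) ≤ Mstar → X ≤ Cfsg.sigmaCore Mstar :=
  s1430_of hG hC1 hL3 hL5 M hM K hK hK1

end Cfsg.Agent.Lib.Helper29.BG1430Asm
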