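import Mathlib
import Cfsg.Agent.Lib.Helper29.BG1430C
import Cfsg.Agent.Lib.Helper9.BG1430c
import Cfsg.Agent.Lib.Helper10.BGCaseIIAsm
import Cfsg.Agent.Lib.Helper22.BG1430A

/-!
Assembly of statement S1430, part D: the hypotheses `L3`, `L5` of part C from the landed pieces
(`helper9`'s `tau1_tau2_regular`, `helper10`'s Case II lemmas), leaving only
`Stmt136` (B & G 13.6 for `τ₁`) and `NoAlpha` ((II-α) is impossible).
-/

set_option autoImplicit false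
set_option linter.unusedVariables false
set_option linter.unusedSectionVars false
set_option linter.style.longLine false
set_option linter.unusedSimpArgs false

open Cfsg
open scoped commutatorElement
open Cfsg.Agent.Lib.Helper10.BG
open Cfsg.Agent.Lib.Helper10
open Cfsg.Agent.Lib.Helper9.BGExc
open Cfsg.Agent.Lib.Helper19.BG12
open Cfsg.Agent.Lib.Helper19.BGCompl
open Cfsg.Agent.Lib.Helper29.BG1212
open Cfsg.Agent.Lib.Helper29.BG13K

namespace Cfsg.Agent.Lib.Helper29.BG1430Asm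

variable {G : Type*} [Group G] [Finite G]

/-- `L3` from `C1` (helper9). -/
theorem l3_of_c1 (hG : IsMinSimpleOddOrder G) (hC1 : C1 G) : L3 G :=
  fun M E P Y hM hE p s hp hPE hP hK hs hYE hY =>
    Cfsg.Agent.Lib.Helper9.BG1430a.tau1_tau2_regular hG hC1 hM hE hp hPE hP hK hs hYE hY

/-- `L5` from `NoAlpha` (helper10). -/
theorem l5_of_noAlpha (hG : IsMinSimpleOddOrder G) (hNA : Cfsg.Agent.Lib.Helper10.BG.NoAlpha G) :
    L5 G := by
  intro M E E₃ hM hE hE₃ hE₃1 hD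
  have hEtop : E ≠ ⊤ := by
    intro h
    apply hM.1
    rw [eq_top_iff, ← h]
    exact hE.1
  obtain ⟨E₁, hE₁⟩ := exists_hall hG hEtop (tau1 M)
  have hτ₂ := not_mem_tau2_of_tau3_nonregular hG hM hE hE₃ hE₃1 hD
  have hβ := hNA M E E₁ E₃ hM hE hE₁ hE₃ hE₃1 hD
  refine ⟨prime_action_compl_of_tau3_nonregular hG hM hE hE₁ hE₃ hτ₂ hE₃1 hβ, ?_, ?_⟩
  · intro h
    apply hD
    rw [eq_bot_iff, ← h]
    exact le_inf inf_le_left
      (tau3_centralizer_le_centralizer_compl hG hM hE hE₁ hE₃ hτ₂ hE₃1 hβ)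
  · intro X hXE hXp
    exact (card_prime_compl_of_tau3_nonregular hG hM hE hE₁ hE₃ hτ₂ hE₃1 hβ hXE hXp).2

/-- **S1430** from `Stmt136` (B & G 13.6 for `τ₁`) and `NoAlpha`. -/
theorem s1430_of_136_noAlpha (hG : IsMinSimpleOddOrder G)
    (h136 : Cfsg.Agent.Lib.Helper22.BG1430N.Stmt136 G)
    (hNA : Cfsg.Agent.Lib.Helper10.BG.NoAlpha G)
    (M : Subgroup G) (hM : IsCoatom M) (K : Subgroup G) (hK : Cfsg.IsPiHallOf (Cfsg.kappa M) K M) (hK1 : K ≠ ⊥) :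
    (∀ k ∈ K, k ≠ 1 → Cfsg.sigmaCore M ⊓ Subgroup.centralizer ({k} : Set G) = (Cfsg.sigmaCore M ⊓ Subgroup.centralizer (K : Set G))) ∧
      (∃ U : Subgroup G, IsMulCommutative U ∧ Cfsg.IsPiHallOf {q | q.Prime ∧ q ∉ Cfsg.kappa M ∧ q ∉ Cfsg.sigma M} U M ∧
        K ≤ Subgroup.normalizer (U : Set G) ∧ ∀ k ∈ K, k ≠ 1 → U ⊓ Subgroup.centralizer ({k} : Set G) = ⊥) ∧
      ∀ X : Subgroup G, X ≤ K → (Nat.card X).Prime →
        M ⊓ Subgroup.normalizer (X : Set G) = K ⊔ (Cfsg.sigmaCore M ⊓ Subgroup.centralizer (K : Set G)) ∧ M ⊓ Subgroup.normalizer (K : Set G) = K ⊔ (Cfsg.sigmaCore M ⊓ Subgroup.centralizer (K : Set G)) ∧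
        ∀ Mstar : Subgroup G, IsCoatom Mstar → Subgroup.normalizer (X : Set G) ≤ Mstar → X ≤ Cfsg.sigmaCore Mstar := by
  have hC1 : C1 G := Cfsg.Agent.Lib.Helper22.BG1430A.stmtC1_of_stmt136 hG h136
  exact s1430_of' hG hC1 (l3_of_c1 hG hC1) (l5_of_noAlpha hG hNA) M hM K hK hK1

end Cfsg.Agent.Lib.Helper29.BG1430Asm
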