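import Mathlib
import Cfsg.Agent.Lib.Helper29.BG1430D
import Cfsg.Agent.Lib.Helper19.BG14C

/-!
B & G, Section 13, Case II ("`E₃` not regular on `M_σ`"), exclusion of the Frobenius type (II-α):
Step 4 of `notes/BG_S1430_C1_and_13_6_helper21.md`, section C1:
a subgroup `R ≤ E₁` of prime order which is of type (α) centralizes no nontrivial element of
`D = M_σ ∩ C_G(E₃)`.
-/

set_option autoImplicit false
set_option linter.unusedVariables false
set_option linter.unusedSectionVars false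
set_option linter.style.longLine false
set_option linter.unusedSimpArgs false

open Cfsg
open scoped commutatorElement
open Cfsg.Agent.Lib.Helper10.BG
open Cfsg.Agent.Lib.Helper10
open Cfsg.Agent.Lib.Helper9.BGExc
open Cfsg.Agent.Lib.Helper19.BG12
open Cfsg.Agent.Lib.Helper19.BGCompl
open Cfsg.Agent.Lib.Helper29.BG1212
open Cfsg.Agent.Lib.Helper29.BG13K

namespace Cfsg.Agent.Lib.Helper29.BG1430Asm

variable {G : Type*} [Group G] [Finite G]

/-- the dichotomy: a subgroup of prime order of `E₁` centralizing a subgroup of prime order of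
`E₃` centralizes `E₃` (when `E₃` is not regular on `M_σ`). -/
def Dich (G : Type*) [Group G] : Prop :=
  ∀ M E E₁ E₃ R P₁ : Subgroup G, IsCoatom M → IsComplIn E (sigmaCore M) M →
    IsPiHallOf (tau1 M) E₁ E → IsPiHallOf (tau3 M) E₃ E →
    sigmaCore M ⊓ Subgroup.centralizer (E₃ : Set G) ≠ ⊥ →
    R ≤ E₁ → (Nat.card R).Prime → P₁ ≤ E₃ → (Nat.card P₁).Prime →
    P₁ ≤ Subgroup.centralizer (R : Set G) → R ≤ Subgroup.centralizer (E₃ : Set G)

omit [Finite G] in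
theorem le_normalizer_of_conj_mem {E D : Subgroup G}
    (h : ∀ g ∈ E, ∀ x ∈ D, g * x * g⁻¹ ∈ D) : E ≤ Subgroup.normalizer (D : Set G) := by
  intro g hg
  rw [Subgroup.mem_normalizer_iff]
  intro x
  constructor
  · exact h g hg x
  · intro hx
    have h1 := h g⁻¹ (E.inv_mem hg) _ hx
    have h2 : g⁻¹ * (g * x * g⁻¹) * g⁻¹⁻¹ = x := by group
    rw [h2] at h1
    exact h1

omit [Finite G] in
/-- `E` normalizes `D = M_σ ∩ C(E₃)`. -/
theorem compl_le_normalizer_D {M E E₃ : Subgroup G} (hEM : E ≤ M)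
    (hEn : E ≤ Subgroup.normalizer (E₃ : Set G)) :
    E ≤ Subgroup.normalizer
      ((sigmaCore M ⊓ Subgroup.centralizer (E₃ : Set G) : Subgroup G) : Set G) := by
  apply le_normalizer_of_conj_mem
  intro g hg x hx
  rw [Subgroup.mem_inf] at hx
  refine Subgroup.mem_inf.mpr ⟨?_, ?_⟩
  · exact (Subgroup.mem_normalizer_iff.mp (le_normalizer_sigmaCore M (hEM hg)) x).mp hx.1
  · rw [Subgroup.mem_centralizer_iff]
    intro e he
    have h1 : g⁻¹ * e * g⁻¹⁻¹ ∈ E₃ :=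
      (Subgroup.mem_normalizer_iff.mp ((Subgroup.normalizer _).inv_mem (hEn hg)) e).mp he
    have h2 := (Subgroup.mem_centralizer_iff.mp hx.2) _ h1
    have h3 : e * (g * x * g⁻¹) = g * ((g⁻¹ * e * g⁻¹⁻¹) * x) * g⁻¹ := by group
    rw [h3, h2]
    group

/-- a subgroup of prime order of a Hall `τ₁(M)`-subgroup `E₁` of `E`: its centralizer in `M_σ`
is centralized by `E₁`. -/
theorem tau1_hall_centralizes (hG : IsMinSimpleOddOrder G) {M E E₁ R : Subgroup G}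
    (hM : IsCoatom M) (hE : IsComplIn E (sigmaCore M) M) (hE₁ : IsPiHallOf (tau1 M) E₁ E)
    (hRE₁ : R ≤ E₁) (hR : (Nat.card R).Prime) :
    sigmaCore M ⊓ Subgroup.centralizer (R : Set G) ≤ Subgroup.centralizer (E₁ : Set G) := by
  have hcyc : IsCyclic E₁ := (Cfsg.Agent.S1415.result hG M hM E hE).2.1 E₁ hE₁
  have hE₁M : E₁ ≤ M := hE₁.1.trans hE.1
  have hab := commute_of_tau1_group hE₁M hE₁.2.1
  rw [← Subgroup.le_centralizer_iff]
  apply le_of_forall_isSylowIn_le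
  intro p hp
  haveI : Fact p.Prime := ⟨hp⟩
  obtain ⟨T, hT⟩ := exists_isSylowIn p E₁
  refine ⟨T, hT, ?_⟩
  by_cases hT1 : T = ⊥
  · rw [hT1]
    exact bot_le
  obtain ⟨X, hXT, hX⟩ := exists_le_card_prime hT1
  have hXp : Nat.card X = p := by
    have h1 : Nat.card X ∣ Nat.card T := Subgroup.card_dvd_of_le hXT
    rw [hT.card_eq] at h1
    exact (Nat.prime_dvd_prime_iff_eq hX hp).mp (hX.dvd_of_dvd_pow h1)
  have hpE₁ : p ∣ Nat.card E₁ := by
    rw [← hXp]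
    exact Subgroup.card_dvd_of_le (hXT.trans hT.le)
  have hpτ : p ∈ tau1 M := hE₁.2.1 p hp hpE₁
  have hTE : IsSylowIn p T E := hT.of_not_dvd_relIndex hE₁.1 (hE₁.2.2 p hp hpτ)
  have hTM : IsSylowIn p T M := compl_isSylowIn hG hM hE hpτ.2.1 hTE
  have hTc : IsCyclic T := by
    haveI := hcyc
    exact Subgroup.isCyclic_of_le hT.le
  have hkey : sigmaCore M ⊓ Subgroup.centralizer (R : Set G) =
      sigmaCore M ⊓ Subgroup.centralizer (X : Set G) := by
    apply tau1_centralizer_eq hG hM hE (hRE₁.trans hE₁.1) ((hXT.trans hT.le).trans hE₁.1)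
      (hE₁.2.1 _ hR (Subgroup.card_dvd_of_le hRE₁))
      (hE₁.2.1 _ hX (Subgroup.card_dvd_of_le (hXT.trans hT.le)))
    intro a ha b hb
    exact hab a (hRE₁ ha) b ((hXT.trans hT.le) hb)
  rw [Subgroup.le_centralizer_iff, hkey]
  exact sigmaCore_inf_centralizer_le_of_cyclic hG hM hpτ.2.1 hTM hTc hXp hXT

omit [Finite G] in
theorem commutatorElement_mul_left_of_commute {z a b : G} (hza : Commute z a)
    (hzb : Commute z b) : ⁅z * a, b⁆ = ⁅a, b⁆ := by
  rw [commutatorElement_def, commutatorElement_def, mul_inv_rev]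
  have h1 : z⁻¹ * b⁻¹ = b⁻¹ * z⁻¹ := (hzb.inv_inv).eq
  have h2 : Commute z (a * b * a⁻¹ * b⁻¹) :=
    ((hza.mul_right hzb).mul_right hza.inv_right).mul_right hzb.inv_right
  calc z * a * b * (a⁻¹ * z⁻¹) * b⁻¹ = z * (a * b * a⁻¹) * (z⁻¹ * b⁻¹) := by group
    _ = z * (a * b * a⁻¹) * (b⁻¹ * z⁻¹) := by rw [h1]
    _ = z * (a * b * a⁻¹ * b⁻¹) * z⁻¹ := by group
    _ = a * b * a⁻¹ * b⁻¹ := by
        rw [h2.eq]
        group

omit [Finite G] in
theorem commutatorElement_mul_right_of_commute {z a b : G} (hza : Commute z a)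
    (hzb : Commute z b) : ⁅a, z * b⁆ = ⁅a, b⁆ := by
  rw [← commutatorElement_inv, commutatorElement_mul_left_of_commute hzb hza,
    commutatorElement_inv]

omit [Finite G] in
/-- if `D` is abelian and centralizes `E` then `(D E)' ≤ E`. -/
theorem commutator_sup_le_of_central {D E : Subgroup G}
    (hDab : ∀ a ∈ D, ∀ b ∈ D, a * b = b * a)
    (hDE : D ≤ Subgroup.centralizer (E : Set G)) :
    ⁅D ⊔ E, D ⊔ E⁆ ≤ E := by
  have hEnD : E ≤ Subgroup.normalizer (D : Set G) := by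
    apply le_normalizer_of_conj_mem
    intro g hg x hx
    have h1 : g * x = x * g := (Subgroup.mem_centralizer_iff.mp (hDE hx)) g hg
    rw [h1, mul_inv_cancel_right]
    exact hx
  rw [Subgroup.commutator_le]
  intro g₁ hg₁ g₂ hg₂
  obtain ⟨d₁, hd₁, e₁, he₁, rfl⟩ := exists_mul_of_mem_sup_of_le_normalizer hEnD hg₁
  obtain ⟨d₂, hd₂, e₂, he₂, rfl⟩ := exists_mul_of_mem_sup_of_le_normalizer hEnD hg₂
  have c11 : Commute d₁ e₁ := ((Subgroup.mem_centralizer_iff.mp (hDE hd₁)) e₁ he₁).symm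
  have c12 : Commute d₁ e₂ := ((Subgroup.mem_centralizer_iff.mp (hDE hd₁)) e₂ he₂).symm
  have c21 : Commute d₂ e₁ := ((Subgroup.mem_centralizer_iff.mp (hDE hd₂)) e₁ he₁).symm
  have c22 : Commute d₂ e₂ := ((Subgroup.mem_centralizer_iff.mp (hDE hd₂)) e₂ he₂).symm
  have cdd : Commute d₁ d₂ := hDab d₁ hd₁ d₂ hd₂
  rw [commutatorElement_mul_left_of_commute c11 (cdd.mul_right c12),
    commutatorElement_mul_right_of_commute c21 c22, commutatorElement_def]
  exact E.mul_mem (E.mul_mem (E.mul_mem he₁ he₂) (E.inv_mem he₁)) (E.inv_mem he₂)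

/-- **Step 4** of the exclusion of type (II-α). -/
theorem step4 (hG : IsMinSimpleOddOrder G) (hC1 : C1 G) {M E E₁ E₃ P H R : Subgroup G}
    (hM : IsCoatom M) (hE : IsComplIn E (sigmaCore M) M) (hE₃ : IsPiHallOf (tau3 M) E₃ E)
    (hD : sigmaCore M ⊓ Subgroup.centralizer (E₃ : Set G) ≠ ⊥)
    (hPE₃ : P ≤ E₃) (hP : (Nat.card P).Prime) (hH : IsCoatom H)
    (hNH : Subgroup.normalizer (P : Set G) ≤ H)
    (hE₁ : IsPiHallOf (tau1 M) E₁ E) (hRE₁ : R ≤ E₁) (hR : (Nat.card R).Prime)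
    (hs1 : Nat.card R ∉ sigma H) (hs2 : Nat.card R ∈ tau1 H)
    (hs3 : ∀ q : ℕ, q.Prime →
      q ∣ Nat.card ↥(sigmaCore M ⊓ Subgroup.centralizer (E₃ : Set G)) → q ∈ tau3 H)
    (hdich : Dich G) :
    (sigmaCore M ⊓ Subgroup.centralizer (E₃ : Set G)) ⊓ Subgroup.centralizer (R : Set G) = ⊥ := by
  by_contra hne
  obtain ⟨X, hXle, hXp⟩ := exists_le_card_prime hne
  have hXD : X ≤ sigmaCore M ⊓ Subgroup.centralizer (E₃ : Set G) := hXle.trans inf_le_left
  have hXR : X ≤ Subgroup.centralizer (R : Set G) := hXle.trans inf_le_right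
  have hq3 : Nat.card X ∈ tau3 H := hs3 _ hXp (Subgroup.card_dvd_of_le hXD)
  obtain ⟨-, -, h3⟩ := Cfsg.Agent.S1415.result hG M hM E hE
  obtain ⟨-, -, hEn⟩ := h3 E₃ hE₃
  have hRE : R ≤ E := hRE₁.trans hE₁.1
  have hEH : E ≤ H := Cfsg.Agent.Lib.Helper19.BG14C.compl_le hG hM hE hE₃ hPE₃ hNH
  have hDH : sigmaCore M ⊓ Subgroup.centralizer (E₃ : Set G) ≤ H :=
    Cfsg.Agent.Lib.Helper19.BG14C.D_le hPE₃ hNH
  have hEnD := compl_le_normalizer_D (M := M) hE.1 hEn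
  have hDR_H : (sigmaCore M ⊓ Subgroup.centralizer (E₃ : Set G)) ⊔ R ≤ H :=
    sup_le hDH (hRE.trans hEH)
  have hDRσ : ∀ q : ℕ, q.Prime →
      q ∣ Nat.card ↥((sigmaCore M ⊓ Subgroup.centralizer (E₃ : Set G)) ⊔ R) → q ∉ sigma H := by
    intro q hq hd
    have h1 := hd.trans (Cfsg.Agent.Lib.Helper9.card_sup_dvd_of_le_normalizer (hRE.trans hEnD))
    rcases (Nat.Prime.dvd_mul hq).mp h1 with h | h
    · exact (Cfsg.Agent.Lib.Helper19.BG14C.D_primes hG hM hE hE₃ hPE₃ hP hH hNH q hq h).2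
    · rw [(Nat.prime_dvd_prime_iff_eq hq hR).mp h]
      exact hs1
  obtain ⟨EH, hEHc, hDREH⟩ := exists_isComplIn_sigmaCore_ge hG hH hDR_H
    (coprime_card_sigmaCore_of hG hH hDRσ)
  have hEHtop : EH ≠ ⊤ := by
    intro h
    apply hH.1
    rw [eq_top_iff, ← h]
    exact hEHc.1
  obtain ⟨EH₃, hEH₃⟩ := exists_hall hG hEHtop (tau3 H)
  have hDEH : sigmaCore M ⊓ Subgroup.centralizer (E₃ : Set G) ≤ EH := le_sup_left.trans hDREH
  have hREH : R ≤ EH := le_sup_right.trans hDREH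
  obtain ⟨hXEH₃, -, hEHM, hPc, hDHne⟩ := Cfsg.Agent.Lib.Helper19.BG14C.caseII_of_tau3 hG hC1 hM hE
    hE₃ hD hPE₃ hP hH hNH hXD hXp hq3 hEHc hEH₃ (hXD.trans hDEH)
  obtain ⟨EH₁, hEH₁, hREH₁⟩ := exists_hall_ge hG hEHtop (tau1 H) hREH (by
    intro p hp hd
    rw [(Nat.prime_dvd_prime_iff_eq hp hR).mp hd]
    exact hs2)
  have hRc : R ≤ Subgroup.centralizer (EH₃ : Set G) :=
    hdich H EH EH₁ EH₃ R X hH hEHc hEH₁ hEH₃ hDHne hREH₁ hR hXEH₃ hXp hXR
  obtain ⟨-, -, h3H⟩ := Cfsg.Agent.S1415.result hG H hH EH hEHc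
  obtain ⟨hEH₃cyc, hEH₃E', hEHn⟩ := h3H EH₃ hEH₃
  -- `D ≤ E_{H,3}`
  have hDEH₃ : sigmaCore M ⊓ Subgroup.centralizer (E₃ : Set G) ≤ EH₃ := by
    apply le_of_forall_isSylowIn_le
    intro p hp
    haveI : Fact p.Prime := ⟨hp⟩
    obtain ⟨T, hT⟩ := exists_isSylowIn p (sigmaCore M ⊓ Subgroup.centralizer (E₃ : Set G))
    refine ⟨T, hT, ?_⟩
    by_cases hT1 : T = ⊥
    · rw [hT1]
      exact bot_le
    obtain ⟨X', hX'T, hX'⟩ := exists_le_card_prime hT1
    have hX'p : Nat.card X' = p := by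
      have h1 : Nat.card X' ∣ Nat.card T := Subgroup.card_dvd_of_le hX'T
      rw [hT.card_eq] at h1
      exact (Nat.prime_dvd_prime_iff_eq hX' hp).mp (hX'.dvd_of_dvd_pow h1)
    have hpd : p ∣ Nat.card ↥(sigmaCore M ⊓ Subgroup.centralizer (E₃ : Set G)) := by
      rw [← hX'p]
      exact Subgroup.card_dvd_of_le (hX'T.trans hT.le)
    exact pgroup_le_of_not_dvd_relIndex hEHn (hEH₃.2.2 p hp (hs3 p hp hpd)) hT.isPGroup
      (hT.le.trans hDEH)
  -- `D ≤ C(R)`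
  have hDR : sigmaCore M ⊓ Subgroup.centralizer (E₃ : Set G) ≤
      Subgroup.centralizer (R : Set G) := by
    rw [Subgroup.le_centralizer_iff]
    exact hRc.trans (Subgroup.centralizer_le hDEH₃)
  -- `E₁` centralizes `D`
  have hDE₁ : sigmaCore M ⊓ Subgroup.centralizer (E₃ : Set G) ≤
      Subgroup.centralizer (E₁ : Set G) :=
    (le_inf inf_le_left hDR).trans (tau1_hall_centralizes hG hM hE hE₁ hRE₁ hR)
  have hE₃1 : E₃ ≠ ⊥ := by
    intro h
    rw [h] at hPE₃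
    exact card_prime_ne_bot hP (eq_bot_iff.mpr hPE₃)
  have hτ₂ := not_mem_tau2_of_tau3_nonregular hG hM hE hE₃ hE₃1 hD
  have hEle : E ≤ E₃ ⊔ E₁ := compl_le_tau3_sup_tau1 hG hM hE hE₁ hE₃ hτ₂
  have hDE : sigmaCore M ⊓ Subgroup.centralizer (E₃ : Set G) ≤
      Subgroup.centralizer (E : Set G) := by
    rw [Subgroup.le_centralizer_iff]
    refine hEle.trans (sup_le ?_ ?_)
    · rw [← Subgroup.le_centralizer_iff]
      exact inf_le_right
    · rw [← Subgroup.le_centralizer_iff]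
      exact hDE₁
  haveI : IsMulCommutative EH₃ := by
    haveI := hEH₃cyc
    exact IsCyclic.isMulCommutative
  have hDab : ∀ a ∈ sigmaCore M ⊓ Subgroup.centralizer (E₃ : Set G),
      ∀ b ∈ sigmaCore M ⊓ Subgroup.centralizer (E₃ : Set G), a * b = b * a := by
    intro a ha b hb
    have h1 : (⟨a, hDEH₃ ha⟩ : EH₃) * ⟨b, hDEH₃ hb⟩ = ⟨b, hDEH₃ hb⟩ * ⟨a, hDEH₃ ha⟩ :=
      mul_comm' _ _
    exact congrArg Subtype.val h1
  have hEHT : EH ≤ (sigmaCore M ⊓ Subgroup.centralizer (E₃ : Set G)) ⊔ E := by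
    rw [← Cfsg.Agent.Lib.Helper19.BG14C.inf_eq_sup hG hM hE hE₃ hPE₃ hP hH hNH]
    exact le_inf hEHM hEHc.1
  have hfin : sigmaCore M ⊓ Subgroup.centralizer (E₃ : Set G) ≤ E :=
    hDEH₃.trans (hEH₃E'.trans ((Subgroup.commutator_mono hEHT hEHT).trans
      (commutator_sup_le_of_central hDab hDE)))
  apply hD
  rw [eq_bot_iff, ← hE.2.2.1]
  exact le_inf hfin inf_le_left

end Cfsg.Agent.Lib.Helper29.BG1430Asm
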