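import Mathlib
import Cfsg.Agent.Lib.Helper29.BG1430E
import Cfsg.Agent.Lib.Helper19.BG14D
import Cfsg.Agent.Lib.Helper25.BG136U

/-!
Step 4 of the exclusion of type (II-α), unconditional form (dichotomy: `helper19`, `C1`: `helper25`),
and the statement S1430 from `NoAlpha` alone.
-/

set_option autoImplicit false
set_option linter.unusedVariables false
set_option linter.unusedSectionVars false
set_option linter.style.longLine false
set_option linter.unusedSimpArgs false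

open Cfsg

namespace Cfsg.Agent.Lib.Helper29.BG1430Asm

variable {G : Type*} [Group G] [Finite G]

/-- the dichotomy (`helper19`). -/
theorem dich_holds (hG : IsMinSimpleOddOrder G) : Dich G :=
  Cfsg.Agent.Lib.Helper19.BG14D.dich hG

/-- **Step 4** of the exclusion of type (II-α), with the dichotomy and `C1` discharged. -/
theorem step4' (hG : IsMinSimpleOddOrder G) {M E E₁ E₃ P H R : Subgroup G}
    (hM : IsCoatom M) (hE : IsComplIn E (sigmaCore M) M) (hE₃ : IsPiHallOf (tau3 M) E₃ E)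
    (hD : sigmaCore M ⊓ Subgroup.centralizer (E₃ : Set G) ≠ ⊥)
    (hPE₃ : P ≤ E₃) (hP : (Nat.card P).Prime) (hH : IsCoatom H)
    (hNH : Subgroup.normalizer (P : Set G) ≤ H)
    (hE₁ : IsPiHallOf (tau1 M) E₁ E) (hRE₁ : R ≤ E₁) (hR : (Nat.card R).Prime)
    (hs1 : Nat.card R ∉ sigma H) (hs2 : Nat.card R ∈ tau1 H)
    (hs3 : ∀ q : ℕ, q.Prime →
      q ∣ Nat.card ↥(sigmaCore M ⊓ Subgroup.centralizer (E₃ : Set G)) → q ∈ tau3 H) :
    (sigmaCore M ⊓ Subgroup.centralizer (E₃ : Set G)) ⊓ Subgroup.centralizer (R : Set G) = ⊥ :=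
  step4 hG (Cfsg.Agent.Lib.Helper25.BG136.c1 hG) hM hE hE₃ hD hPE₃ hP hH hNH hE₁ hRE₁ hR hs1 hs2
    hs3 (dich_holds hG)

/-- **S1430** from `NoAlpha` alone. -/
theorem s1430_of_noAlpha (hG : IsMinSimpleOddOrder G)
    (hNA : Cfsg.Agent.Lib.Helper10.BG.NoAlpha G)
    (M : Subgroup G) (hM : IsCoatom M) (K : Subgroup G) (hK : Cfsg.IsPiHallOf (Cfsg.kappa M) K M) (hK1 : K ≠ ⊥) :
    (∀ k ∈ K, k ≠ 1 → Cfsg.sigmaCore M ⊓ Subgroup.centralizer ({k} : Set G) = (Cfsg.sigmaCore M ⊓ Subgroup.centralizer (K : Set G))) ∧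
      (∃ U : Subgroup G, IsMulCommutative U ∧ Cfsg.IsPiHallOf {q | q.Prime ∧ q ∉ Cfsg.kappa M ∧ q ∉ Cfsg.sigma M} U M ∧
        K ≤ Subgroup.normalizer (U : Set G) ∧ ∀ k ∈ K, k ≠ 1 → U ⊓ Subgroup.centralizer ({k} : Set G) = ⊥) ∧
      ∀ X : Subgroup G, X ≤ K → (Nat.card X).Prime →
        M ⊓ Subgroup.normalizer (X : Set G) = K ⊔ (Cfsg.sigmaCore M ⊓ Subgroup.centralizer (K : Set G)) ∧ M ⊓ Subgroup.normalizer (K : Set G) = K ⊔ (Cfsg.sigmaCore M ⊓ Subgroup.centralizer (K : Set G)) ∧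
        ∀ Mstar : Subgroup G, IsCoatom Mstar → Subgroup.normalizer (X : Set G) ≤ Mstar → X ≤ Cfsg.sigmaCore Mstar :=
  s1430_of_136_noAlpha hG (Cfsg.Agent.Lib.Helper25.BG136.stmt136 hG) hNA M hM K hK hK1

end Cfsg.Agent.Lib.Helper29.BG1430Asm
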