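import Mathlib
import Cfsg.Agent.Lib.Helper23.ExtInvariant
import Cfsg.Agent.Lib.Helper1.Frattini

/-!
Invariant cyclic subgroups under a coprime action (used for B & G, Theorem 12.12).
-/

set_option autoImplicit false
set_option linter.unusedVariables false
set_option linter.unusedSectionVars false
set_option linter.style.longLine false
set_option linter.unusedSimpArgs false

namespace Cfsg.Agent.Lib.Helper29.InvCyc

open Cfsg.Agent.Lib.Helper23

universe u v

section TypeLevel

variable {A : Type v} [Group A]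

/-- the action induced on an invariant subgroup. -/
@[reducible] def subAct {V : Type u} [Group V] [MulDistribMulAction A V] (L : Subgroup V)
    (hL : IsInv A L) : MulDistribMulAction A ↥L where
  smul a x := ⟨a • (x : V), hL a x x.2⟩
  one_smul x := Subtype.ext (one_smul A (x : V))
  mul_smul a b x := Subtype.ext (mul_smul a b (x : V))
  smul_mul a x y := Subtype.ext (smul_mul' a (x : V) (y : V))
  smul_one a := Subtype.ext (smul_one a)

/-- a `p`-group with a coprime action and an invariant subgroup `K` of index `p` has an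
invariant cyclic subgroup not contained in `K`. -/
theorem exists_isInv_cyclic_aux {p : ℕ} [Fact p.Prime] [Finite A] :
    ∀ (N : ℕ) (V : Type u) [Group V] [Finite V] [MulDistribMulAction A V],
      Nat.card V ≤ N → IsPGroup p V → (Nat.card A).Coprime p →
      ∀ K : Subgroup V, IsInv A K → K.index = p →
      ∃ C : Subgroup V, IsInv A C ∧ IsCyclic ↥C ∧ ¬ C ≤ K := by
  have hpp : p.Prime := Fact.out
  intro N
  induction N with
  | zero =>
    intro V _ _ _ hN
    exfalso
    have := Nat.card_pos (α := V)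
    omega
  | succ N ih =>
    intro V _ _ _ hN hV hcop K hK hKi
    have hcopV : (Nat.card A).Coprime (Nat.card V) := by
      obtain ⟨k, hk⟩ := hV.exists_card_eq
      rw [hk]
      exact Nat.Coprime.pow_right _ hcop
    have hKco : IsCoatom K := Cfsg.Agent.Lib.Helper1.isCoatom_of_index_prime (by rw [hKi]; exact hpp)
    have hΦK : frattini V ≤ K := frattini_le_coatom hKco
    obtain ⟨L, hLinv, hΦL, hKL, hKL'⟩ := exists_isInv_compl_mod_frattini hV hcopV hK hΦK
    have hLK : ¬ L ≤ K := by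
      intro h
      have h1 : K = ⊤ := by
        rw [← hKL']
        exact (sup_eq_left.mpr h).symm
      exact hKco.1 h1
    by_cases hLtop : L = ⊤
    · rw [hLtop, inf_top_eq] at hKL
      obtain ⟨x, hx⟩ : ∃ x, x ∉ K := by
        by_contra h
        push Not at h
        apply hLK
        intro y _
        exact h y
      have h1 : Subgroup.zpowers x ⊔ K = ⊤ := by
        apply hKco.2
        apply lt_of_le_of_ne le_sup_right
        intro h2
        apply hx
        rw [h2]
        exact Subgroup.mem_sup_left (Subgroup.mem_zpowers x)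
      rw [hKL] at h1
      have h2 : Subgroup.zpowers x = ⊤ := frattini_nongenerating h1
      refine ⟨⊤, isInv_top, ?_, ?_⟩
      · rw [← h2]
        exact inferInstance
      · intro h
        exact hx (h (Subgroup.mem_top x))
    · letI := subAct L hLinv
      have hcard : Nat.card ↥L ≤ N := by
        have h1 : Nat.card ↥L < Nat.card V := Cfsg.Agent.Lib.Helper1.card_subgroup_lt_of_ne_top hLtop
        omega
      have hLp : IsPGroup p ↥L := hV.to_subgroup L
      have hKinv' : IsInv A (K.subgroupOf L) := by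
        intro a x hx
        exact hK a _ hx
      haveI hKn : K.Normal := Cfsg.Agent.Lib.Helper1.IsPGroup.normal_of_isCoatom hV hKco
      have hidx : (K.subgroupOf L).index = p := by
        have h1 : K.relIndex (L ⊔ K) = K.relIndex L := Subgroup.relIndex_sup_right L K
        rw [sup_comm, hKL', Subgroup.relIndex_top_right, hKi] at h1
        exact h1.symm
      obtain ⟨C, hCinv, hCcyc, hCK⟩ := ih ↥L hcard hLp hcop (K.subgroupOf L) hKinv' hidx
      refine ⟨C.map L.subtype, ?_, ?_, ?_⟩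
      · rintro a _ ⟨c, hc, rfl⟩
        exact ⟨a • c, hCinv a c hc, rfl⟩
      · exact (C.equivMapOfInjective L.subtype L.subtype_injective).isCyclic.mp hCcyc
      · intro h
        apply hCK
        intro c hc
        exact Subgroup.mem_subgroupOf.mpr (h ⟨c, hc, rfl⟩)

end TypeLevel

section Concrete

variable {G : Type u} [Group G]

/-- the conjugation action of `H ≤ N(P)` on `P`. -/
@[reducible] def conjAct {P H : Subgroup G} (hHP : H ≤ Subgroup.normalizer (P : Set G)) :
    MulDistribMulAction ↥H ↥P where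
  smul h x := ⟨(h : G) * x * (h : G)⁻¹, (Subgroup.mem_normalizer_iff.mp (hHP h.2) x).mp x.2⟩
  one_smul x := Subtype.ext (by
    show ((1 : ↥H) : G) * x * ((1 : ↥H) : G)⁻¹ = x
    simp)
  mul_smul a b x := Subtype.ext (by
    show ((a * b : ↥H) : G) * x * ((a * b : ↥H) : G)⁻¹ =
      (a : G) * ((b : G) * x * (b : G)⁻¹) * (a : G)⁻¹
    simp [mul_assoc])
  smul_mul a x y := Subtype.ext (by
    show (a : G) * ((x * y : ↥P) : G) * (a : G)⁻¹ =
      ((a : G) * x * (a : G)⁻¹) * ((a : G) * y * (a : G)⁻¹)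
    simp [mul_assoc])
  smul_one a := Subtype.ext (by
    show (a : G) * ((1 : ↥P) : G) * (a : G)⁻¹ = 1
    simp)

theorem eq_zpowers_of_card_prime' {p : ℕ} [Fact p.Prime] {A₁ : Subgroup G}
    (hA₁ : Nat.card A₁ = p) {a : G} (ha : a ∈ A₁) (ha1 : a ≠ 1) : A₁ = Subgroup.zpowers a := by
  have hpp : p.Prime := Fact.out
  haveI : Finite ↥A₁ := Nat.finite_of_card_ne_zero (by rw [hA₁]; exact hpp.ne_zero)
  symm
  apply Subgroup.eq_of_le_of_card_ge (Subgroup.zpowers_le.mpr ha)
  rw [hA₁, Nat.card_zpowers]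
  have h1 : orderOf a ∣ p := by
    have h2 : orderOf (⟨a, ha⟩ : ↥A₁) ∣ Nat.card ↥A₁ := orderOf_dvd_natCard _
    rwa [Subgroup.orderOf_mk, hA₁] at h2
  rcases (Nat.dvd_prime hpp).mp h1 with h2 | h2
  · exact absurd (orderOf_eq_one_iff.mp h2) ha1
  · exact h2.ge

variable [Finite G]

set_option maxHeartbeats 800000 in
/-- an abelian `p`-group `P` with a coprime group `H` of operators normalizing a subgroup `A₁`
of order `p` which consists of `p ^ n`-th powers has an `H`-invariant cyclic subgroup of order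
`p ^ (n + 1)` containing `A₁`. -/
theorem exists_invariant_cyclic {p : ℕ} [Fact p.Prime] {P H A₁ : Subgroup G}
    (hP : IsPGroup p P) (hPc : ∀ x ∈ P, ∀ y ∈ P, x * y = y * x)
    (hHP : H ≤ Subgroup.normalizer (P : Set G)) (hcop : (Nat.card H).Coprime p)
    (hA₁P : A₁ ≤ P) (hA₁ : Nat.card A₁ = p)
    (hHA₁ : H ≤ Subgroup.normalizer (A₁ : Set G)) (n : ℕ)
    (hexp : ∀ x ∈ P, x ^ p ^ (n + 1) = 1) (hc : ∃ c ∈ P, c ^ p ^ n ∈ A₁ ∧ c ^ p ^ n ≠ 1) :
    ∃ C : Subgroup G, C ≤ P ∧ IsCyclic ↥C ∧ Nat.card C = p ^ (n + 1) ∧ A₁ ≤ C ∧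
      H ≤ Subgroup.normalizer (C : Set G) := by
  have hpp : p.Prime := Fact.out
  obtain ⟨c, hcP, hcA, hc1⟩ := hc
  let P' : Subgroup G :=
    { carrier := {x | x ∈ P ∧ x ^ p ^ n ∈ A₁}
      mul_mem' := by
        rintro x y ⟨hx, hxA⟩ ⟨hy, hyA⟩
        refine ⟨P.mul_mem hx hy, ?_⟩
        have hcomm : Commute x y := hPc x hx y hy
        rw [hcomm.mul_pow]
        exact A₁.mul_mem hxA hyA
      one_mem' := ⟨P.one_mem, by rw [one_pow]; exact A₁.one_mem⟩
      inv_mem' := by
        rintro x ⟨hx, hxA⟩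
        exact ⟨P.inv_mem hx, by rw [inv_pow]; exact A₁.inv_mem hxA⟩ }
  have hP'mem : ∀ x, x ∈ P' ↔ x ∈ P ∧ x ^ p ^ n ∈ A₁ := fun x => Iff.rfl
  have hP'P : P' ≤ P := fun x hx => hx.1
  have hHP' : H ≤ Subgroup.normalizer (P' : Set G) := by
    apply Cfsg.Agent.Lib.Helper1.le_normalizer_of_forall_conj_mem
    intro h hh x hx
    rw [hP'mem] at hx ⊢
    refine ⟨(Subgroup.mem_normalizer_iff.mp (hHP hh) x).mp hx.1, ?_⟩
    rw [conj_pow]
    exact (Subgroup.mem_normalizer_iff.mp (hHA₁ hh) _).mp hx.2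
  letI := conjAct hHP'
  have hsmul : ∀ (h : ↥H) (x : ↥P'), ((h • x : ↥P') : G) = (h : G) * x * (h : G)⁻¹ :=
    fun _ _ => rfl
  let ψ : ↥P' →* ↥A₁ :=
    { toFun := fun x => ⟨(x : G) ^ p ^ n, x.2.2⟩
      map_one' := Subtype.ext (by simp)
      map_mul' := fun x y => Subtype.ext (by
        have hcomm : Commute (x : G) (y : G) := hPc x x.2.1 y y.2.1
        simp only [Subgroup.coe_mul]
        exact hcomm.mul_pow _) }
  have hψ : ∀ x : ↥P', ((ψ x : ↥A₁) : G) = (x : G) ^ p ^ n := fun _ => rfl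
  have hker : ∀ x : ↥P', x ∈ ψ.ker ↔ (x : G) ^ p ^ n = 1 := by
    intro x
    rw [MonoidHom.mem_ker]
    constructor
    · intro h
      rw [← hψ, h]
      rfl
    · intro h
      exact Subtype.ext (by rw [hψ, h]; rfl)
  have hKinv : IsInv ↥H ψ.ker := by
    intro h x hx
    rw [hker] at hx ⊢
    rw [hsmul, conj_pow, hx]
    group
  have hcP' : c ∈ P' := ⟨hcP, hcA⟩
  have hKidx : ψ.ker.index = p := by
    rw [Subgroup.index_ker]
    have h1 : Nat.card ↥ψ.range ∣ p := by
      rw [← hA₁]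
      exact Subgroup.card_subgroup_dvd_card _
    rcases (Nat.dvd_prime hpp).mp h1 with h2 | h2
    · exfalso
      have h3 : ψ.range = ⊥ := Subgroup.card_eq_one.mp h2
      have h4 : ψ ⟨c, hcP'⟩ ∈ ψ.range := MonoidHom.mem_range.mpr ⟨_, rfl⟩
      rw [h3, Subgroup.mem_bot] at h4
      apply hc1
      have := congrArg Subtype.val h4
      rwa [hψ] at this
    · exact h2
  have hP'p : IsPGroup p ↥P' := hP.to_le hP'P
  obtain ⟨C', hC'inv, hC'cyc, hC'K⟩ :=
    exists_isInv_cyclic_aux (A := ↥H) (p := p) (Nat.card ↥P') ↥P' le_rfl hP'p hcop ψ.ker hKinv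
      hKidx
  obtain ⟨g, hg⟩ := IsCyclic.exists_generator (α := ↥C')
  have hgK : ((g : ↥P') : G) ^ p ^ n ≠ 1 := by
    intro h
    apply hC'K
    intro x hx
    obtain ⟨k, hk⟩ := Subgroup.mem_zpowers_iff.mp (hg ⟨x, hx⟩)
    have hk' : ((g : ↥P')) ^ k = x := by
      have := congrArg Subtype.val hk
      simpa using this
    rw [← hk']
    exact Subgroup.zpow_mem _ ((hker _).mpr h) k
  have hgA : ((g : ↥P') : G) ^ p ^ n ∈ A₁ := (g : ↥P').2.2
  have hgo : orderOf ((g : ↥P') : G) = p ^ (n + 1) := by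
    have h1 : orderOf ((g : ↥P') : G) ∣ p ^ (n + 1) :=
      orderOf_dvd_of_pow_eq_one (hexp _ (g : ↥P').2.1)
    obtain ⟨j, hj, hjo⟩ := (Nat.dvd_prime_pow hpp).mp h1
    rcases Nat.lt_or_ge j (n + 1) with hlt | hge
    · exfalso
      apply hgK
      rw [← orderOf_dvd_iff_pow_eq_one, hjo]
      exact pow_dvd_pow p (by omega)
    · rw [hjo, le_antisymm hj hge]
  have hC'card : Nat.card ↥C' = p ^ (n + 1) := by
    rw [← orderOf_eq_card_of_forall_mem_zpowers hg, ← Subgroup.orderOf_coe, ← Subgroup.orderOf_coe,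
      hgo]
  refine ⟨C'.map P'.subtype, (Subgroup.map_subtype_le C').trans hP'P, ?_, ?_, ?_, ?_⟩
  · exact (C'.equivMapOfInjective P'.subtype P'.subtype_injective).isCyclic.mp hC'cyc
  · rw [Subgroup.card_map_of_injective P'.subtype_injective, hC'card]
  · rw [eq_zpowers_of_card_prime' hA₁ hgA hgK, Subgroup.zpowers_le]
    apply Subgroup.pow_mem
    exact ⟨(g : ↥P'), g.2, rfl⟩
  · apply Cfsg.Agent.Lib.Helper1.le_normalizer_of_forall_conj_mem
    rintro h hh _ ⟨x, hx, rfl⟩
    exact ⟨(⟨h, hh⟩ : ↥H) • x, hC'inv ⟨h, hh⟩ x hx, rfl⟩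

end Concrete

end Cfsg.Agent.Lib.Helper29.InvCyc
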