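import Mathlib
import Cfsg.Agent.Lib.Helper29.BG1212b
import Cfsg.Agent.Lib.Helper29.InvCyc

/-!
B & G, Theorem 12.12 (statement S1421), part 3: the abelian case, unconditionally.
-/

set_option autoImplicit false
set_option linter.unusedVariables false
set_option linter.unusedSectionVars false
set_option linter.style.longLine false

open Cfsg

namespace Cfsg.Agent.Lib.Helper29.BG1212

variable {G : Type*} [Group G] [Finite G]

/-- the invariant cyclic subgroup lemma, in the form used in the abelian case. -/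
theorem invCycStatement : InvCycStatement G := by
  intro p _ P H A₁ hP hPc hHP hcop hA₁P hA₁ hHA₁ n hexp hc
  exact Cfsg.Agent.Lib.Helper29.InvCyc.exists_invariant_cyclic hP hPc hHP hcop hA₁P hA₁ hHA₁ n
    hexp hc

variable {M E : Subgroup G}

/-- **Theorem 12.12, abelian case.** -/
theorem result_of_abTau2' (hG : IsMinSimpleOddOrder G) (hM : IsCoatom M)
    (hE : IsComplIn E (sigmaCore M) M) (hH : HypReg M E) (hab : AbTau2 M) :
    (∃ A₀ : Subgroup G, A₀ ≤ E ∧ E ≤ Subgroup.normalizer (A₀ : Set G) ∧ IsMulCommutative ↥A₀ ∧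
        ∀ x ∈ sigmaCore M, x ≠ 1 → E ⊓ Subgroup.centralizer ({x} : Set G) ≤ A₀) ∧
      ∃ E₀ : Subgroup G, E₀ ≤ E ∧ Monoid.exponent ↥E₀ = Monoid.exponent ↥E ∧
        ∀ e ∈ E₀, e ≠ 1 → sigmaCore M ⊓ Subgroup.centralizer ({e} : Set G) = ⊥ :=
  result_of_abTau2 hG hM hE hH hab invCycStatement

end Cfsg.Agent.Lib.Helper29.BG1212
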