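import Mathlib
import Cfsg.Prelude.Def_GeometricClasses
import Cfsg.Agent.Lib.Helper13.OrthNondeg
import Cfsg.Agent.Lib.Helper13.OrthMax
import Cfsg.Agent.Lib.Helper29.S5814AFLD

/-!
# S5814 / S5835 / S5859 : piece P-FLD

`Ω` does not normalise a field subalgebra of odd prime degree.  Also the common geometric set-up
`exists_sing_pair` and the root element `1 + N`, `N x = B(w,x) u - B(u,x) w` (`u, w` singular, orthogonal).
-/

set_option autoImplicit false
set_option linter.unusedSectionVars false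
set_option linter.unusedVariables false

namespace Cfsg.Agent.Lib.Helper29.S5814

open Matrix Cfsg.Geo Module QuadraticMap
open Cfsg.Agent.Lib.Helper6 Cfsg.Agent.Lib.Helper13 Cfsg.Agent.Lib.Helper13.OND

universe u
variable {F : Type u} [Field F] [Fintype F] {ι : Type} [Fintype ι] [DecidableEq ι]
variable (Q : QuadraticForm F (ι → F))

omit [Fintype F] in
theorem ndOn_top (hQ : (polarBilin Q).Nondegenerate) : NdOn Q ⊤ := by
  intro x _ hx0
  by_contra hcon
  push Not at hcon
  exact hx0 (hQ.1 x (fun y => hcon y Submodule.mem_top))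

/-- a hyperbolic pair `u, u'` and a non-zero singular `w` orthogonal to both -/
theorem exists_sing_pair (hQ : (polarBilin Q).Nondegenerate) (h5 : 5 ≤ Fintype.card ι) :
    ∃ u u' w : ι → F, Q u = 0 ∧ Q u' = 0 ∧ polar (⇑Q) u u' = 1 ∧ w ≠ 0 ∧ Q w = 0 ∧
      polar (⇑Q) u w = 0 ∧ polar (⇑Q) u' w = 0 := by
  have hfin : finrank F (⊤ : Submodule F (ι → F)) = Fintype.card ι := by
    rw [finrank_top, Module.finrank_fintype_fun_eq_card]
  obtain ⟨u, -, u', -, hu, hu', huu'⟩ := exists_hyp_pair Q ⊤ (ndOn_top Q hQ) (by omega)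
  obtain ⟨w, -, hw0, hw, huw, hu'w⟩ := exists_singular_cut2 Q ⊤ u u' (by omega)
  exact ⟨u, u', w, hu, hu', huu', hw0, hw, huw, hu'w⟩

/-- the root element `ρ_{u,w}` in `Ω`, with its action -/
theorem exists_root (hQ : (polarBilin Q).Nondegenerate) (h5 : 5 ≤ Fintype.card ι)
    (u w : ι → F) (hu : Q u = 0) (hw : Q w = 0) (huw : polar (⇑Q) u w = 0) :
    ∃ g : GL ι F, g ∈ omegaGL ⇑Q ∧
      ∀ x, (g : Matrix ι ι F) *ᵥ x = x + polar (⇑Q) w x • u - polar (⇑Q) u x • w := by
  refine ⟨((siegIso Q u w hu huw : ↥(Cfsg.isometryGroup F ⇑Q)) : GL ι F),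
    (mem_omegaGL_iff Q _).mpr ⟨_, siegIso_mem_Omega Q hQ h5 u w hu huw, rfl⟩, ?_⟩
  intro x
  have h := gact_siegIso Q u w hu huw x
  rw [gact_def] at h
  rw [h, hw, zero_mul, sub_zero, neg_smul, sub_eq_add_neg]

/-- P-FLD -/
theorem not_omega_le_fieldNormalizer (hQ : (polarBilin Q).Nondegenerate) (h5 : 5 ≤ Fintype.card ι)
    (r : ℕ) (hr : r.Prime) (hr2 : r ≠ 2) (K : Subalgebra F (Matrix ι ι F))
    (hK : IsFieldSubalgebra r K) : ¬ omegaGL ⇑Q ≤ subalgebraNormalizer K := by
  intro hle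
  haveI : Nonempty ι := by
    rw [← Fintype.card_pos_iff]
    omega
  obtain ⟨u, u', w, hu, hu', huu', hw0, hw, huw, hu'w⟩ := exists_sing_pair Q hQ h5
  obtain ⟨g, hgΩ, hg⟩ := exists_root Q hQ h5 u w hu hw huw
  have hgN : ∀ k : Matrix ι ι F, k ∈ K ↔
      (g : Matrix ι ι F) * k * ((g⁻¹ : GL ι F) : Matrix ι ι F) ∈ K := hle hgΩ
  set G : Matrix ι ι F := (g : Matrix ι ι F) with hG
  set N : Matrix ι ι F := G - 1 with hN
  have hNx : ∀ x, N *ᵥ x = polar (⇑Q) w x • u - polar (⇑Q) u x • w := by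
    intro x
    rw [hN, sub_mulVec, one_mulVec, hg]
    abel
  have hGinv : ((g⁻¹ : GL ι F) : Matrix ι ι F) * G = 1 := by
    rw [hG, ← Units.val_mul, inv_mul_cancel, Units.val_one]
  have hGinv' : G * ((g⁻¹ : GL ι F) : Matrix ι ι F) = 1 := by
    rw [hG, ← Units.val_mul, mul_inv_cancel, Units.val_one]
  -- `g` commutes with `K`
  have hcomm : ∀ k ∈ K, G * k = k * G := by
    intro k hk
    have hk' := (hgN k).mp hk
    set d : Matrix ι ι F := G * k * ((g⁻¹ : GL ι F) : Matrix ι ι F) - k with hd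
    have hdK : d ∈ K := K.sub_mem hk' hk
    have hdG : d * G = N * k - k * N := by
      rw [hd, sub_mul, mul_assoc, hGinv, mul_one, hN]
      noncomm_ring
    by_contra hne
    have hd0 : d ≠ 0 := by
      intro h0
      apply hne
      have : d * G = 0 := by rw [h0, zero_mul]
      rw [hdG, hN] at this
      have h1 : (G - 1) * k - k * (G - 1) = G * k - k * G := by noncomm_ring
      rw [h1] at this
      exact sub_eq_zero.mp this
    obtain ⟨y, hyK, hdy⟩ := hK.inv d hdK hd0
    have hyd : y * d = 1 := by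
      rw [hK.comm y hyK d hdK]
      exact hdy
    -- every vector lies in the span of `u, w, k u, k w`
    let b : Fin 4 → (ι → F) := ![u, w, k *ᵥ u, k *ᵥ w]
    have hS : ∀ v : ι → F, v ∈ Submodule.span F (Set.range b) := by
      intro v
      have hv : v = (d * G) *ᵥ (((g⁻¹ : GL ι F) : Matrix ι ι F) *ᵥ (y *ᵥ v)) := by
        rw [mulVec_mulVec, mulVec_mulVec]
        have e : d * G * ((g⁻¹ : GL ι F) : Matrix ι ι F) * y = 1 := by
          calc d * G * ((g⁻¹ : GL ι F) : Matrix ι ι F) * y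
              = d * (G * ((g⁻¹ : GL ι F) : Matrix ι ι F)) * y := by noncomm_ring
            _ = 1 := by rw [hGinv', mul_one, hdy]
        rw [e, one_mulVec]
      rw [hv, hdG, sub_mulVec, ← mulVec_mulVec, ← mulVec_mulVec, hNx, hNx, mulVec_sub, mulVec_smul,
        mulVec_smul]
      have hb0 : u ∈ Submodule.span F (Set.range b) := Submodule.subset_span ⟨0, rfl⟩
      have hb1 : w ∈ Submodule.span F (Set.range b) := Submodule.subset_span ⟨1, rfl⟩
      have hb2 : k *ᵥ u ∈ Submodule.span F (Set.range b) := Submodule.subset_span ⟨2, rfl⟩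
      have hb3 : k *ᵥ w ∈ Submodule.span F (Set.range b) := Submodule.subset_span ⟨3, rfl⟩
      exact Submodule.sub_mem _
        (Submodule.sub_mem _ (Submodule.smul_mem _ _ hb0) (Submodule.smul_mem _ _ hb1))
        (Submodule.sub_mem _ (Submodule.smul_mem _ _ hb2) (Submodule.smul_mem _ _ hb3))
    have htop : Submodule.span F (Set.range b) = ⊤ := by
      rw [eq_top_iff]
      intro v _
      exact hS v
    have h1 : finrank F (Submodule.span F (Set.range b)) ≤ 4 := by
      have := finrank_range_le_card (R := F) b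
      rw [Fintype.card_fin] at this
      exact this
    rw [htop, finrank_top, Module.finrank_fintype_fun_eq_card] at h1
    omega
  have hNcomm : ∀ k ∈ K, N * k = k * N := by
    intro k hk
    rw [hN, sub_mul, mul_sub, hcomm k hk, one_mul, mul_one]
  -- the range of `N`
  let U : Submodule F (ι → F) := LinearMap.range (Matrix.toLin' N)
  have hUinv : ∀ k ∈ K, ∀ v ∈ U, k *ᵥ v ∈ U := by
    rintro k hk v ⟨x, rfl⟩
    refine ⟨k *ᵥ x, ?_⟩
    rw [Matrix.toLin'_apply, Matrix.toLin'_apply, mulVec_mulVec, mulVec_mulVec, hNcomm k hk]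
  have hdvd := dvd_finrank_of_invariant r K hK U hUinv
  have hUle : U ≤ Submodule.span F (Set.range ![u, w]) := by
    rintro v ⟨x, rfl⟩
    rw [Matrix.toLin'_apply, hNx]
    have hb0 : u ∈ Submodule.span F (Set.range ![u, w]) := Submodule.subset_span ⟨0, rfl⟩
    have hb1 : w ∈ Submodule.span F (Set.range ![u, w]) := Submodule.subset_span ⟨1, rfl⟩
    exact Submodule.sub_mem _ (Submodule.smul_mem _ _ hb0) (Submodule.smul_mem _ _ hb1)
  have hU2 : finrank F U ≤ 2 := by
    have h1 := Submodule.finrank_mono hUle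
    have h2 : finrank F (Submodule.span F (Set.range ![u, w])) ≤ 2 := by
      have := finrank_range_le_card (R := F) ![u, w]
      rw [Fintype.card_fin] at this
      exact this
    omega
  have hU0 : 0 < finrank F U := by
    rw [Module.finrank_pos_iff_exists_ne_zero]
    refine ⟨⟨N *ᵥ u', ⟨u', by rw [Matrix.toLin'_apply]⟩⟩, ?_⟩
    intro h
    have h1 : N *ᵥ u' = 0 := congrArg Subtype.val h
    rw [hNx, polar_comm (⇑Q) w u', hu'w, zero_smul, zero_sub, huu', one_smul, neg_eq_zero] at h1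
    exact hw0 h1
  have hr2' := hr.two_le
  have hle2 : r ≤ 2 := (Nat.le_of_dvd hU0 hdvd).trans hU2
  omega

end Cfsg.Agent.Lib.Helper29.S5814
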