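import Mathlib
import Cfsg.Agent.Lib.Helper13.OrthCharTwo

/-!
# A fixed-point-free isometry of odd prime order dividing `q ^ d + 1`

On the extension `K` of degree `2 d` of the finite field `F` of characteristic two, with the
involutory automorphism `σ : x ↦ x ^ (q ^ d)`, the form `v ↦ Tr (γ v σ v)` (`γ + σ γ = 1`) is a
nondegenerate quadratic form and the multiplications by elements `ζ` with `ζ σ ζ = 1` are
isometries.
-/

set_option autoImplicit false

namespace Cfsg.Agent.Lib.Helper29.MinusModel

open Module QuadraticMap Cfsg.Agent.Lib.Helper13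

section model
variable (F : Type*) [Field F] [Fintype F] [CharP F 2] (d : ℕ) [NeZero d]

/-- the model space -/
abbrev KK : Type := FiniteField.Extension F 2 (2 * d)

noncomputable instance : CharP (KK F d) 2 :=
  charP_of_injective_algebraMap (algebraMap F (KK F d)).injective 2

/-- the involutory automorphism -/
noncomputable def sig : KK F d ≃ₐ[F] KK F d := FiniteField.Extension.frob F 2 (2 * d) ^ d

theorem sig_apply (x : KK F d) : sig F d x = x ^ (Fintype.card F ^ d) := by
  unfold sig
  rw [FiniteField.Extension.frob_iterate_apply, Nat.card_eq_fintype_card]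

theorem sig_sig (x : KK F d) : sig F d (sig F d x) = x := by
  haveI : Fintype (KK F d) := Fintype.ofFinite _
  rw [sig_apply, sig_apply, ← pow_mul, ← pow_add, ← two_mul]
  have h1 : Fintype.card (KK F d) = Fintype.card F ^ (2 * d) := by
    rw [← Nat.card_eq_fintype_card, FiniteField.natCard_extension, Nat.card_eq_fintype_card]
  rw [← h1, FiniteField.pow_card]

theorem sig_ne_one : sig F d ≠ 1 := by
  unfold sig
  have hd : 0 < d := Nat.pos_of_ne_zero (NeZero.ne d)
  apply pow_ne_one_of_lt_orderOf hd.ne'
  have h1 : orderOf (FiniteField.Extension.frob F 2 (2 * d)) = 2 * d := by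
    unfold FiniteField.Extension.frob
    rw [FiniteField.orderOf_frobeniusAlgEquivOfAlgebraic, FiniteField.finrank_extension]
  rw [h1]
  omega

theorem exists_gamma : ∃ γ : KK F d, γ + sig F d γ = 1 := by
  have h1 : ∃ θ : KK F d, sig F d θ ≠ θ := by
    by_contra h
    push Not at h
    exact sig_ne_one F d (AlgEquiv.ext h)
  obtain ⟨θ, hθ⟩ := h1
  have h2 : θ + sig F d θ ≠ 0 := by
    intro h
    apply hθ
    have := CharTwo.add_eq_zero.mp h
    exact this.symm
  refine ⟨θ / (θ + sig F d θ), ?_⟩
  rw [map_div₀, map_add, sig_sig, add_comm (sig F d θ) θ, ← add_div, div_self h2]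

/-- the bilinear map `(u, v) ↦ Tr (γ u σ v)` -/
noncomputable def bil (γ : KK F d) : LinearMap.BilinMap F (KK F d) F :=
  LinearMap.mk₂ F (fun u v => Algebra.trace F (KK F d) (γ * u * sig F d v))
    (fun u u' v => by rw [mul_add, add_mul, map_add])
    (fun c u v => by rw [mul_smul_comm, smul_mul_assoc, map_smul])
    (fun u v v' => by rw [map_add, mul_add, map_add])
    (fun c u v => by rw [map_smul, mul_smul_comm, map_smul])

theorem bil_apply (γ u v : KK F d) :
    bil F d γ u v = Algebra.trace F (KK F d) (γ * u * sig F d v) := rfl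

/-- the quadratic form `v ↦ Tr (γ v σ v)` -/
noncomputable def qf (γ : KK F d) : QuadraticForm F (KK F d) := (bil F d γ).toQuadraticMap

theorem qf_apply (γ v : KK F d) :
    qf F d γ v = Algebra.trace F (KK F d) (γ * v * sig F d v) := rfl

theorem polar_qf (γ : KK F d) (hγ : γ + sig F d γ = 1) (u v : KK F d) :
    polar (qf F d γ) u v = Algebra.trace F (KK F d) (u * sig F d v) := by
  unfold qf
  rw [LinearMap.BilinMap.polar_toQuadraticMap, bil_apply, bil_apply]
  have h1 : Algebra.trace F (KK F d) (γ * v * sig F d u) =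
      Algebra.trace F (KK F d) (sig F d γ * sig F d v * u) := by
    rw [← Algebra.trace_eq_of_algEquiv (sig F d) (γ * v * sig F d u), map_mul (sig F d), map_mul (sig F d), sig_sig]
  rw [h1, ← map_add]
  congr 1
  have : γ * u * sig F d v + sig F d γ * sig F d v * u = (γ + sig F d γ) * (u * sig F d v) := by ring
  rw [this, hγ, one_mul]

theorem nondegenerate_qf (γ : KK F d) (hγ : γ + sig F d γ = 1) :
    (polarBilin (qf F d γ)).Nondegenerate := by
  have hT := traceForm_nondegenerate F (KK F d)
  constructor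
  · intro u hu
    apply hT.1 u
    intro w
    have := hu (sig F d w)
    change polar (qf F d γ) u (sig F d w) = 0 at this
    rw [polar_qf F d γ hγ, sig_sig] at this
    exact this
  · intro v hv
    have h1 : sig F d v = 0 := by
      apply hT.2 (sig F d v)
      intro w
      have := hv w
      change polar (qf F d γ) w v = 0 at this
      rw [polar_qf F d γ hγ] at this
      exact this
    exact (map_eq_zero (sig F d)).mp h1

/-- multiplication by a unit -/
noncomputable def mulEquiv : (KK F d)ˣ →* (KK F d ≃ₗ[F] KK F d) :=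
  DistribMulAction.toModuleAut F (KK F d)

theorem mulEquiv_apply (ζ : (KK F d)ˣ) (v : KK F d) : mulEquiv F d ζ v = (ζ : KK F d) * v := rfl

theorem mulEquiv_mem (γ : KK F d) (ζ : (KK F d)ˣ) (hζ : (ζ : KK F d) * sig F d ζ = 1) :
    mulEquiv F d ζ ∈ isoGroup (qf F d γ) := by
  intro v
  rw [mulEquiv_apply, qf_apply, qf_apply, map_mul (sig F d)]
  congr 1
  have : γ * (↑ζ * v) * (sig F d ↑ζ * sig F d v) = (↑ζ * sig F d ↑ζ) * (γ * v * sig F d v) := by ring
  rw [this, hζ, one_mul]

theorem finrank_KK : finrank F (KK F d) = 2 * d := FiniteField.finrank_extension F 2 (2 * d)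

/-- the model: a nondegenerate quadratic space of dimension `2 d` with a fixed-point-free isometry
of order `r` -/
theorem exists_model (r : ℕ) [Fact r.Prime] (hr : r ∣ Fintype.card F ^ d + 1) :
    ∃ (Q : QuadraticForm F (KK F d)) (τ : isoGroup Q), (polarBilin Q).Nondegenerate ∧ τ ^ r = 1 ∧
      ∀ v, τ.1 v = v → v = 0 := by
  classical
  haveI : Fintype (KK F d) := Fintype.ofFinite _
  obtain ⟨γ, hγ⟩ := exists_gamma F d
  have hcard : Nat.card (KK F d)ˣ = Fintype.card F ^ (2 * d) - 1 := by
    rw [Nat.card_units, FiniteField.natCard_extension, Nat.card_eq_fintype_card]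
  have hdvd : r ∣ Nat.card (KK F d)ˣ := by
    rw [hcard]
    have h1 : Fintype.card F ^ (2 * d) - 1 = (Fintype.card F ^ d + 1) * (Fintype.card F ^ d - 1) := by
      have hpos : 1 ≤ Fintype.card F ^ d := Nat.one_le_pow _ _ Fintype.card_pos
      rw [two_mul, pow_add]
      zify [hpos, Nat.one_le_pow _ _ (Nat.mul_pos hpos hpos) |>.trans (le_of_eq rfl)]
      have hpos2 : 1 ≤ Fintype.card F ^ d * Fintype.card F ^ d := Nat.mul_pos hpos hpos
      push_cast [Nat.cast_sub hpos2]
      ring
    rw [h1]
    exact dvd_mul_of_dvd_left hr _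
  obtain ⟨ζ, hζ⟩ := exists_prime_orderOf_dvd_card' r hdvd (G := (KK F d)ˣ)
  have hζr : ζ ^ r = 1 := by rw [← hζ, pow_orderOf_eq_one]
  have hζσ : (ζ : KK F d) * sig F d ζ = 1 := by
    rw [sig_apply, ← pow_succ']
    obtain ⟨c, hc⟩ := hr
    rw [hc, pow_mul, ← Units.val_pow_eq_pow_val, hζr, Units.val_one, one_pow]
  refine ⟨qf F d γ, ⟨mulEquiv F d ζ, mulEquiv_mem F d γ ζ hζσ⟩, nondegenerate_qf F d γ hγ, ?_, ?_⟩
  · apply Subtype.ext
    rw [SubgroupClass.coe_pow]
    change mulEquiv F d ζ ^ r = 1
    rw [← map_pow, hζr, map_one]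
  · intro v hv
    change mulEquiv F d ζ v = v at hv
    rw [mulEquiv_apply] at hv
    have hne : (ζ : KK F d) - 1 ≠ 0 := by
      intro h
      have h2 : ζ = 1 := Units.ext (sub_eq_zero.mp h)
      rw [h2, orderOf_one] at hζ
      exact (Fact.out : r.Prime).one_lt.ne hζ
    have h3 : ((ζ : KK F d) - 1) * v = 0 := by rw [sub_mul, hv, one_mul, sub_self]
    exact (mul_eq_zero.mp h3).resolve_left hne

end model

end Cfsg.Agent.Lib.Helper29.MinusModel
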