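import Mathlib
import Cfsg.Prelude.Def_Classical
import Cfsg.Prelude.Def_GeometricClasses
import Cfsg.Agent.Lib.Helper13.OrthPlusCount
import Cfsg.Agent.Lib.Helper13.InvolModels
import Cfsg.Agent.Lib.Helper15.QuadCount1
import Cfsg.Agent.Lib.Helper15.OPlus2

/-!
# Nonsingular points of orthogonal spaces in characteristic two

Counting of nonsingular 1-spaces, fixed-point-free elements of odd prime order, and
involutions without fixed nonsingular vectors.
-/

set_option autoImplicit false

namespace Cfsg.Agent.Lib.Helper29.NSP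

open Module Matrix

section count
variable {F : Type*} [Field F] [Fintype F] [CharP F 2] {V : Type*} [AddCommGroup V] [Module F V]

theorem sq_eq_one_charTwo (c : F) (h : c ^ 2 = 1) : c = 1 := by
  have h1 : (c - 1) ^ 2 = 0 := by
    have : (c - 1) ^ 2 = c ^ 2 - 2 * c + 1 := by ring
    rw [this, h, CharTwo.two_eq_zero, zero_mul, sub_zero]
    exact CharTwo.add_self_eq_zero 1
  exact sub_eq_zero.mp (pow_eq_zero_iff (two_ne_zero) |>.mp h1)

theorem exists_sq_charTwo (a : F) : ∃ s : F, s ^ 2 = a := by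
  obtain ⟨s, hs⟩ := FiniteField.isSquare_of_char_two (ringChar.eq F 2) a
  exact ⟨s, by rw [hs, pow_two]⟩

/-- a member of a 1-dimensional subspace is a multiple of any nonzero member -/
theorem exists_smul_of_finrank_one (W : Submodule F V) (hW : finrank F W = 1) (v : V) (hv : v ∈ W)
    (hv0 : v ≠ 0) (w : V) (hw : w ∈ W) : ∃ c : F, w = c • v := by
  have h1 := (finrank_eq_one_iff_of_nonzero' (⟨v, hv⟩ : W) (fun h => hv0 (congrArg Subtype.val h))).mp hW
  obtain ⟨c, hc⟩ := h1 ⟨w, hw⟩
  exact ⟨c, (congrArg Subtype.val hc).symm⟩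

/-- nonsingular points correspond to vectors of norm one -/
theorem card_nonsing_points (Q : V → F) (hQ : ∀ (c : F) (v : V), Q (c • v) = c ^ 2 * Q v) :
    Nat.card {W : Submodule F V // finrank F W = 1 ∧ ∃ v ∈ W, Q v ≠ 0} =
      Nat.card {v : V // Q v = 1} := by
  have hQ0 : Q 0 = 0 := by
    have := hQ 0 0
    rw [zero_smul, zero_pow two_ne_zero, zero_mul] at this
    exact this
  have hne : ∀ v : V, Q v ≠ 0 → v ≠ 0 := by
    rintro v hv rfl
    exact hv hQ0
  symm
  refine Nat.card_congr (Equiv.ofBijective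
    (fun v => ⟨Submodule.span F {v.1}, finrank_span_singleton (hne v.1 (by rw [v.2]; exact one_ne_zero)),
      v.1, Submodule.mem_span_singleton_self v.1, by rw [v.2]; exact one_ne_zero⟩) ⟨?_, ?_⟩)
  · rintro ⟨v, hv⟩ ⟨v', hv'⟩ h
    have h1 : Submodule.span F {v} = Submodule.span F {v'} := congrArg Subtype.val h
    have h2 : v' ∈ Submodule.span F {v} := by rw [h1]; exact Submodule.mem_span_singleton_self v'
    obtain ⟨c, hc⟩ := Submodule.mem_span_singleton.mp h2
    have h3 : c ^ 2 = 1 := by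
      have := hQ c v
      rw [hc, hv', hv, mul_one] at this
      exact this.symm
    have h4 := sq_eq_one_charTwo c h3
    apply Subtype.ext
    change v = v'
    rw [← hc, h4, one_smul]
  · rintro ⟨W, hW1, v, hvW, hv⟩
    obtain ⟨s, hs⟩ := exists_sq_charTwo (Q v)⁻¹
    have hs0 : s ≠ 0 := by
      rintro rfl
      rw [zero_pow two_ne_zero] at hs
      exact inv_ne_zero hv hs.symm
    have hQs : Q (s • v) = 1 := by rw [hQ, hs, inv_mul_cancel₀ hv]
    refine ⟨⟨s • v, hQs⟩, ?_⟩
    apply Subtype.ext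
    change Submodule.span F {s • v} = W
    apply le_antisymm
    · rw [Submodule.span_singleton_le_iff_mem]
      exact W.smul_mem s hvW
    · intro w hw
      obtain ⟨c, hc⟩ := exists_smul_of_finrank_one W hW1 v hvW (hne v hv) w hw
      rw [Submodule.mem_span_singleton]
      refine ⟨c * s⁻¹, ?_⟩
      rw [smul_smul, mul_assoc, inv_mul_cancel₀ hs0, mul_one, hc]

end count

section plus
variable {F : Type*} [Field F] [Fintype F] [CharP F 2] (m : ℕ)

theorem quadFormPlus_smul (c : F) (v : Fin m ⊕ Fin m → F) :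
    Cfsg.quadFormPlus m F (c • v) = c ^ 2 * Cfsg.quadFormPlus m F v := by
  unfold Cfsg.quadFormPlus
  rw [Finset.mul_sum]
  apply Finset.sum_congr rfl
  intro i _
  simp only [Pi.smul_apply, smul_eq_mul]
  ring

/-- the number of nonsingular points of the plus type space -/
theorem card_nonsing_points_plus :
    Nat.card {W : Submodule F (Fin m ⊕ Fin m → F) // finrank F W = 1 ∧
      ∃ v ∈ W, Cfsg.quadFormPlus m F v ≠ 0} =
      (Fintype.card F ^ m - 1) * Fintype.card F ^ (m - 1) := by
  classical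
  rw [card_nonsing_points (Cfsg.quadFormPlus m F) (quadFormPlus_smul m),
    Cfsg.Agent.Lib.Helper15.card_plus_value m (1 : F), if_neg one_ne_zero, add_zero]

end plus

section invariant
variable {F : Type*} [Field F] [Fintype F] [CharP F 2] {ι : Type} [Fintype ι] [DecidableEq ι]

/-- an isometry stabilising a nonsingular point fixes its nonsingular vectors -/
theorem fixed_of_invariant (Q : (ι → F) → F)
    (hQ : ∀ (c : F) (v : ι → F), Q (c • v) = c ^ 2 * Q v) (X : Matrix ι ι F)
    (hX : ∀ v, Q (X *ᵥ v) = Q v) (W : Submodule F (ι → F)) (hW : finrank F W = 1) (v : ι → F)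
    (hv : v ∈ W) (hQv : Q v ≠ 0) (hWX : W.map (Matrix.toLin' X) ≤ W) : X *ᵥ v = v := by
  have h1 : X *ᵥ v ∈ W := by
    apply hWX
    rw [← Matrix.toLin'_apply]
    exact Submodule.mem_map_of_mem hv
  have hv0 : v ≠ 0 := by
    rintro rfl
    apply hQv
    have := hQ 0 0
    rw [zero_smul, zero_pow two_ne_zero, zero_mul] at this
    exact this
  obtain ⟨c, hc⟩ := exists_smul_of_finrank_one W hW v hv hv0 (X *ᵥ v) h1
  have h2 := hX v
  rw [hc, hQ] at h2
  have h3 : c ^ 2 = 1 := by
    have : c ^ 2 * Q v = 1 * Q v := by rw [h2, one_mul]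
    exact mul_right_cancel₀ hQv this
  rw [hc, sq_eq_one_charTwo c h3, one_smul]

omit [Fintype F] [CharP F 2] in
/-- a fixed nonsingular vector spans an invariant nonsingular point -/
theorem invariant_of_fixed (Q : (ι → F) → F) (X : Matrix ι ι F) (v : ι → F) (hQv : Q v ≠ 0)
    (hv0 : v ≠ 0) (hfix : X *ᵥ v = v) :
    ∃ W : Submodule F (ι → F), (finrank F W = 1 ∧ ∃ v ∈ W, Q v ≠ 0) ∧
      W.map (Matrix.toLin' X) ≤ W := by
  refine ⟨Submodule.span F {v}, ⟨finrank_span_singleton hv0, v, Submodule.mem_span_singleton_self v,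
    hQv⟩, ?_⟩
  rw [Submodule.map_span, Set.image_singleton, Matrix.toLin'_apply, hfix]

omit [Fintype F] [CharP F 2] in
theorem eq_zero_of_isUnit_mulVec {n : Type*} [Fintype n] [DecidableEq n] (M : Matrix n n F)
    (hM : IsUnit M) (u : n → F) (hu : M *ᵥ u = 0) : u = 0 := by
  obtain ⟨B, hB⟩ := hM.exists_left_inv
  have : (B * M) *ᵥ u = u := by rw [hB, Matrix.one_mulVec]
  rw [← this, ← Matrix.mulVec_mulVec, hu, Matrix.mulVec_zero]

end invariant

section fpf

/-- a matrix of prime order `r` dividing `q ^ d - 1` without eigenvalue one -/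
theorem exists_fpf_GL (F : Type*) [Field F] [Fintype F] (p : ℕ) [Fact p.Prime] [CharP F p] (d : ℕ)
    [NeZero d] (r : ℕ) [Fact r.Prime] (hr : r ∣ Fintype.card F ^ d - 1) :
    ∃ A : GL (Fin d) F, A ^ r = 1 ∧ IsUnit ((A : Matrix (Fin d) (Fin d) F) - 1) := by
  classical
  let K := FiniteField.Extension F p d
  haveI : Fintype K := Fintype.ofFinite K
  have hcard : Nat.card Kˣ = Fintype.card F ^ d - 1 := by
    rw [Nat.card_units, FiniteField.natCard_extension, Nat.card_eq_fintype_card]
  obtain ⟨ζ, hζ⟩ := exists_prime_orderOf_dvd_card' r (by rw [hcard]; exact hr) (G := Kˣ)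
  let b : Module.Basis (Fin d) F K := Module.finBasisOfFinrankEq F K (FiniteField.finrank_extension F p d)
  let φ : K →ₐ[F] Matrix (Fin d) (Fin d) F := Algebra.leftMulMatrix b
  refine ⟨Units.map φ.toRingHom.toMonoidHom ζ, ?_, ?_⟩
  · rw [← map_pow, ← hζ, pow_orderOf_eq_one, map_one]
  · have h1 : ((Units.map φ.toRingHom.toMonoidHom ζ : GL (Fin d) F) : Matrix (Fin d) (Fin d) F) - 1 =
        φ ((ζ : K) - 1) := by
      rw [map_sub, map_one]
      rfl
    rw [h1]
    have hne : (ζ : K) - 1 ≠ 0 := by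
      intro h
      have h2 : ζ = 1 := Units.ext (sub_eq_zero.mp h)
      rw [h2, orderOf_one] at hζ
      exact (Fact.out : r.Prime).one_lt.ne hζ
    exact (IsUnit.mk0 _ hne).map φ

end fpf

end Cfsg.Agent.Lib.Helper29.NSP
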