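import Mathlib
import Cfsg.Agent.Lib.Helper29.NonsingPt
import Cfsg.Agent.Lib.Helper29.MinusModel
import Cfsg.Agent.Lib.Helper16.MinusType

/-!
# Nonsingular points of the minus type orthogonal space in characteristic two
-/

set_option autoImplicit false

namespace Cfsg.Agent.Lib.Helper29.NSM

open Module Matrix QuadraticMap Cfsg.Agent.Lib.Helper13 Cfsg.Agent.Lib.Helper15
  Cfsg.Agent.Lib.Helper29.NSP

section perm
variable {F : Type*} [Field F] {V : Type*} [AddCommGroup V] [Module F V] (Q : QuadraticForm F V)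

/-- the action of the isometry group on the vectors of norm one -/
def permNormOne : isoGroup Q →* Equiv.Perm {v : V // Q v = 1} where
  toFun g :=
    { toFun := fun v => ⟨g.1 v.1, by rw [isoGroup_map]; exact v.2⟩
      invFun := fun v => ⟨(g⁻¹).1 v.1, by rw [isoGroup_map]; exact v.2⟩
      left_inv := fun v => Subtype.ext (isoGroup_inv_apply' Q g v.1)
      right_inv := fun v => Subtype.ext (isoGroup_inv_apply Q g v.1) }
  map_one' := by
    apply Equiv.ext
    intro v
    rfl
  map_mul' g h := by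
    apply Equiv.ext
    intro v
    rfl

theorem permNormOne_apply (g : isoGroup Q) (v : {v : V // Q v = 1}) :
    (permNormOne Q g v : V) = g.1 v.1 := rfl

/-- a fixed-point-free isometry of prime order: the order divides the number of vectors of norm one -/
theorem dvd_card_normOne [Finite V] (r : ℕ) [Fact r.Prime] (τ : isoGroup Q) (hτ : τ ^ r = 1)
    (hfpf : ∀ v, τ.1 v = v → v = 0) : r ∣ Nat.card {v : V // Q v = 1} := by
  classical
  haveI : Fintype {v : V // Q v = 1} := Fintype.ofFinite _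
  let σ := permNormOne Q τ
  have hσ : σ ^ r = 1 := by rw [← map_pow, hτ, map_one]
  have hP : IsPGroup r (Subgroup.zpowers σ) := by
    apply IsPGroup.of_card (n := if σ = 1 then 0 else 1)
    rw [Nat.card_zpowers]
    split_ifs with h1
    · rw [h1, orderOf_one, pow_zero]
    · rw [pow_one]
      exact orderOf_eq_prime hσ h1
  have h1 := hP.card_modEq_card_fixedPoints {v : V // Q v = 1}
  have h2 : Nat.card (MulAction.fixedPoints (Subgroup.zpowers σ) {v : V // Q v = 1}) = 0 := by
    rw [Nat.card_eq_zero]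
    left
    constructor
    rintro ⟨v, hv⟩
    have h3 : σ v = v := hv ⟨σ, Subgroup.mem_zpowers σ⟩
    have h4 : τ.1 v.1 = v.1 := congrArg Subtype.val h3
    have h5 := hfpf v.1 h4
    have h6 := v.2
    rw [h5, map_zero] at h6
    exact zero_ne_one h6
  rw [h2] at h1
  exact (Nat.modEq_zero_iff_dvd).mp h1

end perm

section odd
universe u
variable {F V : Type u} [Field F] [Finite F] [CharP F 2] [AddCommGroup V] [Module F V]
  [FiniteDimensional F V] (Q : QuadraticForm F V)

/-- elements of odd order lie in the commutator subgroup -/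
theorem mem_commutator_of_pow_odd (hQ : (polarBilin Q).Nondegenerate) (hpos : 0 < finrank F V)
    (hgen : reflGen Q = ⊤) (τ : isoGroup Q) (r : ℕ) (hr : Odd r) (hτ : τ ^ r = 1) :
    τ ∈ commutator (isoGroup Q) := by
  obtain ⟨a, ha⟩ := exists_norm_one Q hQ hpos
  obtain ⟨j, hj⟩ := hr
  set y := τ ^ (j + 1) with hy
  have hyy : y * y = τ := by
    rw [hy, ← pow_add]
    have : j + 1 + (j + 1) = r + 1 := by omega
    rw [this, pow_succ, hτ, one_mul]
  haveI : (commutator (isoGroup Q)).Normal := inferInstance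
  rcases mem_or_of_normal Q (commutator (isoGroup Q))
    (fun a b ha hb => reflO_mul_reflO_mem Q hQ a b ha hb) hgen a ha y with h | h
  · rw [← hyy]
    exact Subgroup.mul_mem _ h h
  · have h1 : reflO Q a * (y * reflO Q a) * (reflO Q a)⁻¹ ∈ commutator (isoGroup Q) :=
      Subgroup.Normal.conj_mem inferInstance _ h _
    have h2 : y * y = (y * reflO Q a) * (reflO Q a * (y * reflO Q a) * (reflO Q a)⁻¹) := by
      rw [reflO_inv]
      have h3 := reflO_mul_self Q a
      calc y * y = y * 1 * y * 1 := by group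
        _ = y * (reflO Q a * reflO Q a) * y * (reflO Q a * reflO Q a) := by rw [h3]
        _ = _ := by group
    rw [← hyy, h2]
    exact Subgroup.mul_mem _ h h1

end odd

section minus
universe u
variable {F : Type u} [Field F] [Fintype F] [CharP F 2] (k : ℕ) (a b : F)
  (hab : ∀ z₁ z₂ : F, z₁ ^ 2 + a * z₁ * z₂ + b * z₂ ^ 2 = 0 → z₁ = 0 ∧ z₂ = 0)

local notation "VV" => ((Fin k ⊕ Fin k) ⊕ Fin 2 → F)
local notation "QQ" => Qgen k (binForm a b)

omit [Fintype F] [CharP F 2] in
theorem quadFormMinus_smul (c : F) (v : VV) :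
    Cfsg.quadFormMinus k F a b (c • v) = c ^ 2 * Cfsg.quadFormMinus k F a b v := by
  rw [← minus_hfun, ← minus_hfun, QuadraticMap.map_smul, smul_eq_mul, pow_two]

include hab in
/-- the number of nonsingular points of the minus type space -/
theorem card_nonsing_points_minus (hk : 1 ≤ k) :
    Nat.card {W : Submodule F VV // finrank F W = 1 ∧ ∃ v ∈ W, Cfsg.quadFormMinus k F a b v ≠ 0} =
      Fintype.card F ^ k * (Fintype.card F ^ (k + 1) + 1) := by
  classical
  rw [card_nonsing_points (Cfsg.quadFormMinus k F a b) (quadFormMinus_smul k a b)]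
  have h1 := card_minus_shape (F := F) k (κ := Fin 2)
    (fun w => w 0 ^ 2 + a * w 0 * w 1 + b * w 1 ^ 2) (1 : F)
  have h2 : Nat.card {w : Fin 2 → F // w 0 ^ 2 + a * w 0 * w 1 + b * w 1 ^ 2 = 1} =
      Fintype.card F + 1 := by
    rw [← card_binForm_one a b hab]
    apply Nat.card_congr
    exact Equiv.subtypeEquivRight (fun w => by rw [binForm_apply])
  rw [h2, Fintype.card_fin] at h1
  have h3 : Nat.card {v : VV // Cfsg.quadFormMinus k F a b v = 1} =
      Nat.card {v : VV // (∑ i, v (Sum.inl (Sum.inl i)) * v (Sum.inl (Sum.inr i)) +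
        (fun w : Fin 2 → F => w 0 ^ 2 + a * w 0 * w 1 + b * w 1 ^ 2) fun i => v (Sum.inr i)) = 1} := rfl
  rw [h3, h1]
  obtain ⟨j, rfl⟩ : ∃ j, k = j + 1 := ⟨k - 1, by omega⟩
  set q := Fintype.card F with hq
  have hq1 : 1 ≤ q := Fintype.card_pos
  obtain ⟨B, hB⟩ : ∃ B, q ^ (j + 1) = B + 1 := ⟨q ^ (j + 1) - 1, by
    have := Nat.one_le_pow (j + 1) q hq1
    omega⟩
  rw [Nat.add_sub_cancel, pow_succ q (j + 1), hB, Nat.add_sub_cancel]
  have h4 : q ^ j * q = B + 1 := by rw [← pow_succ]; exact hB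
  calc (B + 1) * (q + 1) + B * q ^ j * q ^ 2 = (B + 1) * (q + 1) + B * (q ^ j * q) * q := by ring
    _ = (B + 1) * (q + 1) + B * (B + 1) * q := by rw [h4]
    _ = (B + 1) * ((B + 1) * q + 1) := by ring

omit [Fintype F] [CharP F 2] in
theorem fpf_isoGroupMap {V₁ V₂ : Type*} [AddCommGroup V₁] [Module F V₁] [AddCommGroup V₂]
    [Module F V₂] (Q₁ : QuadraticForm F V₁) (Q₂ : QuadraticForm F V₂) (T : V₁ ≃ₗ[F] V₂)
    (hT : ∀ v, Q₂ (T v) = Q₁ v) (τ : isoGroup Q₁) (hfpf : ∀ v, τ.1 v = v → v = 0) :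
    ∀ v, (isoGroupMap Q₁ Q₂ T hT τ).1 v = v → v = 0 := by
  intro v hv
  rw [isoGroupMap_apply] at hv
  have h1 : τ.1 (T.symm v) = T.symm v := by
    apply T.injective
    rw [hv, LinearEquiv.apply_symm_apply]
  have := hfpf _ h1
  exact (LinearEquiv.map_eq_zero_iff T.symm).mp this

include hab in
/-- a fixed-point-free isometry of odd prime order dividing `q ^ (k + 1) + 1` of the minus type
space of dimension `2 k + 2` -/
theorem exists_fpf_minus (r : ℕ) [Fact r.Prime] (hr2 : r ≠ 2)
    (hr : r ∣ Fintype.card F ^ (k + 1) + 1) :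
    ∃ τ : isoGroup QQ, τ ^ r = 1 ∧ ∀ v, τ.1 v = v → v = 0 := by
  classical
  have hrP : r.Prime := Fact.out
  haveI : NeZero (k + 1) := ⟨by omega⟩
  obtain ⟨Q', τ', hQ', hτ', hfpf'⟩ := MinusModel.exists_model F (k + 1) r hr
  have hV := MinusModel.finrank_KK F (k + 1)
  have hq1 : 1 ≤ Fintype.card F ^ (k + 1) := Nat.one_le_pow _ _ Fintype.card_pos
  rcases classify_even Q' hQ' (k + 1) (by omega) hV with ⟨g, hg⟩ | ⟨ζ, hζ, g, hg⟩
  · exfalso
    have hT : ∀ v, plusQF (k + 1) F (g v) = Q' v := fun v => by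
      rw [congrFun coe_plusQF (g v)]
      exact (hg v).symm
    let τp := isoGroupMap Q' (plusQF (k + 1) F) g hT τ'
    have hτp : τp ^ r = 1 := by rw [← map_pow, hτ', map_one]
    have hfp := fpf_isoGroupMap Q' (plusQF (k + 1) F) g hT τ' hfpf'
    have hdvd := dvd_card_normOne (plusQF (k + 1) F) r τp hτp hfp
    have hc : Nat.card {v : Fin (k + 1) ⊕ Fin (k + 1) → F // plusQF (k + 1) F v = 1} =
        (Fintype.card F ^ (k + 1) - 1) * Fintype.card F ^ k := by
      have h1 := card_plus_value (F := F) (k + 1) 1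
      rw [if_neg one_ne_zero, add_zero, Nat.add_sub_cancel] at h1
      rw [← h1]
      apply Nat.card_congr
      exact Equiv.subtypeEquivRight (fun v => by rw [congrFun coe_plusQF v])
    rw [hc] at hdvd
    rcases (Nat.Prime.dvd_mul hrP).mp hdvd with h | h
    · have h2 : Fintype.card F ^ (k + 1) + 1 = (Fintype.card F ^ (k + 1) - 1) + 2 := by omega
      rw [h2] at hr
      have h3 : r ∣ 2 := (Nat.dvd_add_right h).mp hr
      exact hr2 ((Nat.prime_dvd_prime_iff_eq hrP Nat.prime_two).mp h3)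
    · have h2 := hrP.dvd_of_dvd_pow h
      obtain ⟨n, hn⟩ := FiniteField.card F 2
      rw [hn.2] at h2
      have h3 := hrP.dvd_of_dvd_pow h2
      exact hr2 ((Nat.prime_dvd_prime_iff_eq hrP Nat.prime_two).mp h3)
  · obtain ⟨kk, hkk⟩ := Cfsg.Agent.Lib.Helper16.MinusType.exists_QgenIso 1 ζ a b
      (Cfsg.Agent.Lib.Helper16.MinusType.aniso_of_irred ζ hζ) hab k
    let g' : MinusModel.KK F (k + 1) ≃ₗ[F] VV := g
    have hg' : ∀ v, Q' v = Cfsg.quadFormMinus k F 1 ζ (g' v) := hg
    let Tlin : MinusModel.KK F (k + 1) →ₗ[F] VV := (Matrix.toLin' kk) ∘ₗ g'.toLinearMap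
    have hT : ∀ v, QQ (Tlin v) = Q' v := by
      intro v
      change QQ (Matrix.toLin' kk (g' v)) = _
      rw [Matrix.toLin'_apply, hkk, minus_hfun, ← hg']
    have hpol : ∀ v w, polar QQ (Tlin v) (Tlin w) = polar Q' v w := by
      intro v w
      unfold polar
      rw [← map_add, hT, hT, hT]
    have hinj : Function.Injective Tlin := by
      rw [← LinearMap.ker_eq_bot, LinearMap.ker_eq_bot']
      intro v hv
      apply hQ'.1 v
      intro w
      change polar Q' v w = 0
      rw [← hpol, hv]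
      unfold polar
      rw [zero_add, map_zero, sub_zero, sub_self]
    have hdim : finrank F (MinusModel.KK F (k + 1)) = finrank F VV := by
      rw [hV, minus_finrank]; ring
    let T := LinearMap.linearEquivOfInjective Tlin hinj hdim
    have hT' : ∀ v, QQ (T v) = Q' v := fun v => by
      rw [LinearMap.linearEquivOfInjective_apply]
      exact hT v
    refine ⟨isoGroupMap Q' QQ T hT' τ', ?_, fpf_isoGroupMap Q' QQ T hT' τ' hfpf'⟩
    rw [← map_pow, hτ', map_one]

end minus

end Cfsg.Agent.Lib.Helper29.NSM
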