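import Mathlib
import Cfsg.Prelude.Def_GeometricClasses
import Cfsg.Agent.Lib.Helper29.NonsingMinus
import Cfsg.Agent.Lib.Helper13.InvolCount
import Cfsg.Agent.Lib.Helper13.OrthInvolCount
import Cfsg.Agent.Lib.Helper15.PSpJ4
import Cfsg.Agent.Lib.Helper15.SympOrder
import Cfsg.Agent.S0287
import Cfsg.Agent.S0288

/-!
# Orthogonal subgroups of symplectic groups in characteristic two
-/

set_option autoImplicit false

namespace Cfsg.Agent.Lib.Helper29.SPO

open Module Matrix QuadraticMap Cfsg.Agent.Lib.Helper6 Cfsg.Agent.Lib.Helper13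
  Cfsg.Agent.Lib.Helper15 Cfsg.Agent.Lib.Helper29.NSP Cfsg.Agent.Lib.Helper29.NSM

section basics
universe u
variable {F : Type u} [Field F] {d : ℕ}

local notation "VV" => (Fin d ⊕ Fin d → F)
local notation "MM" => Matrix (Fin d ⊕ Fin d) (Fin d ⊕ Fin d) F
local notation "GG" => GL (Fin d ⊕ Fin d) F

/-- the hypotheses on the quadratic form: it polarises to the standard alternating form -/
structure QPol (Q : VV → F) : Prop where
  smul : ∀ (c : F) (v : VV), Q (c • v) = c ^ 2 * Q v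
  polar : ∀ u v, QuadraticMap.polar Q u v = Cfsg.sympForm d F u v

/-- the form as a quadratic form of Mathlib -/
noncomputable def toQF {Q : VV → F} (h : QPol Q) : QuadraticForm F VV :=
  QuadraticMap.mk Q (fun a x => by rw [h.smul, smul_eq_mul, pow_two]) ⟨stdSymp d F, fun x y => by
    have := h.polar x y
    unfold QuadraticMap.polar at this
    rw [stdSymp_apply, ← this]
    abel⟩

theorem toQF_apply {Q : VV → F} (h : QPol Q) (v : VV) : toQF h v = Q v := rfl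

theorem polar_toQF {Q : VV → F} (h : QPol Q) (u v : VV) :
    polar (toQF h) u v = Cfsg.sympForm d F u v := h.polar u v

theorem nondeg_toQF {Q : VV → F} (h : QPol Q) : (polarBilin (toQF h)).Nondegenerate := by
  constructor
  · intro u hu
    apply stdSymp_nondeg u
    intro w
    rw [stdSymp_apply, ← polar_toQF h]
    exact hu w
  · intro v hv
    apply stdSymp_nondeg v
    intro w
    rw [stdSymp_apply, sympForm_swap, ← polar_toQF h, neg_eq_zero]
    exact hv w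

theorem exists_sympForm_eq_one (hd : 1 ≤ d) : ∃ u v : VV, Cfsg.sympForm d F u v = 1 := by
  refine ⟨Pi.single (Sum.inr ⟨0, by omega⟩) 1, Pi.single (Sum.inl ⟨0, by omega⟩) 1, ?_⟩
  rw [sympForm_single_right_inl]
  simp

theorem mem_spGL_iff (g : GG) :
    g ∈ Cfsg.spGL d F ↔ ∀ u v, Cfsg.sympForm d F ((g : MM) *ᵥ u) ((g : MM) *ᵥ v) =
      Cfsg.sympForm d F u v := Iff.rfl

theorem mem_quadSim_iff (Q : VV → F) (g : GG) :
    g ∈ Cfsg.Geo.quadSimilarityGroup Q ↔ ∃ c : Fˣ, ∀ v, Q ((g : MM) *ᵥ v) = (c : F) * Q v :=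
  Iff.rfl

theorem isometry_le_spGL {Q : VV → F} (h : QPol Q) : Cfsg.isometryGroup F Q ≤ Cfsg.spGL d F := by
  intro g hg
  have hg' := (mem_isometryGroup_iff Q g).mp hg
  rw [mem_spGL_iff]
  intro u v
  rw [← h.polar, ← h.polar]
  unfold QuadraticMap.polar
  rw [← Matrix.mulVec_add, hg', hg', hg']

theorem inf_eq_isometry {Q : VV → F} (h : QPol Q) (hd : 1 ≤ d) :
    Cfsg.Geo.quadSimilarityGroup Q ⊓ Cfsg.spGL d F = Cfsg.isometryGroup F Q := by
  apply le_antisymm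
  · rintro g ⟨⟨c, hc⟩, hg⟩
    rw [mem_isometryGroup_iff]
    obtain ⟨u, v, huv⟩ := exists_sympForm_eq_one (F := F) hd
    have h1 := (mem_spGL_iff g).mp hg u v
    rw [← h.polar, ← h.polar] at h1
    unfold QuadraticMap.polar at h1
    rw [← Matrix.mulVec_add, hc, hc, hc] at h1
    have h2 : (c : F) * QuadraticMap.polar Q u v = QuadraticMap.polar Q u v := by
      unfold QuadraticMap.polar
      linear_combination h1
    rw [h.polar, huv, mul_one] at h2
    intro w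
    rw [hc, h2, one_mul]
  · intro g hg
    refine ⟨⟨1, fun v => ?_⟩, isometry_le_spGL h hg⟩
    rw [Units.val_one, one_mul]
    exact (mem_isometryGroup_iff Q g).mp hg v

/-- from the subgroup of `GL` to the symplectic group of Mathlib -/
def toSp (g : GG) (hg : g ∈ Cfsg.spGL d F) : ↥(Matrix.symplecticGroup (Fin d) F) :=
  ⟨(g : MM), (mem_symplecticGroup_iff_preserves _).mpr hg⟩

/-- from the symplectic group of Mathlib to `GL` -/
noncomputable def ofSp : ↥(Matrix.symplecticGroup (Fin d) F) →* GG :=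
  (Matrix.symplecticGroup (Fin d) F).subtype.toHomUnits

theorem ofSp_coe (a : ↥(Matrix.symplecticGroup (Fin d) F)) : ((ofSp a : GG) : MM) = (a : MM) := rfl

theorem ofSp_mem (a : ↥(Matrix.symplecticGroup (Fin d) F)) : ofSp a ∈ Cfsg.spGL d F :=
  (mem_symplecticGroup_iff_preserves _).mp a.2

theorem ofSp_toSp (g : GG) (hg : g ∈ Cfsg.spGL d F) : ofSp (toSp g hg) = g := Units.ext rfl

theorem card_spGL [Fintype F] :
    Nat.card (Cfsg.spGL d F) =
      Fintype.card F ^ (d ^ 2) * ∏ i ∈ Finset.range d, (Fintype.card F ^ (2 * (i + 1)) - 1) := by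
  rw [← card_symplecticGroup]
  apply Nat.card_congr
  exact
    { toFun := fun x => toSp x.1 x.2
      invFun := fun a => ⟨ofSp a, ofSp_mem a⟩
      left_inv := fun x => Subtype.ext (ofSp_toSp x.1 x.2)
      right_inv := fun a => Subtype.ext rfl }

end basics

section arith

theorem prod_pos_aux (q : ℕ) (hq : 2 ≤ q) (n : ℕ) :
    0 < ∏ i ∈ Finset.range n, (q ^ (2 * (i + 1)) - 1) := by
  apply Finset.prod_pos
  intro i _
  have : 2 ^ (2 * (i + 1)) ≤ q ^ (2 * (i + 1)) := Nat.pow_le_pow_left hq _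
  have h2 : 2 ≤ 2 ^ (2 * (i + 1)) := by
    calc 2 = 2 ^ 1 := by norm_num
      _ ≤ 2 ^ (2 * (i + 1)) := Nat.pow_le_pow_right (by norm_num) (by omega)
  omega

theorem arith_plus (q : ℕ) (hq : 2 ≤ q) (n I : ℕ)
    (h : 2 * q ^ ((n + 1) * n) * (q ^ (n + 1) - 1) *
        (∏ i ∈ Finset.range n, (q ^ (2 * (i + 1)) - 1)) * I =
      q ^ ((n + 1) ^ 2) * ∏ i ∈ Finset.range (n + 1), (q ^ (2 * (i + 1)) - 1)) :
    I * 2 = q ^ (n + 1) * (q ^ (n + 1) + 1) := by
  have hP := prod_pos_aux q hq n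
  rw [Finset.prod_range_succ] at h
  set P := ∏ i ∈ Finset.range n, (q ^ (2 * (i + 1)) - 1) with hPdef
  obtain ⟨A, hA⟩ : ∃ A, q ^ (n + 1) = A + 2 := ⟨q ^ (n + 1) - 2, by
    have : 2 ^ (n + 1) ≤ q ^ (n + 1) := Nat.pow_le_pow_left hq _
    have h2 : 2 ≤ 2 ^ (n + 1) := by
      calc 2 = 2 ^ 1 := by norm_num
        _ ≤ 2 ^ (n + 1) := Nat.pow_le_pow_right (by norm_num) (by omega)
    omega⟩
  have h2 : q ^ (2 * (n + 1)) - 1 = (A + 1) * (A + 3) := by
    rw [two_mul, pow_add, hA]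
    have : (A + 2) * (A + 2) = (A + 1) * (A + 3) + 1 := by ring
    rw [this, Nat.add_sub_cancel]
  have h3 : q ^ ((n + 1) ^ 2) = q ^ ((n + 1) * n) * (A + 2) := by
    rw [← hA, ← pow_add]
    congr 1
    ring
  rw [h2, h3, hA, show A + 2 - 1 = A + 1 by omega] at h
  set X := q ^ ((n + 1) * n) with hX
  have hX0 : 0 < X := Nat.pow_pos (by omega)
  have hc : 0 < X * (A + 1) * P := Nat.mul_pos (Nat.mul_pos hX0 (by omega)) hP
  apply Nat.eq_of_mul_eq_mul_left hc
  rw [hA]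
  calc X * (A + 1) * P * (I * 2) = 2 * X * (A + 1) * P * I := by ring
    _ = X * (A + 2) * (P * ((A + 1) * (A + 3))) := h
    _ = X * (A + 1) * P * ((A + 2) * (A + 2 + 1)) := by ring

theorem arith_minus (q : ℕ) (hq : 2 ≤ q) (n I : ℕ)
    (h : 2 * q ^ ((n + 1) * n) * (q ^ (n + 1) + 1) *
        (∏ i ∈ Finset.range n, (q ^ (2 * (i + 1)) - 1)) * I =
      q ^ ((n + 1) ^ 2) * ∏ i ∈ Finset.range (n + 1), (q ^ (2 * (i + 1)) - 1)) :
    I * 2 = q ^ (n + 1) * (q ^ (n + 1) - 1) := by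
  have hP := prod_pos_aux q hq n
  rw [Finset.prod_range_succ] at h
  set P := ∏ i ∈ Finset.range n, (q ^ (2 * (i + 1)) - 1) with hPdef
  obtain ⟨A, hA⟩ : ∃ A, q ^ (n + 1) = A + 2 := ⟨q ^ (n + 1) - 2, by
    have : 2 ^ (n + 1) ≤ q ^ (n + 1) := Nat.pow_le_pow_left hq _
    have h2 : 2 ≤ 2 ^ (n + 1) := by
      calc 2 = 2 ^ 1 := by norm_num
        _ ≤ 2 ^ (n + 1) := Nat.pow_le_pow_right (by norm_num) (by omega)
    omega⟩
  have h2 : q ^ (2 * (n + 1)) - 1 = (A + 1) * (A + 3) := by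
    rw [two_mul, pow_add, hA]
    have : (A + 2) * (A + 2) = (A + 1) * (A + 3) + 1 := by ring
    rw [this, Nat.add_sub_cancel]
  have h3 : q ^ ((n + 1) ^ 2) = q ^ ((n + 1) * n) * (A + 2) := by
    rw [← hA, ← pow_add]
    congr 1
    ring
  rw [h2, h3, hA] at h
  set X := q ^ ((n + 1) * n) with hX
  have hX0 : 0 < X := Nat.pow_pos (by omega)
  have hc : 0 < X * (A + 3) * P := Nat.mul_pos (Nat.mul_pos hX0 (by omega)) hP
  apply Nat.eq_of_mul_eq_mul_left hc
  rw [hA, show A + 2 - 1 = A + 1 by omega]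
  calc X * (A + 3) * P * (I * 2) = 2 * X * (A + 2 + 1) * P * I := by ring
    _ = X * (A + 2) * (P * ((A + 1) * (A + 3))) := h
    _ = X * (A + 3) * P * ((A + 2) * (A + 1)) := by ring

/-- an odd prime cannot divide both -/
theorem odd_prime_aux (r : ℕ) (hr : r.Prime) (hr2 : r ≠ 2) (n j A B : ℕ) (h1 : r ∣ A)
    (h2 : r ∣ B * (2 ^ n) ^ j) (hAB : A = B + 2 ∨ B = A + 2) : False := by
  rcases (Nat.Prime.dvd_mul hr).mp h2 with h | h
  · have h3 : r ∣ 2 := by
      rcases hAB with rfl | rfl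
      · exact (Nat.dvd_add_right h).mp h1
      · exact (Nat.dvd_add_right h1).mp h
    exact hr2 ((Nat.prime_dvd_prime_iff_eq hr Nat.prime_two).mp h3)
  · have h3 := hr.dvd_of_dvd_pow (hr.dvd_of_dvd_pow h)
    exact hr2 ((Nat.prime_dvd_prime_iff_eq hr Nat.prime_two).mp h3)

end arith

section fin
universe u
variable {F : Type u} [Field F] [Fintype F] [CharP F 2] {d : ℕ}

local notation "VV" => (Fin d ⊕ Fin d → F)
local notation "MM" => Matrix (Fin d ⊕ Fin d) (Fin d ⊕ Fin d) F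
local notation "GG" => GL (Fin d ⊕ Fin d) F

theorem scalar_eq_one (hd : 1 ≤ d) (x : GG) (hx : x ∈ Cfsg.spGL d F) (z : F)
    (hz : (x : MM) = z • (1 : MM)) : z = 1 := by
  obtain ⟨u, v, huv⟩ := exists_sympForm_eq_one (F := F) hd
  have h1 := (mem_spGL_iff x).mp hx u v
  rw [hz, Matrix.smul_mulVec, Matrix.smul_mulVec, Matrix.one_mulVec, Matrix.one_mulVec,
    sympForm_smul_left, sympForm_smul_right, huv, mul_one] at h1
  exact sq_eq_one_charTwo z (by rw [pow_two]; exact h1)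

/-- classification of the forms -/
theorem classify {Q : VV → F} (h : QPol Q) (hd : 1 ≤ d) :
    (∃ g : VV ≃ₗ[F] VV, ∀ v, Q v = Cfsg.quadFormPlus d F (g v)) ∨
    (∃ ζ : F, (∀ t : F, t ^ 2 + t + ζ ≠ 0) ∧
      ∃ g : VV ≃ₗ[F] ((Fin (d - 1) ⊕ Fin (d - 1)) ⊕ Fin 2 → F),
        ∀ v, Q v = Cfsg.quadFormMinus (d - 1) F 1 ζ (g v)) :=
  classify_even (toQF h) (nondeg_toQF h) d hd (by
    rw [Module.finrank_fintype_fun_eq_card, Fintype.card_sum, Fintype.card_fin]; ring)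

omit [Fintype F] [CharP F 2] in
theorem card_isometryGroup_congr {ι ι' : Type} [Fintype ι] [DecidableEq ι] [Fintype ι']
    [DecidableEq ι'] (Q : (ι → F) → F) (Q' : (ι' → F) → F) (g : (ι → F) ≃ₗ[F] (ι' → F))
    (hg : ∀ v, Q v = Q' (g v)) :
    Nat.card (Cfsg.isometryGroup F Q) = Nat.card (Cfsg.isometryGroup F Q') := by
  apply Nat.card_congr
  refine
    { toFun := fun x => ⟨glEquiv.symm ((g.symm.trans (glEquiv x.1)).trans g), ?_⟩
      invFun := fun y => ⟨glEquiv.symm ((g.trans (glEquiv y.1)).trans g.symm), ?_⟩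
      left_inv := ?_
      right_inv := ?_ }
  · rw [mem_isometryGroup_iff]
    intro u
    rw [glEquiv_symm_mulVec]
    change Q' (g ((x.1 : Matrix ι ι F) *ᵥ g.symm u)) = Q' u
    rw [← hg, (mem_isometryGroup_iff Q x.1).mp x.2, hg, g.apply_symm_apply]
  · rw [mem_isometryGroup_iff]
    intro u
    rw [glEquiv_symm_mulVec]
    change Q (g.symm ((y.1 : Matrix ι' ι' F) *ᵥ g u)) = Q u
    rw [hg, g.apply_symm_apply, (mem_isometryGroup_iff Q' y.1).mp y.2, ← hg]
  · intro x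
    apply Subtype.ext
    apply glEquiv.injective
    change glEquiv (glEquiv.symm _) = _
    rw [MulEquiv.apply_symm_apply]
    apply LinearEquiv.ext
    intro v
    change g.symm (glEquiv (glEquiv.symm _) (g v)) = _
    rw [MulEquiv.apply_symm_apply]
    change g.symm (g (glEquiv x.1 (g.symm (g v)))) = _
    rw [g.symm_apply_apply, g.symm_apply_apply]
  · intro y
    apply Subtype.ext
    apply glEquiv.injective
    change glEquiv (glEquiv.symm _) = _
    rw [MulEquiv.apply_symm_apply]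
    apply LinearEquiv.ext
    intro v
    change g (glEquiv (glEquiv.symm _) (g.symm v)) = _
    rw [MulEquiv.apply_symm_apply]
    change g (g.symm (glEquiv y.1 (g (g.symm v)))) = _
    rw [g.apply_symm_apply, g.apply_symm_apply]

theorem card_mul_relIndex {Q : VV → F} (h : QPol Q) (hd : 1 ≤ d) :
    Nat.card (Cfsg.isometryGroup F Q) *
      (Cfsg.Geo.quadSimilarityGroup Q).relIndex (Cfsg.spGL d F) = Nat.card (Cfsg.spGL d F) := by
  have h2 : (Cfsg.Geo.quadSimilarityGroup Q).relIndex (Cfsg.spGL d F) =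
      (Cfsg.isometryGroup F Q).relIndex (Cfsg.spGL d F) := by
    rw [← inf_eq_isometry h hd, Subgroup.inf_relIndex_right]
  have := Subgroup.relIndex_mul_relIndex ⊥ (Cfsg.isometryGroup F Q) (Cfsg.spGL d F) bot_le
    (isometry_le_spGL h)
  rw [Subgroup.relIndex_bot_left, Subgroup.relIndex_bot_left] at this
  rw [h2]
  exact this

theorem card_ge_two : 2 ≤ Fintype.card F := Fintype.one_lt_card

theorem relIndex_plus {Q : VV → F} (h : QPol Q) (hd : 1 ≤ d) (g : VV ≃ₗ[F] VV)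
    (hg : ∀ v, Q v = Cfsg.quadFormPlus d F (g v)) :
    (Cfsg.Geo.quadSimilarityGroup Q).relIndex (Cfsg.spGL d F) * 2 =
      Fintype.card F ^ d * (Fintype.card F ^ d + 1) := by
  have h1 := card_mul_relIndex h hd
  rw [card_isometryGroup_congr Q _ g hg, Cfsg.Agent.S0287.result rfl d hd, card_spGL] at h1
  obtain ⟨n, rfl⟩ : ∃ n, d = n + 1 := ⟨d - 1, by omega⟩
  rw [Nat.add_sub_cancel] at h1
  exact arith_plus _ card_ge_two n _ h1

theorem relIndex_minus {Q : VV → F} (h : QPol Q) (hd : 1 ≤ d) (ζ : F)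
    (hζ : ∀ t : F, t ^ 2 + t + ζ ≠ 0)
    (g : VV ≃ₗ[F] ((Fin (d - 1) ⊕ Fin (d - 1)) ⊕ Fin 2 → F))
    (hg : ∀ v, Q v = Cfsg.quadFormMinus (d - 1) F 1 ζ (g v)) :
    (Cfsg.Geo.quadSimilarityGroup Q).relIndex (Cfsg.spGL d F) * 2 =
      Fintype.card F ^ d * (Fintype.card F ^ d - 1) := by
  have h1 := card_mul_relIndex h hd
  rw [card_isometryGroup_congr Q _ g hg, Cfsg.Agent.S0288.result rfl d hd 1 ζ
    (Cfsg.Agent.Lib.Helper16.MinusType.aniso_of_irred ζ hζ), card_spGL] at h1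
  obtain ⟨n, rfl⟩ : ∃ n, d = n + 1 := ⟨d - 1, by omega⟩
  rw [Nat.add_sub_cancel] at h1
  exact arith_minus _ card_ge_two n _ h1

/-- conjugates into the orthogonal group of fixed-point-free elements of prime order -/
theorem dvd_of_fpf_conj {Q : VV → F} (h : QPol Q) (hd : 1 ≤ d) (r : ℕ) [Fact r.Prime] (x : GG)
    (hxS : x ∈ Cfsg.spGL d F) (hx : x ^ r = 1) (hfpf : ∀ v, (x : MM) *ᵥ v = v → v = 0) (g : GG)
    (hg : g ∈ Cfsg.spGL d F) (hconj : g⁻¹ * x * g ∈ Cfsg.Geo.quadSimilarityGroup Q) :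
    r ∣ Nat.card {v : VV // Q v = 1} := by
  have hy : g⁻¹ * x * g ∈ Cfsg.isometryGroup F Q := by
    rw [← inf_eq_isometry h hd]
    exact ⟨hconj, Subgroup.mul_mem _ (Subgroup.mul_mem _ (Subgroup.inv_mem _ hg) hxS) hg⟩
  let t := isoEquiv Q (toQF h) (fun v => rfl) ⟨g⁻¹ * x * g, hy⟩
  have ht : t ^ r = 1 := by
    rw [← map_pow]
    have : (⟨g⁻¹ * x * g, hy⟩ : Cfsg.isometryGroup F Q) ^ r = 1 := by
      apply Subtype.ext
      rw [SubgroupClass.coe_pow]
      change (g⁻¹ * x * g) ^ r = 1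
      have h1 : g⁻¹ * x * g = g⁻¹ * x * g⁻¹⁻¹ := by rw [inv_inv]
      rw [h1, conj_pow, hx, mul_one, mul_inv_cancel]
    rw [this, map_one]
  have hfp : ∀ v, t.1 v = v → v = 0 := by
    intro v hv
    change ((g⁻¹ * x * g : GG) : MM) *ᵥ v = v at hv
    rw [Units.val_mul, Units.val_mul, ← Matrix.mulVec_mulVec, ← Matrix.mulVec_mulVec] at hv
    have h1 : (x : MM) *ᵥ ((g : MM) *ᵥ v) = (g : MM) *ᵥ v := by
      have := congrArg (fun w => (g : MM) *ᵥ w) hv
      beta_reduce at this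
      rw [Matrix.mulVec_mulVec, ← Units.val_mul, mul_inv_cancel, Units.val_one,
        Matrix.one_mulVec] at this
      exact this
    have h2 := hfpf _ h1
    have := congrArg (fun w => ((g⁻¹ : GG) : MM) *ᵥ w) h2
    beta_reduce at this
    rw [Matrix.mulVec_mulVec, ← Units.val_mul, inv_mul_cancel, Units.val_one, Matrix.one_mulVec,
      Matrix.mulVec_zero] at this
    exact this
  exact dvd_card_normOne (toQF h) r t ht hfp

theorem card_normOne_plus {Q : VV → F} (g : VV ≃ₗ[F] VV)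
    (hg : ∀ v, Q v = Cfsg.quadFormPlus d F (g v)) :
    Nat.card {v : VV // Q v = 1} = (Fintype.card F ^ d - 1) * Fintype.card F ^ (d - 1) := by
  classical
  have h1 := card_plus_value (F := F) d 1
  rw [if_neg one_ne_zero, add_zero] at h1
  rw [← h1]
  apply Nat.card_congr
  exact g.toEquiv.subtypeEquiv (fun v => by rw [hg]; rfl)

theorem card_normOne_minus {Q : VV → F} (hd : 2 ≤ d) (ζ : F) (hζ : ∀ t : F, t ^ 2 + t + ζ ≠ 0)
    (g : VV ≃ₗ[F] ((Fin (d - 1) ⊕ Fin (d - 1)) ⊕ Fin 2 → F))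
    (hg : ∀ v, Q v = Cfsg.quadFormMinus (d - 1) F 1 ζ (g v)) :
    Nat.card {v : VV // Q v = 1} = Fintype.card F ^ (d - 1) * (Fintype.card F ^ d + 1) := by
  have h1 := card_nonsing_points_minus (d - 1) 1 ζ
    (Cfsg.Agent.Lib.Helper16.MinusType.aniso_of_irred ζ hζ) (by omega)
  rw [card_nonsing_points _ (quadFormMinus_smul (d - 1) 1 ζ), show d - 1 + 1 = d by omega] at h1
  rw [← h1]
  apply Nat.card_congr
  exact g.toEquiv.subtypeEquiv (fun v => by rw [hg]; rfl)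

/-- the plus type form polarises to the standard alternating form -/
theorem qpol_plus : QPol (Cfsg.quadFormPlus d F) where
  smul := quadFormPlus_smul d
  polar := by
    intro u v
    unfold QuadraticMap.polar Cfsg.quadFormPlus
    rw [sympForm_eq_sum, ← Finset.sum_sub_distrib, ← Finset.sum_sub_distrib]
    apply Finset.sum_congr rfl
    intro i _
    simp only [Pi.add_apply]
    linear_combination (u (Sum.inl i) * v (Sum.inr i)) * (CharTwo.two_eq_zero : (2 : F) = 0)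

/-- a fixed-point-free symplectic matrix of prime order dividing `q ^ d + 1` -/
theorem exists_fpf_sp (hd : 1 ≤ d) (r : ℕ) [Fact r.Prime] (hr : r ∣ Fintype.card F ^ d + 1) :
    ∃ x : GG, x ∈ Cfsg.spGL d F ∧ x ^ r = 1 ∧ ∀ v, (x : MM) *ᵥ v = v → v = 0 := by
  haveI : NeZero d := ⟨by omega⟩
  obtain ⟨Q', τ, hQ', hτ, hfpf⟩ := MinusModel.exists_model F d r hr
  have halt : ∀ x, polarBilin Q' x x = 0 := by
    intro x
    change polar Q' x x = 0
    rw [QuadraticMap.polar_self, two_nsmul, CharTwo.add_self_eq_zero]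
  obtain ⟨x₀, Ψ, hΨ⟩ := PSpJ.exists_symp_conj (polarBilin Q') halt hQ'.1 d hd
    (MinusModel.finrank_KK F d) τ.1.toLinearMap (fun u v => isoGroup_polar Q' τ u v)
  have hΨ' : ∀ u, Ψ ((x₀ : MM) *ᵥ u) = τ.1 (Ψ u) := by
    intro u
    have := hΨ u
    rwa [Matrix.toLin'_apply] at this
  have hpow : ∀ (n : ℕ) (u : VV), Ψ (((x₀ : MM) ^ n) *ᵥ u) = (τ ^ n).1 (Ψ u) := by
    intro n
    induction n with
    | zero =>
      intro u
      rw [pow_zero, pow_zero, Matrix.one_mulVec]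
      rfl
    | succ n ih =>
      intro u
      rw [pow_succ, ← Matrix.mulVec_mulVec, ih, pow_succ, hΨ']
      rfl
  refine ⟨ofSp x₀, ofSp_mem x₀, ?_, ?_⟩
  · apply Units.ext
    rw [Units.val_pow_eq_pow_val, ofSp_coe, Units.val_one]
    apply matrix_ext_mulVec
    intro u
    apply Ψ.injective
    rw [hpow, hτ, Matrix.one_mulVec]
    rfl
  · intro v hv
    rw [ofSp_coe] at hv
    have h1 := hΨ' v
    rw [hv] at h1
    have h2 := hfpf (Ψ v) h1.symm
    exact (LinearEquiv.map_eq_zero_iff Ψ).mp h2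

/-- a fixed-point-free symplectic matrix of prime order dividing `q ^ d - 1` -/
theorem exists_fpf_sp' (hd : 1 ≤ d) (r : ℕ) [Fact r.Prime] (hr : r ∣ Fintype.card F ^ d - 1) :
    ∃ x : GG, x ∈ Cfsg.spGL d F ∧ x ^ r = 1 ∧ ∀ v, (x : MM) *ᵥ v = v → v = 0 := by
  haveI : NeZero d := ⟨by omega⟩
  obtain ⟨A, hAr, hAu⟩ := exists_fpf_GL F 2 d r hr
  refine ⟨plusBlockGL A, isometry_le_spGL qpol_plus (plusBlockGL_mem A), ?_, ?_⟩
  · have h1 : (plusHom d F A) ^ r = 1 := by rw [← map_pow, hAr, map_one]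
    have h2 := congrArg (fun t : Cfsg.isometryGroup F (Cfsg.quadFormPlus d F) => (t : GG)) h1
    simp only [SubgroupClass.coe_pow] at h2
    exact h2
  · intro v hv
    rw [plusBlockGL_mulVec] at hv
    have h1 : (A : Matrix (Fin d) (Fin d) F) *ᵥ (v ∘ Sum.inl) = v ∘ Sum.inl := by
      have := congrArg (fun w : VV => w ∘ Sum.inl) hv
      simpa using this
    have h2 : ((A⁻¹ : GL (Fin d) F) : Matrix (Fin d) (Fin d) F)ᵀ *ᵥ (v ∘ Sum.inr) = v ∘ Sum.inr := by
      have := congrArg (fun w : VV => w ∘ Sum.inr) hv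
      simpa using this
    have h3 : v ∘ Sum.inl = 0 := by
      apply eq_zero_of_isUnit_mulVec _ hAu
      rw [Matrix.sub_mulVec, h1, Matrix.one_mulVec, sub_self]
    have hAu' : IsUnit ((A : Matrix (Fin d) (Fin d) F) - 1)ᵀ := by
      rw [Matrix.isUnit_iff_isUnit_det, Matrix.det_transpose]
      exact (Matrix.isUnit_iff_isUnit_det _).mp hAu
    have h4 : v ∘ Sum.inr = 0 := by
      apply eq_zero_of_isUnit_mulVec _ hAu'
      rw [Matrix.transpose_sub, Matrix.transpose_one, Matrix.sub_mulVec, Matrix.one_mulVec]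
      nth_rewrite 1 [← h2]
      rw [Matrix.mulVec_mulVec, ← Matrix.transpose_mul, ← Units.val_mul, inv_mul_cancel,
        Units.val_one, Matrix.transpose_one, Matrix.one_mulVec, sub_self]
    funext c
    rcases c with i | i
    · exact congrFun h3 i
    · exact congrFun h4 i

/-! ### involutions -/

/-- an involution of the symplectic group is conjugate into the orthogonal group as soon as the
latter contains an involution with the same invariants -/
theorem conj_of_model {Q : VV → F} (h : QPol Q) (x : GG) (hx : x ∈ Cfsg.spGL d F)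
    (hx2 : (x : MM) * (x : MM) = 1) (hx1 : (x : MM) ≠ 1) (N : MM) (hN2 : N * N = 1)
    (hNQ : ∀ v, Q (N *ᵥ v) = Q v) (hrank : (N - 1).rank = ((x : MM) - 1).rank)
    (halt : IsAltType N ↔ IsAltType (x : MM)) :
    ∃ g ∈ Cfsg.spGL d F, g⁻¹ * x * g ∈ Cfsg.Geo.quadSimilarityGroup Q := by
  have hNS : N ∈ Matrix.symplecticGroup (Fin d) F := by
    rw [mem_symplecticGroup_iff_preserves]
    intro u v
    rw [← h.polar, ← h.polar]
    unfold QuadraticMap.polar
    rw [← Matrix.mulVec_add, hNQ, hNQ, hNQ]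
  let a := toSp x hx
  let b : ↥(Matrix.symplecticGroup (Fin d) F) := ⟨N, hNS⟩
  have ha : orderOf a = 2 := by
    apply orderOf_eq_prime
    · apply Subtype.ext
      rw [pow_two]
      exact hx2
    · intro h1
      exact hx1 (congrArg Subtype.val h1)
  have hb : orderOf b = 2 := by
    apply orderOf_eq_prime
    · apply Subtype.ext
      rw [pow_two]
      exact hN2
    · intro h1
      have h2 : N = 1 := congrArg Subtype.val h1
      have h3 := invol_rank_pos (x : MM) hx1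
      rw [← hrank, h2, sub_self, Matrix.rank_zero] at h3
      omega
  obtain ⟨c, hc⟩ := isConj_iff.mp ((sp_isConj_iff a b ha hb).mpr ⟨hrank.symm, halt.symm⟩)
  refine ⟨ofSp c⁻¹, ofSp_mem _, ?_⟩
  have h1 : (ofSp c⁻¹)⁻¹ * x * ofSp c⁻¹ = ofSp b := by
    rw [← ofSp_toSp x hx, ← map_inv, inv_inv, ← map_mul, ← map_mul]
    exact congrArg ofSp hc
  rw [h1]
  refine ⟨1, fun v => ?_⟩
  rw [ofSp_coe, Units.val_one, one_mul]
  exact hNQ v

/-- from an abstract involution to a matrix -/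
theorem matrix_of_iso {Q : VV → F} (h : QPol Q) (t : isoGroup (toQF h)) (ht : t * t = 1) :
    ∃ N : MM, N * N = 1 ∧ (∀ v, Q (N *ᵥ v) = Q v) ∧
      (N - 1).rank = finrank F (LinearMap.range (t.1.toLinearMap - LinearMap.id)) ∧
      ∀ v, N *ᵥ v = t.1 v := by
  have hyy : (isoEquiv Q (toQF h) (fun v => rfl)).symm t * (isoEquiv Q (toQF h) (fun v => rfl)).symm t = 1 := by
    rw [← map_mul, ht, map_one]
  obtain ⟨y, hy⟩ : ∃ y, y = (isoEquiv Q (toQF h) (fun v => rfl)).symm t := ⟨_, rfl⟩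
  rw [← hy] at hyy
  refine ⟨((y : GG) : MM), ?_, ?_, ?_, ?_⟩
  · have h2 := congrArg (fun z : Cfsg.isometryGroup F Q => ((z : GG) : MM)) hyy
    exact h2
  · intro v
    exact (mem_isometryGroup_iff Q y.1).mp y.2 v
  · rw [rank_sub_one_eq Q (toQF h) (fun v => rfl) y, hy, MulEquiv.apply_symm_apply]
  · intro v
    rw [hy]
    exact isoEquiv_symm_mulVec Q (toQF h) _ t v

theorem model_nonalt_of_family {Q : VV → F} (h : QPol Q) {ι : Type} [Fintype ι] [DecidableEq ι]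
    [Nonempty ι] (w : ι → VV) (hw : LinearIndependent F w)
    (horth : ∀ i j, Cfsg.sympForm d F (w i) (w j) = 0) (hQw : ∀ i, Q (w i) = 1) :
    ∃ N : MM, N * N = 1 ∧ (∀ v, Q (N *ᵥ v) = Q v) ∧ (N - 1).rank = Fintype.card ι ∧
      ¬ IsAltType N := by
  obtain ⟨t, ht, hrank, x, hx⟩ := exists_model_nonalt_abs (toQF h) (nondeg_toQF h) w hw
    (fun i j => by rw [polar_toQF]; exact horth i j) hQw
  obtain ⟨N, hN2, hNQ, hNr, hNv⟩ := matrix_of_iso h t ht
  refine ⟨N, hN2, hNQ, hNr.trans hrank, ?_⟩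
  intro halt
  apply hx
  rw [polar_toQF, sympForm_sub_right, sympForm_self, sub_zero, ← hNv]
  exact halt x

theorem model_alt_of_family {Q : VV → F} (h : QPol Q) {ι : Type} [Fintype ι] [DecidableEq ι]
    (w : ι ⊕ ι → VV) (hw : LinearIndependent F w)
    (horth : ∀ i j, Cfsg.sympForm d F (w i) (w j) = 0) (hQw : ∀ i, Q (w i) = 0) :
    ∃ N : MM, N * N = 1 ∧ (∀ v, Q (N *ᵥ v) = Q v) ∧ (N - 1).rank = 2 * Fintype.card ι ∧
      IsAltType N := by
  obtain ⟨t, ht, hrank, hx⟩ := exists_model_alt_abs (toQF h) (nondeg_toQF h) w hw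
    (fun i j => by rw [polar_toQF]; exact horth i j) hQw
  obtain ⟨N, hN2, hNQ, hNr, hNv⟩ := matrix_of_iso h t ht
  refine ⟨N, hN2, hNQ, hNr.trans hrank, ?_⟩
  intro v
  have := hx v
  rw [polar_toQF, sympForm_sub_right, sympForm_self, sub_zero, ← hNv] at this
  exact this

/-- the models in the minus type case -/
theorem exists_models_minus {Q : VV → F} (h : QPol Q) (ζ : F)
    (g : VV ≃ₗ[F] ((Fin (d - 1) ⊕ Fin (d - 1)) ⊕ Fin 2 → F))
    (hg : ∀ v, Q v = Cfsg.quadFormMinus (d - 1) F 1 ζ (g v)) :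
    (∀ s, 1 ≤ s → s ≤ d → ∃ N : MM, N * N = 1 ∧ (∀ v, Q (N *ᵥ v) = Q v) ∧ (N - 1).rank = s ∧
      ¬ IsAltType N) ∧
    (∀ j, 2 * j ≤ d - 1 → ∃ N : MM, N * N = 1 ∧ (∀ v, Q (N *ᵥ v) = Q v) ∧
      (N - 1).rank = 2 * j ∧ IsAltType N) := by
  have hQg : ∀ v', Q (g.symm v') = Qgen (d - 1) (binForm 1 ζ) v' := by
    intro v'
    rw [hg, g.apply_symm_apply, minus_hfun]
  have hpol : ∀ u' v', Cfsg.sympForm d F (g.symm u') (g.symm v') =
      polar (Qgen (d - 1) (binForm 1 ζ)) u' v' := by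
    intro u' v'
    rw [← h.polar]
    unfold QuadraticMap.polar
    rw [← map_add, hQg, hQg, hQg]
  constructor
  · intro s hs1 hs
    obtain ⟨w', hw', horth', hn'⟩ := exists_norm_one_family (d - 1) (1 : F) ζ s (by omega)
    haveI : Nonempty (Fin s) := ⟨⟨0, hs1⟩⟩
    obtain ⟨N, h1, h2, h3, h4⟩ := model_nonalt_of_family h (fun i => g.symm (w' i))
      (hw'.map' g.symm.toLinearMap (LinearEquiv.ker g.symm))
      (fun i j => by rw [hpol]; exact horth' i j) (fun i => by rw [hQg]; exact hn' i)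
    rw [Fintype.card_fin] at h3
    exact ⟨N, h1, h2, h3, h4⟩
  · intro j hj
    obtain ⟨w', hw', horth', hn'⟩ := exists_singular_family (d - 1) (1 : F) ζ j hj
    obtain ⟨N, h1, h2, h3, h4⟩ := model_alt_of_family h (fun i => g.symm (w' i))
      (hw'.map' g.symm.toLinearMap (LinearEquiv.ker g.symm))
      (fun i j => by rw [hpol]; exact horth' i j) (fun i => by rw [hQg]; exact hn' i)
    rw [Fintype.card_fin] at h3
    exact ⟨N, h1, h2, h3, h4⟩

/-- transport of a model along an isometry with the plus type form -/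
theorem conj_model {Q : VV → F} (h : QPol Q) (g : VV ≃ₗ[F] VV)
    (hg : ∀ v, Q v = Cfsg.quadFormPlus d F (g v)) (M : MM) (hM2 : M * M = 1)
    (hMQ : ∀ v, Cfsg.quadFormPlus d F (M *ᵥ v) = Cfsg.quadFormPlus d F v) :
    ∃ N : MM, N * N = 1 ∧ (∀ v, Q (N *ᵥ v) = Q v) ∧ (N - 1).rank = (M - 1).rank ∧
      (IsAltType N ↔ IsAltType M) := by
  obtain ⟨G, hGdef⟩ : ∃ G : MM, G = LinearMap.toMatrix' g.toLinearMap := ⟨_, rfl⟩
  obtain ⟨G', hG'def⟩ : ∃ G' : MM, G' = LinearMap.toMatrix' g.symm.toLinearMap := ⟨_, rfl⟩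
  have hG : ∀ v, G *ᵥ v = g v := by
    intro v
    rw [hGdef, ← Matrix.toLin'_apply, Matrix.toLin'_toMatrix']
    rfl
  have hG' : ∀ v, G' *ᵥ v = g.symm v := by
    intro v
    rw [hG'def, ← Matrix.toLin'_apply, Matrix.toLin'_toMatrix']
    rfl
  have hG'G : G' * G = 1 := by
    apply matrix_ext_mulVec
    intro v
    rw [← Matrix.mulVec_mulVec, hG, hG', g.symm_apply_apply, Matrix.one_mulVec]
  have hGG' : G * G' = 1 := mul_eq_one_comm.mp hG'G
  have hpres : ∀ u v, Cfsg.sympForm d F (G *ᵥ u) (G *ᵥ v) = Cfsg.sympForm d F u v := by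
    intro u v
    rw [hG, hG, ← (qpol_plus (F := F) (d := d)).polar, ← h.polar]
    unfold QuadraticMap.polar
    rw [← map_add, ← hg, ← hg, ← hg]
  have hCA : G * (G' * M * G) = M * G := by
    rw [← Matrix.mul_assoc, ← Matrix.mul_assoc, hGG', Matrix.one_mul]
  obtain ⟨hr, ha⟩ := invariants_of_conj (G' * M * G) M G G' hG'G hCA hpres
  refine ⟨G' * M * G, ?_, ?_, hr, ha⟩
  · calc G' * M * G * (G' * M * G) = G' * M * (G * G') * M * G := by
          simp only [Matrix.mul_assoc]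
      _ = G' * (M * M) * G := by rw [hGG', Matrix.mul_one, Matrix.mul_assoc G' M M]
      _ = 1 := by rw [hM2, Matrix.mul_one, hG'G]
  · intro v
    rw [hg, ← hG, Matrix.mulVec_mulVec, hCA, ← Matrix.mulVec_mulVec, hMQ, hG, ← hg]

/-- the models in the plus type case -/
theorem exists_models_plus {Q : VV → F} (h : QPol Q) (g : VV ≃ₗ[F] VV)
    (hg : ∀ v, Q v = Cfsg.quadFormPlus d F (g v)) :
    (∀ s, 1 ≤ s → s ≤ d → ∃ N : MM, N * N = 1 ∧ (∀ v, Q (N *ᵥ v) = Q v) ∧ (N - 1).rank = s ∧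
      ¬ IsAltType N) ∧
    (∀ j, 2 * j ≤ d → ∃ N : MM, N * N = 1 ∧ (∀ v, Q (N *ᵥ v) = Q v) ∧
      (N - 1).rank = 2 * j ∧ IsAltType N) := by
  constructor
  · intro s hs1 hs
    obtain ⟨M, hM2, hMQ, hMr, hMa⟩ := exists_model_nonalt (F := F) (m := d) s hs1 hs
    obtain ⟨N, h1, h2, h3, h4⟩ := conj_model h g hg M hM2 hMQ
    exact ⟨N, h1, h2, h3.trans hMr, fun hN => hMa (h4.mp hN)⟩
  · intro j hj
    obtain ⟨M, hM2, hMQ, hMr, hMa⟩ := exists_model_alt (F := F) (m := d) j hj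
    obtain ⟨N, h1, h2, h3, h4⟩ := conj_model h g hg M hM2 hMQ
    exact ⟨N, h1, h2, h3.trans hMr, h4.mpr hMa⟩

/-! ### the main statements -/

theorem not_plus_of_minus {Q : VV → F} (hd : 1 ≤ d) (ζ : F) (hζ : ∀ t : F, t ^ 2 + t + ζ ≠ 0)
    (g : VV ≃ₗ[F] ((Fin (d - 1) ⊕ Fin (d - 1)) ⊕ Fin 2 → F))
    (hg : ∀ v, Q v = Cfsg.quadFormMinus (d - 1) F 1 ζ (g v)) :
    ¬ Cfsg.Geo.IsPlusTypeOn Q ⊤ := by
  rintro ⟨U, -, hU, hdim⟩
  have h1 := minus_ts_finrank_le (d - 1) 1 ζ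
    (Cfsg.Agent.Lib.Helper16.MinusType.aniso_of_irred ζ hζ) (U.map g.toLinearMap) (by
      rintro w ⟨u, hu, rfl⟩
      rw [minus_hfun]
      change Cfsg.quadFormMinus (d - 1) F 1 ζ (g u) = 0
      rw [← hg]
      exact hU u hu)
  rw [LinearEquiv.finrank_map_eq] at h1
  rw [finrank_top, Module.finrank_fintype_fun_eq_card, Fintype.card_sum, Fintype.card_fin] at hdim
  omega

/-- odd primes dividing the index: some element of that order is not conjugate into the
orthogonal group -/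
theorem odd_case {Q : VV → F} (h : QPol Q) (hd : 2 ≤ d) (r : ℕ) [Fact r.Prime] (hr2 : r ≠ 2)
    (hΩ : r ∣ (Cfsg.Geo.quadSimilarityGroup Q).relIndex (Cfsg.spGL d F)) :
    ∃ x : GG, x ∈ Cfsg.spGL d F ∧ x ^ r = 1 ∧ (∀ v, (x : MM) *ᵥ v = v → v = 0) ∧
      ∀ g ∈ Cfsg.spGL d F, g⁻¹ * x * g ∉ Cfsg.Geo.quadSimilarityGroup Q := by
  have hrP : r.Prime := Fact.out
  obtain ⟨n, hn⟩ := FiniteField.card F 2
  have hq1 : 1 ≤ (2 ^ (n : ℕ)) ^ d := Nat.one_le_pow _ _ (Nat.pow_pos (by norm_num))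
  have hΩ2 : r ∣ (Cfsg.Geo.quadSimilarityGroup Q).relIndex (Cfsg.spGL d F) * 2 :=
    dvd_mul_of_dvd_left hΩ 2
  have hnotq : ¬ r ∣ Fintype.card F ^ d := by
    intro h1
    have h2 := hrP.dvd_of_dvd_pow h1
    rw [hn.2] at h2
    have h3 := hrP.dvd_of_dvd_pow h2
    exact hr2 ((Nat.prime_dvd_prime_iff_eq hrP Nat.prime_two).mp h3)
  rcases classify h (by omega) with ⟨g, hg⟩ | ⟨ζ, hζ, g, hg⟩
  · rw [relIndex_plus h (by omega) g hg] at hΩ2
    have hr : r ∣ Fintype.card F ^ d + 1 := by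
      rcases (Nat.Prime.dvd_mul hrP).mp hΩ2 with h1 | h1
      · exact absurd h1 hnotq
      · exact h1
    obtain ⟨x, hxS, hxr, hfpf⟩ := exists_fpf_sp (by omega) r hr
    refine ⟨x, hxS, hxr, hfpf, ?_⟩
    intro g' hg' hconj
    have h1 := dvd_of_fpf_conj h (by omega) r x hxS hxr hfpf g' hg' hconj
    rw [card_normOne_plus g hg, hn.2] at h1
    rw [hn.2] at hr
    exact odd_prime_aux r hrP hr2 n (d - 1) _ _ hr h1 (Or.inl (by omega))
  · rw [relIndex_minus h (by omega) ζ hζ g hg] at hΩ2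
    have hr : r ∣ Fintype.card F ^ d - 1 := by
      rcases (Nat.Prime.dvd_mul hrP).mp hΩ2 with h1 | h1
      · exact absurd h1 hnotq
      · exact h1
    obtain ⟨x, hxS, hxr, hfpf⟩ := exists_fpf_sp' (by omega) r hr
    refine ⟨x, hxS, hxr, hfpf, ?_⟩
    intro g' hg' hconj
    have h1 := dvd_of_fpf_conj h (by omega) r x hxS hxr hfpf g' hg' hconj
    rw [card_normOne_minus hd ζ hζ g hg, hn.2, mul_comm] at h1
    rw [hn.2] at hr
    exact odd_prime_aux r hrP hr2 n (d - 1) _ _ hr h1 (Or.inr (by omega))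

/-- if every involution is conjugate into the orthogonal group, then the form has plus type or
`d` is odd -/
theorem plus_or_odd {Q : VV → F} (h : QPol Q) (hd : 1 ≤ d)
    (hall : ∀ x : GG, x ∈ Cfsg.spGL d F → (x : MM) * (x : MM) = 1 → (x : MM) ≠ 1 →
      ∃ g ∈ Cfsg.spGL d F, g⁻¹ * x * g ∈ Cfsg.Geo.quadSimilarityGroup Q) :
    Cfsg.Geo.IsPlusTypeOn Q ⊤ ∨ Odd d := by
  by_contra hcon
  push Not at hcon
  obtain ⟨hnp, hno⟩ := hcon
  rw [Nat.not_odd_iff_even] at hno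
  obtain ⟨k, hk⟩ := hno
  have hk2 : 2 * k ≤ d := by omega
  have hMM := altMat_mul_self F d k hk2
  let x : GG := ⟨altMat F d k hk2, altMat F d k hk2, hMM, hMM⟩
  have hxS : x ∈ Cfsg.spGL d F :=
    isometry_le_spGL qpol_plus ((mem_isometryGroup_iff _ x).mpr (altMat_pres F d k hk2))
  have hrank : (altMat F d k hk2 - 1).rank = 2 * k := altMat_rank F d k hk2
  have hx1 : (x : MM) ≠ 1 := by
    intro h1
    change altMat F d k hk2 = 1 at h1
    rw [h1, sub_self, Matrix.rank_zero] at hrank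
    omega
  obtain ⟨g, hg, hconj⟩ := hall x hxS hMM hx1
  have hy : g⁻¹ * x * g ∈ Cfsg.isometryGroup F Q := by
    rw [← inf_eq_isometry h hd]
    exact ⟨hconj, Subgroup.mul_mem _ (Subgroup.mul_mem _ (Subgroup.inv_mem _ hg) hxS) hg⟩
  have hyQ := (mem_isometryGroup_iff Q _).mp hy
  obtain ⟨Y, hY⟩ : ∃ Y : MM, Y = ((g⁻¹ * x * g : GG) : MM) := ⟨_, rfl⟩
  rw [← hY] at hyQ
  obtain ⟨hr, ha⟩ := invariants_of_conj Y (x : MM) (g : MM) ((g⁻¹ : GG) : MM)
    (by rw [← Units.val_mul, inv_mul_cancel, Units.val_one])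
    (by rw [hY, Units.val_mul, Units.val_mul, ← Matrix.mul_assoc, ← Matrix.mul_assoc,
      ← Units.val_mul, mul_inv_cancel, Units.val_one, Matrix.one_mul])
    ((mem_spGL_iff g).mp hg)
  have hYalt : IsAltType Y := ha.mpr (altMat_alt F d k hk2)
  apply hnp
  refine ⟨LinearMap.range (Y - 1).mulVecLin, le_top, ?_, ?_⟩
  · rintro w ⟨v, rfl⟩
    rw [Matrix.mulVecLin_apply, Matrix.sub_mulVec, Matrix.one_mulVec]
    have h1 : Y *ᵥ v - v = Y *ᵥ v + v := by
      rw [sub_eq_add_neg]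
      congr 1
      funext i
      rw [Pi.neg_apply, CharTwo.neg_eq]
    have h2 := h.polar (Y *ᵥ v) v
    unfold QuadraticMap.polar at h2
    rw [hyQ] at h2
    have h3 : Cfsg.sympForm d F (Y *ᵥ v) v = 0 := by
      rw [sympForm_swap, hYalt v, neg_zero]
    rw [h3] at h2
    rw [h1]
    have h4 : Q v + Q v = 0 := CharTwo.add_self_eq_zero _
    linear_combination h2 + h4
  · change 2 * (Y - 1).rank = _
    rw [hr]
    change 2 * (altMat F d k hk2 - 1).rank = _
    rw [hrank, finrank_top, Module.finrank_fintype_fun_eq_card, Fintype.card_sum, Fintype.card_fin]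
    omega

/-- if the form has plus type or `d` is odd, every involution is conjugate into the orthogonal
group -/
theorem conj_of_plus_or_odd {Q : VV → F} (h : QPol Q) (hd : 2 ≤ d)
    (hcase : Cfsg.Geo.IsPlusTypeOn Q ⊤ ∨ Odd d) (x : GG) (hx : x ∈ Cfsg.spGL d F)
    (hx2 : (x : MM) * (x : MM) = 1) (hx1 : (x : MM) ≠ 1) :
    ∃ g ∈ Cfsg.spGL d F, g⁻¹ * x * g ∈ Cfsg.Geo.quadSimilarityGroup Q := by
  have hpres := (mem_spGL_iff x).mp hx
  have hs1 := invol_rank_pos (x : MM) hx1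
  have hsd := invol_rank_le (x : MM) hx2
  have hm : (∀ s, 1 ≤ s → s ≤ d → ∃ N : MM, N * N = 1 ∧ (∀ v, Q (N *ᵥ v) = Q v) ∧
        (N - 1).rank = s ∧ ¬ IsAltType N) ∧
      (∀ j, 2 * j ≤ d → ∃ N : MM, N * N = 1 ∧ (∀ v, Q (N *ᵥ v) = Q v) ∧
        (N - 1).rank = 2 * j ∧ IsAltType N) := by
    rcases classify h (by omega) with ⟨g, hg⟩ | ⟨ζ, hζ, g, hg⟩
    · exact exists_models_plus h g hg
    · have hodd : Odd d := by
        rcases hcase with hp | ho
        · exact absurd hp (not_plus_of_minus (by omega) ζ hζ g hg)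
        · exact ho
      obtain ⟨m1, m2⟩ := exists_models_minus h ζ g hg
      refine ⟨m1, fun j hj => m2 j ?_⟩
      obtain ⟨e, he⟩ := hodd
      omega
  have key : ∃ N : MM, N * N = 1 ∧ (∀ v, Q (N *ᵥ v) = Q v) ∧
      (N - 1).rank = ((x : MM) - 1).rank ∧ (IsAltType N ↔ IsAltType (x : MM)) := by
    by_cases halt : IsAltType (x : MM)
    · obtain ⟨j, hj⟩ := invol_alt_even (x : MM) hx2 hpres halt
      obtain ⟨N, h1, h2, h3, h4⟩ := hm.2 j (by omega)
      exact ⟨N, h1, h2, by rw [h3, hj]; ring, iff_of_true h4 halt⟩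
    · obtain ⟨N, h1, h2, h3, h4⟩ := hm.1 _ hs1 hsd
      exact ⟨N, h1, h2, h3, iff_of_false h4 halt⟩
  obtain ⟨N, h1, h2, h3, h4⟩ := key
  exact conj_of_model h x hx hx2 hx1 N h1 h2 h3 h4

end fin

end Cfsg.Agent.Lib.Helper29.SPO
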