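import Mathlib
import Cfsg.Prelude.Def_GeometricClasses
import Cfsg.Agent.Lib.Helper13.OrthCharTwoMat
import Cfsg.Agent.Lib.Helper15.PSub8

/-!
# Orthogonal-type subgroups of `SL_n(q)`, `q` odd: basic transfer lemmas
-/

set_option autoImplicit false

namespace Cfsg.Agent.Lib.Helper29.LO

open Module Matrix QuadraticMap Cfsg.Agent.Lib.Helper13

section basics
universe u
variable {F : Type u} [Field F] {n : ℕ}

local notation "VV" => (Fin n → F)
local notation "MM" => Matrix (Fin n) (Fin n) F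
local notation "GG" => GL (Fin n) F

/-- the polar form of the quadratic form as a bilinear map -/
noncomputable def polB {Q : VV → F} (hQ : Cfsg.Geo.IsNondegenerateQuadraticForm Q) :
    VV →ₗ[F] VV →ₗ[F] F :=
  LinearMap.mk₂ F (QuadraticMap.polar Q) hQ.polar_bilinear.add_left
    (fun c x v => by rw [hQ.polar_bilinear.smul_left, smul_eq_mul])
    hQ.polar_bilinear.add_right (fun c v x => by rw [hQ.polar_bilinear.smul_right, smul_eq_mul])

theorem polB_apply {Q : VV → F} (hQ : Cfsg.Geo.IsNondegenerateQuadraticForm Q) (u v : VV) :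
    polB hQ u v = QuadraticMap.polar Q u v := rfl

theorem polB_symm {Q : VV → F} (hQ : Cfsg.Geo.IsNondegenerateQuadraticForm Q) (u v : VV) :
    polB hQ u v = polB hQ v u := by
  rw [polB_apply, polB_apply, QuadraticMap.polar_comm]

theorem polB_self {Q : VV → F} (hQ : Cfsg.Geo.IsNondegenerateQuadraticForm Q) (v : VV) :
    polB hQ v v = 2 * Q v := by
  rw [polB_apply]
  unfold QuadraticMap.polar
  have h1 : v + v = (2 : F) • v := by rw [two_smul]
  rw [h1, hQ.smul]
  ring

theorem polB_nondeg {Q : VV → F} (hQ : Cfsg.Geo.IsNondegenerateQuadraticForm Q) (x : VV)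
    (hx : ∀ y, polB hQ x y = 0) : x = 0 := by
  by_contra hx0
  obtain ⟨-, y, hy⟩ := hQ.nondegenerate x hx0
  exact hy (hx y)

/-- the form as a quadratic form of Mathlib -/
noncomputable def toQF {Q : VV → F} (hQ : Cfsg.Geo.IsNondegenerateQuadraticForm Q) :
    QuadraticForm F VV :=
  QuadraticMap.mk Q (fun a x => by rw [hQ.smul, smul_eq_mul, pow_two]) ⟨polB hQ, fun x y => by
    rw [polB_apply]
    unfold QuadraticMap.polar
    abel⟩

theorem toQF_apply {Q : VV → F} (hQ : Cfsg.Geo.IsNondegenerateQuadraticForm Q) (v : VV) :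
    toQF hQ v = Q v := rfl

theorem polar_toQF {Q : VV → F} (hQ : Cfsg.Geo.IsNondegenerateQuadraticForm Q) (u v : VV) :
    polar (toQF hQ) u v = polB hQ u v := rfl

theorem nondeg_toQF {Q : VV → F} (hQ : Cfsg.Geo.IsNondegenerateQuadraticForm Q) :
    (polarBilin (toQF hQ)).Nondegenerate := by
  constructor
  · intro u hu
    apply polB_nondeg hQ u
    intro w
    exact hu w
  · intro v hv
    apply polB_nondeg hQ v
    intro w
    rw [polB_symm]
    exact hv w

theorem mem_quadSim_iff (Q : VV → F) (g : GG) :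
    g ∈ Cfsg.Geo.quadSimilarityGroup Q ↔
      ∃ c : Fˣ, ∀ v, Q ((g : MM) *ᵥ v) = (c : F) * Q v := Iff.rfl

theorem mem_specialLinear_iff (g : GG) :
    g ∈ Cfsg.Geo.specialLinear (Fin n) F ↔ (g : MM).det = 1 := by
  unfold Cfsg.Geo.specialLinear
  rw [MonoidHom.mem_ker]
  constructor
  · intro h
    have := congrArg Units.val h
    rwa [Matrix.GeneralLinearGroup.val_det_apply, Units.val_one] at this
  · intro h
    apply Units.ext
    rw [Matrix.GeneralLinearGroup.val_det_apply, Units.val_one]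
    exact h

/-- the action of a conjugate -/
theorem conj_mulVec (x g : GG) (v : VV) :
    ((g⁻¹ * x * g : GG) : MM) *ᵥ v =
      (glEquiv g).symm (Matrix.toLin' (x : MM) (glEquiv g v)) := by
  rw [LinearEquiv.eq_symm_apply, glEquiv_apply, glEquiv_apply, Matrix.toLin'_apply,
    Matrix.mulVec_mulVec, Matrix.mulVec_mulVec, ← Units.val_mul, ← Units.val_mul, ← mul_assoc,
    ← mul_assoc, mul_inv_cancel, one_mul]

/-- conjugates in the similarity group, in terms of linear maps -/
theorem conj_sim_data {Q : VV → F} (x g : GG)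
    (h : g⁻¹ * x * g ∈ Cfsg.Geo.quadSimilarityGroup Q) :
    ∃ (E : VV ≃ₗ[F] VV) (c : F), c ≠ 0 ∧
      ∀ v, Q (E.symm (Matrix.toLin' (x : MM) (E v))) = c * Q v := by
  obtain ⟨c, hc⟩ := h
  refine ⟨glEquiv g, c, c.ne_zero, fun v => ?_⟩
  rw [← conj_mulVec]
  exact hc v

/-- similarities of the quadratic form are similarities of the polar form -/
theorem polB_of_sim {Q : VV → F} (hQ : Cfsg.Geo.IsNondegenerateQuadraticForm Q)
    (G : VV →ₗ[F] VV) (c : F) (hG : ∀ v, Q (G v) = c * Q v) (u v : VV) :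
    polB hQ (G u) (G v) = c * polB hQ u v := by
  rw [polB_apply, polB_apply]
  unfold QuadraticMap.polar
  rw [← map_add, hG, hG, hG]
  ring

/-- **Assembly**: an element whose conjugate by a linear automorphism `h` is a similarity, and
whose centraliser has all determinants, is conjugate into the similarity group by a matrix of
determinant one. -/
theorem assembly {Q : VV → F} (x : GG) (h : VV ≃ₗ[F] VV) (μ : F) (hμ : μ ≠ 0)
    (hY : ∀ v, Q (h.symm (Matrix.toLin' (x : MM) (h v))) = μ * Q v)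
    (hcent : ∀ δ : F, δ ≠ 0 → ∃ C : VV →ₗ[F] VV,
      C ∘ₗ Matrix.toLin' (x : MM) = Matrix.toLin' (x : MM) ∘ₗ C ∧ LinearMap.det C = δ) :
    ∃ g ∈ Cfsg.Geo.specialLinear (Fin n) F, g⁻¹ * x * g ∈ Cfsg.Geo.quadSimilarityGroup Q := by
  classical
  have hdet : LinearMap.det (h : VV →ₗ[F] VV) ≠ 0 := (LinearEquiv.isUnit_det' h).ne_zero
  obtain ⟨C, hCX, hCdet⟩ := hcent _ (inv_ne_zero hdet)
  have hCu : LinearMap.det C ≠ 0 := by
    rw [hCdet]
    exact inv_ne_zero hdet
  obtain ⟨Ce, hCe⟩ : ∃ Ce : VV ≃ₗ[F] VV, ∀ v, Ce v = C v :=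
    ⟨LinearMap.equivOfDetNeZero C hCu, fun v => rfl⟩
  obtain ⟨h', hh'⟩ : ∃ h' : VV ≃ₗ[F] VV, h' = h.trans Ce := ⟨_, rfl⟩
  have hh'app : ∀ v, h' v = C (h v) := by
    intro v
    rw [hh', LinearEquiv.trans_apply, hCe]
  refine ⟨glEquiv.symm h', ?_, ?_⟩
  · rw [mem_specialLinear_iff]
    have h1 : Matrix.toLin' ((glEquiv.symm h' : GG) : MM) = (h' : VV →ₗ[F] VV) := by
      apply LinearMap.ext
      intro v
      rw [Matrix.toLin'_apply, glEquiv_symm_mulVec]
      rfl
    rw [← LinearMap.det_toLin', h1]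
    have h2 : (h' : VV →ₗ[F] VV) = C ∘ₗ (h : VV →ₗ[F] VV) := by
      apply LinearMap.ext
      intro v
      exact hh'app v
    rw [h2, LinearMap.det_comp, hCdet, inv_mul_cancel₀ hdet]
  · refine ⟨Units.mk0 μ hμ, fun v => ?_⟩
    rw [conj_mulVec, MulEquiv.apply_symm_apply, Units.val_mk0, ← hY v]
    congr 1
    rw [LinearEquiv.symm_apply_eq, hh'app, hh'app, LinearEquiv.apply_symm_apply]
    exact (LinearMap.congr_fun hCX (h v)).symm

end basics

end Cfsg.Agent.Lib.Helper29.LO
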