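import Mathlib
import Cfsg.Agent.Lib.Helper29.LO1
import Cfsg.Agent.Lib.Helper15.PSp4

/-!
# Orthogonal-type subgroups of `SL_n(q)`, `q` odd: derangements of odd prime order,
the unipotent case and the diagonal case
-/

set_option autoImplicit false

namespace Cfsg.Agent.Lib.Helper29.LO

open Module Matrix QuadraticMap Cfsg.Agent.Lib.Helper13 Cfsg.Agent.Lib.Helper15.PSub

section bad
universe u
variable {F : Type u} [Field F] {n : ℕ}

local notation "VV" => (Fin n → F)
local notation "MM" => Matrix (Fin n) (Fin n) F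
local notation "GG" => GL (Fin n) F

/-- an invertible matrix from a matrix of determinant one -/
noncomputable def mkGL (M : MM) (h : M.det = 1) : GG :=
  Matrix.GeneralLinearGroup.mkOfDetNeZero M (by rw [h]; exact one_ne_zero)

theorem mkGL_coe (M : MM) (h : M.det = 1) : ((mkGL M h : GG) : MM) = M := rfl

theorem mkGL_mem (M : MM) (h : M.det = 1) : mkGL M h ∈ Cfsg.Geo.specialLinear (Fin n) F := by
  rw [mem_specialLinear_iff, mkGL_coe]
  exact h

/-- there is an element of order `r` modulo scalars with no conjugate in the orthogonal-type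
subgroup -/
def Bad (Q : VV → F) (r : ℕ) : Prop :=
  ∃ x ∈ Cfsg.Geo.specialLinear (Fin n) F,
    (∃ z : F, ((x ^ r : GG) : MM) = z • (1 : MM)) ∧ (∀ z : F, (x : MM) ≠ z • (1 : MM)) ∧
      ∀ g : GG, g⁻¹ * x * g ∉ Cfsg.Geo.quadSimilarityGroup Q

/-- the conjugated endomorphism -/
theorem conj_end {Q : VV → F} (hQ : Cfsg.Geo.IsNondegenerateQuadraticForm Q) (x g : GG)
    (h : g⁻¹ * x * g ∈ Cfsg.Geo.quadSimilarityGroup Q) :
    ∃ (E : VV ≃ₗ[F] VV) (G : VV →ₗ[F] VV) (c : F), c ≠ 0 ∧
      (∀ v, G v = E.symm (Matrix.toLin' (x : MM) (E v))) ∧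
      (∀ v, Q (G v) = c * Q v) ∧ (∀ u v, polB hQ (G u) (G v) = c * polB hQ u v) ∧
      ∀ (i : ℕ) (v : VV), (G ^ i) v = E.symm ((Matrix.toLin' (x : MM) ^ i) (E v)) := by
  obtain ⟨E, c, hc0, hc⟩ := conj_sim_data x g h
  obtain ⟨G, hGdef⟩ : ∃ G : VV →ₗ[F] VV,
      G = (E.symm : VV →ₗ[F] VV) ∘ₗ Matrix.toLin' (x : MM) ∘ₗ (E : VV →ₗ[F] VV) := ⟨_, rfl⟩
  have hGapp : ∀ v, G v = E.symm (Matrix.toLin' (x : MM) (E v)) := fun v => by rw [hGdef]; rfl
  have hQG : ∀ v, Q (G v) = c * Q v := by
    intro v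
    rw [hGapp]
    exact hc v
  refine ⟨E, G, c, hc0, hGapp, hQG, polB_of_sim hQ G c hQG, ?_⟩
  intro i
  induction i with
  | zero => intro v; simp
  | succ i ih =>
    intro v
    rw [pow_succ, Module.End.mul_apply, ih, hGapp, LinearEquiv.apply_symm_apply, pow_succ,
      Module.End.mul_apply]

theorem polB_exists_ne_zero (hn : 0 < n) {Q : VV → F}
    (hQ : Cfsg.Geo.IsNondegenerateQuadraticForm Q) : ∃ u v, polB hQ u v ≠ 0 := by
  classical
  have hu : (Pi.single (⟨0, hn⟩ : Fin n) (1 : F) : VV) ≠ 0 := by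
    intro h
    have := congrFun h ⟨0, hn⟩
    simp at this
  by_contra hall
  apply hu
  apply polB_nondeg hQ
  intro y
  by_contra hne
  exact hall ⟨_, y, hne⟩

end bad

section caseA

variable {F V : Type*} [Field F] [AddCommGroup V] [Module F V]

/-- a transvection is not an isometry of a nondegenerate symmetric form in odd characteristic -/
theorem transv_not_isometry (B : V →ₗ[F] V →ₗ[F] F) (hsymm : ∀ u v, B u v = B v u)
    (hnd : ∀ x, (∀ y, B x y = 0) → x = 0) (h2 : (2 : F) ≠ 0) (G : V →ₗ[F] V)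
    (hiso : ∀ u v, B (G u) (G v) = B u v) (φ : V →ₗ[F] F) (a w : V) (ha : a ≠ 0)
    (hφa : φ a = 0) (hφw : φ w = 1) (hG : ∀ v, G v = v + φ v • a) : False := by
  have star : ∀ u v, φ v * B u a + φ u * B a v + φ u * φ v * B a a = 0 := by
    intro u v
    have h1 := hiso u v
    rw [hG, hG] at h1
    simp only [map_add, map_smul, LinearMap.add_apply, LinearMap.smul_apply, smul_eq_mul] at h1
    linear_combination h1
  have hker : ∀ u, φ u = 0 → B u a = 0 := by
    intro u hu
    have h1 := star u w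
    rw [hu, hφw] at h1
    linear_combination h1
  have haa : B a a = 0 := hker a hφa
  have hwa : B w a = 0 := by
    have h1 := star w w
    rw [hφw, haa, hsymm a w] at h1
    have h3 : (2 : F) * B w a = 0 := by linear_combination h1
    rcases mul_eq_zero.mp h3 with h4 | h4
    · exact absurd h4 h2
    · exact h4
  apply ha
  apply hnd
  intro y
  rw [hsymm]
  have h1 : y = (y - φ y • w) + φ y • w := by abel
  rw [h1, map_add, LinearMap.add_apply, map_smul, LinearMap.smul_apply, hwa, smul_zero, add_zero]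
  apply hker
  rw [map_sub, map_smul, hφw, smul_eq_mul, mul_one, sub_self]

end caseA

section caseA'
universe u
variable {F : Type u} [Field F] {n : ℕ}

local notation "VV" => (Fin n → F)
local notation "MM" => Matrix (Fin n) (Fin n) F
local notation "GG" => GL (Fin n) F

/-- existence in the case `r = p` -/
theorem bad_caseA (hn : 3 ≤ n) {Q : VV → F} (hQ : Cfsg.Geo.IsNondegenerateQuadraticForm Q)
    (p : ℕ) [hp : Fact p.Prime] [CharP F p] (hp2 : p ≠ 2) : Bad Q p := by
  classical
  obtain ⟨i0, hi0⟩ : ∃ i : Fin n, i = ⟨0, by omega⟩ := ⟨_, rfl⟩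
  obtain ⟨i1, hi1⟩ : ∃ i : Fin n, i = ⟨1, by omega⟩ := ⟨_, rfl⟩
  have h01 : i0 ≠ i1 := by rw [hi0, hi1]; intro h; exact absurd (Fin.mk.inj_iff.mp h) (by omega)
  have h2 : (2 : F) ≠ 0 := by
    intro h
    have h3 : ((2 : ℕ) : F) = 0 := by exact_mod_cast h
    have := (CharP.cast_eq_zero_iff F p 2).mp h3
    exact hp2 ((Nat.prime_dvd_prime_iff_eq hp.out Nat.prime_two).mp this)
  obtain ⟨M, hM⟩ : ∃ M : MM, M = Matrix.transvection i0 i1 1 := ⟨_, rfl⟩
  have hdet : M.det = 1 := by rw [hM, Matrix.det_transvection_of_ne i0 i1 h01]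
  have hMv : ∀ v : VV, M *ᵥ v = v + v i1 • Pi.single i0 (1 : F) := by
    intro v
    rw [hM, Matrix.transvection, Matrix.add_mulVec, Matrix.one_mulVec, Matrix.single_mulVec_eq,
      one_mul]
  have hne : Nonempty (Fin n) := ⟨i0⟩
  have hMp : M ^ p = 1 := by
    have h1 : M = 1 + (M - 1) := by abel
    have h3 : (M - 1) ^ 2 = 0 := by
      rw [hM, Matrix.transvection, add_sub_cancel_left, pow_two, Matrix.single_mul_single_of_ne]
      exact h01.symm
    have h4 : (M - 1) ^ p = 0 := by
      have : p = 2 + (p - 2) := by have := hp.out.two_le; omega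
      rw [this, pow_add, h3, zero_mul]
    rw [h1, add_pow_char_of_commute p (Commute.one_left _), one_pow, h4, add_zero]
  refine ⟨mkGL M hdet, mkGL_mem M hdet, ⟨1, ?_⟩, ?_, ?_⟩
  · rw [one_smul, Units.val_pow_eq_pow_val, mkGL_coe]
    exact hMp
  · intro z hz
    rw [mkGL_coe] at hz
    have h1 : M i0 i1 = 1 := by
      rw [hM, Matrix.transvection, Matrix.add_apply, Matrix.one_apply_ne h01,
        Matrix.single_apply_same, zero_add]
    have h3 : (z • (1 : MM)) i0 i1 = 0 := by
      rw [Matrix.smul_apply, Matrix.one_apply_ne h01, smul_zero]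
    rw [hz, h3] at h1
    exact zero_ne_one h1
  · intro g hg
    obtain ⟨E, G, c, hc0, hGapp, -, hcG, hGpow⟩ := conj_end hQ _ g hg
    rw [mkGL_coe] at hGapp hGpow
    have hGr : G ^ p = 1 := by
      apply LinearMap.ext
      intro v
      rw [hGpow, ← Matrix.toLin'_pow, hMp, Matrix.toLin'_one, LinearMap.id_apply,
        LinearEquiv.symm_apply_apply, Module.End.one_apply]
    have hcr : c ^ p = 1 := Cfsg.Agent.Lib.Helper15.PSp.multiplier_pow (polB hQ)
      (polB_exists_ne_zero (by omega) hQ) G c hcG p hGr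
    have hc1 : c = 1 := by
      apply frobenius_inj F p
      rw [frobenius_def, frobenius_def, hcr, one_pow]
    have hiso : ∀ u v, polB hQ (G u) (G v) = polB hQ u v := by
      intro u v
      rw [hcG, hc1, one_mul]
    apply transv_not_isometry (polB hQ) (polB_symm hQ) (polB_nondeg hQ) h2 G hiso
      ((LinearMap.proj i1 : VV →ₗ[F] F) ∘ₗ (E : VV →ₗ[F] VV)) (E.symm (Pi.single i0 1))
      (E.symm (Pi.single i1 1))
    · intro h0
      have h1 := (LinearEquiv.map_eq_zero_iff E.symm).mp h0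
      have := congrFun h1 i0
      rw [Pi.single_eq_same, Pi.zero_apply] at this
      exact one_ne_zero this
    · show (E (E.symm (Pi.single i0 (1 : F)))) i1 = 0
      rw [LinearEquiv.apply_symm_apply, Pi.single_eq_of_ne h01.symm]
    · show (E (E.symm (Pi.single i1 (1 : F)))) i1 = 1
      rw [LinearEquiv.apply_symm_apply, Pi.single_eq_same]
    · intro v
      rw [hGapp, Matrix.toLin'_apply, hMv, map_add, map_smul, LinearEquiv.symm_apply_apply]
      rfl

end caseA'

end Cfsg.Agent.Lib.Helper29.LO
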