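import Mathlib
import Cfsg.Agent.Lib.Helper29.LO2
import Cfsg.Agent.Lib.Helper15.PSp7

/-!
# Orthogonal-type subgroups of `SL_n(q)`, `q` odd: diagonal derangements of odd prime order
-/

set_option autoImplicit false

namespace Cfsg.Agent.Lib.Helper29.LO

open Module Matrix QuadraticMap Cfsg.Agent.Lib.Helper13 Cfsg.Agent.Lib.Helper15.PSub
  Cfsg.Agent.Lib.Helper15.PSp

section diag
universe u
variable {F : Type u} [Field F] {n : ℕ}

local notation "VV" => (Fin n → F)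
local notation "MM" => Matrix (Fin n) (Fin n) F
local notation "GG" => GL (Fin n) F

/-- the eigenvalue multiplicities of a diagonal matrix with a conjugate in the similarity group
are symmetric -/
theorem diag_pairing {Q : VV → F} (hQ : Cfsg.Geo.IsNondegenerateQuadraticForm Q) {ι : Type}
    [Fintype ι] [DecidableEq ι] (e : ι ≃ Fin n) (d : ι → F) (x : GG)
    (hx : (x : MM) = Matrix.diagonal (d ∘ e.symm)) (g : GG)
    (hg : g⁻¹ * x * g ∈ Cfsg.Geo.quadSimilarityGroup Q) :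
    ∃ c : F, c ≠ 0 ∧ ∀ lam : F, lam ≠ 0 →
      Nat.card {i // d i = lam} ≤ Nat.card {j // d j = c * lam⁻¹} := by
  classical
  obtain ⟨E, G, c, hc0, hGapp, -, hcG, -⟩ := conj_end hQ x g hg
  rw [hx] at hGapp
  obtain ⟨D, hD⟩ : ∃ D : Fin n → F, D = d ∘ e.symm := ⟨_, rfl⟩
  rw [← hD] at hGapp
  have hDe : ∀ j, D (e j) = d j := by
    intro j
    rw [hD, Function.comp_apply, Equiv.symm_apply_apply]
  obtain ⟨b₀, hb₀⟩ : ∃ b₀ : Basis ι F VV, b₀ = (Pi.basisFun F (Fin n)).reindex e.symm := ⟨_, rfl⟩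
  have hb₀j : ∀ j, b₀ j = Pi.single (e j) (1 : F) := by
    intro j
    rw [hb₀, Basis.reindex_apply, Equiv.symm_symm, Pi.basisFun_apply]
  have hXb : ∀ j, Matrix.toLin' (Matrix.diagonal D) (b₀ j) = d j • b₀ j := by
    intro j
    rw [hb₀j, Matrix.toLin'_apply, Matrix.diagonal_mulVec_single, hDe, mul_one]
    ext i
    by_cases hi : i = e j
    · rw [hi, Pi.single_eq_same, Pi.smul_apply, Pi.single_eq_same, smul_eq_mul, mul_one]
    · rw [Pi.single_eq_of_ne hi, Pi.smul_apply, Pi.single_eq_of_ne hi, smul_zero]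
  obtain ⟨b, hb⟩ : ∃ b : Basis ι F VV, b = b₀.map E.symm := ⟨_, rfl⟩
  have hbj : ∀ j, b j = E.symm (b₀ j) := by
    intro j
    rw [hb, Basis.map_apply]
  have hG : ∀ j, G (b j) = d j • b j := by
    intro j
    rw [hGapp, hbj, LinearEquiv.apply_symm_apply, hXb, map_smul]
  have hB : ∀ i j, d i * d j ≠ c → polB hQ (b i) (b j) = 0 := by
    intro i j hne
    have h1 := hcG (b i) (b j)
    simp only [hG, map_smul, LinearMap.smul_apply, smul_eq_mul] at h1
    have h2 : (d i * d j - c) * polB hQ (b i) (b j) = 0 := by linear_combination h1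
    rcases mul_eq_zero.mp h2 with h3 | h3
    · exact absurd (sub_eq_zero.mp h3) hne
    · exact h3
  refine ⟨c, hc0, fun lam hlam => ?_⟩
  apply pair_count (polB hQ) (polB_nondeg hQ) b d c hB lam (c * lam⁻¹)
  intro i j hi hj h
  apply hj
  rw [← h, hi, mul_comm lam, mul_assoc, mul_inv_cancel₀ hlam, mul_one]

/-- a diagonal matrix with unsymmetric eigenvalue multiplicities gives a derangement -/
theorem bad_of_diag {Q : VV → F} (hQ : Cfsg.Geo.IsNondegenerateQuadraticForm Q) {ι : Type}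
    [Fintype ι] [DecidableEq ι] (e : ι ≃ Fin n) (d : ι → F) (r : ℕ) (z : F)
    (hdet : ∏ i, d i = 1) (hpow : ∀ i, d i ^ r = z) (hns : ∃ i j, d i ≠ d j)
    (hno : ¬ ∃ c : F, c ≠ 0 ∧ ∀ lam : F, lam ≠ 0 →
      Nat.card {i // d i = lam} ≤ Nat.card {j // d j = c * lam⁻¹}) : Bad Q r := by
  classical
  obtain ⟨D, hD⟩ : ∃ D : Fin n → F, D = d ∘ e.symm := ⟨_, rfl⟩
  have hDe : ∀ j, D (e j) = d j := by
    intro j
    rw [hD, Function.comp_apply, Equiv.symm_apply_apply]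
  have hdetD : (Matrix.diagonal D).det = 1 := by
    rw [Matrix.det_diagonal, hD]
    show ∏ i, d (e.symm i) = 1
    rw [Equiv.prod_comp e.symm d, hdet]
  refine ⟨mkGL (Matrix.diagonal D) hdetD, mkGL_mem _ _, ⟨z, ?_⟩, ?_, ?_⟩
  · rw [Units.val_pow_eq_pow_val, mkGL_coe, Matrix.diagonal_pow]
    have h1 : (z • (1 : MM)) = Matrix.diagonal (fun _ => z) := by
      rw [← Matrix.diagonal_one, ← Matrix.diagonal_smul]
      congr 1
      funext i
      simp
    rw [h1]
    congr 1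
    funext i
    rw [Pi.pow_apply, ← e.apply_symm_apply i, hDe, hpow]
  · intro w hw
    rw [mkGL_coe] at hw
    have h1 : ∀ i, D i = w := by
      intro i
      have := congrFun (congrFun hw i) i
      rw [Matrix.diagonal_apply_eq, Matrix.smul_apply, Matrix.one_apply_eq, smul_eq_mul,
        mul_one] at this
      exact this
    obtain ⟨i, j, hij⟩ := hns
    apply hij
    rw [← hDe i, ← hDe j, h1, h1]
  · intro g hg
    apply hno
    exact diag_pairing hQ e d _ (by rw [mkGL_coe, hD]) g hg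

end diag

section caseB

variable {F : Type*} [Field F]

/-- the element `diag(ζ, ζ, ζ⁻², 1, …, 1)` has unsymmetric multiplicities -/
theorem not_pair_B [DecidableEq F] (k : ℕ) (ζ : F) (r : ℕ) (hr : r.Prime) (hr2 : r ≠ 2)
    (hζ : ζ ^ r = 1) (hζ1 : ζ ≠ 1) (hgap1 : ¬ (k = 3 ∧ r = 3)) (hgap2 : ¬ (k = 2 ∧ r = 5))
    (hgap3 : ¬ (k = 0 ∧ r = 3)) :
    ¬ ∃ c : F, c ≠ 0 ∧ ∀ lam : F, lam ≠ 0 →
      Nat.card {i // dB ζ k i = lam} ≤ Nat.card {j // dB ζ k j = c * lam⁻¹} := by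
  rintro ⟨c, hc0, hP⟩
  have hζ0 : ζ ≠ 0 := by
    rintro rfl
    rw [zero_pow hr.ne_zero] at hζ
    exact zero_ne_one hζ
  have hpow1 : ∀ m : ℕ, ζ ^ m = 1 → r ∣ m := by
    intro m hm
    by_contra hnd'
    have hcop : Nat.Coprime r m := (Nat.Prime.coprime_iff_not_dvd hr).mpr hnd'
    have hg : ζ ^ (Nat.gcd r m) = 1 := pow_gcd_eq_one.mpr ⟨hζ, hm⟩
    rw [hcop.gcd_eq_one, pow_one] at hg
    exact hζ1 hg
  have hd2 : ¬ r ∣ 2 := fun h => hr2 ((Nat.prime_dvd_prime_iff_eq hr Nat.prime_two).mp h)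
  have hd4 : ¬ r ∣ 4 := fun h => hd2 (hr.dvd_of_dvd_pow (show r ∣ 2 ^ 2 from h))
  have hd3 : r ∣ 3 → r = 3 := fun h => (Nat.prime_dvd_prime_iff_eq hr Nat.prime_three).mp h
  have hd5 : r ∣ 5 → r = 5 := fun h => (Nat.prime_dvd_prime_iff_eq hr Nat.prime_five).mp h
  have hd6 : r ∣ 6 → r = 3 := by
    intro h
    rcases (Nat.Prime.dvd_mul hr).mp (show r ∣ 2 * 3 from h) with h' | h'
    · exact absurd h' hd2
    · exact hd3 h'
  obtain ⟨w, hwdef⟩ : ∃ w : F, w = (ζ⁻¹) ^ 2 := ⟨_, rfl⟩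
  have hw : w * ζ ^ 2 = 1 := by
    rw [hwdef, inv_pow, inv_mul_cancel₀ (pow_ne_zero 2 hζ0)]
  have hw0 : w ≠ 0 := by
    rintro rfl
    rw [zero_mul] at hw
    exact zero_ne_one hw
  have hw1 : w ≠ 1 := by
    intro h
    rw [h, one_mul] at hw
    exact hd2 (hpow1 2 hw)
  have hwζ : w = ζ → r = 3 := by
    intro h
    apply hd3
    apply hpow1
    rw [← hw, h]
    ring
  have hN : ∀ lam : F, Nat.card {i // dB ζ k i = lam} =
      (if ζ = lam then 2 else 0) + (if w = lam then 1 else 0) + (if (1 : F) = lam then k else 0) := by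
    intro lam
    rw [count_dB, hwdef]
  -- pairing in product form
  have hP' : ∀ lam lam' : F, lam * lam' = c →
      Nat.card {i // dB ζ k i = lam} ≤ Nat.card {j // dB ζ k j = lam'} := by
    intro lam lam' h
    have hl0 : lam ≠ 0 := by
      rintro rfl
      rw [zero_mul] at h
      exact hc0 h.symm
    have h1 := hP lam hl0
    have h2 : c * lam⁻¹ = lam' := by
      rw [← h, mul_comm lam, mul_assoc, mul_inv_cancel₀ hl0, mul_one]
    rwa [h2] at h1
  obtain ⟨t, ht⟩ : ∃ t : F, ζ * t = c := ⟨ζ⁻¹ * c, by rw [← mul_assoc, mul_inv_cancel₀ hζ0, one_mul]⟩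
  have h1 := hP' ζ t ht
  rw [hN, hN, if_pos rfl, if_neg hζ1.symm, add_zero] at h1
  by_cases hζt : ζ = t
  · -- `c = ζ²`
    have hc : c = ζ ^ 2 := by rw [← ht, ← hζt]; ring
    have h2 := hP' w (ζ ^ 4) (by rw [hc]; linear_combination ζ ^ 2 * hw)
    rw [hN, hN, if_pos rfl, if_neg hw1.symm] at h2
    have hr3 : r = 3 := by
      by_cases e1 : ζ = ζ ^ 4
      · apply hd3
        apply hpow1
        have : ζ * ζ ^ 3 = ζ * 1 := by rw [mul_one]; nth_rewrite 3 [e1]; ring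
        exact mul_left_cancel₀ hζ0 this
      · by_cases e2 : w = ζ ^ 4
        · apply hd6
          apply hpow1
          rw [← hw, e2]
          ring
        · by_cases e3 : (1 : F) = ζ ^ 4
          · exact absurd (hpow1 4 e3.symm) hd4
          · rw [if_neg e1, if_neg e2, if_neg e3] at h2
            omega
    have hwz : w = ζ := by
      have h3 : ζ ^ 3 = 1 := by rw [← hr3]; exact hζ
      calc w = w * ζ ^ 3 := by rw [h3, mul_one]
        _ = (w * ζ ^ 2) * ζ := by ring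
        _ = ζ := by rw [hw, one_mul]
    have h3 := hP' 1 c (one_mul c)
    rw [hN, hN, if_neg hζ1, if_neg hw1, if_pos rfl, zero_add, zero_add, hc] at h3
    have e1 : ζ ≠ ζ ^ 2 := by
      intro h
      apply hζ1
      have : ζ * ζ = ζ * 1 := by rw [mul_one]; nth_rewrite 3 [h]; ring
      exact mul_left_cancel₀ hζ0 this
    have e2 : w ≠ ζ ^ 2 := by
      rw [hwz]
      exact e1
    have e3 : (1 : F) ≠ ζ ^ 2 := fun h => hd2 (hpow1 2 h.symm)
    rw [if_neg e1, if_neg e2, if_neg e3] at h3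
    exact hgap3 ⟨by omega, hr3⟩
  · rw [if_neg hζt] at h1
    by_cases hwt : w = t
    · have h1t : (1 : F) ≠ t := by rw [← hwt]; exact hw1.symm
      rw [if_pos hwt, if_neg h1t] at h1
      omega
    · rw [if_neg hwt] at h1
      by_cases h1t : (1 : F) = t
      · rw [if_pos h1t] at h1
        have hc : c = ζ := by rw [← ht, ← h1t, mul_one]
        have h2 := hP' 1 ζ (by rw [hc, one_mul])
        rw [hN, hN, if_neg hζ1, if_neg hw1, if_pos rfl, if_pos rfl, if_neg hζ1.symm] at h2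
        by_cases hwz : w = ζ
        · rw [if_pos hwz] at h1 h2
          exact hgap1 ⟨by omega, hwζ hwz⟩
        · rw [if_neg hwz] at h1 h2
          have hk2 : k = 2 := by omega
          have h3 := hP' w (ζ ^ 3) (by rw [hc]; linear_combination ζ * hw)
          rw [hN, hN, if_pos rfl, if_neg hw1.symm] at h3
          by_cases e1 : ζ = ζ ^ 3
          · apply hd2
            apply hpow1
            have : ζ * ζ ^ 2 = ζ * 1 := by rw [mul_one]; nth_rewrite 3 [e1]; ring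
            exact mul_left_cancel₀ hζ0 this
          · by_cases e2 : w = ζ ^ 3
            · apply hgap2
              refine ⟨hk2, hd5 (hpow1 5 ?_)⟩
              rw [← hw, e2]
              ring
            · by_cases e3 : (1 : F) = ζ ^ 3
              · apply hwz
                calc w = w * ζ ^ 3 := by rw [← e3, mul_one]
                  _ = (w * ζ ^ 2) * ζ := by ring
                  _ = ζ := by rw [hw, one_mul]
              · rw [if_neg e1, if_neg e2, if_neg e3] at h3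
                omega
      · rw [if_neg h1t] at h1
        omega

end caseB

section caseC

variable {F : Type*} [Field F]

/-- the eigenvalues of the second model element -/
def dC (ζ ξ : F) (k : ℕ) : Fin k ⊕ Unit → F := Sum.elim (fun _ => ζ) (fun _ => ξ)

theorem count_dC [DecidableEq F] (ζ ξ lam : F) (k : ℕ) :
    Nat.card {i : Fin k ⊕ Unit // dC ζ ξ k i = lam} =
      (if ζ = lam then k else 0) + (if ξ = lam then 1 else 0) := by
  rw [Nat.card_eq_fintype_card, Fintype.card_subtype, Finset.card_filter, Fintype.sum_sum_type]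
  have hs : (∑ a : Fin k, if dC ζ ξ k (Sum.inl a) = lam then 1 else 0) =
      ∑ _a : Fin k, if ζ = lam then 1 else 0 := rfl
  have hs' : (∑ a : Unit, if dC ζ ξ k (Sum.inr a) = lam then 1 else 0) =
      if ξ = lam then 1 else 0 := by
    rw [Fintype.sum_unique]
    rfl
  rw [hs, hs', Finset.sum_const, Finset.card_univ, Fintype.card_fin, smul_eq_mul]
  split_ifs <;> simp

/-- the element `diag(ζ, …, ζ, ξ)` has unsymmetric multiplicities -/
theorem not_pair_C [DecidableEq F] (k : ℕ) (hk : 2 ≤ k) (ζ ξ : F) (hζ0 : ζ ≠ 0) (hξ0 : ξ ≠ 0)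
    (hne : ξ ≠ ζ) (hne2 : ξ ^ 2 ≠ ζ ^ 2) :
    ¬ ∃ c : F, c ≠ 0 ∧ ∀ lam : F, lam ≠ 0 →
      Nat.card {i // dC ζ ξ k i = lam} ≤ Nat.card {j // dC ζ ξ k j = c * lam⁻¹} := by
  rintro ⟨c, hc0, hP⟩
  have h1 := hP ζ hζ0
  rw [count_dC, count_dC, if_pos rfl, if_neg hne] at h1
  by_cases e1 : ζ = c * ζ⁻¹
  · have hc : c = ζ ^ 2 := by
      have : ζ * ζ = c * ζ⁻¹ * ζ := by rw [← e1]
      rw [mul_assoc, inv_mul_cancel₀ hζ0, mul_one] at this
      rw [← this, pow_two]
    have h2 := hP ξ hξ0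
    rw [count_dC, count_dC, if_neg hne.symm, if_pos rfl] at h2
    by_cases e2 : ζ = c * ξ⁻¹
    · apply hne
      have : ζ * ξ = c := by rw [e2, mul_assoc, inv_mul_cancel₀ hξ0, mul_one]
      rw [hc, pow_two] at this
      exact mul_left_cancel₀ hζ0 this
    · by_cases e3 : ξ = c * ξ⁻¹
      · apply hne2
        have : ξ * ξ = c := by
          nth_rewrite 1 [e3]
          rw [mul_assoc, inv_mul_cancel₀ hξ0, mul_one]
        rw [← hc, ← this, pow_two]
      · rw [if_neg e2, if_neg e3] at h2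
        omega
  · rw [if_neg e1] at h1
    split_ifs at h1 <;> omega

end caseC

section existsB
universe u
variable {F : Type u} [Field F] [Fintype F] {n : ℕ}

local notation "VV" => (Fin n → F)

/-- the diagonal case with an element of order `r` -/
theorem bad_caseB (hn : 3 ≤ n) {Q : VV → F} (hQ : Cfsg.Geo.IsNondegenerateQuadraticForm Q)
    (r : ℕ) [hr : Fact r.Prime] (hr2 : r ≠ 2) (hrq : r ∣ Fintype.card F - 1)
    (h63 : ¬ (n = 6 ∧ r = 3)) (h55 : ¬ (n = 5 ∧ r = 5)) (h33 : ¬ (n = 3 ∧ r = 3)) :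
    Bad Q r := by
  classical
  have hcu : r ∣ Nat.card Fˣ := by
    rw [Nat.card_units, Nat.card_eq_fintype_card]
    exact hrq
  obtain ⟨u, hu⟩ := exists_prime_orderOf_dvd_card' r hcu
  obtain ⟨ζ, hζdef⟩ : ∃ ζ : F, ζ = (u : F) := ⟨_, rfl⟩
  have hζ : ζ ^ r = 1 := by
    rw [hζdef, ← Units.val_pow_eq_pow_val, ← hu, pow_orderOf_eq_one, Units.val_one]
  have hζ1 : ζ ≠ 1 := by
    rw [hζdef]
    intro h
    have h1 : u = 1 := Units.ext h
    rw [h1, orderOf_one] at hu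
    exact hr.out.one_lt.ne' hu.symm
  have hζ0 : ζ ≠ 0 := by
    rw [hζdef]
    exact u.ne_zero
  obtain ⟨k, hk⟩ : ∃ k, 3 + k = n := ⟨n - 3, by omega⟩
  have hdr : ∀ j, dB ζ k j ^ r = 1 := by
    intro j
    rcases j with i | i
    · fin_cases i
      · exact hζ
      · exact hζ
      · show ((ζ⁻¹) ^ 2) ^ r = 1
        rw [← pow_mul, mul_comm, pow_mul, inv_pow, hζ, inv_one, one_pow]
    · show (1 : F) ^ r = 1
      exact one_pow r
  have hdet : ∏ i, dB ζ k i = 1 := by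
    rw [Fintype.prod_sum_type, Fin.prod_univ_three]
    show ζ * ζ * (ζ⁻¹) ^ 2 * ∏ _a : Fin k, (1 : F) = 1
    rw [Finset.prod_const_one, mul_one, inv_pow, ← pow_two, mul_inv_cancel₀ (pow_ne_zero 2 hζ0)]
  refine bad_of_diag hQ (finSumFinEquiv.trans (finCongr hk)) (dB ζ k) r 1 hdet hdr ?_
    (not_pair_B k ζ r hr.out hr2 hζ hζ1 (fun h => h63 ⟨by omega, h.2⟩)
      (fun h => h55 ⟨by omega, h.2⟩) (fun h => h33 ⟨by omega, h.2⟩))
  by_cases hk0 : k = 0
  · refine ⟨Sum.inl 0, Sum.inl 2, ?_⟩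
    show ζ ≠ (ζ⁻¹) ^ 2
    intro h
    have h3 : ζ ^ 3 = 1 := by
      calc ζ ^ 3 = ζ ^ 2 * ζ := by ring
        _ = ζ ^ 2 * (ζ⁻¹) ^ 2 := by rw [← h]
        _ = 1 := by rw [inv_pow, mul_inv_cancel₀ (pow_ne_zero 2 hζ0)]
    have h4 : orderOf ζ ∣ 3 := orderOf_dvd_of_pow_eq_one h3
    have h5 : orderOf ζ = r := orderOf_eq_prime hζ hζ1
    rw [h5] at h4
    exact h33 ⟨by omega, (Nat.prime_dvd_prime_iff_eq hr.out Nat.prime_three).mp h4⟩
  · exact ⟨Sum.inl 0, Sum.inr ⟨0, by omega⟩, hζ1⟩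

/-- the diagonal case with an element of order `r²`, `n = r` -/
theorem bad_caseB' (hn : 3 ≤ n) {Q : VV → F} (hQ : Cfsg.Geo.IsNondegenerateQuadraticForm Q)
    (r : ℕ) [hr : Fact r.Prime] (hr2 : r ≠ 2) (hnr : n = r)
    (hrq : r ^ 2 ∣ Fintype.card F - 1) : Bad Q r := by
  classical
  obtain ⟨g, hg, -⟩ := exists_gen (F := F)
  have hq1 : Fintype.card F - 1 ≠ 0 := by
    have := Fintype.one_lt_card (α := F)
    omega
  obtain ⟨t, ht⟩ := hrq
  have ht0 : t ≠ 0 := by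
    rintro rfl
    rw [mul_zero] at ht
    exact hq1 ht
  have hu : orderOf (g ^ t) = r ^ 2 := by
    rw [orderOf_pow_of_dvd ht0 (by rw [hg, ht]; exact Dvd.intro_left _ rfl), hg, ht,
      Nat.mul_div_cancel _ (Nat.pos_of_ne_zero ht0)]
  obtain ⟨u, hudef⟩ : ∃ u : Fˣ, u = g ^ t := ⟨_, rfl⟩
  rw [← hudef] at hu
  obtain ⟨ζ, hζdef⟩ : ∃ ζ : F, ζ = (u : F) := ⟨_, rfl⟩
  have hζ0 : ζ ≠ 0 := by
    rw [hζdef]
    exact u.ne_zero
  have hpow1 : ∀ m : ℕ, ζ ^ m = 1 → r ^ 2 ∣ m := by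
    intro m hm
    rw [← hu]
    apply orderOf_dvd_of_pow_eq_one
    apply Units.ext
    rw [Units.val_pow_eq_pow_val, ← hζdef, hm, Units.val_one]
  have hζr2 : ζ ^ (r ^ 2) = 1 := by
    rw [hζdef, ← Units.val_pow_eq_pow_val, ← hu, pow_orderOf_eq_one, Units.val_one]
  have hrpos : 0 < r := hr.out.pos
  have hnot : ∀ m : ℕ, m = r ∨ m = 2 * r → ¬ r ^ 2 ∣ m := by
    intro m hm hd
    have h1 : r * r ∣ m := by rwa [pow_two] at hd
    rcases hm with rfl | rfl
    · have := Nat.le_of_dvd hrpos h1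
      have h2 := hr.out.two_le
      nlinarith
    · have h3 : r * r ∣ r * 2 := by rwa [mul_comm 2 r] at h1
      have h4 : r ∣ 2 := Nat.dvd_of_mul_dvd_mul_left hrpos h3
      exact hr2 ((Nat.prime_dvd_prime_iff_eq hr.out Nat.prime_two).mp h4)
  obtain ⟨k, hk⟩ : ∃ k, k + 1 = n := ⟨n - 1, by omega⟩
  obtain ⟨ξ, hξdef⟩ : ∃ ξ : F, ξ = (ζ⁻¹) ^ k := ⟨_, rfl⟩
  have hξ : ξ * ζ ^ k = 1 := by
    rw [hξdef, inv_pow, inv_mul_cancel₀ (pow_ne_zero k hζ0)]
  have hξ0 : ξ ≠ 0 := by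
    rintro rfl
    rw [zero_mul] at hξ
    exact zero_ne_one hξ
  have hne : ξ ≠ ζ := by
    intro h
    apply hnot r (Or.inl rfl)
    apply hpow1
    rw [← hξ, h, ← hnr, ← hk]
    ring
  have hne2 : ξ ^ 2 ≠ ζ ^ 2 := by
    intro h
    apply hnot (2 * r) (Or.inr rfl)
    apply hpow1
    have h1 : ζ ^ (2 * r) = ζ ^ 2 * (ζ ^ k) ^ 2 := by
      rw [← hnr, ← hk]
      ring
    rw [h1, ← h, ← mul_pow, hξ, one_pow]
  have hdet : ∏ i, dC ζ ξ k i = 1 := by
    rw [Fintype.prod_sum_type]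
    have h1 : ∏ a : Unit, dC ζ ξ k (Sum.inr a) = ξ := by
      rw [Fintype.prod_unique]
      rfl
    rw [h1]
    show (∏ _a : Fin k, ζ) * ξ = 1
    rw [Finset.prod_const, Finset.card_univ, Fintype.card_fin, mul_comm, hξ]
  have hdr : ∀ j, dC ζ ξ k j ^ r = ζ ^ r := by
    intro j
    rcases j with i | i
    · rfl
    · show ξ ^ r = ζ ^ r
      have h1 : ξ ^ r * ζ ^ (r ^ 2) = ζ ^ r := by
        have h2 : ζ ^ (r ^ 2) = (ζ ^ k) ^ r * ζ ^ r := by
          rw [← pow_mul, ← pow_add]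
          congr 1
          rw [pow_two]
          nth_rewrite 1 [← hnr]
          rw [← hk]
          ring
        rw [h2, ← mul_assoc, ← mul_pow, hξ, one_pow, one_mul]
      rw [hζr2, mul_one] at h1
      exact h1
  refine bad_of_diag hQ ((Equiv.sumCongr (Equiv.refl (Fin k)) finOneEquiv.symm).trans
      (finSumFinEquiv.trans (finCongr hk))) (dC ζ ξ k) r (ζ ^ r) hdet hdr ?_
    (not_pair_C k (by omega) ζ ξ hζ0 hξ0 hne hne2)
  exact ⟨Sum.inl ⟨0, by omega⟩, Sum.inr (), hne.symm⟩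

end existsB

end Cfsg.Agent.Lib.Helper29.LO
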