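import Mathlib
import Cfsg.Agent.Lib.Helper29.LO3
import Cfsg.Agent.Lib.Helper15.PSp5

/-!
# Orthogonal-type subgroups of `SL_n(q)`, `q` odd: derangements of odd prime order `r` with
`r ≠ p` and `r ∤ q - 1`, the case of odd multiplicative order
-/

set_option autoImplicit false

namespace Cfsg.Agent.Lib.Helper29.LO

open Module Matrix QuadraticMap Cfsg.Agent.Lib.Helper13 Cfsg.Agent.Lib.Helper15.PSub
  Cfsg.Agent.Lib.Helper15.PSp Cfsg.Agent.Lib.Helper15.PDec Cfsg.Agent.Lib.Helper15

section cayley

variable {F V : Type*} [Field F] [AddCommGroup V] [Module F V] [FiniteDimensional F V]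

/-- the fixed space of an isometry of odd order of a nondegenerate symmetric form has even
codimension -/
theorem even_codim_fixed (B : V →ₗ[F] V →ₗ[F] F) (hsymm : ∀ u v, B u v = B v u)
    (hnd : ∀ x, (∀ y, B x y = 0) → x = 0) (h2 : (2 : F) ≠ 0) (G : V →ₗ[F] V)
    (hiso : ∀ u v, B (G u) (G v) = B u v) (r : ℕ) (hr : Odd r) (hG : G ^ r = 1) :
    Even (finrank F V - finrank F (Module.End.eigenspace G 1)) := by
  obtain ⟨N, hN⟩ : ∃ N : V →ₗ[F] V, N = G - 1 := ⟨_, rfl⟩
  obtain ⟨P, hP⟩ : ∃ P : V →ₗ[F] V, P = G + 1 := ⟨_, rfl⟩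
  have hNapp : ∀ u, N u = G u - u := fun u => by
    rw [hN, LinearMap.sub_apply, Module.End.one_apply]
  have hPapp : ∀ u, P u = G u + u := fun u => by
    rw [hP, LinearMap.add_apply, Module.End.one_apply]
  obtain ⟨A, hA⟩ : ∃ A : V →ₗ[F] V →ₗ[F] F, A = B.compl₁₂ N P := ⟨_, rfl⟩
  have hAapp : ∀ u v, A u v = B (N u) (P v) := fun u v => by rw [hA]; rfl
  have halt : ∀ u, A u u = 0 := by
    intro u
    rw [hAapp, hNapp, hPapp]
    simp only [map_add, map_sub, LinearMap.add_apply, LinearMap.sub_apply]
    rw [hiso, hsymm u (G u)]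
    ring
  -- `P` is surjective
  have hPinj : Function.Injective P := by
    rw [← LinearMap.ker_eq_bot, LinearMap.ker_eq_bot']
    intro v hv
    rw [hPapp] at hv
    have hGv : G v = -v := eq_neg_of_add_eq_zero_left hv
    have hpow : ∀ i : ℕ, (G ^ i) v = (-1 : F) ^ i • v := by
      intro i
      induction i with
      | zero => simp
      | succ i ih =>
        rw [pow_succ, Module.End.mul_apply, hGv, map_neg, ih, pow_succ]
        simp
    have h1 := hpow r
    rw [hG, Module.End.one_apply, hr.neg_one_pow, neg_smul, one_smul] at h1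
    have h3 : (2 : F) • v = 0 := by
      rw [two_smul]
      nth_rewrite 1 [h1]
      exact neg_add_cancel v
    exact (smul_eq_zero.mp h3).resolve_left h2
  have hPsurj : Function.Surjective P := LinearMap.injective_iff_surjective.mp hPinj
  obtain ⟨W, hW⟩ := Submodule.exists_isCompl (Module.End.eigenspace G 1)
  have hNK : ∀ k ∈ Module.End.eigenspace G 1, N k = 0 := by
    intro k hk
    rw [Module.End.mem_eigenspace_iff, one_smul] at hk
    rw [hNapp, hk, sub_self]
  have heven : Even (finrank F W) := by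
    apply even_of_nondeg_on A halt
    intro u hu hu0
    have hall : ∀ y, A u y = 0 := by
      intro y
      obtain ⟨k, hk, w, hw, rfl⟩ : ∃ k ∈ Module.End.eigenspace G 1, ∃ w ∈ W, k + w = y := by
        have : y ∈ Module.End.eigenspace G 1 ⊔ W := by rw [hW.sup_eq_top]; exact Submodule.mem_top
        exact Submodule.mem_sup.mp this
      rw [map_add, hu0 w hw, add_zero, alt_swap A halt, hAapp, hNK k hk, map_zero,
        LinearMap.zero_apply, neg_zero]
    have hNu : N u = 0 := by
      apply hnd
      intro y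
      obtain ⟨y', rfl⟩ := hPsurj y
      rw [← hAapp]
      exact hall y'
    have hmem : u ∈ Module.End.eigenspace G 1 := by
      rw [Module.End.mem_eigenspace_iff, one_smul]
      rw [hNapp] at hNu
      exact sub_eq_zero.mp hNu
    have : u ∈ Module.End.eigenspace G 1 ⊓ W := ⟨hmem, hu⟩
    rw [hW.inf_eq_bot] at this
    exact (Submodule.mem_bot F).mp this
  have hdim := Submodule.finrank_add_eq_of_isCompl hW
  have : finrank F V - finrank F (Module.End.eigenspace G 1) = finrank F W := by omega
  rw [this]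
  exact heven

end cayley

section caseCodd
universe u
variable {F : Type u} [Field F] [Fintype F] {n : ℕ}

local notation "VV" => (Fin n → F)
local notation "MM" => Matrix (Fin n) (Fin n) F
local notation "GG" => GL (Fin n) F

/-- an element of order `r` (with `r ∤ q - 1`, `r ≠ p`) whose fixed space has odd codimension
gives a derangement -/
theorem bad_of_odd_codim (hn : 0 < n) {Q : VV → F} (hQ : Cfsg.Geo.IsNondegenerateQuadraticForm Q)
    (h2 : (2 : F) ≠ 0) (r : ℕ) (hr : r.Prime) (hr2 : r ≠ 2)
    (hrq : ¬ r ∣ Fintype.card F - 1) (y : VV →ₗ[F] VV) (hdet : LinearMap.det y = 1)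
    (hyr : y ^ r = 1) (hns : ∀ z : F, y ≠ z • (1 : VV →ₗ[F] VV))
    (hodd : Odd (n - finrank F (Module.End.eigenspace y 1))) : Bad Q r := by
  classical
  have hdetM : (LinearMap.toMatrix' y).det = 1 := by rw [LinearMap.det_toMatrix']; exact hdet
  have hXy : Matrix.toLin' ((mkGL (LinearMap.toMatrix' y) hdetM : GG) : MM) = y := by
    rw [mkGL_coe, Matrix.toLin'_toMatrix']
  refine ⟨mkGL (LinearMap.toMatrix' y) hdetM, mkGL_mem _ _, ⟨1, ?_⟩, ?_, ?_⟩
  · rw [one_smul, Units.val_pow_eq_pow_val, mkGL_coe]
    apply Matrix.toLin'.injective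
    rw [Matrix.toLin'_pow, Matrix.toLin'_toMatrix', hyr, Matrix.toLin'_one]
    rfl
  · intro z hz
    rw [mkGL_coe] at hz
    apply hns z
    rw [← Matrix.toLin'_toMatrix' y, hz, toLin'_smul_one]
  · intro g hg
    obtain ⟨E, G, c, hc0, hGapp, -, hcG, hGpow⟩ := conj_end hQ _ g hg
    rw [hXy] at hGapp hGpow
    have hGr : G ^ r = 1 := by
      apply LinearMap.ext
      intro v
      rw [hGpow, hyr, Module.End.one_apply, LinearEquiv.symm_apply_apply, Module.End.one_apply]
    have hcr : c ^ r = 1 := multiplier_pow (polB hQ) (polB_exists_ne_zero hn hQ) G c hcG r hGr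
    have hc1 : c = 1 := eq_one_of_pow_eq_one r hr hrq c hcr
    have hiso : ∀ u v, polB hQ (G u) (G v) = polB hQ u v := by
      intro u v
      rw [hcG, hc1, one_mul]
    have hrodd : Odd r := hr.odd_of_ne_two hr2
    have heven := even_codim_fixed (polB hQ) (polB_symm hQ) (polB_nondeg hQ) h2 G hiso r hrodd hGr
    have hmap : (Module.End.eigenspace y 1).map (E.symm : VV →ₗ[F] VV) =
        Module.End.eigenspace G 1 := by
      ext v
      rw [Submodule.mem_map, Module.End.mem_eigenspace_iff, one_smul, hGapp]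
      constructor
      · rintro ⟨w, hw, rfl⟩
        rw [Module.End.mem_eigenspace_iff, one_smul] at hw
        show E.symm (y (E (E.symm w))) = E.symm w
        rw [LinearEquiv.apply_symm_apply, hw]
      · intro hv
        refine ⟨E v, ?_, E.symm_apply_apply v⟩
        rw [Module.End.mem_eigenspace_iff, one_smul]
        have := congrArg E hv
        rw [LinearEquiv.apply_symm_apply] at this
        exact this
    have hdim : finrank F (Module.End.eigenspace G 1) = finrank F (Module.End.eigenspace y 1) := by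
      rw [← hmap]
      exact LinearEquiv.finrank_map_eq E.symm _
    rw [hdim, Module.finrank_fin_fun] at heven
    exact (Nat.not_even_iff_odd.mpr hodd) heven

/-- the case of odd multiplicative order -/
theorem bad_caseC_odd (p : ℕ) [Fact p.Prime] [CharP F p] (hn : 0 < n) {Q : VV → F}
    (hQ : Cfsg.Geo.IsNondegenerateQuadraticForm Q) (h2 : (2 : F) ≠ 0) (r : ℕ) [hr : Fact r.Prime]
    (hr2 : r ≠ 2) (hrp : r ≠ p) (hrq : ¬ r ∣ Fintype.card F - 1)
    (hodd : Odd (orderOf ((Fintype.card F : ℕ) : ZMod r)))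
    (hle : orderOf ((Fintype.card F : ℕ) : ZMod r) ≤ n) : Bad Q r := by
  obtain ⟨y, hdet, hyr, hns, hfix⟩ := exists_bad p r hrp hrq n 1 le_rfl (by rw [one_mul]; exact hle)
  rw [one_mul] at hfix
  apply bad_of_odd_codim hn hQ h2 r hr.out hr2 hrq y hdet hyr hns
  rw [hfix]
  have : n - (n - orderOf ((Fintype.card F : ℕ) : ZMod r)) =
      orderOf ((Fintype.card F : ℕ) : ZMod r) := by omega
  rw [this]
  exact hodd

end caseCodd

end Cfsg.Agent.Lib.Helper29.LO
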