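import Mathlib
import Cfsg.Agent.Lib.Helper15.PSpM5
import Cfsg.Agent.Lib.Helper29.LO4

/-!
# Symmetric forms which are traces of forms over an extension field; the codimension criterion
-/

set_option autoImplicit false
set_option linter.unusedSectionVars false

namespace Cfsg.Agent.Lib.Helper29.OF

open Module Matrix Cfsg.Agent.Lib.Helper15.PSpM

section formL

variable {F L V : Type*} [Field F] [Field L] [Algebra F L]
  [AddCommGroup V] [Module F V] [Module L V] [IsScalarTower F L V]

/-- the symmetric form over the extension field -/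
theorem exists_formL_symm [FiniteDimensional F L] (B : V →ₗ[F] V →ₗ[F] F)
    (hsa : ∀ (a : L) (u v : V), B (a • u) v = B u (a • v))
    (hsymm : ∀ u v, B u v = B v u)
    (hnd : ∀ u, (∀ v, B u v = 0) → u = 0)
    (φ : L →ₗ[F] F) (hφ : φ ≠ 0) :
    ∃ BL : V →ₗ[L] V →ₗ[L] L, (∀ a u v, φ (BL u v * a) = B (a • u) v) ∧
      (∀ u v, BL u v = BL v u) ∧ (∀ u, (∀ v, BL u v = 0) → u = 0) := by
  classical
  choose g hg using fun (uv : V × V) => exists_rep φ hφ (psiFun B uv.1 uv.2)
  have hspec : ∀ u v a, φ (g (u, v) * a) = B (a • u) v := fun u v a => by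
    rw [hg (u, v) a, psiFun_apply]
  refine ⟨LinearMap.mk₂ L (fun u v => g (u, v)) ?_ ?_ ?_ ?_, ?_, ?_, ?_⟩
  · intro u u' v
    apply eq_of_forall φ hφ
    intro a
    rw [add_mul, map_add, hspec, hspec, hspec, smul_add, map_add, LinearMap.add_apply]
  · intro c u v
    apply eq_of_forall φ hφ
    intro a
    rw [hspec, smul_eq_mul, mul_comm c, mul_assoc, hspec, mul_smul, smul_comm]
  · intro u v v'
    apply eq_of_forall φ hφ
    intro a
    rw [add_mul, map_add, hspec, hspec, hspec, map_add]
  · intro c u v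
    apply eq_of_forall φ hφ
    intro a
    rw [hspec, smul_eq_mul, mul_comm c, mul_assoc, hspec, mul_smul, hsa c (a • u) v]
  · intro a u v
    rw [LinearMap.mk₂_apply, hspec]
  · intro u v
    rw [LinearMap.mk₂_apply, LinearMap.mk₂_apply]
    apply eq_of_forall φ hφ
    intro a
    rw [hspec, hspec, hsa, hsymm]
  · intro u hu
    apply hnd
    intro v
    have := hspec u v 1
    rw [one_smul] at this
    rw [← this]
    have h2 := hu v
    rw [LinearMap.mk₂_apply] at h2
    rw [h2, zero_mul, map_zero]

end formL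

section crit

variable {F L : Type*} [Field F] [Field L] [Algebra F L] [FiniteDimensional F L]
  {ι : Type} [Fintype ι] [DecidableEq ι]

local notation "VV" => (ι → F)
local notation "MM" => Matrix ι ι F

/-- an isometry of odd order centralising the field: the codimension of its fixed space is
divisible by `2 [L : F]` -/
theorem dvd_codim_of_centralises (ρ : L →ₐ[F] MM) (B : VV →ₗ[F] VV →ₗ[F] F)
    (hsa : ∀ (a : L) (u v : VV), B (ρ a *ᵥ u) v = B u (ρ a *ᵥ v))
    (hsymm : ∀ u v, B u v = B v u) (hnd : ∀ u, (∀ v, B u v = 0) → u = 0) (h2 : (2 : F) ≠ 0)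
    (y : GL ι F) (hcomm : ∀ a, (y : MM) * ρ a = ρ a * (y : MM))
    (hiso : ∀ u v, B ((y : MM) *ᵥ u) ((y : MM) *ᵥ v) = B u v) (r : ℕ) (hr : Odd r)
    (hyr : y ^ r = 1) :
    2 * finrank F L ∣
      Fintype.card ι - finrank F (Module.End.eigenspace (Matrix.toLin' (y : MM)) 1) := by
  classical
  let _ := modOf ρ
  have htower : IsScalarTower F L VV := modOf_tower ρ
  have hsm : ∀ (a : L) (v : VV), a • v = ρ a *ᵥ v := fun a v => rfl
  have hfdV : FiniteDimensional L VV := Module.Finite.of_restrictScalars_finite F L VV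
  obtain ⟨φ, hφ⟩ := exists_functional (F := F) (L := L)
  obtain ⟨BL, hspec, hsymmL, hndL⟩ := exists_formL_symm B (fun a u v => by
    rw [hsm, hsm, hsa]) hsymm hnd φ hφ
  -- the `L`-linear map
  let G : VV →ₗ[L] VV :=
    { toFun := fun v => (y : MM) *ᵥ v
      map_add' := fun u v => Matrix.mulVec_add _ _ _
      map_smul' := fun a v => by
        rw [RingHom.id_apply, hsm, hsm, Matrix.mulVec_mulVec, Matrix.mulVec_mulVec, hcomm] }
  have hG : ∀ v, G v = (y : MM) *ᵥ v := fun v => rfl
  have hisoL : ∀ u v, BL (G u) (G v) = BL u v := by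
    intro u v
    apply eq_of_forall φ hφ
    intro a
    rw [hspec, hspec, ← map_smul, hG, hG, hiso]
  have hGr : G ^ r = 1 := by
    apply LinearMap.ext
    intro v
    have hpow : ∀ k : ℕ, (G ^ k) v = ((y ^ k : GL ι F) : MM) *ᵥ v := by
      intro k
      induction k generalizing v with
      | zero => simp
      | succ k ih =>
        rw [pow_succ, Module.End.mul_apply, ih, hG, pow_succ, Units.val_mul,
          Matrix.mulVec_mulVec]
    rw [hpow, hyr, Units.val_one, Matrix.one_mulVec, Module.End.one_apply]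
  have h2L : (2 : L) ≠ 0 := by
    intro h
    apply h2
    apply (algebraMap F L).injective
    rw [map_ofNat, map_zero]
    exact h
  have hev := Cfsg.Agent.Lib.Helper29.LO.even_codim_fixed BL hsymmL hndL h2L G hisoL r hr hGr
  -- compare the dimensions
  have hstable : ∀ (a : L) (w : VV),
      w ∈ Module.End.eigenspace (Matrix.toLin' (y : MM)) 1 →
        a • w ∈ Module.End.eigenspace (Matrix.toLin' (y : MM)) 1 := by
    intro a w hw
    rw [Module.End.mem_eigenspace_iff, one_smul, Matrix.toLin'_apply] at hw ⊢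
    rw [← hG, map_smul, hG, hw]
  have hlift : liftSub (Module.End.eigenspace (Matrix.toLin' (y : MM)) 1) hstable =
      Module.End.eigenspace G 1 := by
    ext v
    rw [mem_liftSub, Module.End.mem_eigenspace_iff, Module.End.mem_eigenspace_iff, one_smul,
      one_smul, Matrix.toLin'_apply, hG]
  have h1 := finrank_liftSub (L := L) (Module.End.eigenspace (Matrix.toLin' (y : MM)) 1) hstable
  rw [hlift] at h1
  have h3 := Module.finrank_mul_finrank F L VV
  rw [Module.finrank_fintype_fun_eq_card] at h3
  obtain ⟨k, hk⟩ := hev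
  rw [h1, ← h3, ← Nat.mul_sub, hk]
  exact ⟨k, by ring⟩

end crit

end Cfsg.Agent.Lib.Helper29.OF
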