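import Mathlib
import Cfsg.Agent.Lib.Helper6.Lagrangian

/-!
# Normalised orthogonal bases of symmetric bilinear forms over finite fields of odd order
-/

set_option autoImplicit false
set_option linter.unusedSectionVars false

namespace Cfsg.Agent.Lib.Helper29.OF

open Module Matrix LinearMap.BilinForm Cfsg.Agent.Lib.Helper6

section squares

variable {L : Type*} [Field L] [Fintype L]

/-- the quotient of two non-squares is a square -/
theorem isSquare_div_of_not (h2 : (2 : L) ≠ 0) (c ζ : L) (hc0 : c ≠ 0) (hc : ¬ IsSquare c)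
    (hζ : ¬ IsSquare ζ) : IsSquare (c / ζ) := by
  have hζ0 : ζ ≠ 0 := by
    rintro rfl
    exact hζ ⟨0, by simp⟩
  have hchar : ringChar L ≠ 2 := by
    intro h
    apply h2
    have := ringChar.Nat.cast_ringChar (R := L)
    rw [h] at this
    exact_mod_cast this
  have h1 := FiniteField.pow_dichotomy hchar hc0
  have h3 := FiniteField.pow_dichotomy hchar hζ0
  rw [FiniteField.isSquare_iff hchar hc0] at hc
  rw [FiniteField.isSquare_iff hchar hζ0] at hζ
  rw [FiniteField.isSquare_iff hchar (div_ne_zero hc0 hζ0), div_pow,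
    h1.resolve_left hc, h3.resolve_left hζ]
  field_simp

end squares

section normal

universe u
variable {L : Type*} [Field L] [Fintype L]

/-- a nondegenerate symmetric bilinear form over a finite field of odd order has an orthogonal
basis on which the form takes the value `1`, except for one vector where it takes the value
`1` or a fixed non-square -/
theorem exists_normal_basis_aux (h2 : (2 : L) ≠ 0) (ζ : L) (hζ : ¬ IsSquare ζ) :
    ∀ (m : ℕ) (V : Type u) [AddCommGroup V] [Module L V] [FiniteDimensional L V]
      (β : LinearMap.BilinForm L V), β.IsSymm → β.Nondegenerate → finrank L V = m + 1 →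
      ∃ (κ : Type) (_ : Fintype κ) (v : Basis (κ ⊕ Unit) L V),
        (∀ i j, i ≠ j → β (v i) (v j) = 0) ∧ (∀ j, β (v (Sum.inl j)) (v (Sum.inl j)) = 1) ∧
        (β (v (Sum.inr ())) (v (Sum.inr ())) = 1 ∨ β (v (Sum.inr ())) (v (Sum.inr ())) = ζ) := by
  intro m
  induction m with
  | zero =>
    intro V _ _ _ β hS hB hV
    haveI : Nontrivial V := Module.nontrivial_of_finrank_pos (R := L) (by omega)
    obtain ⟨v₀, hv₀⟩ := exists_ne (0 : V)
    have hspan : ∀ w : V, ∃ a : L, w = a • v₀ := by
      intro w
      have h1 : finrank L (L ∙ v₀) = finrank L V := by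
        rw [finrank_span_singleton hv₀, hV]
      have h3 : (L ∙ v₀) = ⊤ := Submodule.eq_top_of_finrank_eq h1
      have h4 : w ∈ (L ∙ v₀) := by rw [h3]; exact Submodule.mem_top
      obtain ⟨a, ha⟩ := Submodule.mem_span_singleton.mp h4
      exact ⟨a, ha.symm⟩
    have hc0 : β v₀ v₀ ≠ 0 := by
      intro h
      apply hv₀
      apply hB.1
      intro w
      obtain ⟨a, rfl⟩ := hspan w
      rw [map_smul, h, smul_zero]
    obtain ⟨k, hk0, hk⟩ : ∃ k : L, k ≠ 0 ∧ (β v₀ v₀ = k * k ∨ β v₀ v₀ = ζ * (k * k)) := by
      by_cases hsq : IsSquare (β v₀ v₀)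
      · obtain ⟨k, hk⟩ := hsq
        refine ⟨k, ?_, Or.inl hk⟩
        rintro rfl
        apply hc0
        rw [hk, mul_zero]
      · obtain ⟨k, hk⟩ := isSquare_div_of_not h2 _ ζ hc0 hsq hζ
        have hζ0 : ζ ≠ 0 := by
          rintro rfl
          exact hζ ⟨0, by simp⟩
        refine ⟨k, ?_, Or.inr ?_⟩
        · rintro rfl
          rw [mul_zero] at hk
          exact hc0 ((div_eq_zero_iff.mp hk).resolve_right hζ0)
        · rw [← hk]
          field_simp
    obtain ⟨u, hu⟩ : ∃ u : V, u = k⁻¹ • v₀ := ⟨_, rfl⟩
    have hu0 : u ≠ 0 := by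
      rw [hu]
      exact smul_ne_zero (inv_ne_zero hk0) hv₀
    have huu : β u u = 1 ∨ β u u = ζ := by
      have hcalc : β u u = k⁻¹ * (k⁻¹ * β v₀ v₀) := by
        rw [hu]
        simp only [map_smul, LinearMap.smul_apply, smul_eq_mul]
      rw [hcalc]
      rcases hk with hk | hk
      · left
        rw [hk]
        field_simp
      · right
        rw [hk]
        field_simp
    let b₀ : Basis Unit L V := Module.basisUnique Unit hV
    let b₁ : Basis Unit L V := b₀.unitsSMul (fun _ => Units.mk0 ((b₀.repr u) ()) (by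
      intro h
      apply hu0
      have h5 := b₀.sum_repr u
      rw [← h5]
      simp [h]))
    have hb₁ : b₁ () = u := by
      have h5 := b₀.sum_repr u
      simp only [Finset.univ_unique, Finset.sum_singleton] at h5
      show (b₀.unitsSMul _) () = u
      rw [Basis.unitsSMul_apply]
      exact h5
    refine ⟨Empty, inferInstance, b₁.reindex (Equiv.emptySum Empty Unit).symm, ?_, ?_, ?_⟩
    · intro i j hij
      rcases i with i | i
      · exact i.elim
      · rcases j with j | j
        · exact j.elim
        · exact absurd rfl hij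
    · intro j
      exact j.elim
    · simp only [Basis.reindex_apply, Equiv.symm_symm, Equiv.emptySum_apply_inr]
      rw [hb₁]
      exact huu
  | succ m ih =>
    intro V _ _ _ β hS hB hV
    obtain ⟨u, hu⟩ := Cfsg.Agent.S0756.exists_norm_one h2 β hS hB (by omega)
    have hu0 : u ≠ 0 := by
      rintro rfl
      simp at hu
    have huu : β u u ≠ 0 := by rw [hu]; exact one_ne_zero
    obtain ⟨W, hW⟩ : ∃ W : Submodule L V, W = β.orthogonal (L ∙ u) := ⟨_, rfl⟩
    have hWnd : (β.restrict W).Nondegenerate := by
      rw [hW]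
      exact restrict_nondegenerate_orthogonal_spanSingleton β hB hS.isRefl huu
    have hWdim : finrank L W = m + 1 := by
      rw [hW, finrank_orthogonal hB, finrank_span_singleton hu0, hV]
      omega
    have hWS : (β.restrict W).IsSymm := ⟨fun x y => hS.eq x y⟩
    obtain ⟨κ, hκ, w, hw1, hw2, hw3⟩ := ih W (β.restrict W) hWS hWnd hWdim
    have hcompl : IsCompl (L ∙ u) W := by
      rw [hW]
      exact isCompl_span_singleton_orthogonal huu
    let bP : Basis Unit L (L ∙ u) :=
      (Basis.singleton Unit L).map (LinearEquiv.toSpanNonzeroSingleton L V u hu0)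
    have hbP : (bP () : V) = u := by
      show ((LinearEquiv.toSpanNonzeroSingleton L V u hu0) ((Basis.singleton Unit L) ()) : V) = u
      rw [Basis.singleton_apply, LinearEquiv.toSpanNonzeroSingleton_one]
    let b := (complBasis hcompl bP w).reindex (Equiv.sumAssoc Unit κ Unit).symm
    have hperp' : ∀ y : V, y ∈ W → β u y = 0 := by
      intro y hy
      rw [hW] at hy
      exact hy u (Submodule.mem_span_singleton_self u)
    have hperp : ∀ x : W, β u x = 0 := fun x => hperp' x.1 x.2
    have hb_ll : b (Sum.inl (Sum.inl ())) = u := by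
      simp only [b, Basis.reindex_apply, Equiv.symm_symm, Equiv.sumAssoc_apply_inl_inl,
        complBasis_inl]
      exact hbP
    have hb_lr : ∀ j, b (Sum.inl (Sum.inr j)) = (w (Sum.inl j) : V) := by
      intro j
      simp only [b, Basis.reindex_apply, Equiv.symm_symm, Equiv.sumAssoc_apply_inl_inr,
        complBasis_inr]
    have hb_r : b (Sum.inr ()) = (w (Sum.inr ()) : V) := by
      simp only [b, Basis.reindex_apply, Equiv.symm_symm, Equiv.sumAssoc_apply_inr,
        complBasis_inr]
    have hw1' : ∀ i j, i ≠ j → β (w i : V) (w j : V) = 0 := fun i j hij => hw1 i j hij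
    refine ⟨Unit ⊕ κ, inferInstance, b, ?_, ?_, ?_⟩
    · intro i j hij
      rcases i with (⟨⟩ | i) | ⟨⟩ <;> rcases j with (⟨⟩ | j) | ⟨⟩
      · exact absurd rfl hij
      · rw [hb_ll, hb_lr]; exact hperp _
      · rw [hb_ll, hb_r]; exact hperp _
      · rw [hb_ll, hb_lr, ← hS.eq]; exact hperp _
      · rw [hb_lr, hb_lr]
        apply hw1'
        intro h
        apply hij
        rw [Sum.inl.inj h]
      · rw [hb_lr, hb_r]
        exact hw1' _ _ (by simp)
      · rw [hb_ll, hb_r, ← hS.eq]; exact hperp _
      · rw [hb_lr, hb_r]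
        exact hw1' _ _ (by simp)
      · exact absurd rfl hij
    · intro j
      rcases j with ⟨⟩ | j
      · rw [hb_ll]; exact hu
      · rw [hb_lr]; exact hw2 j
    · rw [hb_r]
      exact hw3

end normal

end Cfsg.Agent.Lib.Helper29.OF
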