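import Mathlib
import Cfsg.Agent.Lib.Helper29.OF1
import Cfsg.Agent.Lib.Helper29.OF5

/-!
# Frames adapted to a quadratic field of self-adjoint maps
-/

set_option autoImplicit false
set_option linter.unusedSectionVars false

namespace Cfsg.Agent.Lib.Helper29.OF

open Module Matrix Cfsg.Agent.Lib.Helper15.PSpM

section frame

variable {F L : Type*} [Field F] [Fintype F] [Field L] [Algebra F L] [FiniteDimensional F L]
  {ι : Type} [Fintype ι] [DecidableEq ι]

local notation "VV" => (ι → F)
local notation "MM" => Matrix ι ι F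

/-- the values of the form on a normalised frame -/
def cc {m : ℕ} (c : L) : Fin m ⊕ Unit → L := Sum.elim (fun _ => 1) (fun _ => c)

/-- a frame adapted to the field: an `F`-basis `pb i • v j` on which the form is block diagonal
with prescribed blocks -/
theorem exists_frame (ρ : L →ₐ[F] MM) (B : VV →ₗ[F] VV →ₗ[F] F)
    (hsa : ∀ (a : L) (u v : VV), B (ρ a *ᵥ u) v = B u (ρ a *ᵥ v))
    (hsymm : ∀ u v, B u v = B v u) (hnd : ∀ u, (∀ v, B u v = 0) → u = 0) (h2 : (2 : F) ≠ 0)
    (pb : Basis (Fin 2) F L) (hpb0 : pb 0 = 1) (ζ : L) (hζ : ¬ IsSquare ζ) (m : ℕ)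
    (hcard : Fintype.card ι = 2 * (m + 1)) :
    ∃ (bF : Basis (Fin 2 × (Fin m ⊕ Unit)) F VV) (c : L), (c = 1 ∨ c = ζ) ∧
      (∀ i j, bF (i, j) = ρ (pb i) *ᵥ bF (0, j)) ∧
      (∀ i j i' j', B (bF (i, j)) (bF (i', j')) =
        if j = j' then pb.coord 0 (cc c j * (pb i' * pb i)) else 0) := by
  classical
  let _ := modOf ρ
  have htower : IsScalarTower F L VV := modOf_tower ρ
  have hsm : ∀ (a : L) (v : VV), a • v = ρ a *ᵥ v := fun a v => rfl
  have hfdV : FiniteDimensional L VV := Module.Finite.of_restrictScalars_finite F L VV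
  have hfinL : Finite L := Module.finite_of_finite F
  let hFtL : Fintype L := Fintype.ofFinite L
  have hφ : pb.coord 0 ≠ 0 := by
    intro h
    have h1 : pb.coord 0 (pb 0) = 1 := by simp
    rw [h, LinearMap.zero_apply] at h1
    exact zero_ne_one h1
  obtain ⟨BL, hspec, hsymmL, hndL⟩ := exists_formL_symm B (fun a u v => by
    rw [hsm, hsm, hsa]) hsymm hnd (pb.coord 0) hφ
  have h2L : (2 : L) ≠ 0 := by
    intro h
    apply h2
    apply (algebraMap F L).injective
    rw [map_ofNat, map_zero]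
    exact h
  have hLdim : finrank F L = 2 := by
    rw [Module.finrank_eq_card_basis pb, Fintype.card_fin]
  have hVdim : finrank L VV = m + 1 := by
    have h3 := Module.finrank_mul_finrank F L VV
    rw [Module.finrank_fintype_fun_eq_card, hcard, hLdim] at h3
    omega
  have hS : LinearMap.BilinForm.IsSymm (BL : LinearMap.BilinForm L VV) := ⟨fun u v => hsymmL u v⟩
  have hB : LinearMap.BilinForm.Nondegenerate (BL : LinearMap.BilinForm L VV) := by
    refine ⟨hndL, ?_⟩
    intro v hv
    apply hndL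
    intro w
    rw [hsymmL]
    exact hv w
  obtain ⟨κ, hκ, v, hv1, hv2, hv3⟩ :=
    exists_normal_basis_aux h2L ζ hζ m VV (BL : LinearMap.BilinForm L VV) hS hB hVdim
  have hcardκ : Fintype.card κ = m := by
    have h3 := Module.finrank_eq_card_basis v
    rw [hVdim, Fintype.card_sum, Fintype.card_unit] at h3
    omega
  let e : κ ⊕ Unit ≃ Fin m ⊕ Unit :=
    Equiv.sumCongr (Fintype.equivFinOfCardEq hcardκ) (Equiv.refl Unit)
  let v' : Basis (Fin m ⊕ Unit) L VV := v.reindex e
  have hv'1 : ∀ i j, i ≠ j → BL (v' i) (v' j) = 0 := by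
    intro i j hij
    simp only [v', Basis.reindex_apply]
    apply hv1
    intro h
    exact hij (e.symm.injective h)
  have hv'2 : ∀ j, BL (v' (Sum.inl j)) (v' (Sum.inl j)) = 1 := by
    intro j
    simp only [v', Basis.reindex_apply]
    have : e.symm (Sum.inl j) = Sum.inl ((Fintype.equivFinOfCardEq hcardκ).symm j) := rfl
    rw [this]
    exact hv2 _
  have hv'3 : BL (v' (Sum.inr ())) (v' (Sum.inr ())) = 1 ∨
      BL (v' (Sum.inr ())) (v' (Sum.inr ())) = ζ := by
    simp only [v', Basis.reindex_apply]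
    have : e.symm (Sum.inr ()) = Sum.inr () := rfl
    rw [this]
    exact hv3
  obtain ⟨c, hc⟩ : ∃ c : L, c = BL (v' (Sum.inr ())) (v' (Sum.inr ())) := ⟨_, rfl⟩
  have hdiag : ∀ j, BL (v' j) (v' j) = cc c j := by
    intro j
    rcases j with j | ⟨⟩
    · rw [hv'2]; rfl
    · rw [← hc]; rfl
  refine ⟨pb.smulTower v', c, by rw [hc]; exact hv'3, ?_, ?_⟩
  · intro i j
    rw [Basis.smulTower_apply, Basis.smulTower_apply, hpb0, one_smul, hsm]
  · intro i j i' j'
    rw [Basis.smulTower_apply, Basis.smulTower_apply]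
    have h1 : B (pb i • v' j) (pb i' • v' j') = B ((pb i' * pb i) • v' j) (v' j') := by
      rw [hsm (pb i') (v' j'), ← hsa, ← hsm, mul_smul]
    rw [h1, ← hspec]
    split_ifs with hjj
    · subst hjj
      rw [hdiag]
    · rw [hv'1 j j' hjj, zero_mul, map_zero]

end frame

end Cfsg.Agent.Lib.Helper29.OF
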