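import Mathlib
import Cfsg.Agent.Lib.Helper29.OF6
import Cfsg.Agent.Lib.Helper13.OrthCharTwoMat
import Cfsg.Agent.Lib.Helper6.Discr

/-!
# Two quadratic fields of self-adjoint maps are conjugate under the isometry group
-/

set_option autoImplicit false
set_option linter.unusedSectionVars false

namespace Cfsg.Agent.Lib.Helper29.OF

open Module Matrix Cfsg.Agent.Lib.Helper15.PSpM Cfsg.Agent.Lib.Helper13 Cfsg.Agent.Lib.Helper6

section quadfield

variable {F L : Type*} [Field F] [Field L] [Algebra F L]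

/-- multiplication in a quadratic field with basis `1, ω`, `ω² = z` -/
theorem pb_mul (pb : Basis (Fin 2) F L) (hpb0 : pb 0 = 1) (z : F)
    (hω : pb 1 * pb 1 = algebraMap F L z) (a₀ a₁ b₀ b₁ : F) :
    (a₀ • pb 0 + a₁ • pb 1) * (b₀ • pb 0 + b₁ • pb 1) =
      (a₀ * b₀ + z * (a₁ * b₁)) • pb 0 + (a₀ * b₁ + a₁ * b₀) • pb 1 := by
  have h1 : ∀ (s t : F) (x y : L), (s • x) * (t • y) = (s * t) • (x * y) := by
    intro s t x y
    rw [smul_mul_smul_comm]
  rw [add_mul, mul_add, mul_add, h1, h1, h1, h1, hω, hpb0, one_mul, one_mul, mul_one,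
    Algebra.algebraMap_eq_smul_one, smul_smul, add_smul, add_smul]
  module

theorem coord0 (pb : Basis (Fin 2) F L) (a₀ a₁ : F) :
    pb.coord 0 (a₀ • pb 0 + a₁ • pb 1) = a₀ := by
  simp [Basis.coord_apply]

/-- the Gram matrix of the trace form `x ↦ coord₀ (c x²)` in the basis `1, ω` -/
noncomputable def gramL (pb : Basis (Fin 2) F L) (c : L) : Matrix (Fin 2) (Fin 2) F :=
  Matrix.of fun i i' => pb.coord 0 (c * (pb i' * pb i))

theorem det_gramL (pb : Basis (Fin 2) F L) (hpb0 : pb 0 = 1) (z : F)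
    (hω : pb 1 * pb 1 = algebraMap F L z) (c₀ c₁ : F) :
    (gramL pb (c₀ • pb 0 + c₁ • pb 1)).det = z * (c₀ ^ 2 - z * c₁ ^ 2) := by
  have e00 : pb 0 * pb 0 = (1 : F) • pb 0 + (0 : F) • pb 1 := by
    rw [hpb0]; simp
  have e01 : pb 0 * pb 1 = (0 : F) • pb 0 + (1 : F) • pb 1 := by
    rw [hpb0]; simp
  have e10 : pb 1 * pb 0 = (0 : F) • pb 0 + (1 : F) • pb 1 := by
    rw [hpb0]; simp
  have e11 : pb 1 * pb 1 = z • pb 0 + (0 : F) • pb 1 := by
    rw [hω, hpb0, Algebra.algebraMap_eq_smul_one]; simp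
  rw [Matrix.det_fin_two]
  simp only [gramL, Matrix.of_apply]
  rw [e00, e01, e10, e11, pb_mul pb hpb0 z hω, pb_mul pb hpb0 z hω, pb_mul pb hpb0 z hω, coord0,
    coord0, coord0]
  ring

theorem det_gramL_one (pb : Basis (Fin 2) F L) (hpb0 : pb 0 = 1) (z : F)
    (hω : pb 1 * pb 1 = algebraMap F L z) : (gramL pb (1 : L)).det = z := by
  have h1 : (1 : L) = (1 : F) • pb 0 + (0 : F) • pb 1 := by rw [hpb0]; simp
  rw [h1, det_gramL pb hpb0 z hω]
  ring

/-- an element whose norm is not a square is not a square -/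
theorem not_isSquare_of_norm (pb : Basis (Fin 2) F L) (hpb0 : pb 0 = 1) (z : F)
    (hω : pb 1 * pb 1 = algebraMap F L z) (c₀ c₁ : F) (hN : ¬ IsSquare (c₀ ^ 2 - z * c₁ ^ 2)) :
    ¬ IsSquare (c₀ • pb 0 + c₁ • pb 1) := by
  rintro ⟨τ, hτ⟩
  apply hN
  obtain ⟨t₀, t₁, ht⟩ : ∃ t₀ t₁ : F, τ = t₀ • pb 0 + t₁ • pb 1 := by
    refine ⟨pb.repr τ 0, pb.repr τ 1, ?_⟩
    have := pb.sum_repr τ
    rw [Fin.sum_univ_two] at this
    exact this.symm
  rw [ht, pb_mul pb hpb0 z hω] at hτ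
  have h0 := congrArg (fun x => pb.repr x 0) hτ
  have h1 := congrArg (fun x => pb.repr x 1) hτ
  simp at h0 h1
  refine ⟨t₀ ^ 2 - z * t₁ ^ 2, ?_⟩
  rw [h0, h1]
  ring

end quadfield

section zeta

variable {F : Type*} [Field F] [Fintype F]

theorem exists_norm_eq (h2 : (2 : F) ≠ 0) (z : F) (hz : z ≠ 0) :
    ∃ c₀ c₁ : F, c₀ ^ 2 - z * c₁ ^ 2 = z := by
  have hchar : ringChar F ≠ 2 := by
    intro h
    apply h2
    have := ringChar.Nat.cast_ringChar (R := F)
    rw [h] at this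
    exact_mod_cast this
  have hf2 : (Polynomial.X ^ 2 - Polynomial.C z : Polynomial F).degree = 2 :=
    Polynomial.degree_X_pow_sub_C (by norm_num) z
  have hg2 : (Polynomial.C (-z) * Polynomial.X ^ 2 : Polynomial F).degree = 2 := by
    rw [Polynomial.degree_C_mul (neg_ne_zero.mpr hz), Polynomial.degree_X_pow]
    rfl
  obtain ⟨a, b, h⟩ := FiniteField.exists_root_sum_quadratic hf2 hg2
    (FiniteField.odd_card_of_char_ne_two hchar)
  refine ⟨a, b, ?_⟩
  simp only [Polynomial.eval_sub, Polynomial.eval_pow, Polynomial.eval_X, Polynomial.eval_C,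
    Polynomial.eval_mul] at h
  linear_combination h

end zeta

section main

variable {F L : Type*} [Field F] [Fintype F] [Field L] [Algebra F L] [FiniteDimensional F L]
  {ι : Type} [Fintype ι] [DecidableEq ι]

local notation "VV" => (ι → F)
local notation "MM" => Matrix ι ι F

theorem det_gram_frame (B : VV →ₗ[F] VV →ₗ[F] F) (pb : Basis (Fin 2) F L) (c : L) (m : ℕ)
    (bF : Basis (Fin 2 × (Fin m ⊕ Unit)) F VV)
    (hgram : ∀ i j i' j', B (bF (i, j)) (bF (i', j')) =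
      if j = j' then pb.coord 0 (cc c j * (pb i' * pb i)) else 0) :
    (LinearMap.BilinForm.toMatrix bF B).det = (gramL pb 1).det ^ m * (gramL pb c).det := by
  have h1 : LinearMap.BilinForm.toMatrix bF B =
      Matrix.blockDiagonal (fun j : Fin m ⊕ Unit => gramL pb (cc c j)) := by
    ext ⟨i, j⟩ ⟨i', j'⟩
    rw [LinearMap.BilinForm.toMatrix_apply, hgram, Matrix.blockDiagonal_apply]
    rfl
  rw [h1, Matrix.det_blockDiagonal, Fintype.prod_sum_type]
  simp [cc]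

theorem frame_act (ρ : L →ₐ[F] MM) (pb : Basis (Fin 2) F L) (m : ℕ)
    (bF : Basis (Fin 2 × (Fin m ⊕ Unit)) F VV)
    (hb : ∀ i j, bF (i, j) = ρ (pb i) *ᵥ bF (0, j)) (x : L) (j : Fin m ⊕ Unit) :
    ρ x *ᵥ bF (0, j) = ∑ k, pb.repr x k • bF (k, j) := by
  conv_lhs => rw [← pb.sum_repr x]
  rw [map_sum, Matrix.sum_mulVec]
  refine Finset.sum_congr rfl fun k _ => ?_
  rw [map_smul, Matrix.smul_mulVec, ← hb]

/-- two quadratic fields of self-adjoint maps are conjugate under the isometry group -/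
theorem exists_isometry_conj (Q : QuadraticForm F VV)
    (hQ : (QuadraticMap.polarBilin Q).Nondegenerate) (h2 : (2 : F) ≠ 0)
    (pb : Basis (Fin 2) F L) (hpb0 : pb 0 = 1) (z : F) (hz : ¬ IsSquare z)
    (hω : pb 1 * pb 1 = algebraMap F L z) (ρ ρ' : L →ₐ[F] MM)
    (hsa : ∀ (a : L) (u v : VV), QuadraticMap.polar ⇑Q (ρ a *ᵥ u) v =
      QuadraticMap.polar ⇑Q u (ρ a *ᵥ v))
    (hsa' : ∀ (a : L) (u v : VV), QuadraticMap.polar ⇑Q (ρ' a *ᵥ u) v =
      QuadraticMap.polar ⇑Q u (ρ' a *ᵥ v))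
    (m : ℕ) (hcard : Fintype.card ι = 2 * (m + 1)) :
    ∃ g : GL ι F, g ∈ Cfsg.isometryGroup F ⇑Q ∧ ∀ a, (g : MM) * ρ a = ρ' a * (g : MM) := by
  classical
  have hz0 : z ≠ 0 := by
    rintro rfl
    exact hz ⟨0, by simp⟩
  obtain ⟨ζ₀, ζ₁, hN⟩ := exists_norm_eq h2 z hz0
  obtain ⟨ζ, hζdef⟩ : ∃ ζ : L, ζ = ζ₀ • pb 0 + ζ₁ • pb 1 := ⟨_, rfl⟩
  have hζ : ¬ IsSquare ζ := by
    rw [hζdef]
    apply not_isSquare_of_norm pb hpb0 z hω
    rw [hN]
    exact hz
  obtain ⟨B, hBdef⟩ : ∃ B : VV →ₗ[F] VV →ₗ[F] F, B = QuadraticMap.polarBilin Q := ⟨_, rfl⟩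
  have hBapp : ∀ u v, B u v = QuadraticMap.polar ⇑Q u v := fun u v => by rw [hBdef]; rfl
  have hsymm : ∀ u v, B u v = B v u := fun u v => by
    rw [hBapp, hBapp, QuadraticMap.polar_comm]
  have hnd : ∀ u, (∀ v, B u v = 0) → u = 0 := fun u hu => hQ.1 u (fun v => by
    have := hu v
    rw [hBdef] at this
    exact this)
  obtain ⟨bF, c, hc, hb, hgram⟩ := exists_frame ρ B (fun a u v => by
    rw [hBapp, hBapp, hsa]) hsymm hnd h2 pb hpb0 ζ hζ m hcard
  obtain ⟨bF', c', hc', hb', hgram'⟩ := exists_frame ρ' B (fun a u v => by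
    rw [hBapp, hBapp, hsa']) hsymm hnd h2 pb hpb0 ζ hζ m hcard
  have hdet1 : (gramL pb (1 : L)).det = z := det_gramL_one pb hpb0 z hω
  have hdetζ : (gramL pb ζ).det = z * z := by
    rw [hζdef, det_gramL pb hpb0 z hω, hN]
  have hcc : c = c' := by
    by_contra hne
    obtain ⟨δ, hδ0, hδ⟩ := det_toMatrix_change B bF bF'
    rw [det_gram_frame B pb c m bF hgram, det_gram_frame B pb c' m bF' hgram', hdet1] at hδ
    have hzm : z ^ m ≠ 0 := pow_ne_zero _ hz0
    rcases hc with rfl | rfl <;> rcases hc' with rfl | rfl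
    · exact hne rfl
    · rw [hdet1, hdetζ] at hδ
      apply hz
      refine ⟨δ, ?_⟩
      have h3 : z ^ m * z * (z - δ * δ) = 0 := by linear_combination hδ
      rcases mul_eq_zero.mp h3 with h4 | h4
      · exact absurd h4 (mul_ne_zero hzm hz0)
      · exact sub_eq_zero.mp h4
    · rw [hdet1, hdetζ] at hδ
      apply hz
      refine ⟨δ⁻¹, ?_⟩
      have h3 : z ^ m * z * (1 - δ * δ * z) = 0 := by linear_combination hδ
      rcases mul_eq_zero.mp h3 with h4 | h4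
      · exact absurd h4 (mul_ne_zero hzm hz0)
      · have h5 : δ * δ * z = 1 := (sub_eq_zero.mp h4).symm
        field_simp
        linear_combination h5
    · exact hne rfl
  subst hcc
  obtain ⟨g₀, hg₀⟩ : ∃ g₀ : VV ≃ₗ[F] VV, g₀ = bF.equiv bF' (Equiv.refl _) := ⟨_, rfl⟩
  have hg₀b : ∀ ij, g₀ (bF ij) = bF' ij := by
    intro ij
    rw [hg₀, Basis.equiv_apply]
    rfl
  have hBg : ∀ u v, B (g₀ u) (g₀ v) = B u v := by
    have hB' : B.compl₁₂ (g₀ : VV →ₗ[F] VV) (g₀ : VV →ₗ[F] VV) = B := by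
      apply bF.ext
      intro ij
      apply bF.ext
      intro ij'
      rw [LinearMap.compl₁₂_apply]
      simp only [LinearEquiv.coe_coe]
      rw [hg₀b, hg₀b]
      obtain ⟨i, j⟩ := ij
      obtain ⟨i', j'⟩ := ij'
      rw [hgram, hgram']
    intro u v
    have := LinearMap.congr_fun (LinearMap.congr_fun hB' u) v
    rw [LinearMap.compl₁₂_apply] at this
    exact this
  have hQg : ∀ v, Q (g₀ v) = Q v := by
    intro v
    have h3 := hBg v v
    rw [hBapp, hBapp, QuadraticMap.polar_self, QuadraticMap.polar_self, nsmul_eq_mul,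
      nsmul_eq_mul, Nat.cast_ofNat] at h3
    exact mul_left_cancel₀ h2 h3
  refine ⟨glEquiv.symm g₀, ?_, ?_⟩
  · rw [Cfsg.Agent.Lib.Helper15.mem_isometryGroup_iff]
    intro u
    rw [glEquiv_symm_mulVec]
    exact hQg u
  · intro a
    apply Matrix.toLin'.injective
    apply bF.ext
    intro ij
    obtain ⟨i, j⟩ := ij
    rw [Matrix.toLin'_apply, Matrix.toLin'_apply, ← Matrix.mulVec_mulVec, ← Matrix.mulVec_mulVec,
      glEquiv_symm_mulVec, glEquiv_symm_mulVec, hg₀b, hb i j, hb' i j, Matrix.mulVec_mulVec,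
      Matrix.mulVec_mulVec, ← map_mul, ← map_mul, frame_act ρ pb m bF hb,
      frame_act ρ' pb m bF' hb', map_sum]
    refine Finset.sum_congr rfl fun k _ => ?_
    rw [map_smul, hg₀b]

end main

end Cfsg.Agent.Lib.Helper29.OF
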