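import Mathlib
import Cfsg.Agent.Lib.Helper15.PSp3

/-!
# Orthogonal-type subgroups of `SL_n(q)`: arithmetic of the index
-/

set_option autoImplicit false

namespace Cfsg.Agent.Lib.Helper29.LO

open Cfsg.Agent.Lib.Helper15.PSp

section arith

theorem Bp_pos (q m : ℕ) (hq : 1 < q) : 0 < ∏ i ∈ Finset.range m, (q ^ (2 * (i + 1)) - 1) := by
  apply Finset.prod_pos
  intro i _
  have : 1 < q ^ (2 * (i + 1)) := Nat.one_lt_pow (by omega) hq
  omega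

theorem odd_prod (q m' : ℕ) :
    ∏ i ∈ Finset.range (m' + 1), (q ^ (2 * i + 1) - 1) =
      (∏ i ∈ Finset.range m', (q ^ (2 * (i + 1) + 1) - 1)) * (q - 1) := by
  rw [Finset.prod_range_succ']
  simp

theorem prime_dvd_cases (q r m' T : ℕ) (N : ℕ) (hr : r.Prime) (hrq : ¬ r ∣ q)
    (h : r ∣ (∏ i ∈ Finset.range N, q ^ i) *
      ((∏ i ∈ Finset.range m', (q ^ (2 * (i + 1) + 1) - 1)) * T)) :
    (∃ j, j % 2 = 1 ∧ 3 ≤ j ∧ j ≤ 2 * m' + 1 ∧ r ∣ q ^ j - 1) ∨ r ∣ T := by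
  rcases (Nat.Prime.dvd_mul hr).mp h with h | h
  · exfalso
    rw [Prime.dvd_finsetProd_iff hr.prime] at h
    obtain ⟨i, -, hi⟩ := h
    exact hrq (hr.dvd_of_dvd_pow hi)
  · rcases (Nat.Prime.dvd_mul hr).mp h with h | h
    · left
      rw [Prime.dvd_finsetProd_iff hr.prime] at h
      obtain ⟨i, hi, hri⟩ := h
      rw [Finset.mem_range] at hi
      exact ⟨2 * (i + 1) + 1, by omega, by omega, by omega, hri⟩
    · right
      exact h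

/-- odd dimension -/
theorem arith_odd (q m I r SL : ℕ) (hq : 1 < q) (hm : 1 ≤ m) (hr : r.Prime) (hrq : ¬ r ∣ q)
    (hrI : r ∣ I)
    (hSL : SL * (q - 1) = ∏ i : Fin (2 * m + 1), (q ^ (2 * m + 1) - q ^ (i : ℕ)))
    (hdvd : I * (2 * q ^ (m ^ 2) * ∏ i ∈ Finset.range m, (q ^ (2 * (i + 1)) - 1)) ∣ 2 * SL) :
    ∃ j, j % 2 = 1 ∧ 3 ≤ j ∧ j ≤ 2 * m + 1 ∧ r ∣ q ^ j - 1 := by
  obtain ⟨m', rfl⟩ : ∃ m', m = m' + 1 := ⟨m - 1, by omega⟩
  set QN := ∏ i ∈ Finset.range (2 * (m' + 1) + 1), q ^ i with hQN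
  set Bp := ∏ i ∈ Finset.range (m' + 1), (q ^ (2 * (i + 1)) - 1) with hBp
  set C' := ∏ i ∈ Finset.range m', (q ^ (2 * (i + 1) + 1) - 1) with hC'
  set T := q ^ (2 * (m' + 1) + 1) - 1 with hT
  rw [prod_pow_sub q _ (by omega),
    Finset.prod_range_succ (fun j => q ^ (j + 1) - 1) (2 * (m' + 1)), prod_split, odd_prod] at hSL
  have hq1 : 0 < q - 1 := by omega
  have hSL' : SL = QN * (Bp * C' * T) := by
    apply Nat.eq_of_mul_eq_mul_right hq1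
    rw [hSL]
    ring
  have hBpos : 0 < 2 * Bp := by
    have := Bp_pos q (m' + 1) hq
    omega
  have hdvd' : I * q ^ ((m' + 1) ^ 2) ∣ QN * (C' * T) := by
    rw [hSL'] at hdvd
    have h3 : I * (2 * q ^ ((m' + 1) ^ 2) * Bp) = (I * q ^ ((m' + 1) ^ 2)) * (2 * Bp) := by ring
    have h4 : 2 * (QN * (Bp * C' * T)) = (QN * (C' * T)) * (2 * Bp) := by ring
    rw [h3, h4] at hdvd
    exact Nat.dvd_of_mul_dvd_mul_right hBpos hdvd
  have hr' : r ∣ QN * (C' * T) := dvd_trans (dvd_trans hrI (Dvd.intro _ rfl)) hdvd'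
  rcases prime_dvd_cases q r m' T _ hr hrq hr' with ⟨j, h1, h2, h3, h4⟩ | h
  · exact ⟨j, h1, h2, by omega, h4⟩
  · exact ⟨2 * (m' + 1) + 1, by omega, by omega, le_rfl, h⟩

theorem sq_sub_one (x : ℕ) (hx : 1 ≤ x) : x ^ 2 - 1 = (x - 1) * (x + 1) := by
  obtain ⟨y, rfl⟩ : ∃ y, x = y + 1 := ⟨x - 1, by omega⟩
  have : (y + 1) ^ 2 = y * (y + 1 + 1) + 1 := by ring
  rw [this, Nat.add_sub_cancel, Nat.add_sub_cancel]

/-- even dimension, general shape -/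
theorem arith_even (q m I r SL A A' : ℕ) (hq : 1 < q) (hm : 1 ≤ m) (hr : r.Prime) (hrq : ¬ r ∣ q)
    (hrI : r ∣ I) (hA : 0 < A) (hAA : A * A' = q ^ (2 * m) - 1)
    (hSL : SL * (q - 1) = ∏ i : Fin (2 * m), (q ^ (2 * m) - q ^ (i : ℕ)))
    (hdvd : I * (2 * q ^ (m * (m - 1)) * A *
      ∏ i ∈ Finset.range (m - 1), (q ^ (2 * (i + 1)) - 1)) ∣ 2 * SL) :
    (∃ j, j % 2 = 1 ∧ 3 ≤ j ∧ j ≤ 2 * m ∧ r ∣ q ^ j - 1) ∨ r ∣ A' := by
  obtain ⟨m', rfl⟩ : ∃ m', m = m' + 1 := ⟨m - 1, by omega⟩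
  rw [Nat.add_sub_cancel] at hdvd
  set QN := ∏ i ∈ Finset.range (2 * (m' + 1)), q ^ i with hQN
  set Bp := ∏ i ∈ Finset.range m', (q ^ (2 * (i + 1)) - 1) with hBp
  set C' := ∏ i ∈ Finset.range m', (q ^ (2 * (i + 1) + 1) - 1) with hC'
  rw [prod_pow_sub q _ (by omega), prod_split, odd_prod,
    Finset.prod_range_succ (fun i => q ^ (2 * (i + 1)) - 1) m', ← hAA] at hSL
  have hq1 : 0 < q - 1 := by omega
  have hSL' : SL = QN * (Bp * (A * A') * C') := by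
    apply Nat.eq_of_mul_eq_mul_right hq1
    rw [hSL]
    ring
  have hBpos : 0 < 2 * A * Bp := by
    have := Bp_pos q m' hq
    positivity
  have hdvd' : I * q ^ ((m' + 1) * m') ∣ QN * (C' * A') := by
    rw [hSL'] at hdvd
    have h3 : I * (2 * q ^ ((m' + 1) * m') * A * Bp) = (I * q ^ ((m' + 1) * m')) * (2 * A * Bp) := by
      ring
    have h4 : 2 * (QN * (Bp * (A * A') * C')) = (QN * (C' * A')) * (2 * A * Bp) := by ring
    rw [h3, h4] at hdvd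
    exact Nat.dvd_of_mul_dvd_mul_right hBpos hdvd
  have hr' : r ∣ QN * (C' * A') := dvd_trans (dvd_trans hrI (Dvd.intro _ rfl)) hdvd'
  rcases prime_dvd_cases q r m' A' _ hr hrq hr' with ⟨j, h1, h2, h3, h4⟩ | h
  · exact Or.inl ⟨j, h1, h2, by omega, h4⟩
  · exact Or.inr h

end arith

end Cfsg.Agent.Lib.Helper29.LO
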