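import Mathlib
import Cfsg.Agent.Lib.Helper29.LO4
import Cfsg.Agent.Lib.Helper29.LO5
import Cfsg.Agent.Lib.Helper29.SpOrth
import Cfsg.Agent.Lib.Helper6.OmegaAut
import Cfsg.Agent.Lib.Helper14.OrthOrd1
import Cfsg.Agent.Lib.Helper3.CardSL
import Cfsg.Agent.S0286

/-!
# Orthogonal-type subgroups of `SL_n(q)`, `q` odd: the index and its prime divisors
-/

set_option autoImplicit false

namespace Cfsg.Agent.Lib.Helper29.LO

open Module Matrix QuadraticMap Cfsg.Agent.Lib.Helper13 Cfsg.Agent.Lib.Helper15.PSub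
  Cfsg.Agent.Lib.Helper15.PSp Cfsg.Agent.Lib.Helper15

section index
universe u
variable {F : Type u} [Field F] [Fintype F] {n : ℕ}

local notation "VV" => (Fin n → F)
local notation "MM" => Matrix (Fin n) (Fin n) F
local notation "GG" => GL (Fin n) F

omit [Fintype F] in
theorem isometry_le_quadSim (Q : VV → F) :
    Cfsg.isometryGroup F Q ≤ Cfsg.Geo.quadSimilarityGroup Q := by
  intro g hg
  refine ⟨1, fun v => ?_⟩
  rw [Units.val_one, one_mul]
  exact (mem_isometryGroup_iff Q g).mp hg v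

omit [Fintype F] in
theorem det_sq_isometry {Q : VV → F} (hQ : Cfsg.Geo.IsNondegenerateQuadraticForm Q) (g : GG)
    (hg : g ∈ Cfsg.isometryGroup F Q) :
    Matrix.GeneralLinearGroup.det g * Matrix.GeneralLinearGroup.det g = 1 := by
  have h := Cfsg.Agent.Lib.Helper6.OmegaAut.det_sq_of_similarity (toQF hQ) (nondeg_toQF hQ)
    (g : MM) 1 (by
      intro v
      rw [one_mul]
      exact (mem_isometryGroup_iff Q g).mp hg v)
  rw [one_pow] at h
  apply Units.ext
  rw [Units.val_mul, Matrix.GeneralLinearGroup.val_det_apply, Units.val_one, ← pow_two]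
  exact h

theorem card_map_det_dvd_two {Q : VV → F} (hQ : Cfsg.Geo.IsNondegenerateQuadraticForm Q) :
    Nat.card ((Cfsg.isometryGroup F Q).map
      (Matrix.GeneralLinearGroup.det : GG →* Fˣ)) ∣ 2 := by
  classical
  set T := (Cfsg.isometryGroup F Q).map (Matrix.GeneralLinearGroup.det : GG →* Fˣ) with hT
  have hsq : ∀ t : T, t * t = 1 := by
    rintro ⟨t, ht⟩
    obtain ⟨g, hg, rfl⟩ := Subgroup.mem_map.mp ht
    apply Subtype.ext
    exact det_sq_isometry hQ g hg
  obtain ⟨g, hg⟩ := IsCyclic.exists_generator (α := T)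
  rw [← orderOf_eq_card_of_forall_mem_zpowers hg]
  apply orderOf_dvd_of_pow_eq_one
  rw [pow_two]
  exact hsq g

/-- `[SL_n : H] · |O(Q)|` divides `2 |SL_n(q)|` -/
theorem index_mul_card_dvd {Q : VV → F} (hQ : Cfsg.Geo.IsNondegenerateQuadraticForm Q) :
    (Cfsg.Geo.quadSimilarityGroup Q).relIndex (Cfsg.Geo.specialLinear (Fin n) F) *
      Nat.card (Cfsg.isometryGroup F Q) ∣ 2 * Nat.card (Cfsg.Geo.specialLinear (Fin n) F) := by
  classical
  set I := Cfsg.isometryGroup F Q with hI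
  set S := Cfsg.Geo.quadSimilarityGroup Q with hS
  set D := Cfsg.Geo.specialLinear (Fin n) F with hD
  have hrel : Nat.card (S ⊓ D : Subgroup GG) * S.relIndex D = Nat.card D := by
    have h3 := Subgroup.relIndex_mul_relIndex (H := (⊥ : Subgroup GG)) (K := S ⊓ D) (L := D)
      bot_le inf_le_right
    rw [Subgroup.relIndex_bot_left, Subgroup.relIndex_bot_left, Subgroup.inf_relIndex_right] at h3
    exact h3
  have hle : D ⊓ I ≤ S ⊓ D := by
    intro g hg
    exact ⟨isometry_le_quadSim Q hg.2, hg.1⟩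
  have h1 : Nat.card (D ⊓ I : Subgroup GG) ∣ Nat.card (S ⊓ D : Subgroup GG) :=
    Subgroup.card_dvd_of_le hle
  have h2 : Nat.card (D ⊓ I : Subgroup GG) * D.relIndex I = Nat.card I := by
    have h3 := Subgroup.relIndex_mul_relIndex (H := (⊥ : Subgroup GG)) (K := D ⊓ I) (L := I)
      bot_le inf_le_right
    rw [Subgroup.relIndex_bot_left, Subgroup.relIndex_bot_left, Subgroup.inf_relIndex_right] at h3
    exact h3
  have h4 : D.relIndex I ∣ 2 := by
    rw [hD]
    unfold Cfsg.Geo.specialLinear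
    rw [Subgroup.relIndex_ker]
    exact card_map_det_dvd_two hQ
  obtain ⟨t, ht⟩ := h1
  obtain ⟨s, hs⟩ := h4
  rw [← h2, ← hrel, ht]
  refine ⟨t * s, ?_⟩
  rw [hs]
  ring

theorem card_specialLinear_mul (hn : 0 < n) :
    Nat.card (Cfsg.Geo.specialLinear (Fin n) F) * (Fintype.card F - 1) =
      ∏ i : Fin n, (Fintype.card F ^ n - Fintype.card F ^ (i : ℕ)) := by
  have h1 : Nat.card (Cfsg.Geo.specialLinear (Fin n) F) =
      Nat.card (Matrix.SpecialLinearGroup (Fin n) F) := by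
    unfold Cfsg.Geo.specialLinear
    rw [← Cfsg.Agent.Lib.Helper3.CardSL.range_toGL]
    exact (Nat.card_congr (MonoidHom.ofInjective
      Matrix.SpecialLinearGroup.toGL_injective).toEquiv).symm
  have hSL := Cfsg.Agent.Lib.Helper3.CardSL.card_GL_eq_card_SL_mul (F := F) n hn
  rw [Matrix.card_GL_field, Nat.card_units, Nat.card_eq_fintype_card (α := F)] at hSL
  rw [h1, ← hSL]

omit [Fintype F] in
theorem card_isometryGroup_smul {ι : Type} [Fintype ι] [DecidableEq ι] (Q₀ : (ι → F) → F) (c : F)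
    (hc : c ≠ 0) :
    Cfsg.isometryGroup F (fun v => c * Q₀ v) = Cfsg.isometryGroup F Q₀ := by
  ext g
  rw [mem_isometryGroup_iff, mem_isometryGroup_iff]
  constructor
  · intro h v
    exact mul_left_cancel₀ hc (h v)
  · intro h v
    show c * Q₀ _ = c * Q₀ v
    rw [h v]

end index

section split
universe u
variable {F : Type u} [Field F] [Fintype F] {n : ℕ}

local notation "VV" => (Fin n → F)
local notation "MM" => Matrix (Fin n) (Fin n) F
local notation "GG" => GL (Fin n) F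

theorem two_ne_zero_of_odd (hodd : Odd (Fintype.card F)) : (2 : F) ≠ 0 := by
  intro h
  have hchar : CharP F 2 := CharTwo.of_one_ne_zero_of_two_eq_zero one_ne_zero h
  have hk := FiniteField.even_card_of_char_two
    (CharP.ringChar_of_prime_eq_zero Nat.prime_two h)
  exact (Nat.not_even_iff_odd.mpr hodd) (Nat.even_iff.mpr hk)

theorem card_iso_odd {Q : VV → F} (hQ : Cfsg.Geo.IsNondegenerateQuadraticForm Q)
    (hodd : Odd (Fintype.card F)) (m : ℕ) (hnm : n = 2 * m + 1) :
    Nat.card (Cfsg.isometryGroup F Q) = 2 * Fintype.card F ^ (m ^ 2) *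
      ∏ i ∈ Finset.range m, (Fintype.card F ^ (2 * (i + 1)) - 1) := by
  obtain ⟨c, hc, Ψ, hΨ⟩ := Cfsg.Agent.Lib.Helper14.OrthOrd.classify_odd (two_ne_zero_of_odd hodd)
    (toQF hQ) (nondeg_toQF hQ) m (by rw [Module.finrank_fin_fun, hnm])
  rw [Cfsg.Agent.Lib.Helper29.SPO.card_isometryGroup_congr Q
    (fun v => c * Cfsg.quadFormOdd m F v) Ψ.symm (fun v => by
      have := hΨ (Ψ.symm v)
      rw [LinearEquiv.apply_symm_apply, toQF_apply] at this
      exact this),
    card_isometryGroup_smul _ c hc, Cfsg.Agent.S0286.result rfl hodd m]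

theorem finrank_even (m : ℕ) (hnm : n = 2 * m) : finrank F VV = 2 * m := by
  rw [Module.finrank_fin_fun, hnm]

/-- the primes dividing the index -/
theorem caseC_split (hn : 3 ≤ n) {Q : VV → F} (hQ : Cfsg.Geo.IsNondegenerateQuadraticForm Q)
    (hodd : Odd (Fintype.card F)) (r : ℕ) (hr : r.Prime) (hrq : ¬ r ∣ Fintype.card F)
    (hΩ : r ∣ (Cfsg.Geo.quadSimilarityGroup Q).relIndex (Cfsg.Geo.specialLinear (Fin n) F)) :
    (∃ j, j % 2 = 1 ∧ 3 ≤ j ∧ j ≤ n ∧ r ∣ Fintype.card F ^ j - 1) ∨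
    (∃ m, n = 2 * m ∧ r ∣ Fintype.card F ^ m + 1 ∧
      ∃ g : VV ≃ₗ[F] (Fin m ⊕ Fin m → F), ∀ v, Q v = Cfsg.quadFormPlus m F (g v)) ∨
    (∃ m, n = 2 * m ∧ r ∣ Fintype.card F ^ m - 1 ∧ ∃ ζ : F, (∀ t : F, t ^ 2 + t + ζ ≠ 0) ∧
      ∃ g : VV ≃ₗ[F] ((Fin (m - 1) ⊕ Fin (m - 1)) ⊕ Fin 2 → F),
        ∀ v, Q v = Cfsg.quadFormMinus (m - 1) F 1 ζ (g v)) := by
  have hq : 1 < Fintype.card F := Fintype.one_lt_card
  have hdvd := index_mul_card_dvd hQ
  have hSL := card_specialLinear_mul (F := F) (n := n) (by omega)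
  rcases Nat.even_or_odd' n with ⟨m, hnm | hnm⟩
  · -- even dimension
    have hm : 1 ≤ m := by omega
    have hx1 : 1 ≤ Fintype.card F ^ m := Nat.one_le_pow _ _ (by omega)
    have hAA : (Fintype.card F ^ m - 1) * (Fintype.card F ^ m + 1) =
        Fintype.card F ^ (2 * m) - 1 := by
      rw [← sq_sub_one _ hx1, ← pow_mul, mul_comm m 2]
    have hx2 : 1 < Fintype.card F ^ m := Nat.one_lt_pow (by omega) hq
    rcases classify_even (toQF hQ) (nondeg_toQF hQ) m hm (finrank_even m hnm) with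
      ⟨g, hg⟩ | ⟨ζ, hζ, g, hg⟩
    · rw [Cfsg.Agent.Lib.Helper29.SPO.card_isometryGroup_congr Q _ g hg,
        Cfsg.Agent.S0287.result rfl m hm] at hdvd
      subst hnm
      rcases arith_even _ m _ r _ (Fintype.card F ^ m - 1) (Fintype.card F ^ m + 1) hq hm hr hrq
        hΩ (by omega) hAA hSL hdvd with h | h
      · exact Or.inl h
      · exact Or.inr (Or.inl ⟨m, rfl, h, g, hg⟩)
    · rw [Cfsg.Agent.Lib.Helper29.SPO.card_isometryGroup_congr Q _ g hg,
        Cfsg.Agent.S0288.result rfl m hm 1 ζ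
          (Cfsg.Agent.Lib.Helper16.MinusType.aniso_of_irred ζ hζ)] at hdvd
      subst hnm
      rcases arith_even _ m _ r _ (Fintype.card F ^ m + 1) (Fintype.card F ^ m - 1) hq hm hr hrq
        hΩ (by omega) (by rw [mul_comm]; exact hAA) hSL hdvd with h | h
      · exact Or.inl h
      · exact Or.inr (Or.inr ⟨m, rfl, h, ζ, hζ, g, hg⟩)
  · -- odd dimension
    left
    have hm : 1 ≤ m := by omega
    rw [card_iso_odd hQ hodd m hnm] at hdvd
    subst hnm
    exact arith_odd _ m _ r _ hq hm hr hrq hΩ hSL hdvd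

end split

end Cfsg.Agent.Lib.Helper29.LO
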