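import Mathlib
import Cfsg.Agent.Lib.Helper29.OF7

/-!
# Conjugacy of self-adjoint matrices with the same non-square scalar square
-/

set_option autoImplicit false
set_option linter.unusedSectionVars false

namespace Cfsg.Agent.Lib.Helper29.OF

open Module Matrix Polynomial

section quadHom

variable {F L : Type*} [Field F] [Field L] [Algebra F L] {ι : Type} [Fintype ι] [DecidableEq ι]

local notation "MM" => Matrix ι ι F

/-- the embedding of a quadratic field with basis `1, ω`, `ω² = z`, sending `ω` to a matrix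
with square `z` -/
noncomputable def quadHom (pb : Basis (Fin 2) F L) (hpb0 : pb 0 = 1) (z : F)
    (hω : pb 1 * pb 1 = algebraMap F L z) (J : MM) (hJ : J * J = z • (1 : MM)) : L →ₐ[F] MM :=
  AlgHom.ofLinearMap ((pb.coord 0).smulRight (1 : MM) + (pb.coord 1).smulRight J)
    (by
      rw [← hpb0]
      simp [Basis.coord_apply])
    (by
      intro a b
      have ha := pb.sum_repr a
      have hb := pb.sum_repr b
      rw [Fin.sum_univ_two] at ha hb
      obtain ⟨a₀, ha₀⟩ : ∃ a₀ : F, a₀ = pb.repr a 0 := ⟨_, rfl⟩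
      obtain ⟨a₁, ha₁⟩ : ∃ a₁ : F, a₁ = pb.repr a 1 := ⟨_, rfl⟩
      obtain ⟨b₀, hb₀⟩ : ∃ b₀ : F, b₀ = pb.repr b 0 := ⟨_, rfl⟩
      obtain ⟨b₁, hb₁⟩ : ∃ b₁ : F, b₁ = pb.repr b 1 := ⟨_, rfl⟩
      rw [← ha₀, ← ha₁] at ha
      rw [← hb₀, ← hb₁] at hb
      have hab : a * b = (a₀ * b₀ + z * (a₁ * b₁)) • pb 0 + (a₀ * b₁ + a₁ * b₀) • pb 1 := by
        rw [← ha, ← hb, pb_mul pb hpb0 z hω]
      have hc : ∀ s t : F, ((pb.coord 0).smulRight (1 : MM) + (pb.coord 1).smulRight J)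
          (s • pb 0 + t • pb 1) = s • (1 : MM) + t • J := by
        intro s t
        simp [Basis.coord_apply]
      rw [hab, hc, ← ha, ← hb, hc, hc, Matrix.add_mul, Matrix.mul_add, Matrix.mul_add]
      simp only [Matrix.smul_mul, Matrix.mul_smul, Matrix.one_mul, Matrix.mul_one, hJ, smul_smul]
      module)

theorem quadHom_apply (pb : Basis (Fin 2) F L) (hpb0 : pb 0 = 1) (z : F)
    (hω : pb 1 * pb 1 = algebraMap F L z) (J : MM) (hJ : J * J = z • (1 : MM)) (a : L) :
    quadHom pb hpb0 z hω J hJ a = pb.repr a 0 • (1 : MM) + pb.repr a 1 • J := rfl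

theorem quadHom_gen (pb : Basis (Fin 2) F L) (hpb0 : pb 0 = 1) (z : F)
    (hω : pb 1 * pb 1 = algebraMap F L z) (J : MM) (hJ : J * J = z • (1 : MM)) :
    quadHom pb hpb0 z hω J hJ (pb 1) = J := by
  rw [quadHom_apply]
  simp

end quadHom

section matU

variable {F : Type*} [Field F] [Fintype F] {ι : Type} [Fintype ι] [DecidableEq ι]

local notation "VV" => (ι → F)
local notation "MM" => Matrix ι ι F

/-- two self-adjoint matrices with the same non-square scalar square are conjugate under the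
isometry group -/
theorem exists_isometry_conj_mat (Q : QuadraticForm F VV)
    (hQ : (QuadraticMap.polarBilin Q).Nondegenerate) (h2 : (2 : F) ≠ 0)
    (z : F) (hz : ¬ IsSquare z) (J J' : MM) (hJ : J * J = z • (1 : MM))
    (hJ' : J' * J' = z • (1 : MM))
    (hsa : ∀ u v : VV, QuadraticMap.polar ⇑Q (J *ᵥ u) v = QuadraticMap.polar ⇑Q u (J *ᵥ v))
    (hsa' : ∀ u v : VV, QuadraticMap.polar ⇑Q (J' *ᵥ u) v = QuadraticMap.polar ⇑Q u (J' *ᵥ v))
    (m : ℕ) (hcard : Fintype.card ι = 2 * (m + 1)) :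
    ∃ g : GL ι F, g ∈ Cfsg.isometryGroup F ⇑Q ∧ (g : MM) * J = J' * (g : MM) := by
  classical
  obtain ⟨f, hf⟩ : ∃ f : F[X], f = X ^ 2 - C z := ⟨_, rfl⟩
  have hirr : Irreducible f := by
    rw [hf]
    apply X_pow_sub_C_irreducible_of_prime Nat.prime_two
    intro b hb
    apply hz
    exact ⟨b, by rw [← hb, pow_two]⟩
  haveI : Fact (Irreducible f) := ⟨hirr⟩
  have hmonic : f.Monic := by
    rw [hf]
    exact monic_X_pow_sub_C z (by norm_num)
  have hdeg : f.natDegree = 2 := by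
    rw [hf]
    exact natDegree_X_pow_sub_C
  haveI : FiniteDimensional F (AdjoinRoot f) := hmonic.finite_adjoinRoot
  let pb₀ := AdjoinRoot.powerBasis' hmonic
  let pb : Basis (Fin 2) F (AdjoinRoot f) := pb₀.basis.reindex (finCongr hdeg)
  have hpbi : ∀ i : Fin 2, pb i = AdjoinRoot.root f ^ (i : ℕ) := by
    intro i
    show pb₀.basis.reindex (finCongr hdeg) i = _
    rw [Basis.reindex_apply, pb₀.basis_eq_pow]
    rfl
  have hpb0 : pb 0 = 1 := by rw [hpbi]; simp
  have hpb1 : pb 1 = AdjoinRoot.root f := by rw [hpbi]; simp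
  have hroot : AdjoinRoot.root f * AdjoinRoot.root f = algebraMap F (AdjoinRoot f) z := by
    have h1 : (X ^ 2 - C z : F[X]).eval₂ (AdjoinRoot.of f) (AdjoinRoot.root f) = 0 := by
      rw [← hf]
      exact AdjoinRoot.eval₂_root f
    rw [eval₂_sub, eval₂_pow, eval₂_X, eval₂_C] at h1
    rw [← pow_two]
    exact sub_eq_zero.mp h1
  have hω : pb 1 * pb 1 = algebraMap F (AdjoinRoot f) z := by rw [hpb1]; exact hroot
  let ρ : AdjoinRoot f →ₐ[F] MM := quadHom pb hpb0 z hω J hJ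
  let ρ' : AdjoinRoot f →ₐ[F] MM := quadHom pb hpb0 z hω J' hJ'
  have hρroot : ρ (pb 1) = J := quadHom_gen pb hpb0 z hω J hJ
  have hρ'root : ρ' (pb 1) = J' := quadHom_gen pb hpb0 z hω J' hJ'
  have hρa : ∀ a : AdjoinRoot f, ρ a = pb.repr a 0 • (1 : MM) + pb.repr a 1 • J :=
    fun a => rfl
  have hρ'a : ∀ a : AdjoinRoot f, ρ' a = pb.repr a 0 • (1 : MM) + pb.repr a 1 • J' :=
    fun a => rfl
  have hsaρ : ∀ (M : MM), (∀ u v : VV, QuadraticMap.polar ⇑Q (M *ᵥ u) v =
      QuadraticMap.polar ⇑Q u (M *ᵥ v)) → ∀ (s t : F) (u v : VV),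
      QuadraticMap.polar ⇑Q ((s • (1 : MM) + t • M) *ᵥ u) v =
        QuadraticMap.polar ⇑Q u ((s • (1 : MM) + t • M) *ᵥ v) := by
    intro M hM s t u v
    rw [Matrix.add_mulVec, Matrix.add_mulVec, Matrix.smul_mulVec, Matrix.smul_mulVec,
      Matrix.smul_mulVec, Matrix.smul_mulVec, Matrix.one_mulVec, Matrix.one_mulVec,
      QuadraticMap.polar_add_left, QuadraticMap.polar_add_right, QuadraticMap.polar_smul_left,
      QuadraticMap.polar_smul_left, QuadraticMap.polar_smul_right, QuadraticMap.polar_smul_right,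
      hM]
  obtain ⟨g, hg, hgρ⟩ := exists_isometry_conj Q hQ h2 pb hpb0 z hz hω ρ ρ'
    (fun a u v => by rw [hρa]; exact hsaρ J hsa _ _ u v)
    (fun a u v => by rw [hρ'a]; exact hsaρ J' hsa' _ _ u v) m hcard
  refine ⟨g, hg, ?_⟩
  have := hgρ (pb 1)
  rw [hρroot, hρ'root] at this
  exact this

end matU

end Cfsg.Agent.Lib.Helper29.OF
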