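import Mathlib
import Cfsg.Agent.Lib.Helper29.OF1
import Cfsg.Agent.Lib.Helper15.PSpM12
import Cfsg.Agent.Lib.Helper6.OmegaOdd

/-!
# Field extension subgroups of orthogonal type: elements of odd order with no conjugate in the
normaliser
-/

set_option autoImplicit false
set_option linter.unusedSectionVars false

namespace Cfsg.Agent.Lib.Helper29.OF

open Module Matrix QuadraticMap Cfsg.Agent.Lib.Helper15.PSpM Cfsg.Agent.Lib.Helper15

section crit

variable {F : Type*} [Field F] [Fintype F] {ι : Type} [Fintype ι] [DecidableEq ι]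

local notation "VV" => (ι → F)
local notation "MM" => Matrix ι ι F

theorem omegaGL_le (Q : VV → F) : Cfsg.Geo.omegaGL Q ≤ Cfsg.isometryGroup F Q := by
  intro x hx
  obtain ⟨y, -, rfl⟩ := Subgroup.mem_map.mp hx
  exact y.2

theorem mem_omegaGL_of_odd (Q : QuadraticForm F VV) (hQ : (polarBilin Q).Nondegenerate)
    (hcard : 2 ≤ Fintype.card ι) (h : Fintype.card F ≠ 2 ∨ Fintype.card ι ≠ 4)
    (x : GL ι F) (hx : x ∈ Cfsg.isometryGroup F ⇑Q) (r : ℕ) (hr : Odd r) (hxr : x ^ r = 1) :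
    x ∈ Cfsg.Geo.omegaGL ⇑Q := by
  have h1 := Cfsg.Agent.Lib.Helper6.mem_Omega_of_pow_odd' Q hQ hcard h ⟨x, hx⟩ r hr
    (Subtype.ext hxr)
  exact Subgroup.mem_map.mpr ⟨⟨x, hx⟩, h1, rfl⟩

theorem polar_isometry (Q : VV → F) (y : GL ι F) (hy : y ∈ Cfsg.isometryGroup F Q) (u v : VV) :
    polar Q ((y : MM) *ᵥ u) ((y : MM) *ᵥ v) = polar Q u v := by
  have h := (mem_isometryGroup_iff Q y).mp hy
  unfold polar
  rw [← Matrix.mulVec_add, h, h, h]

/-- an element of odd prime order of the isometry group whose fixed space has codimension not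
divisible by four has no conjugate in the normaliser of the field -/
theorem no_conj_of_codim [Nonempty ι] (Q : QuadraticForm F VV)
    (hQ : (polarBilin Q).Nondegenerate) (h2 : (2 : F) ≠ 0) (K : Subalgebra F MM)
    (hK : Cfsg.Geo.IsFieldSubalgebra 2 K) (hKf : Cfsg.Geo.IsSelfAdjointFor (polar ⇑Q) K)
    (r : ℕ) (hr : r.Prime) (hr2 : r ≠ 2) (x : GL ι F) (hx : x ∈ Cfsg.isometryGroup F ⇑Q)
    (hxr : x ^ r = 1)
    (hcodim : ¬ 4 ∣ Fintype.card ι -
      finrank F (Module.End.eigenspace (Matrix.toLin' (x : MM)) 1))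
    (g : GL ι F) (hg : g ∈ Cfsg.isometryGroup F ⇑Q) :
    g⁻¹ * x * g ∉ Cfsg.Geo.subalgebraNormalizer K := by
  classical
  intro hmem
  let fK : Field ↥K := (isField_sub K hK).toField
  have hfd : FiniteDimensional F ↥K := by
    apply Module.finite_of_finrank_pos
    rw [hK.finrank_eq]
    norm_num
  have hKr : ∀ m, m ∈ K ↔ ∃ a : ↥K, K.val a = m :=
    fun m => ⟨fun hm => ⟨⟨m, hm⟩, rfl⟩, fun ⟨a, ha⟩ => ha ▸ a.2⟩
  obtain ⟨y, hy⟩ : ∃ y : GL ι F, y = g⁻¹ * x * g := ⟨_, rfl⟩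
  rw [← hy] at hmem
  have hyiso : y ∈ Cfsg.isometryGroup F ⇑Q := by
    rw [hy]
    exact Subgroup.mul_mem _ (Subgroup.mul_mem _ (Subgroup.inv_mem _ hg) hx) hg
  have hyr : y ^ r = 1 := by
    have h1 : g⁻¹ * x * g = g⁻¹ * x * g⁻¹⁻¹ := by rw [inv_inv]
    rw [hy, h1, conj_pow, hxr]
    group
  have hcent : ∀ a : ↥K, (y : MM) * K.val a = K.val a * (y : MM) := by
    by_contra hnc
    have h1 := dvd_finrank_of_not_centralises (L := ↥K) K.val K hKr y hmem r hr (by
      intro a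
      rw [hyr, Units.val_one, one_mul, mul_one]) hnc
    rw [hK.finrank_eq] at h1
    exact hr2 ((Nat.prime_dvd_prime_iff_eq hr Nat.prime_two).mp h1)
  have hdvd := dvd_codim_of_centralises (L := ↥K) K.val (polarBilin Q)
    (fun a u v => hKf a.1 a.2 u v) (fun u v => polar_comm _ u v)
    (fun u hu => hQ.1 u hu) h2 y hcent (fun u v => polar_isometry _ y hyiso u v) r
    (hr.odd_of_ne_two hr2) hyr
  rw [hK.finrank_eq, hy, finrank_fixed_conj] at hdvd
  exact hcodim hdvd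

end crit

end Cfsg.Agent.Lib.Helper29.OF
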