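import Mathlib
import Cfsg.Prelude.Def_Solvable
import Cfsg.Prelude.Def_LieExceptional
import Cfsg.Agent.S4252
import Cfsg.Agent.Lib.Helper18.FrobeniusThm
import Cfsg.Agent.Lib.Helper1.Frobenius
import Cfsg.Agent.Lib.Helper1.FpfSylow

/-!
# Helper29 library: Z-groups inverted by an outer involution, and two-point stabilisers of
Zassenhaus groups of odd order (S0739).
-/

set_option autoImplicit false

namespace Cfsg.Agent.Helper29.ZInvert

section Abstract

theorem pow_dvd_succ {q E k : ℕ} (hq : q.Prime) (hq2 : q ≠ 2) (hk : 1 ≤ k)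
    (h1 : q ^ E ∣ (k - 1) * (k + 1)) (h2 : ¬ q ^ E ∣ k - 1) : q ^ E ∣ k + 1 := by
  by_cases hqk : q ∣ k + 1
  · have h3 : ¬ q ∣ k - 1 := by
      intro h3
      have h4 : q ∣ (k + 1) - (k - 1) := Nat.dvd_sub hqk h3
      have h5 : (k + 1) - (k - 1) = 2 := by omega
      rw [h5] at h4
      exact hq2 ((Nat.prime_dvd_prime_iff_eq hq Nat.prime_two).1 h4)
    have hc : Nat.Coprime (q ^ E) (k - 1) :=
      Nat.Coprime.pow_left E ((Nat.Prime.coprime_iff_not_dvd hq).2 h3)
    exact hc.dvd_of_dvd_mul_left h1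
  · have hc : Nat.Coprime (q ^ E) (k + 1) :=
      Nat.Coprime.pow_left E ((Nat.Prime.coprime_iff_not_dvd hq).2 hqk)
    exact absurd (hc.dvd_of_dvd_mul_right h1) h2

theorem zpow_npow_swap {G : Type*} [Group G] (a : G) (i : ℤ) (k : ℕ) :
    (a ^ i) ^ k = (a ^ k) ^ i := by
  rw [← zpow_natCast, ← zpow_natCast, ← zpow_mul, ← zpow_mul, mul_comm]

/-- A finite Z-group `H` of odd order with an automorphism `σ` whose square is inner, such that
for every prime `q` some Sylow `q`-subgroup is normalized but not centralized by an element of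
`Inn(H) ∪ Inn(H)σ`, is cyclic and inverted by `σ`. -/
theorem inverts_of_zgroup {H : Type*} [Group H] [Finite H] [IsZGroup H]
    (hodd : Odd (Nat.card H))
    (σ : H ≃* H) (h0 : H) (hσ2 : ∀ h, σ (σ h) = h0 * h * h0⁻¹)
    (hq : ∀ q : ℕ, q.Prime → q ∣ Nat.card H → ∃ Q : Sylow q H,
      ((∃ h : H, (∀ u ∈ (Q : Subgroup H), h * u * h⁻¹ ∈ (Q : Subgroup H)) ∧
          ∃ u ∈ (Q : Subgroup H), h * u * h⁻¹ ≠ u) ∨
       (∃ h : H, (∀ u ∈ (Q : Subgroup H), h * σ u * h⁻¹ ∈ (Q : Subgroup H)) ∧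
          ∃ u ∈ (Q : Subgroup H), h * σ u * h⁻¹ ≠ u))) :
    IsCyclic H ∧ (∀ x y : H, x * y = y * x) ∧ ∀ h : H, σ h = h⁻¹ := by
  classical
  have hDcyc : IsCyclic (commutator H) := IsZGroup.isCyclic_commutator H
  have hcop : (Nat.card (commutator H)).Coprime (commutator H).index :=
    IsZGroup.coprime_commutator_index H
  have hAcyc : IsCyclic (Abelianization H) := inferInstance
  have hker : ∀ h : H, (Abelianization.of h : Abelianization H) = 1 ↔ h ∈ commutator H := by
    intro h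
    rw [← MonoidHom.mem_ker, Abelianization.ker_of]
  have hsurj : Function.Surjective (Abelianization.of : H → Abelianization H) :=
    fun x => QuotientGroup.mk_surjective x
  have hAfin : Finite (Abelianization H) := Finite.of_surjective _ hsurj
  have hAcard : Nat.card (Abelianization H) = (commutator H).index :=
    (Subgroup.index_eq_card (commutator H)).symm
  obtain ⟨σb, hσb⟩ : ∃ σb : Abelianization H →* Abelianization H,
      ∀ h : H, σb (Abelianization.of h) = Abelianization.of (σ h) :=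
    ⟨Abelianization.map σ.toMonoidHom, fun h => Abelianization.map_of _ h⟩
  obtain ⟨g, hg⟩ := hAcyc.exists_generator
  have hog : orderOf g = Nat.card (Abelianization H) := orderOf_eq_card_of_forall_mem_zpowers hg
  obtain ⟨k, hk1, hk⟩ : ∃ k : ℕ, 1 ≤ k ∧ σb g = g ^ k := by
    have h1 : σb g ∈ Subgroup.zpowers g := hg _
    rw [← mem_powers_iff_mem_zpowers] at h1
    obtain ⟨k, hk⟩ := (Submonoid.mem_powers_iff _ _).1 h1
    refine ⟨k + orderOf g, ?_, ?_⟩
    · have := orderOf_pos g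
      omega
    · rw [pow_add, pow_orderOf_eq_one, mul_one]
      exact hk.symm
  have hσbk : ∀ a : Abelianization H, σb a = a ^ k := by
    intro a
    obtain ⟨i, rfl⟩ := Subgroup.mem_zpowers_iff.1 (hg a)
    rw [map_zpow, hk, zpow_npow_swap]
  have hA2 : ∀ a : Abelianization H, σb (σb a) = a := by
    intro a
    obtain ⟨h, rfl⟩ := hsurj a
    rw [hσb, hσb, hσ2, map_mul, map_mul, map_inv, mul_inv_cancel_comm]
  have hHpos : Nat.card H ≠ 0 := Nat.card_pos.ne'
  have hidx : (commutator H).index ∣ Nat.card H := Subgroup.index_dvd_card _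
  have hkey : orderOf g ∣ k + 1 := by
    rw [Nat.dvd_iff_prime_pow_dvd_dvd]
    intro q j hqp hqj
    rcases Nat.eq_zero_or_pos j with rfl | hj
    · simp
    have hqA : q ∣ orderOf g := (dvd_pow_self q hj.ne').trans hqj
    have hqI : q ∣ (commutator H).index := by
      rw [← hAcard, ← hog]
      exact hqA
    have hqH : q ∣ Nat.card H := hqI.trans hidx
    have hq2 : q ≠ 2 := by
      rintro rfl
      exact (Nat.not_even_iff_odd.2 hodd) (even_iff_two_dvd.2 hqH)
    have hqF : Fact q.Prime := ⟨hqp⟩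
    obtain ⟨Q, hQ⟩ := hq q hqp hqH
    have hQcard : Nat.card (Q : Subgroup H) = q ^ (Nat.card H).factorization q :=
      Q.card_eq_multiplicity
    have hjE : j ≤ (Nat.card H).factorization q := by
      apply (hqp.pow_dvd_iff_le_factorization hHpos).1
      refine hqj.trans ?_
      rw [hog, hAcard]
      exact hidx
    have hqD : ¬ q ∣ Nat.card (commutator H) := by
      intro h
      have h1 : q ∣ Nat.gcd (Nat.card (commutator H)) (commutator H).index := Nat.dvd_gcd h hqI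
      rw [hcop.gcd_eq_one] at h1
      exact hqp.one_lt.ne' (Nat.dvd_one.1 h1)
    have hdisj : (Q : Subgroup H) ⊓ commutator H = ⊥ := by
      apply disjoint_iff.1
      apply Subgroup.disjoint_of_coprime_natCard
      rw [hQcard]
      exact Nat.Coprime.pow_left _ ((Nat.Prime.coprime_iff_not_dvd hqp).2 hqD)
    have hinj : ∀ u ∈ (Q : Subgroup H), ∀ w ∈ (Q : Subgroup H),
        (Abelianization.of u : Abelianization H) = Abelianization.of w → u = w := by
      intro u hu w hw huw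
      have h1 : u * w⁻¹ ∈ commutator H := by
        rw [← hker, map_mul, map_inv, huw, mul_inv_cancel]
      have h2 : u * w⁻¹ ∈ (Q : Subgroup H) ⊓ commutator H :=
        ⟨Subgroup.mul_mem _ hu (Subgroup.inv_mem _ hw), h1⟩
      rw [hdisj, Subgroup.mem_bot] at h2
      exact mul_inv_eq_one.1 h2
    have hQcyc : IsCyclic (Q : Subgroup H) := inferInstance
    obtain ⟨⟨u, huQ⟩, hu⟩ := hQcyc.exists_generator
    have hou : orderOf u = q ^ (Nat.card H).factorization q := by
      rw [← hQcard, ← orderOf_eq_card_of_forall_mem_zpowers hu, Subgroup.orderOf_mk]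
    have hpow : ∀ w ∈ (Q : Subgroup H), ∃ i : ℤ, w = u ^ i := by
      intro w hw
      obtain ⟨i, hi⟩ := Subgroup.mem_zpowers_iff.1 (hu ⟨w, hw⟩)
      refine ⟨i, ?_⟩
      have h' := congrArg Subtype.val hi
      simpa using h'.symm
    rcases hQ with ⟨h, hnorm, w, hw, hne⟩ | ⟨h, hnorm, w, hw, hne⟩
    · exfalso
      apply hne
      apply hinj _ (hnorm w hw) _ hw
      rw [map_mul, map_mul, map_inv, mul_inv_cancel_comm]
    · have hτ : ∀ x ∈ (Q : Subgroup H), h * σ x * h⁻¹ = x ^ k := by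
        intro x hx
        apply hinj _ (hnorm x hx) _ (Subgroup.pow_mem _ hx k)
        rw [map_mul, map_mul, map_inv, mul_inv_cancel_comm, ← hσb, hσbk, map_pow]
      have huk : u ^ k ≠ u := by
        intro huk
        apply hne
        rw [hτ w hw]
        obtain ⟨i, rfl⟩ := hpow w hw
        rw [zpow_npow_swap, huk]
      have hukk : u ^ (k * k) = u ^ 1 := by
        rw [pow_one]
        apply hinj _ (Subgroup.pow_mem _ huQ _) _ huQ
        rw [map_pow, pow_mul, ← hσbk, ← hσbk, hA2]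
      have hmod : k * k ≡ 1 [MOD orderOf u] := pow_eq_pow_iff_modEq.1 hukk
      have hkk : 1 ≤ k * k := Nat.one_le_iff_ne_zero.2 (Nat.mul_ne_zero (by omega) (by omega))
      have hdvd : orderOf u ∣ k * k - 1 := (Nat.modEq_iff_dvd' hkk).1 hmod.symm
      have hfac : k * k - 1 = (k - 1) * (k + 1) := by
        obtain ⟨m, rfl⟩ : ∃ m, k = m + 1 := ⟨k - 1, by omega⟩
        rw [Nat.add_sub_cancel]
        exact Nat.sub_eq_of_eq_add (by ring)
      have hnd : ¬ orderOf u ∣ k - 1 := by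
        intro hd
        apply huk
        have h1 : u ^ (k - 1) = 1 := orderOf_dvd_iff_pow_eq_one.1 hd
        calc u ^ k = u ^ (k - 1 + 1) := by rw [Nat.sub_add_cancel hk1]
          _ = u := by rw [pow_succ, h1, one_mul]
      rw [hou] at hdvd hnd
      rw [hfac] at hdvd
      have h5 := pow_dvd_succ hqp hq2 hk1 hdvd hnd
      exact (pow_dvd_pow q hjE).trans h5
  have hinvA : ∀ a : Abelianization H, σb a = a⁻¹ := by
    intro a
    rw [hσbk]
    have h1 : orderOf a ∣ k + 1 := by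
      refine (orderOf_dvd_natCard a).trans ?_
      rw [← hog]
      exact hkey
    have h2 : a ^ (k + 1) = 1 := orderOf_dvd_iff_pow_eq_one.1 h1
    rw [pow_succ] at h2
    exact eq_inv_of_mul_eq_one_left h2
  have hmemD : ∀ h : H, σ h * h ∈ commutator H := by
    intro h
    rw [← hker, map_mul, ← hσb, hinvA, inv_mul_cancel]
  obtain ⟨⟨c, hcD⟩, hc⟩ := hDcyc.exists_generator
  have hDpow : ∀ d ∈ commutator H, ∃ i : ℤ, d = c ^ i := by
    intro d hd
    obtain ⟨i, hi⟩ := Subgroup.mem_zpowers_iff.1 (hc ⟨d, hd⟩)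
    refine ⟨i, ?_⟩
    have h' := congrArg Subtype.val hi
    simpa using h'.symm
  have hDcomm : ∀ d ∈ commutator H, ∀ e ∈ commutator H, d * e = e * d := by
    intro d hd e he
    obtain ⟨i, rfl⟩ := hDpow d hd
    obtain ⟨j, rfl⟩ := hDpow e he
    rw [← zpow_add, ← zpow_add, add_comm]
  have hchar : ∀ (ϕ : H ≃* H) (d : H), d ∈ commutator H → ϕ d ∈ commutator H := by
    intro ϕ d hd
    have h1 := (inferInstance : (commutator H).Characteristic).fixed ϕ
    rw [← h1] at hd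
    exact hd
  have hDn : (commutator H).Normal := inferInstance
  have hact : ∀ x : H, ∃ t : ℤ, ∀ d ∈ commutator H, x * d * x⁻¹ = d ^ t := by
    intro x
    obtain ⟨t, ht⟩ := hDpow (x * c * x⁻¹) (hDn.conj_mem c hcD x)
    refine ⟨t, ?_⟩
    intro d hd
    obtain ⟨i, rfl⟩ := hDpow d hd
    rw [← conj_zpow, ht, ← zpow_mul, ← zpow_mul, mul_comm]
  have hcent : ∀ h : H, ∀ d ∈ commutator H, h * d = d * h := by
    intro h
    have hC : ∀ x : H, (∀ d ∈ commutator H, x * d * x⁻¹ = d) →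
        x ∈ Subgroup.centralizer ((commutator H : Subgroup H) : Set H) := by
      intro x hx
      rw [Subgroup.mem_centralizer_iff]
      intro d hd
      have h1 := hx d hd
      calc d * x = (x * d * x⁻¹) * x := by rw [h1]
        _ = x * d := by group
    obtain ⟨t, ht⟩ := hact h
    have h1 : ∀ d ∈ commutator H, σ h * d * (σ h)⁻¹ = d ^ t := by
      intro d hd
      have hd' : σ.symm d ∈ commutator H := hchar σ.symm d hd
      have h2 := congrArg σ (ht _ hd')
      rw [map_mul, map_mul, map_inv, map_zpow, MulEquiv.apply_symm_apply] at h2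
      exact h2
    have h2 : h⁻¹ * σ h ∈ Subgroup.centralizer ((commutator H : Subgroup H) : Set H) := by
      apply hC
      intro d hd
      have e1 := h1 d hd
      have e2 := ht d hd
      calc h⁻¹ * σ h * d * (h⁻¹ * σ h)⁻¹ = h⁻¹ * (σ h * d * (σ h)⁻¹) * h := by group
        _ = h⁻¹ * (h * d * h⁻¹) * h := by rw [e1, e2]
        _ = d := by group
    have he : σ h * h ∈ commutator H := hmemD h
    have he' : h⁻¹ * (σ h * h) * h⁻¹⁻¹ ∈ commutator H := hDn.conj_mem _ he h⁻¹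
    have h3 : h⁻¹ * (σ h * h) * h⁻¹⁻¹ ∈
        Subgroup.centralizer ((commutator H : Subgroup H) : Set H) := by
      rw [Subgroup.mem_centralizer_iff]
      intro d hd
      exact hDcomm d hd _ he'
    have h4 : h ^ 2 ∈ Subgroup.centralizer ((commutator H : Subgroup H) : Set H) := by
      have e : h ^ 2 = (h⁻¹ * σ h)⁻¹ * (h⁻¹ * (σ h * h) * h⁻¹⁻¹) := by
        rw [pow_two]
        group
      rw [e]
      exact Subgroup.mul_mem _ (Subgroup.inv_mem _ h2) h3
    have h5 : h ∈ Subgroup.centralizer ((commutator H : Subgroup H) : Set H) := by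
      have hoh : Odd (orderOf h) := Odd.of_dvd_nat hodd (orderOf_dvd_natCard h)
      obtain ⟨m, hm⟩ := hoh
      have e : h = (h ^ 2) ^ (m + 1) := by
        rw [← pow_mul, show 2 * (m + 1) = orderOf h + 1 by omega, pow_succ, pow_orderOf_eq_one,
          one_mul]
      rw [e]
      exact Subgroup.pow_mem _ h4 _
    intro d hd
    exact ((Subgroup.mem_centralizer_iff.1 h5) d hd).symm
  have hDcenter : commutator H ≤ Subgroup.center H := by
    intro d hd
    rw [Subgroup.mem_center_iff]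
    intro h
    exact hcent h d hd
  have hcomm : ∀ x y : H, x * y = y * x := by
    intro x y
    exact ((Abelianization.of : H →* Abelianization H).isMulCommutative_of_isCyclic_of_ker_le_center
      (by rw [Abelianization.ker_of]; exact hDcenter)).is_comm.comm x y
  have hDbot : commutator H = ⊥ := by
    rw [commutator_def, Subgroup.commutator_eq_bot_iff_le_centralizer]
    intro x _
    rw [Subgroup.mem_centralizer_iff]
    intro y _
    exact hcomm y x
  refine ⟨?_, hcomm, fun h => ?_⟩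
  · have hinjof : Function.Injective (Abelianization.of : H →* Abelianization H) := by
      rw [← MonoidHom.ker_eq_bot_iff, Abelianization.ker_of]
      exact hDbot
    exact isCyclic_of_injective _ hinjof
  · have h1 := hmemD h
    rw [hDbot, Subgroup.mem_bot] at h1
    exact eq_inv_of_mul_eq_one_left h1

end Abstract

section Zass

open MulAction

variable {G Ω : Type*} [Group G] [MulAction G Ω]

theorem fix_of_mem {a b : Ω} (hab : a ≠ b)
    (h3 : ∀ g : G, ∀ a b c : Ω, a ≠ b → b ≠ c → a ≠ c → g • a = a → g • b = b → g • c = c → g = 1)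
    (H : Subgroup G) (hmem : ∀ g : G, g ∈ H ↔ g • a = a ∧ g • b = b)
    {h : G} (hh : h ∈ H) (h1 : h ≠ 1) {c : Ω} (hc : h • c = c) : c = a ∨ c = b := by
  by_contra hcon
  push Not at hcon
  obtain ⟨hha, hhb⟩ := (hmem h).1 hh
  exact h1 (h3 h a b c hab (Ne.symm hcon.2) (Ne.symm hcon.1) hha hhb hc)

theorem swap_or_fix {a b : Ω} (hab : a ≠ b)
    (h3 : ∀ g : G, ∀ a b c : Ω, a ≠ b → b ≠ c → a ≠ c → g • a = a → g • b = b → g • c = c → g = 1)
    (H : Subgroup G) (hmem : ∀ g : G, g ∈ H ↔ g • a = a ∧ g • b = b)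
    {h : G} (hh : h ∈ H) (h1 : h ≠ 1) {g : G} (hg : g⁻¹ * h * g ∈ H) :
    (g • a = a ∧ g • b = b) ∨ (g • a = b ∧ g • b = a) := by
  obtain ⟨hga, hgb⟩ := (hmem _).1 hg
  have ha : h • (g • a) = g • a := by
    rw [mul_smul, mul_smul, inv_smul_eq_iff] at hga
    exact hga
  have hb : h • (g • b) = g • b := by
    rw [mul_smul, mul_smul, inv_smul_eq_iff] at hgb
    exact hgb
  rcases fix_of_mem hab h3 H hmem hh h1 ha with h4 | h4 <;>
    rcases fix_of_mem hab h3 H hmem hh h1 hb with h5 | h5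
  · exfalso
    exact hab (MulAction.injective g (h4.trans h5.symm))
  · exact Or.inl ⟨h4, h5⟩
  · exact Or.inr ⟨h4, h5⟩
  · exfalso
    exact hab (MulAction.injective g (h4.trans h5.symm))

theorem not_swap_of_odd {a b : Ω} (hab : a ≠ b) {g : G} (hga : g • a = b) (hgb : g • b = a)
    {m : ℕ} (hm : Odd m) (hg : g ^ m = 1) : False := by
  obtain ⟨k, rfl⟩ := hm
  have h2 : ∀ j : ℕ, g ^ (2 * j) • a = a := by
    intro j
    induction j with
    | zero => simp
    | succ j ih =>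
      rw [show 2 * (j + 1) = 2 * j + 1 + 1 by ring, pow_succ, pow_succ, mul_smul, mul_smul, hga,
        hgb]
      exact ih
  have h4 : g ^ (2 * k + 1) • a = b := by
    rw [pow_succ', mul_smul, h2 k, hga]
  rw [hg, one_smul] at h4
  exact hab h4

/-- The two-point stabiliser in a Zassenhaus-type action, when of odd order, is a Z-group. -/
theorem isZGroup_stab [Finite G] [Fintype Ω] {a b : Ω} (hab : a ≠ b)
    (h2t : ∀ a b c d : Ω, a ≠ b → c ≠ d → ∃ g : G, g • a = c ∧ g • b = d)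
    (h3 : ∀ g : G, ∀ a b c : Ω, a ≠ b → b ≠ c → a ≠ c → g • a = a → g • b = b → g • c = c → g = 1)
    (hfaith : FaithfulSMul G Ω)
    (H : Subgroup G) (hmem : ∀ g : G, g ∈ H ↔ g • a = a ∧ g • b = b)
    (hodd : Odd (Nat.card ↥H)) {h₁ : G} (hh₁ : h₁ ∈ H) (hh₁1 : h₁ ≠ 1) : IsZGroup ↥H := by
  classical
  let _ : Fintype ↥(SubMulAction.ofStabilizer G a) := Fintype.ofFinite _
  have hne : ∀ x : ↥(SubMulAction.ofStabilizer G a), (x : Ω) ≠ a :=
    fun x => (SubMulAction.mem_ofStabilizer_iff G a).mp x.2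
  obtain ⟨β₀, hβ₀⟩ : ∃ β₀ : ↥(SubMulAction.ofStabilizer G a), (β₀ : Ω) = b :=
    ⟨⟨b, (SubMulAction.mem_ofStabilizer_iff G a).mpr hab.symm⟩, rfl⟩
  obtain ⟨hh₁a, hh₁b⟩ := (hmem h₁).1 hh₁
  obtain ⟨c, hc⟩ : ∃ c : Ω, h₁ • c ≠ c := by
    by_contra hcon
    push Not at hcon
    apply hh₁1
    apply hfaith.eq_of_smul_eq_smul
    intro x
    rw [hcon x, one_smul]
  have hca : c ≠ a := by
    rintro rfl
    exact hc hh₁a
  have hcb : c ≠ b := by
    rintro rfl
    exact hc hh₁b
  obtain ⟨γ₀, hγ₀⟩ : ∃ γ₀ : ↥(SubMulAction.ofStabilizer G a), (γ₀ : Ω) = c :=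
    ⟨⟨c, (SubMulAction.mem_ofStabilizer_iff G a).mpr hca⟩, rfl⟩
  have hΩ : 1 < Fintype.card ↥(SubMulAction.ofStabilizer G a) := by
    rw [Fintype.one_lt_card_iff]
    refine ⟨β₀, γ₀, fun h => hcb ?_⟩
    rw [← hγ₀, ← hβ₀, h]
  have htrans : ∀ α β : ↥(SubMulAction.ofStabilizer G a),
      ∃ g : ↥(stabilizer G a), g • α = β := by
    intro α β
    obtain ⟨g, hga, hgα⟩ := h2t a α a β (hne α).symm (hne β).symm
    exact ⟨⟨g, mem_stabilizer_iff.2 hga⟩, Subtype.ext hgα⟩
  have hnreg : ∃ g : ↥(stabilizer G a), g ≠ 1 ∧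
      ∃ α : ↥(SubMulAction.ofStabilizer G a), g • α = α := by
    refine ⟨⟨h₁, mem_stabilizer_iff.2 hh₁a⟩, fun h => hh₁1 (congrArg Subtype.val h), β₀, ?_⟩
    apply Subtype.ext
    show h₁ • (β₀ : Ω) = β₀
    rw [hβ₀]
    exact hh₁b
  have hfix : ∀ g : ↥(stabilizer G a), g ≠ 1 → ∀ α β : ↥(SubMulAction.ofStabilizer G a),
      g • α = α → g • β = β → α = β := by
    intro g hg1 α β hα hβ
    by_contra hαβ
    apply hg1
    apply Subtype.ext
    exact h3 (g : G) a α β (hne α).symm (fun h => hαβ (Subtype.ext h)) (hne β).symm g.2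
      (congrArg Subtype.val hα) (congrArg Subtype.val hβ)
  have hF := (Cfsg.Agent.S4252.result hΩ htrans hnreg hfix β₀).1
  obtain ⟨N, hNset, hNn, hNc⟩ := Cfsg.Agent.Lib.Helper18.frobenius_kernel_subgroup _ hF
  have hNn' : N.Normal := hNn
  have hH1 : stabilizer ↥(stabilizer G a) β₀ ≠ ⊥ := hF.1
  have hH2 : stabilizer ↥(stabilizer G a) β₀ ≠ ⊤ := hF.2.1
  have hN1 : N ≠ ⊥ := by
    intro h
    rw [h] at hNc
    exact hH2 (Subgroup.isComplement'_bot_left.mp hNc)
  have hfpf := (Cfsg.Agent.Lib.Helper1.isFrobeniusComplement_iff_fpf N _ hNc hN1 hH1).mp hF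
  -- the isomorphism with `H`
  have hmem0 : ∀ z : ↥(stabilizer G a), z ∈ stabilizer ↥(stabilizer G a) β₀ ↔ (z : G) • b = b := by
    intro z
    rw [mem_stabilizer_iff, Subtype.ext_iff]
    show (z : G) • (β₀ : Ω) = β₀ ↔ _
    rw [hβ₀]
  let f : ↥H →* ↥(stabilizer ↥(stabilizer G a) β₀) :=
    { toFun := fun h => ⟨⟨h.1, mem_stabilizer_iff.2 ((hmem h.1).1 h.2).1⟩,
        (hmem0 _).2 ((hmem h.1).1 h.2).2⟩
      map_one' := rfl
      map_mul' := fun x y => rfl }
  have hf : Function.Injective f := by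
    intro x y hxy
    apply Subtype.ext
    exact congrArg (fun z : ↥(stabilizer ↥(stabilizer G a) β₀) => ((z : ↥(stabilizer G a)) : G)) hxy
  have hfs : Function.Surjective f := by
    intro z
    refine ⟨⟨z.1.1, (hmem _).2 ⟨z.1.2, (hmem0 _).1 z.2⟩⟩, ?_⟩
    exact Subtype.ext (Subtype.ext rfl)
  have hcardH0 : Nat.card ↥(stabilizer ↥(stabilizer G a) β₀) = Nat.card ↥H :=
    (Nat.card_eq_of_bijective f ⟨hf, hfs⟩).symm
  have hZ0 : IsZGroup ↥(stabilizer ↥(stabilizer G a) β₀) := by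
    refine ⟨fun p hp P => ?_⟩
    have hpF : Fact p.Prime := ⟨hp⟩
    rcases Cfsg.Agent.Lib.Helper1.sylow_isCyclic_or_quaternion_of_fpf N _ hN1 hfpf p P with
      h | ⟨n, ⟨e⟩⟩
    · exact h
    · exfalso
      have h1 : Nat.card P = 4 * 2 ^ n := by
        rw [Nat.card_congr e.toEquiv, Nat.card_eq_fintype_card, QuaternionGroup.card]
      have h2 : Nat.card P ∣ Nat.card ↥(stabilizer ↥(stabilizer G a) β₀) :=
        Subgroup.card_subgroup_dvd_card _
      rw [h1, hcardH0] at h2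
      have h4 : 2 ∣ Nat.card ↥H := Dvd.dvd.trans ⟨2 * 2 ^ n, by ring⟩ h2
      exact (Nat.not_even_iff_odd.2 hodd) (even_iff_two_dvd.2 h4)
  exact IsZGroup.of_injective (f := f) hf

theorem main_aux [Finite G] [Fintype Ω] (hZ : Cfsg.IsZassenhausGroup G Ω) {a b : Ω} (hab : a ≠ b)
    (H : Subgroup G) (hmem : ∀ g : G, g ∈ H ↔ g • a = a ∧ g • b = b)
    (hodd : Odd (Nat.card ↥H))
    (hnil : ∀ q : ℕ, q.Prime → q ∣ Nat.card ↥H →
      ¬ ∃ N : Subgroup G, N.Normal ∧ N.index = q ^ (Nat.card G).factorization q) :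
    IsCyclic ↥H ∧ Subgroup.centralizer (H : Set G) = H ∧
      ∀ s : G, s • a = b → s • b = a → ∀ h ∈ H, s * h * s⁻¹ = h⁻¹ := by
  classical
  obtain ⟨hfaith, h2t, h3, ⟨g₀, hg₀1, a₀, b₀, hab₀, hg₀a, hg₀b⟩, _⟩ := hZ
  rw [MulAction.is_two_pretransitive_iff] at h2t
  -- a nontrivial element of H
  obtain ⟨h₁, hh₁, hh₁1⟩ : ∃ h ∈ H, h ≠ 1 := by
    obtain ⟨k, hka, hkb⟩ := h2t hab₀ hab
    refine ⟨k * g₀ * k⁻¹, (hmem _).2 ⟨?_, ?_⟩, ?_⟩
    · rw [mul_smul, mul_smul, ← hka, inv_smul_smul, hg₀a]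
    · rw [mul_smul, mul_smul, ← hkb, inv_smul_smul, hg₀b]
    · intro h
      apply hg₀1
      have e : g₀ = k⁻¹ * (k * g₀ * k⁻¹) * k := by group
      rw [e, h]
      group
  have hZH : IsZGroup ↥H :=
    isZGroup_stab hab (fun a b c d h1 h2 => h2t h1 h2) h3 hfaith H hmem hodd hh₁ hh₁1
  -- a swapper
  obtain ⟨v, hva, hvb⟩ := h2t hab (Ne.symm hab)
  have hswapH : ∀ s : G, s • a = b → s • b = a → ∀ h ∈ H, s * h * s⁻¹ ∈ H := by
    intro s hsa hsb h hh
    obtain ⟨hha, hhb⟩ := (hmem h).1 hh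
    have hsia : s⁻¹ • a = b := inv_smul_eq_iff.2 hsb.symm
    have hsib : s⁻¹ • b = a := inv_smul_eq_iff.2 hsa.symm
    rw [hmem]
    constructor
    · rw [mul_smul, mul_smul, hsia, hhb, hsb]
    · rw [mul_smul, mul_smul, hsib, hha, hsa]
  have hvia : v⁻¹ • a = b := inv_smul_eq_iff.2 hvb.symm
  have hvib : v⁻¹ • b = a := inv_smul_eq_iff.2 hva.symm
  have hvH : ∀ h ∈ H, v * h * v⁻¹ ∈ H := hswapH v hva hvb
  have hvH' : ∀ h ∈ H, v⁻¹ * h * v ∈ H := by
    intro h hh
    have h1 := hswapH v⁻¹ hvia hvib h hh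
    rwa [inv_inv] at h1
  have hvv : v * v ∈ H := by
    rw [hmem]
    constructor
    · rw [mul_smul, hva, hvb]
    · rw [mul_smul, hvb, hva]
  let σ : ↥H ≃* ↥H :=
    { toFun := fun h => ⟨v * h * v⁻¹, hvH h h.2⟩
      invFun := fun h => ⟨v⁻¹ * h * v, hvH' h h.2⟩
      left_inv := fun h => Subtype.ext (by
        show v⁻¹ * (v * (h : G) * v⁻¹) * v = h
        group)
      right_inv := fun h => Subtype.ext (by
        show v * (v⁻¹ * (h : G) * v) * v⁻¹ = h
        group)
      map_mul' := fun x y => Subtype.ext (by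
        show v * ((x : G) * y) * v⁻¹ = (v * x * v⁻¹) * (v * y * v⁻¹)
        group) }
  have hσ : ∀ h : ↥H, ((σ h : ↥H) : G) = v * h * v⁻¹ := fun h => rfl
  have hσ2 : ∀ h : ↥H, σ (σ h) = (⟨v * v, hvv⟩ : ↥H) * h * (⟨v * v, hvv⟩ : ↥H)⁻¹ := by
    intro h
    apply Subtype.ext
    show v * (v * (h : G) * v⁻¹) * v⁻¹ = (v * v) * h * (v * v)⁻¹
    group
  have hq : ∀ q : ℕ, q.Prime → q ∣ Nat.card ↥H → ∃ Q : Sylow q ↥H,
      ((∃ h : ↥H, (∀ u ∈ (Q : Subgroup ↥H), h * u * h⁻¹ ∈ (Q : Subgroup ↥H)) ∧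
          ∃ u ∈ (Q : Subgroup ↥H), h * u * h⁻¹ ≠ u) ∨
       (∃ h : ↥H, (∀ u ∈ (Q : Subgroup ↥H), h * σ u * h⁻¹ ∈ (Q : Subgroup ↥H)) ∧
          ∃ u ∈ (Q : Subgroup ↥H), h * σ u * h⁻¹ ≠ u)) := by
    intro q hqp hqd
    have hqF : Fact q.Prime := ⟨hqp⟩
    have hq2 : q ≠ 2 := by
      rintro rfl
      exact (Nat.not_even_iff_odd.2 hodd) (even_iff_two_dvd.2 hqd)
    have hqodd : Odd q := hqp.odd_of_ne_two hq2
    obtain ⟨x, hx⟩ := exists_prime_orderOf_dvd_card' q hqd
    have hxo : orderOf (x : G) = q := by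
      rw [Subgroup.orderOf_coe]
      exact hx
    have hx1 : (x : G) ≠ 1 := by
      intro h
      rw [h, orderOf_one] at hxo
      exact hqp.one_lt.ne hxo
    have hxp : IsPGroup q ↥(Subgroup.zpowers (x : G)) :=
      IsPGroup.of_card (n := 1) (by rw [Nat.card_zpowers, hxo, pow_one])
    obtain ⟨P, hP⟩ := hxp.exists_le_sylow
    have hxP : (x : G) ∈ (P : Subgroup G) := hP (Subgroup.mem_zpowers _)
    have hPodd : ∀ g ∈ (P : Subgroup G),
        ((g • a = a ∧ g • b = b) ∨ (g • a = b ∧ g • b = a)) → g ∈ H := by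
      intro g hg hcase
      rcases hcase with h | h
      · exact (hmem g).2 h
      · exfalso
        obtain ⟨k, hk⟩ := P.2 ⟨g, hg⟩
        have hk' : g ^ q ^ k = 1 := by
          have h' := congrArg Subtype.val hk
          simpa using h'
        exact not_swap_of_odd hab h.1 h.2 hqodd.pow hk'
    have hPnt : Nontrivial ↥(P : Subgroup G) :=
      ⟨⟨⟨x, hxP⟩, 1, fun h => hx1 (congrArg Subtype.val h)⟩⟩
    have hZnt := P.2.center_nontrivial
    obtain ⟨z, hz1⟩ := exists_ne (1 : ↥(Subgroup.center ↥(P : Subgroup G)))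
    have hzG1 : ((z : ↥(P : Subgroup G)) : G) ≠ 1 := by
      intro h
      apply hz1
      apply Subtype.ext
      apply Subtype.ext
      exact h
    have hzc : ∀ g ∈ (P : Subgroup G), g * ((z : ↥(P : Subgroup G)) : G) =
        ((z : ↥(P : Subgroup G)) : G) * g := by
      intro g hg
      have h1 := Subgroup.mem_center_iff.1 z.2 ⟨g, hg⟩
      exact congrArg Subtype.val h1
    have hzH : ((z : ↥(P : Subgroup G)) : G) ∈ H := by
      apply hPodd _ z.1.2
      apply swap_or_fix hab h3 H hmem x.2 hx1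
      have e : (((z : ↥(P : Subgroup G)) : G))⁻¹ * (x : G) * ((z : ↥(P : Subgroup G)) : G)
          = x := by
        rw [mul_assoc, hzc x hxP, ← mul_assoc, inv_mul_cancel, one_mul]
      rw [e]
      exact x.2
    have hPH : (P : Subgroup G) ≤ H := by
      intro g hg
      apply hPodd g hg
      apply swap_or_fix hab h3 H hmem hzH hzG1
      have e : g⁻¹ * ((z : ↥(P : Subgroup G)) : G) * g = ((z : ↥(P : Subgroup G)) : G) := by
        rw [mul_assoc, ← hzc g hg, ← mul_assoc, inv_mul_cancel, one_mul]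
      rw [e]
      exact hzH
    have hQmem : ∀ u : ↥H, u ∈ ((P.subtype hPH : Sylow q ↥H) : Subgroup ↥H) ↔
        (u : G) ∈ (P : Subgroup G) := by
      intro u
      rw [Sylow.coe_subtype, Subgroup.mem_subgroupOf]
    -- Burnside
    have hnotle : ¬ (Subgroup.normalizer (P : Set G) ≤ Subgroup.centralizer (P : Set G)) := by
      intro hle
      apply hnil q hqp hqd
      refine ⟨(MonoidHom.transferSylow P hle).ker, inferInstance, ?_⟩
      have hc := MonoidHom.ker_transferSylow_isComplement' P hle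
      rw [hc.symm.index_eq_card]
      exact P.card_eq_multiplicity
    obtain ⟨g, hgN, hgC⟩ := SetLike.not_le_iff_exists.1 hnotle
    have hgN' : ∀ h : G, h ∈ (P : Subgroup G) ↔ g * h * g⁻¹ ∈ (P : Subgroup G) :=
      fun h => Subgroup.mem_normalizer_iff.1 hgN h
    obtain ⟨p₀, hp₀, hp₀g⟩ : ∃ p₀ ∈ (P : Subgroup G), p₀ * g ≠ g * p₀ := by
      by_contra hcon
      push Not at hcon
      exact hgC (Subgroup.mem_centralizer_iff.2 (fun h hh => hcon h hh))
    have hgx : g⁻¹ * (x : G) * g ∈ (P : Subgroup G) := by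
      rw [hgN']
      have e : g * (g⁻¹ * (x : G) * g) * g⁻¹ = x := by group
      rw [e]
      exact hxP
    rcases swap_or_fix hab h3 H hmem x.2 hx1 (hPH hgx) with hfixg | hswapg
    · -- g ∈ H
      have hgH : g ∈ H := (hmem g).2 hfixg
      refine ⟨P.subtype hPH, Or.inl ⟨⟨g, hgH⟩, ?_, ⟨p₀, hPH hp₀⟩, (hQmem _).2 hp₀, ?_⟩⟩
      · intro u hu
        rw [hQmem] at hu ⊢
        exact (hgN' _).1 hu
      · intro h
        have h' : g * p₀ * g⁻¹ = p₀ := congrArg Subtype.val h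
        apply hp₀g
        calc p₀ * g = (g * p₀ * g⁻¹) * g := by rw [h']
          _ = g * p₀ := by group
    · -- g swaps
      have hgvH : g * v⁻¹ ∈ H := by
        rw [hmem]
        constructor
        · rw [mul_smul, hvia, hswapg.2]
        · rw [mul_smul, hvib, hswapg.1]
      have hconj : ∀ u : ↥H, (((⟨g * v⁻¹, hgvH⟩ : ↥H) * σ u * (⟨g * v⁻¹, hgvH⟩ : ↥H)⁻¹ : ↥H) : G)
          = g * u * g⁻¹ := by
        intro u
        show (g * v⁻¹) * (v * (u : G) * v⁻¹) * (g * v⁻¹)⁻¹ = g * u * g⁻¹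
        group
      refine ⟨P.subtype hPH, Or.inr ⟨⟨g * v⁻¹, hgvH⟩, ?_, ⟨p₀, hPH hp₀⟩, (hQmem _).2 hp₀, ?_⟩⟩
      · intro u hu
        rw [hQmem] at hu ⊢
        rw [hconj]
        exact (hgN' _).1 hu
      · intro h
        have h' := congrArg Subtype.val h
        rw [hconj] at h'
        have h'' : g * p₀ * g⁻¹ = p₀ := h'
        apply hp₀g
        calc p₀ * g = (g * p₀ * g⁻¹) * g := by rw [h'']
          _ = g * p₀ := by group
  obtain ⟨hcyc, hcommH, hinv⟩ := inverts_of_zgroup hodd σ ⟨v * v, hvv⟩ hσ2 hq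
  have hinvG : ∀ h ∈ H, v * h * v⁻¹ = h⁻¹ := by
    intro h hh
    have h1 := congrArg Subtype.val (hinv ⟨h, hh⟩)
    exact h1
  have hcommG : ∀ x ∈ H, ∀ y ∈ H, x * y = y * x := by
    intro x hx y hy
    exact congrArg Subtype.val (hcommH ⟨x, hx⟩ ⟨y, hy⟩)
  have hiii : ∀ s : G, s • a = b → s • b = a → ∀ h ∈ H, s * h * s⁻¹ = h⁻¹ := by
    intro s hsa hsb h hh
    have hsv : s * v⁻¹ ∈ H := by
      rw [hmem]
      constructor
      · rw [mul_smul, hvia, hsb]
      · rw [mul_smul, hvib, hsa]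
    have h1 : s * h * s⁻¹ = (s * v⁻¹) * (v * h * v⁻¹) * (s * v⁻¹)⁻¹ := by group
    rw [h1, hinvG h hh, hcommG _ hsv _ (H.inv_mem hh), mul_assoc, mul_inv_cancel, mul_one]
  refine ⟨hcyc, ?_, hiii⟩
  apply le_antisymm
  · intro g hg
    rw [Subgroup.mem_centralizer_iff] at hg
    have hcg : h₁ * g = g * h₁ := hg h₁ hh₁
    have hconj : g⁻¹ * h₁ * g = h₁ := by
      rw [mul_assoc, hcg, ← mul_assoc, inv_mul_cancel, one_mul]
    rcases swap_or_fix hab h3 H hmem hh₁ hh₁1 (g := g) (by rw [hconj]; exact hh₁) with h | h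
    · exact (hmem g).2 h
    · exfalso
      have e1 := hiii g h.1 h.2 h₁ hh₁
      have e2 : g * h₁ * g⁻¹ = h₁ := by
        rw [← hcg, mul_assoc, mul_inv_cancel, mul_one]
      have e3 : h₁ = h₁⁻¹ := e2.symm.trans e1
      have e4 : h₁ ^ 2 = 1 := by
        rw [pow_two]
        exact mul_eq_one_iff_eq_inv.2 e3
      have e5 : orderOf h₁ ∣ 2 := orderOf_dvd_of_pow_eq_one e4
      have e6 : Odd (orderOf h₁) := by
        rw [← Subgroup.orderOf_mk h₁ hh₁]
        exact Odd.of_dvd_nat hodd (orderOf_dvd_natCard _)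
      rcases (Nat.dvd_prime Nat.prime_two).1 e5 with e7 | e7
      · exact hh₁1 (orderOf_eq_one_iff.1 e7)
      · rw [e7] at e6
        exact absurd e6 (by decide)
  · intro g hg
    rw [Subgroup.mem_centralizer_iff]
    intro h hh
    exact hcommG h hh g hg

/-- S0739 in the form stated. -/
theorem main [Finite G] [Fintype Ω] (hZ : Cfsg.IsZassenhausGroup G Ω) {a b : Ω} (hab : a ≠ b)
    (hodd : Odd (Nat.card ↥(stabilizer G a ⊓ stabilizer G b)))
    (hnil : ∀ q : ℕ, q.Prime → q ∣ Nat.card ↥(stabilizer G a ⊓ stabilizer G b) →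
      ¬ ∃ N : Subgroup G, N.Normal ∧ N.index = q ^ (Nat.card G).factorization q) :
    IsCyclic ↥(stabilizer G a ⊓ stabilizer G b) ∧
      Subgroup.centralizer ((stabilizer G a ⊓ stabilizer G b : Subgroup G) : Set G) =
        stabilizer G a ⊓ stabilizer G b ∧
      ∀ s : G, s • a = b → s • b = a → ∀ h ∈ stabilizer G a ⊓ stabilizer G b,
        s * h * s⁻¹ = h⁻¹ :=
  main_aux hZ hab (stabilizer G a ⊓ stabilizer G b)
    (fun g => by rw [Subgroup.mem_inf, mem_stabilizer_iff, mem_stabilizer_iff]) hodd hnil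

end Zass

end Cfsg.Agent.Helper29.ZInvert
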