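import Mathlib
import Cfsg.Prelude.Def_Solvable
import Cfsg.Prelude.Def_LieExceptional
import Cfsg.Agent.S4252
import Cfsg.Agent.Lib.Helper18.FrobeniusThm

/-!
# Helper29 library: Zassenhaus groups with two-point stabiliser of order `(n-1)/2`, part A
(group-level facts: an involution inverting the two-point stabiliser; the regular normal subgroup
of a point stabiliser).
-/

set_option autoImplicit false

namespace Cfsg.Agent.Helper29.ZassHalf

open MulAction

variable {G Ω : Type*} [Group G] [MulAction G Ω]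

theorem smul_inj' (g : G) {x y : Ω} (h : g • x = g • y) : x = y := MulAction.injective g h

/-- If `#Ω = 2 #H + 2` (`H` the stabiliser of `a, b`, only `1` fixes three points), and `w` swaps
`a, b` and fixes a third point, then every `h w` (`h ∈ H`) is an involution with a fixed point. -/
theorem half_inverts [Finite G] [Fintype Ω] {a b : Ω} (hab : a ≠ b)
    (h3 : ∀ g : G, ∀ a b c : Ω, a ≠ b → b ≠ c → a ≠ c → g • a = a → g • b = b → g • c = c → g = 1)
    (H : Subgroup G) (hmem : ∀ g : G, g ∈ H ↔ g • a = a ∧ g • b = b)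
    (hcard : Fintype.card Ω = 2 * Nat.card ↥H + 2)
    (w : G) (hwa : w • a = b) (hwb : w • b = a) (c : Ω) (hca : c ≠ a) (hcb : c ≠ b)
    (hwc : w • c = c) :
    (∀ x : Ω, x ≠ a → x ≠ b → ∃ h ∈ H, (h * w) • x = x) ∧ ∀ h ∈ H, (h * w) * (h * w) = 1 := by
  classical
  let _ : Fintype ↥H := Fintype.ofFinite _
  have hcH : Nat.card ↥H = Fintype.card ↥H := Nat.card_eq_fintype_card
  have hsemi : ∀ h ∈ H, ∀ x : Ω, x ≠ a → x ≠ b → h • x = x → h = 1 := by
    intro h hh x hxa hxb hx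
    obtain ⟨hha, hhb⟩ := (hmem h).1 hh
    exact h3 h a b x hab (Ne.symm hxb) (Ne.symm hxa) hha hhb hx
  have hwinv_a : w⁻¹ • a = b := inv_smul_eq_iff.2 hwb.symm
  have hwinv_b : w⁻¹ • b = a := inv_smul_eq_iff.2 hwa.symm
  have hwH : ∀ k ∈ H, w * k * w⁻¹ ∈ H := by
    intro k hk
    obtain ⟨hka, hkb⟩ := (hmem k).1 hk
    rw [hmem]
    constructor
    · rw [mul_smul, mul_smul, hwinv_a, hkb, hwb]
    · rw [mul_smul, mul_smul, hwinv_b, hka, hwa]
  have hwH' : ∀ k ∈ H, w⁻¹ * k * w ∈ H := by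
    intro k hk
    obtain ⟨hka, hkb⟩ := (hmem k).1 hk
    rw [hmem]
    constructor
    · rw [mul_smul, mul_smul, hwa, hkb, hwinv_b]
    · rw [mul_smul, mul_smul, hwb, hka, hwinv_a]
  have hHne : ∀ h ∈ H, ∀ x : Ω, x ≠ a → x ≠ b → h • x ≠ a ∧ h • x ≠ b := by
    intro h hh x hxa hxb
    obtain ⟨hha, hhb⟩ := (hmem h).1 hh
    constructor
    · intro h1
      apply hxa
      apply smul_inj' h
      rw [h1, hha]
    · intro h1
      apply hxb
      apply smul_inj' h
      rw [h1, hhb]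
  have hwne : ∀ x : Ω, x ≠ a → x ≠ b → w • x ≠ a ∧ w • x ≠ b := by
    intro x hxa hxb
    constructor
    · intro h1
      apply hxb
      apply smul_inj' w
      rw [h1, hwb]
    · intro h1
      apply hxa
      apply smul_inj' w
      rw [h1, hwa]
  obtain ⟨Δ, hΔmem⟩ : ∃ Δ : Finset Ω, ∀ x, x ∈ Δ ↔ x ≠ a ∧ x ≠ b :=
    ⟨Finset.univ.filter (fun x => x ≠ a ∧ x ≠ b), fun x => by simp⟩
  have hΔcard : Δ.card = 2 * Fintype.card ↥H := by
    have h1 : Δ = Finset.univ \ {a, b} := by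
      ext x
      rw [hΔmem]
      simp
    rw [h1, Finset.card_sdiff_of_subset (Finset.subset_univ _), Finset.card_univ,
      Finset.card_pair hab, hcard, hcH]
    omega
  have horb_card : ∀ y : Ω, y ≠ a → y ≠ b →
      (Finset.univ.image (fun h : ↥H => (h : G) • y)).card = Fintype.card ↥H := by
    intro y hya hyb
    rw [Finset.card_image_of_injective, Finset.card_univ]
    intro h k hhk
    have hhk' : (h : G) • y = (k : G) • y := hhk
    have h1 : ((k⁻¹ * h : ↥H) : G) • y = y := by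
      rw [Subgroup.coe_mul, Subgroup.coe_inv, mul_smul, hhk', inv_smul_smul]
    have h2 := hsemi _ (k⁻¹ * h).2 y hya hyb h1
    have h3' : k⁻¹ * h = 1 := Subtype.ext h2
    exact (inv_mul_eq_one.1 h3').symm
  obtain ⟨O₁, hO₁def⟩ : ∃ O₁ : Finset Ω, O₁ = Finset.univ.image (fun h : ↥H => (h : G) • c) :=
    ⟨_, rfl⟩
  have hO₁mem : ∀ x, x ∈ O₁ ↔ ∃ k : ↥H, (k : G) • c = x := by
    intro x
    rw [hO₁def, Finset.mem_image]
    constructor
    · rintro ⟨k, -, hk⟩
      exact ⟨k, hk⟩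
    · rintro ⟨k, hk⟩
      exact ⟨k, Finset.mem_univ _, hk⟩
  have hO₁Δ : O₁ ⊆ Δ := by
    intro x hx
    obtain ⟨h, rfl⟩ := (hO₁mem x).1 hx
    exact (hΔmem _).2 (hHne h h.2 c hca hcb)
  have hO₁card : O₁.card = Fintype.card ↥H := by
    rw [hO₁def]
    exact horb_card c hca hcb
  have hΔ₂card : (Δ \ O₁).card = Fintype.card ↥H := by
    rw [Finset.card_sdiff_of_subset hO₁Δ, hΔcard, hO₁card]
    omega
  have hsame : ∀ x y : Ω, x ∈ Δ \ O₁ → y ∈ Δ \ O₁ → ∃ h ∈ H, h • y = x := by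
    intro x y hx hy
    obtain ⟨hyΔ, hyO⟩ := Finset.mem_sdiff.1 hy
    obtain ⟨hya, hyb⟩ := (hΔmem y).1 hyΔ
    have hsub : Finset.univ.image (fun h : ↥H => (h : G) • y) ⊆ Δ \ O₁ := by
      intro u hu
      obtain ⟨h, -, hh⟩ := Finset.mem_image.1 hu
      have hh' : (h : G) • y = u := hh
      rw [Finset.mem_sdiff]
      refine ⟨?_, ?_⟩
      · rw [← hh']
        exact (hΔmem _).2 (hHne h h.2 y hya hyb)
      · intro hO
        obtain ⟨k, hk⟩ := (hO₁mem u).1 hO
        apply hyO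
        rw [hO₁mem]
        refine ⟨h⁻¹ * k, ?_⟩
        rw [Subgroup.coe_mul, Subgroup.coe_inv, mul_smul, hk, ← hh', inv_smul_smul]
    have heq := Finset.eq_of_subset_of_card_le hsub (by rw [hΔ₂card, horb_card y hya hyb])
    have hx' : x ∈ Finset.univ.image (fun h : ↥H => (h : G) • y) := by
      rw [heq]
      exact hx
    obtain ⟨h, -, hh⟩ := Finset.mem_image.1 hx'
    exact ⟨h, h.2, hh⟩
  have hA : ∀ x : Ω, x ≠ a → x ≠ b → ∃ h ∈ H, (h * w) • x = x := by
    intro x hxa hxb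
    have hxΔ : x ∈ Δ := (hΔmem x).2 ⟨hxa, hxb⟩
    by_cases hxO : x ∈ O₁
    · obtain ⟨k, hk⟩ := (hO₁mem x).1 hxO
      refine ⟨k * (w * k * w⁻¹)⁻¹, H.mul_mem k.2 (H.inv_mem (hwH k k.2)), ?_⟩
      rw [← hk, ← mul_smul]
      have e : (k : G) * (w * k * w⁻¹)⁻¹ * w * k = k * w := by group
      rw [e, mul_smul, hwc]
    · have hwx := hwne x hxa hxb
      have hwxΔ : w • x ∈ Δ \ O₁ := by
        rw [Finset.mem_sdiff]
        refine ⟨(hΔmem _).2 hwx, ?_⟩
        intro hO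
        obtain ⟨k, hk⟩ := (hO₁mem _).1 hO
        apply hxO
        rw [hO₁mem]
        refine ⟨⟨w⁻¹ * k * w, hwH' k k.2⟩, ?_⟩
        show (w⁻¹ * (k : G) * w) • c = x
        rw [mul_smul, mul_smul, hwc, hk, inv_smul_smul]
      obtain ⟨h, hh, hhx⟩ := hsame x (w • x) (Finset.mem_sdiff.2 ⟨hxΔ, hxO⟩) hwxΔ
      exact ⟨h, hh, by rw [mul_smul]; exact hhx⟩
  have hfix2 : ∀ h ∈ H, ∀ x y z : Ω, x ≠ y → x ≠ z → y ≠ z → (h * w) • x = x →
      (h * w) • y = y → (h * w) • z = z → False := by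
    intro h hh x y z hxy hxz hyz hx hy hz
    have h1 := h3 (h * w) x y z hxy hyz hxz hx hy hz
    have h2 : (h * w) • a = b := by
      rw [mul_smul, hwa]
      exact ((hmem h).1 hh).2
    rw [h1, one_smul] at h2
    exact hab h2
  have hΦ : ∀ x : Ω, ∃ h : ↥H, x ∈ Δ → ((h : G) * w) • x = x := by
    intro x
    by_cases hx : x ∈ Δ
    · obtain ⟨hxa, hxb⟩ := (hΔmem x).1 hx
      obtain ⟨h, hh, hhx⟩ := hA x hxa hxb
      exact ⟨⟨h, hh⟩, fun _ => hhx⟩
    · exact ⟨1, fun h => absurd h hx⟩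
  choose Φ hΦ using hΦ
  have hcount := Finset.card_le_mul_card_image (f := Φ) Δ 2 (by
    intro h _
    by_contra hcon
    push Not at hcon
    obtain ⟨x, hx, y, hy, z, hz, hxy, hxz, hyz⟩ := Finset.two_lt_card.1 hcon
    rw [Finset.mem_filter] at hx hy hz
    have e1 := hΦ x hx.1
    have e2 := hΦ y hy.1
    have e3 := hΦ z hz.1
    rw [hx.2] at e1
    rw [hy.2] at e2
    rw [hz.2] at e3
    exact hfix2 h h.2 x y z hxy hxz hyz e1 e2 e3)
  have himg : Δ.image Φ = Finset.univ := by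
    apply Finset.eq_univ_of_card
    apply le_antisymm (Finset.card_le_univ _)
    rw [hΔcard] at hcount
    omega
  refine ⟨hA, ?_⟩
  intro h hh
  have h1 : (⟨h, hh⟩ : ↥H) ∈ Δ.image Φ := by
    rw [himg]
    exact Finset.mem_univ _
  obtain ⟨x, hxΔ, hxΦ⟩ := Finset.mem_image.1 h1
  have e1 := hΦ x hxΔ
  rw [hxΦ] at e1
  have e1' : (h * w) • x = x := e1
  obtain ⟨hxa, hxb⟩ := (hΔmem x).1 hxΔ
  have hhw_a : (h * w) • a = b := by
    rw [mul_smul, hwa]
    exact ((hmem h).1 hh).2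
  have hhw_b : (h * w) • b = a := by
    rw [mul_smul, hwb]
    exact ((hmem h).1 hh).1
  apply h3 ((h * w) * (h * w)) a b x hab (Ne.symm hxb) (Ne.symm hxa)
  · rw [mul_smul, hhw_a, hhw_b]
  · rw [mul_smul, hhw_b, hhw_a]
  · rw [mul_smul, e1', e1']

/-- An involution swapping `a, b` with a fixed point, obtained by conjugating an involution of the
two-point stabiliser. -/
theorem exists_fixed_swapper [Finite G] {a b : Ω} (hab : a ≠ b)
    (h2t : ∀ a b c d : Ω, a ≠ b → c ≠ d → ∃ g : G, g • a = c ∧ g • b = d)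
    (h3 : ∀ g : G, ∀ a b c : Ω, a ≠ b → b ≠ c → a ≠ c → g • a = a → g • b = b → g • c = c → g = 1)
    (H : Subgroup G) (hmem : ∀ g : G, g ∈ H ↔ g • a = a ∧ g • b = b)
    (heven : Even (Nat.card ↥H)) (hx : ∃ x : Ω, x ≠ a ∧ x ≠ b) :
    ∃ (w : G) (c : Ω), w • a = b ∧ w • b = a ∧ c ≠ a ∧ c ≠ b ∧ w • c = c := by
  have h2F : Fact (Nat.Prime 2) := ⟨Nat.prime_two⟩
  obtain ⟨z', hz'⟩ := exists_prime_orderOf_dvd_card' 2 (even_iff_two_dvd.1 heven)
  have hzo : orderOf (z' : G) = 2 := by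
    rw [Subgroup.orderOf_coe]
    exact hz'
  have hz1 : (z' : G) ≠ 1 := by
    intro h
    rw [h, orderOf_one] at hzo
    omega
  have hzz : (z' : G) * z' = 1 := by
    rw [← pow_two, ← hzo]
    exact pow_orderOf_eq_one _
  obtain ⟨hza, hzb⟩ := (hmem _).1 z'.2
  obtain ⟨x, hxa, hxb⟩ := hx
  have hzx : (z' : G) • x ≠ x := fun h =>
    hz1 (h3 _ a b x hab (Ne.symm hxb) (Ne.symm hxa) hza hzb h)
  have hya : (z' : G) • x ≠ a := by
    intro h
    apply hxa
    apply smul_inj' (z' : G)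
    rw [h, hza]
  obtain ⟨g, hgx, hgy⟩ := h2t x ((z' : G) • x) a b (Ne.symm hzx) hab
  refine ⟨g * z' * g⁻¹, g • a, ?_, ?_, ?_, ?_, ?_⟩
  · have e : g⁻¹ • a = x := inv_smul_eq_iff.2 hgx.symm
    rw [mul_smul, mul_smul, e, hgy]
  · have e : g⁻¹ • b = (z' : G) • x := inv_smul_eq_iff.2 hgy.symm
    rw [mul_smul, mul_smul, e, ← mul_smul (z' : G), hzz, one_smul, hgx]
  · intro h
    apply hxa
    apply smul_inj' g
    rw [hgx, h]
  · intro h
    apply hya
    apply smul_inj' g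
    rw [hgy, h]
  · rw [mul_smul, mul_smul, inv_smul_smul, hza]

/-- The regular normal subgroup (Frobenius kernel) of a point stabiliser, and the group order. -/
theorem exists_regular_normal [Finite G] [Fintype Ω] {a b : Ω} (hab : a ≠ b)
    (h2t : ∀ a b c d : Ω, a ≠ b → c ≠ d → ∃ g : G, g • a = c ∧ g • b = d)
    (h3 : ∀ g : G, ∀ a b c : Ω, a ≠ b → b ≠ c → a ≠ c → g • a = a → g • b = b → g • c = c → g = 1)
    (hfaith : FaithfulSMul G Ω)
    (H : Subgroup G) (hmem : ∀ g : G, g ∈ H ↔ g • a = a ∧ g • b = b)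
    {h₁ : G} (hh₁ : h₁ ∈ H) (hh₁1 : h₁ ≠ 1) :
    ∃ F : Subgroup G, F ≤ stabilizer G a ∧ (F.subgroupOf (stabilizer G a)).Normal ∧
      (∀ y z : Ω, y ≠ a → z ≠ a → ∃! u : F, (u : G) • y = z) ∧
      Nat.card G = Fintype.card Ω * ((Fintype.card Ω - 1) * Nat.card ↥H) := by
  classical
  let _ : Fintype ↥(SubMulAction.ofStabilizer G a) := Fintype.ofFinite _
  have hne : ∀ x : ↥(SubMulAction.ofStabilizer G a), (x : Ω) ≠ a :=
    fun x => (SubMulAction.mem_ofStabilizer_iff G a).mp x.2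
  obtain ⟨β₀, hβ₀⟩ : ∃ β₀ : ↥(SubMulAction.ofStabilizer G a), (β₀ : Ω) = b :=
    ⟨⟨b, (SubMulAction.mem_ofStabilizer_iff G a).mpr hab.symm⟩, rfl⟩
  obtain ⟨hh₁a, hh₁b⟩ := (hmem h₁).1 hh₁
  obtain ⟨c, hc⟩ : ∃ c : Ω, h₁ • c ≠ c := by
    by_contra hcon
    push Not at hcon
    apply hh₁1
    apply hfaith.eq_of_smul_eq_smul
    intro x
    rw [hcon x, one_smul]
  have hca : c ≠ a := by
    rintro rfl
    exact hc hh₁a
  have hcb : c ≠ b := by
    rintro rfl
    exact hc hh₁b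
  obtain ⟨γ₀, hγ₀⟩ : ∃ γ₀ : ↥(SubMulAction.ofStabilizer G a), (γ₀ : Ω) = c :=
    ⟨⟨c, (SubMulAction.mem_ofStabilizer_iff G a).mpr hca⟩, rfl⟩
  have hΩ : 1 < Fintype.card ↥(SubMulAction.ofStabilizer G a) := by
    rw [Fintype.one_lt_card_iff]
    refine ⟨β₀, γ₀, fun h => hcb ?_⟩
    rw [← hγ₀, ← hβ₀, h]
  have htrans : ∀ α β : ↥(SubMulAction.ofStabilizer G a),
      ∃ g : ↥(stabilizer G a), g • α = β := by
    intro α β
    obtain ⟨g, hga, hgα⟩ := h2t a α a β (hne α).symm (hne β).symm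
    exact ⟨⟨g, mem_stabilizer_iff.2 hga⟩, Subtype.ext hgα⟩
  have hnreg : ∃ g : ↥(stabilizer G a), g ≠ 1 ∧
      ∃ α : ↥(SubMulAction.ofStabilizer G a), g • α = α := by
    refine ⟨⟨h₁, mem_stabilizer_iff.2 hh₁a⟩, fun h => hh₁1 (congrArg Subtype.val h), β₀, ?_⟩
    apply Subtype.ext
    show h₁ • (β₀ : Ω) = β₀
    rw [hβ₀]
    exact hh₁b
  have hfix : ∀ g : ↥(stabilizer G a), g ≠ 1 → ∀ α β : ↥(SubMulAction.ofStabilizer G a),
      g • α = α → g • β = β → α = β := by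
    intro g hg1 α β hα hβ
    by_contra hαβ
    apply hg1
    apply Subtype.ext
    exact h3 (g : G) a α β (hne α).symm (fun h => hαβ (Subtype.ext h)) (hne β).symm g.2
      (congrArg Subtype.val hα) (congrArg Subtype.val hβ)
  have hres := Cfsg.Agent.S4252.result hΩ htrans hnreg hfix β₀
  have hF := hres.1
  have hker := hres.2
  obtain ⟨N, hNset, hNn, hNc⟩ := Cfsg.Agent.Lib.Helper18.frobenius_kernel_subgroup _ hF
  have hfree : ∀ n ∈ N, ∀ ω : ↥(SubMulAction.ofStabilizer G a), n • ω = ω → n = 1 := by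
    intro n hn ω hω
    have h1 : n ∈ (N : Set ↥(stabilizer G a)) := hn
    rw [hNset, hker] at h1
    rcases h1 with h1 | h1
    · exact h1
    · exact absurd hω (h1 ω)
  -- cardinalities
  have hmem0 : ∀ z : ↥(stabilizer G a), z ∈ stabilizer ↥(stabilizer G a) β₀ ↔ (z : G) • b = b := by
    intro z
    rw [mem_stabilizer_iff, Subtype.ext_iff]
    show (z : G) • (β₀ : Ω) = β₀ ↔ _
    rw [hβ₀]
  let f : ↥H →* ↥(stabilizer ↥(stabilizer G a) β₀) :=
    { toFun := fun h => ⟨⟨h.1, mem_stabilizer_iff.2 ((hmem h.1).1 h.2).1⟩,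
        (hmem0 _).2 ((hmem h.1).1 h.2).2⟩
      map_one' := rfl
      map_mul' := fun x y => rfl }
  have hf : Function.Injective f := by
    intro x y hxy
    apply Subtype.ext
    exact congrArg (fun z : ↥(stabilizer ↥(stabilizer G a) β₀) => ((z : ↥(stabilizer G a)) : G)) hxy
  have hfs : Function.Surjective f := by
    intro z
    refine ⟨⟨z.1.1, (hmem _).2 ⟨z.1.2, (hmem0 _).1 z.2⟩⟩, ?_⟩
    exact Subtype.ext (Subtype.ext rfl)
  have hcardH0 : Nat.card ↥(stabilizer ↥(stabilizer G a) β₀) = Nat.card ↥H :=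
    (Nat.card_eq_of_bijective f ⟨hf, hfs⟩).symm
  have hpt : IsPretransitive ↥(stabilizer G a) ↥(SubMulAction.ofStabilizer G a) := ⟨htrans⟩
  have hidx0 : (stabilizer ↥(stabilizer G a) β₀).index =
      Nat.card ↥(SubMulAction.ofStabilizer G a) := index_stabilizer_of_transitive _ β₀
  have hcardGa : Nat.card ↥(stabilizer G a) =
      Nat.card ↥H * Nat.card ↥(SubMulAction.ofStabilizer G a) := by
    rw [← hcardH0, ← hidx0]
    exact (Subgroup.card_mul_index _).symm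
  have hcardN : Nat.card ↥N = Nat.card ↥(SubMulAction.ofStabilizer G a) := by
    have h1 := hNc.card_mul_card
    have h2 : Nat.card ↥N * Nat.card ↥H =
        Nat.card ↥(SubMulAction.ofStabilizer G a) * Nat.card ↥H := by
      rw [mul_comm (Nat.card ↥(SubMulAction.ofStabilizer G a)), ← hcardGa, ← hcardH0]
      exact h1
    have hHpos : 0 < Nat.card ↥H := Nat.card_pos
    exact Nat.eq_of_mul_eq_mul_right hHpos h2
  have hPts : Nat.card ↥(SubMulAction.ofStabilizer G a) + 1 = Nat.card Ω :=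
    SubMulAction.nat_card_ofStabilizer_add_one_eq G a
  have hNtrans : ∀ y z : ↥(SubMulAction.ofStabilizer G a), ∃ n ∈ N, n • y = z := by
    intro y z
    have hinj : Function.Injective (fun n : ↥N => (n : ↥(stabilizer G a)) • y) := by
      intro n n' hnn
      have hnn' : (n : ↥(stabilizer G a)) • y = (n' : ↥(stabilizer G a)) • y := hnn
      have h1 : ((n'⁻¹ * n : ↥N) : ↥(stabilizer G a)) • y = y := by
        rw [Subgroup.coe_mul, Subgroup.coe_inv, mul_smul, hnn', inv_smul_smul]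
      have h2 := hfree _ (n'⁻¹ * n).2 y h1
      have h3' : n'⁻¹ * n = 1 := Subtype.ext h2
      exact (inv_mul_eq_one.1 h3').symm
    have hbij := hinj.bijective_of_nat_card_le (le_of_eq hcardN.symm)
    obtain ⟨n, hn⟩ := hbij.2 z
    exact ⟨n, n.2, hn⟩
  refine ⟨N.map (stabilizer G a).subtype, Subgroup.map_subtype_le N, ?_, ?_, ?_⟩
  · have e : (N.map (stabilizer G a).subtype).subgroupOf (stabilizer G a) = N :=
      Subgroup.comap_map_eq_self_of_injective (stabilizer G a).subtype_injective N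
    rw [e]
    exact hNn
  · intro y z hy hz
    obtain ⟨n, hn, hnyz⟩ := hNtrans ⟨y, (SubMulAction.mem_ofStabilizer_iff G a).mpr hy⟩
      ⟨z, (SubMulAction.mem_ofStabilizer_iff G a).mpr hz⟩
    have hnyz' : ((n : ↥(stabilizer G a)) : G) • y = z := congrArg Subtype.val hnyz
    refine ⟨⟨(n : G), Subgroup.mem_map.2 ⟨n, hn, rfl⟩⟩, hnyz', ?_⟩
    rintro ⟨u, hu⟩ huy
    have huy' : u • y = z := huy
    obtain ⟨n', hn', rfl⟩ := Subgroup.mem_map.1 hu
    apply Subtype.ext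
    show ((n' : ↥(stabilizer G a)) : G) = (n : G)
    have h1 : (n⁻¹ * n') • (⟨y, (SubMulAction.mem_ofStabilizer_iff G a).mpr hy⟩ :
        ↥(SubMulAction.ofStabilizer G a)) = ⟨y, (SubMulAction.mem_ofStabilizer_iff G a).mpr hy⟩ := by
      apply Subtype.ext
      show ((n⁻¹ * n' : ↥(stabilizer G a)) : G) • y = y
      rw [Subgroup.coe_mul, Subgroup.coe_inv, mul_smul]
      have e : ((n' : ↥(stabilizer G a)) : G) • y = z := huy'
      rw [e, ← hnyz', inv_smul_smul]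
    have h2 := hfree _ (N.mul_mem (N.inv_mem hn) hn') _ h1
    have h3' : n = n' := inv_mul_eq_one.1 h2
    rw [h3']
  · have hptG : IsPretransitive G Ω := by
      refine ⟨fun x y => ?_⟩
      by_cases hxy : x = y
      · exact ⟨1, by rw [one_smul, hxy]⟩
      · obtain ⟨g, hg, -⟩ := h2t x y y x hxy (Ne.symm hxy)
        exact ⟨g, hg⟩
    have hidx : (stabilizer G a).index = Nat.card Ω := index_stabilizer_of_transitive G a
    have h1 : Nat.card ↥(stabilizer G a) * (stabilizer G a).index = Nat.card G :=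
      Subgroup.card_mul_index _
    rw [hidx, hcardGa] at h1
    have h2 : Nat.card Ω = Fintype.card Ω := Nat.card_eq_fintype_card
    rw [h2] at h1 hPts
    have h3' : Nat.card ↥(SubMulAction.ofStabilizer G a) = Fintype.card Ω - 1 := by omega
    rw [h3'] at h1
    rw [← h1]
    ring

end Cfsg.Agent.Helper29.ZassHalf
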