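import Mathlib
import Cfsg.Agent.Lib.Helper4.PSLp2
import Cfsg.Agent.Lib.Helper3.CardSL

/-!
# Helper29 library: Zassenhaus groups with two-point stabiliser of order `(n-1)/2`, part B
(a finite field from an abelian irreducible group of automorphisms; recognition of `PSL₂(K)`
in odd characteristic from the affine maps with square multiplier and `x ↦ -1/x`).
-/

set_option autoImplicit false
set_option linter.style.haveILetI false
set_option linter.unusedVariables false

namespace Cfsg.Agent.Helper29.ZassHalf

universe u v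

section FieldAct

variable {A : Type u} [AddCommGroup A] [Finite A] {H : Type v} [Group H] [Finite H]

theorem finite_End' : Finite (AddMonoid.End A) :=
  Finite.of_injective (fun f : AddMonoid.End A => (f : A → A)) DFunLike.coe_injective

/-- A finite abelian group `H` acting on a finite abelian group `A` so that non-identity elements
fix only `0`, with `#A ≤ 2 #H + 1`, makes `A` a one-dimensional vector space over a finite field in
which `H` acts by scalars. -/
theorem exists_field_of_action (ρ : H →* AddMonoid.End A) (hcomm : ∀ h k : H, h * k = k * h)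
    (hfree : ∀ h : H, ∀ x : A, x ≠ 0 → ρ h x = x → h = 1)
    (hbig : Nat.card A ≤ 2 * Nat.card H + 1) (hA : 1 < Nat.card A) :
    ∃ (E : Type u) (_ : Field E) (_ : Fintype E) (φ : E ≃+ A) (m : H →* Eˣ),
      Function.Injective m ∧ ∀ (h : H) (x : E), ρ h (φ x) = φ ((m h : E) * x) := by
  classical
  haveI : Finite (AddMonoid.End A) := finite_End'
  have hs_comm : ∀ x ∈ Set.range ρ, ∀ y ∈ Set.range ρ, x * y = y * x := by
    rintro _ ⟨h, rfl⟩ _ ⟨k, rfl⟩
    rw [← map_mul, ← map_mul, hcomm]
  let R : Subring (AddMonoid.End A) := Subring.closure (Set.range ρ)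
  letI RC : CommRing R :=
    { (inferInstance : Ring R) with
      mul_comm := (Subring.isMulCommutative_closure hs_comm).is_comm.comm }
  have hρR : ∀ h : H, ρ h ∈ R := fun h => Subring.subset_closure ⟨h, rfl⟩
  have hρinv : ∀ (h : H) (x : A), ρ h⁻¹ (ρ h x) = x := by
    intro h x
    have h1 : (ρ h⁻¹ * ρ h) x = x := by
      rw [← map_mul, inv_mul_cancel, map_one]
      rfl
    exact h1
  have hρinj : ∀ h : H, Function.Injective (ρ h) := by
    intro h x y hxy
    rw [← hρinv h x, ← hρinv h y, hxy]
  have hRcomm : ∀ e ∈ R, ∀ h : H, e * ρ h = ρ h * e := by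
    intro e he h
    have h1 := mul_comm (⟨e, he⟩ : R) ⟨ρ h, hρR h⟩
    exact congrArg Subtype.val h1
  have hirr : ∀ B : AddSubgroup A, (∀ h : H, ∀ x ∈ B, ρ h x ∈ B) → B = ⊥ ∨ B = ⊤ := by
    intro B hB
    by_cases hbot : B = ⊥
    · exact Or.inl hbot
    right
    obtain ⟨b, hbB, hb0⟩ : ∃ b ∈ B, b ≠ 0 := by
      by_contra hcon
      push Not at hcon
      apply hbot
      rw [eq_bot_iff]
      intro x hx
      rw [AddSubgroup.mem_bot]
      exact hcon x hx
    haveI : Fintype H := Fintype.ofFinite H
    haveI : Fintype B := Fintype.ofFinite B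
    let f : H → B := fun h => ⟨ρ h b, hB h b hbB⟩
    have hf : Function.Injective f := by
      intro h k hhk
      have h1 : ρ h b = ρ k b := congrArg Subtype.val hhk
      have h2 : ρ (k⁻¹ * h) b = b := by
        rw [map_mul]
        show ρ k⁻¹ (ρ h b) = b
        rw [h1, hρinv]
      have h4 := hfree _ b hb0 h2
      exact (inv_mul_eq_one.1 h4).symm
    have h0 : (0 : B) ∉ Set.range f := by
      rintro ⟨h, hh⟩
      have h1 : ρ h b = 0 := congrArg Subtype.val hh
      apply hb0
      apply hρinj h
      rw [h1, map_zero]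
    have hlt : Fintype.card H < Fintype.card B := Fintype.card_lt_of_injective_of_notMem f hf h0
    rw [← Nat.card_eq_fintype_card, ← Nat.card_eq_fintype_card] at hlt
    have hdvd : Nat.card B ∣ Nat.card A := AddSubgroup.card_addSubgroup_dvd_card B
    by_contra htop
    have hne : Nat.card B ≠ Nat.card A := fun h => htop ((AddSubgroup.card_eq_iff_eq_top B).1 h)
    obtain ⟨k, hk⟩ := hdvd
    have hApos : 0 < Nat.card A := Nat.card_pos
    have hk2 : 2 ≤ k := by
      by_contra hlt2
      have hk01 : k = 0 ∨ k = 1 := by omega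
      rcases hk01 with rfl | rfl
      · rw [mul_zero] at hk
        omega
      · rw [mul_one] at hk
        exact hne hk.symm
    have h5 : Nat.card B * 2 ≤ Nat.card B * k := Nat.mul_le_mul_left _ hk2
    rw [← hk] at h5
    omega
  have hker : ∀ e ∈ R, e ≠ 0 → Function.Injective e := by
    intro e he he0
    let Ke : AddSubgroup A :=
      { carrier := {x | e x = 0}
        zero_mem' := map_zero e
        add_mem' := by
          intro x y hx hy
          show e (x + y) = 0
          have hx' : e x = 0 := hx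
          have hy' : e y = 0 := hy
          rw [map_add, hx', hy', add_zero]
        neg_mem' := by
          intro x hx
          show e (-x) = 0
          have hx' : e x = 0 := hx
          rw [map_neg, hx', neg_zero] }
    have hB : ∀ h : H, ∀ x ∈ Ke, ρ h x ∈ Ke := by
      intro h x hx
      have hx' : e x = 0 := hx
      show e (ρ h x) = 0
      have h1 : (e * ρ h) x = (ρ h * e) x := by rw [hRcomm e he h]
      have h2 : e (ρ h x) = ρ h (e x) := h1
      rw [h2, hx', map_zero]
    rcases hirr _ hB with h | h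
    · rw [injective_iff_map_eq_zero]
      intro x hx
      have h1 : x ∈ Ke := hx
      rw [h, AddSubgroup.mem_bot] at h1
      exact h1
    · exfalso
      apply he0
      refine DFunLike.ext _ _ (fun x => ?_)
      have h1 : x ∈ Ke := by
        rw [h]
        exact AddSubgroup.mem_top x
      exact h1
  obtain ⟨v, hv⟩ : ∃ v : A, v ≠ 0 := by
    haveI : Nontrivial A := Finite.one_lt_card_iff_nontrivial.1 hA
    exact exists_ne 0
  haveI : Nontrivial R := by
    refine ⟨⟨0, 1, ?_⟩⟩
    intro h01
    have h1 : (0 : AddMonoid.End A) = 1 := congrArg Subtype.val h01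
    apply hv
    have h2 := DFunLike.congr_fun h1 v
    exact h2.symm
  haveI : NoZeroDivisors R := by
    refine ⟨fun {x y} hxy => ?_⟩
    by_cases hx : x = 0
    · exact Or.inl hx
    right
    have hx' : (x : AddMonoid.End A) ≠ 0 := fun h => hx (Subtype.ext h)
    have hinj := hker x.1 x.2 hx'
    apply Subtype.ext
    refine DFunLike.ext _ _ (fun w => ?_)
    apply hinj
    have h1 : ((x * y : R) : AddMonoid.End A) w = (0 : AddMonoid.End A) w := by
      rw [hxy]
      rfl
    have h2 : x.1 (y.1 w) = 0 := h1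
    rw [h2]
    show (0 : A) = x.1 0
    rw [map_zero]
  haveI : IsDomain R := NoZeroDivisors.to_isDomain R
  haveI : Fintype R := Fintype.ofFinite R
  letI FE : Field R := Fintype.fieldOfDomain R
  let ev : R →+ A :=
    { toFun := fun e => e.1 v
      map_zero' := rfl
      map_add' := fun e e' => rfl }
  have hev_inj : Function.Injective ev := by
    intro e e' hee
    have hee' : e.1 v = e'.1 v := hee
    by_contra hne
    have hsub : e - e' ≠ 0 := sub_ne_zero.2 hne
    have hsub' : ((e - e' : R) : AddMonoid.End A) ≠ 0 := fun h => hsub (Subtype.ext h)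
    have hinj := hker _ (e - e').2 hsub'
    apply hv
    apply hinj
    rw [map_zero]
    show e.1 v - e'.1 v = 0
    exact sub_eq_zero.2 hee'
  have hev_surj : Function.Surjective ev := by
    have hB : ∀ h : H, ∀ x ∈ ev.range, ρ h x ∈ ev.range := by
      rintro h _ ⟨e, rfl⟩
      exact ⟨⟨ρ h, hρR h⟩ * e, rfl⟩
    rcases hirr _ hB with h | h
    · exfalso
      apply hv
      have h1 : v ∈ ev.range := ⟨1, rfl⟩
      rw [h, AddSubgroup.mem_bot] at h1
      exact h1
    · intro x
      have h1 : x ∈ ev.range := by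
        rw [h]
        exact AddSubgroup.mem_top x
      exact h1
  let ρ' : H →* R :=
    { toFun := fun h => ⟨ρ h, hρR h⟩
      map_one' := Subtype.ext (map_one ρ)
      map_mul' := fun h k => Subtype.ext (map_mul ρ h k) }
  let m : H →* Rˣ := ρ'.toHomUnits
  refine ⟨R, FE, inferInstance, AddEquiv.ofBijective ev ⟨hev_inj, hev_surj⟩, m, ?_, ?_⟩
  · intro h k hhk
    have h1 : ((m h : Rˣ) : R) = (m k : R) := by rw [hhk]
    have h2 : ρ h = ρ k := congrArg Subtype.val h1
    have h3 : ρ (k⁻¹ * h) v = v := by
      rw [map_mul]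
      show ρ k⁻¹ (ρ h v) = v
      rw [h2, hρinv]
    exact (inv_mul_eq_one.1 (hfree _ v hv h3)).symm
  · intro h x
    rfl

end FieldAct

section Recognize

open OnePoint Cfsg.Agent.Lib.Helper9.Mobius

variable {K : Type*} [Field K] [Fintype K]
variable {G Ω : Type*} [Group G] [Finite G] [MulAction G Ω]

/-- **Recognition of `PSL₂(K)` in odd characteristic**: the point stabilizer acts by affine maps
with square multiplier, one element acts as `x ↦ -1/x`, and the order is right. -/
theorem recog_odd (h2 : (2 : K) ≠ 0) (pt : OnePoint K → Ω) (hpt : Function.Bijective pt)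
    (hfaith : ∀ g : G, (∀ x : Ω, g • x = x) → g = 1)
    (hB1 : ∀ g : G, g • pt ∞ = pt ∞ → ∃ s b : K, s ≠ 0 ∧
      ∀ x : K, g • pt (x : OnePoint K) = pt ((x * (s * s) + b : K) : OnePoint K))
    (t : G) (ht1 : t • pt ∞ = pt ((0 : K) : OnePoint K))
    (ht2 : t • pt ((0 : K) : OnePoint K) = pt ∞)
    (ht3 : ∀ x : K, x ≠ 0 → t • pt (x : OnePoint K) = pt ((-x⁻¹ : K) : OnePoint K))
    (hB3 : ∀ b : K, ∃ g : G, g • pt ∞ = pt ∞ ∧
      g • pt ((0 : K) : OnePoint K) = pt (b : OnePoint K))
    (hcard : Fintype.card K * (Fintype.card K ^ 2 - 1) ≤ 2 * Nat.card G) :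
    Nonempty (G ≃* Matrix.ProjectiveSpecialLinearGroup (Fin 2) K) := by
  classical
  let e : OnePoint K ≃ Ω := Equiv.ofBijective pt hpt
  let ι : Ω → OnePoint K := e.symm
  have hιpt : ∀ y, ι (pt y) = y := fun y => e.symm_apply_apply y
  have hptι : ∀ x, pt (ι x) = x := fun x => e.apply_symm_apply x
  have hι : Function.Bijective ι := e.symm.bijective
  have crit : ∀ (g : G) (S : Matrix.SpecialLinearGroup (Fin 2) K),
      (∀ y : OnePoint K, g • pt y = pt (Matrix.SpecialLinearGroup.toGL S • y)) →
      g ∈ mobiusSubgroup (F := K) ι := by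
    intro g S h
    refine ⟨S, fun x => ?_⟩
    have h1 := h (ι x)
    rw [hptι] at h1
    rw [h1, hιpt]
  have M1 : ∀ g : G, g • pt ∞ = pt ∞ → g ∈ mobiusSubgroup (F := K) ι := by
    intro g hg
    obtain ⟨s, b, hs0, hab⟩ := hB1 g hg
    have hdet : s * (1 / s) - (b / s) * 0 = 1 := by
      rw [mul_zero, sub_zero, mul_one_div, div_self hs0]
    apply crit g (mkSL s (b / s) 0 (1 / s) hdet)
    intro y
    induction y using OnePoint.rec with
    | infty => rw [mkSL_smul_infty, if_pos rfl, hg]
    | coe k =>
      have h1 : (0 : K) * k + 1 / s ≠ 0 := by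
        rw [zero_mul, zero_add]
        exact one_div_ne_zero hs0
      have e1 : (s * k + b / s) / (0 * k + 1 / s) = k * (s * s) + b := by
        rw [zero_mul, zero_add]
        field_simp
      rw [mkSL_smul_coe, hab k, if_neg h1, e1]
  have M2 : t ∈ mobiusSubgroup (F := K) ι := by
    have hdet : (0 : K) * 0 - (-1) * 1 = 1 := by ring
    apply crit t (mkSL 0 (-1) 1 0 hdet)
    intro y
    induction y using OnePoint.rec with
    | infty => rw [mkSL_smul_infty, if_neg one_ne_zero, ht1, zero_div]
    | coe k =>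
      rw [mkSL_smul_coe]
      by_cases hk : k = 0
      · subst hk
        have h0 : (1 : K) * 0 + 0 = 0 := by rw [mul_zero, add_zero]
        rw [if_pos h0, ht2]
      · have h1 : (1 : K) * k + 0 ≠ 0 := by
          rw [one_mul, add_zero]
          exact hk
        have e1 : ((0 : K) * k + -1) / (1 * k + 0) = -k⁻¹ := by
          rw [zero_mul, zero_add, one_mul, add_zero, neg_div, one_div]
        rw [if_neg h1, ht3 k hk, e1]
  have hall : ∀ g : G, g ∈ mobiusSubgroup (F := K) ι := by
    intro g
    by_cases hg : g • pt ∞ = pt ∞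
    · exact M1 g hg
    · have hne : ι (g • pt ∞) ≠ ∞ := by
        intro h
        apply hg
        rw [← hptι (g • pt ∞), h]
      obtain ⟨b, hb⟩ := OnePoint.ne_infty_iff_exists.mp hne
      have hgb : g • pt ∞ = pt (b : OnePoint K) := by
        rw [hb, hptι]
      obtain ⟨u, hu1, hu2⟩ := hB3 b
      have hw : (t⁻¹ * u⁻¹ * g) • pt ∞ = pt ∞ := by
        rw [mul_smul, mul_smul, hgb, ← hu2, inv_smul_smul, ← ht1, inv_smul_smul]
      have hmem := M1 _ hw
      have hprod : g = u * t * (t⁻¹ * u⁻¹ * g) := by group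
      rw [hprod]
      exact mul_mem (mul_mem (M1 u hu1) M2) hmem
  have hcardPSL : Nat.card (Matrix.ProjectiveSpecialLinearGroup (Fin 2) K) ≤ Nat.card G := by
    have e1 := Cfsg.Agent.Lib.Helper3.CardSL.card_PSL_mul (F := K) 2
    have e2 := Cfsg.Agent.Lib.Helper3.CardSL.card_center_SL2 (F := K) h2
    have e3 := Cfsg.Agent.Lib.Helper3.CardSL.card_SL2 (F := K)
    rw [e2, e3] at e1
    omega
  exact Cfsg.Agent.Helper4.PSLp.nonempty_mulEquiv_PSL ι hι hfaith
    (fun g => mem_mobiusSubgroup.mp (hall g)) hcardPSL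

end Recognize

end Cfsg.Agent.Helper29.ZassHalf
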