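import Mathlib
import Cfsg.Agent.S0741
import Cfsg.Agent.S0738
import Cfsg.Agent.Lib.Helper29.ZassHalfA
import Cfsg.Agent.Lib.Helper29.ZassHalfB
import Cfsg.Agent.Lib.Helper3.SLTransport

/-!
# Helper29 library: Zassenhaus groups with two-point stabiliser of order `(n-1)/2`, part C
(the functional equation for the inversion, coordinates, and the final assembly).
-/

set_option autoImplicit false
set_option linter.style.haveILetI false
set_option linter.unusedVariables false

namespace Cfsg.Agent.Helper29.ZassHalf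

open MulAction

universe u v

section FE

variable {E : Type*} [Field E]

/-- Solving the functional equation: an involutory map `j` of the nonzero elements, semilinear over
an index-two subgroup `S ∋ -1` of the multiplicative group, with `j 1 = -1` and
`j (j x + 1) = j (x - 1) - 1`, is `x ↦ -1/x`. -/
theorem fe_solve (S : Set E) (hS1 : (1 : E) ∈ S)
    (hSmul : ∀ x y : E, x ∈ S → y ∈ S → x * y ∈ S) (hSinv : ∀ x : E, x ∈ S → x⁻¹ ∈ S)
    (hS0 : (0 : E) ∉ S) (hSneg : (-1 : E) ∈ S)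
    (hidx : ∀ x y : E, x ≠ 0 → y ≠ 0 → x ∉ S → y ∉ S → x * y ∈ S)
    (ν : E) (hν0 : ν ≠ 0) (hνS : ν ∉ S)
    (j : E → E) (hj0 : ∀ x : E, x ≠ 0 → j x ≠ 0) (hjj : ∀ x : E, x ≠ 0 → j (j x) = x)
    (hjS : ∀ s : E, s ∈ S → ∀ x : E, x ≠ 0 → j (s * x) = s⁻¹ * j x)
    (hj1 : j 1 = -1)
    (hFE : ∀ x : E, x ≠ 0 → x ≠ 1 → j x + 1 ≠ 0 ∧ j (j x + 1) = j (x - 1) - 1) :
    ∀ x : E, x ≠ 0 → j x = -x⁻¹ := by
  have hSne : ∀ x : E, x ∈ S → x ≠ 0 := by
    intro x hx h
    rw [h] at hx
    exact hS0 hx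
  have hjs : ∀ s : E, s ∈ S → j s = -s⁻¹ := by
    intro s hs
    have h := hjS s hs 1 one_ne_zero
    rw [mul_one, hj1] at h
    rw [h, mul_neg, mul_one]
  have hmix : ∀ x y : E, x ∈ S → y ∉ S → x * y ∉ S := by
    intro x y hx hy hxy
    apply hy
    have h := hSmul x⁻¹ (x * y) (hSinv x hx) hxy
    rwa [← mul_assoc, inv_mul_cancel₀ (hSne x hx), one_mul] at h
  have hinvS : ∀ x : E, x ∉ S → x⁻¹ ∉ S := by
    intro x hx h
    apply hx
    have h' := hSinv _ h
    rwa [inv_inv] at h'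
  have hjν0 : j ν ≠ 0 := hj0 ν hν0
  have hjνS : j ν ∉ S := by
    intro h
    have h1 := hjs _ h
    rw [hjj ν hν0] at h1
    apply hνS
    rw [h1]
    have h2 := hSmul _ _ hSneg (hSinv _ h)
    rwa [neg_one_mul] at h2
  have hlamS : ν * j ν ∈ S := hidx ν (j ν) hν0 hjν0 hνS hjνS
  have hjoff : ∀ x : E, x ≠ 0 → x ∉ S → j x = (ν * j ν) * x⁻¹ := by
    intro x hx0 hxS
    have hs : x * ν⁻¹ ∈ S := hidx x ν⁻¹ hx0 (inv_ne_zero hν0) hxS (hinvS ν hνS)
    have h := hjS (x * ν⁻¹) hs ν hν0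
    rw [mul_assoc, inv_mul_cancel₀ hν0, mul_one] at h
    rw [h, mul_inv, inv_inv]
    ring
  obtain ⟨s, hsS, hs1, hs1S⟩ : ∃ s : E, s ∈ S ∧ s ≠ 1 ∧ s - 1 ∉ S := by
    by_contra hcon
    push Not at hcon
    have hT1 : ∀ x : E, (x = 0 ∨ x ∈ S) → (x - 1 = 0 ∨ x - 1 ∈ S) := by
      intro x hx
      rcases hx with hx | hx
      · right
        rw [hx, zero_sub]
        exact hSneg
      · by_cases h1 : x = 1
        · left
          rw [h1, sub_self]
        · right
          exact hcon x hx h1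
    have hTsub : ∀ x y : E, (x = 0 ∨ x ∈ S) → y ∈ S → (x - y = 0 ∨ x - y ∈ S) := by
      intro x y hx hy
      have hy0 := hSne y hy
      have hxy : x * y⁻¹ = 0 ∨ x * y⁻¹ ∈ S := by
        rcases hx with hx | hx
        · left
          rw [hx, zero_mul]
        · right
          exact hSmul _ _ hx (hSinv y hy)
      have h2 := hT1 _ hxy
      have e : x - y = y * (x * y⁻¹ - 1) := by
        rw [mul_sub, mul_one, mul_comm x, ← mul_assoc, mul_inv_cancel₀ hy0, one_mul]
      rcases h2 with h2 | h2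
      · left
        rw [e, h2, mul_zero]
      · right
        rw [e]
        exact hSmul _ _ hy h2
    by_cases hν1 : ν + 1 = 0 ∨ ν + 1 ∈ S
    · have h := hTsub (ν + 1) 1 hν1 hS1
      rw [add_sub_cancel_right] at h
      rcases h with h | h
      · exact hν0 h
      · exact hνS h
    · push Not at hν1
      obtain ⟨hν10, hν1S⟩ := hν1
      have hs : (ν + 1) * ν⁻¹ ∈ S := hidx _ _ hν10 (inv_ne_zero hν0) hν1S (hinvS ν hνS)
      have h := hTsub ((ν + 1) * ν⁻¹) 1 (Or.inr hs) hS1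
      have e : (ν + 1) * ν⁻¹ - 1 = ν⁻¹ := by
        rw [add_mul, mul_inv_cancel₀ hν0, one_mul, add_sub_cancel_left]
      rw [e] at h
      rcases h with h | h
      · exact inv_ne_zero hν0 h
      · exact hinvS ν hνS h
  have hs0 : s ≠ 0 := hSne s hsS
  have hs10 : s - 1 ≠ 0 := sub_ne_zero.2 hs1
  obtain ⟨hfe1, hfe2⟩ := hFE s hs0 hs1
  rw [hjs s hsS] at hfe1 hfe2
  have e1 : -s⁻¹ + 1 = (s - 1) * s⁻¹ := by
    rw [sub_mul, mul_inv_cancel₀ hs0, one_mul]
    ring
  have hq0 : (s - 1) * s⁻¹ ≠ 0 := mul_ne_zero hs10 (inv_ne_zero hs0)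
  have hqS : (s - 1) * s⁻¹ ∉ S := by
    rw [mul_comm]
    exact hmix _ _ (hSinv s hsS) hs1S
  rw [e1, hjoff _ hq0 hqS, hjoff _ hs10 hs1S] at hfe2
  have hlam : ν * j ν = -1 := by
    have h3 : ν * j ν * ((s - 1) * s⁻¹)⁻¹ = ν * j ν * (s - 1)⁻¹ * s := by
      rw [mul_inv, inv_inv]
      ring
    rw [h3] at hfe2
    have h4 : ν * j ν * s = ν * j ν - (s - 1) := by
      have h5 : ν * j ν * (s - 1)⁻¹ * s * (s - 1) = (ν * j ν * (s - 1)⁻¹ - 1) * (s - 1) := by
        rw [hfe2]
      have e5 : ν * j ν * (s - 1)⁻¹ * s * (s - 1) = ν * j ν * s := by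
        have e : ν * j ν * (s - 1)⁻¹ * s * (s - 1) = ν * j ν * s * ((s - 1)⁻¹ * (s - 1)) := by
          ring
        rw [e, inv_mul_cancel₀ hs10, mul_one]
      have e6 : (ν * j ν * (s - 1)⁻¹ - 1) * (s - 1) = ν * j ν - (s - 1) := by
        have e : (ν * j ν * (s - 1)⁻¹ - 1) * (s - 1) =
            ν * j ν * ((s - 1)⁻¹ * (s - 1)) - (s - 1) := by ring
        rw [e, inv_mul_cancel₀ hs10, mul_one]
      rw [e5, e6] at h5
      exact h5
    have h6 : (ν * j ν + 1) * (s - 1) = 0 := by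
      have e : (ν * j ν + 1) * (s - 1) = ν * j ν * s - (ν * j ν - (s - 1)) := by ring
      rw [e, h4, sub_self]
    rcases mul_eq_zero.1 h6 with h7 | h7
    · exact eq_neg_of_add_eq_zero_left h7
    · exact absurd h7 hs10
  intro x hx0
  by_cases hxS : x ∈ S
  · exact hjs x hxS
  · rw [hjoff x hx0 hxS, hlam, neg_one_mul]

end FE

section Coords

/-- Coordinates on an abelian group `F` acted on freely by an abelian group `H` of at least half
the size. -/
theorem exists_coords {F : Type u} [Group F] [Finite F] {H : Type v} [Group H] [Finite H]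
    (hFc : ∀ x y : F, x * y = y * x)
    (θ : H → F → F) (θmul : ∀ (h : H) (x y : F), θ h (x * y) = θ h x * θ h y)
    (θone : ∀ x : F, θ 1 x = x) (θcomp : ∀ (h k : H) (x : F), θ (h * k) x = θ h (θ k x))
    (hcomm : ∀ h k : H, h * k = k * h)
    (hfree : ∀ (h : H) (x : F), x ≠ 1 → θ h x = x → h = 1)
    (hbig : Nat.card F ≤ 2 * Nat.card H + 1) (hF1 : 1 < Nat.card F) :
    ∃ (E : Type u) (_ : Field E) (_ : Fintype E) (ψ : E → F) (m : H →* Eˣ),
      Function.Bijective ψ ∧ (∀ x y : E, ψ (x + y) = ψ x * ψ y) ∧ Function.Injective m ∧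
      ∀ (h : H) (x : E), θ h (ψ x) = ψ ((m h : E) * x) := by
  classical
  letI : CommGroup F := { (inferInstance : Group F) with mul_comm := hFc }
  let ρ : H →* AddMonoid.End (Additive F) :=
    { toFun := fun h => AddMonoidHom.mk' (fun x => Additive.ofMul (θ h (Additive.toMul x)))
        (by
          intro x y
          show Additive.ofMul (θ h (Additive.toMul x * Additive.toMul y)) =
            Additive.ofMul (θ h (Additive.toMul x) * θ h (Additive.toMul y))
          rw [θmul])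
      map_one' := by
        apply DFunLike.ext
        intro x
        show Additive.ofMul (θ 1 (Additive.toMul x)) = x
        rw [θone]
        rfl
      map_mul' := by
        intro h k
        apply DFunLike.ext
        intro x
        show Additive.ofMul (θ (h * k) (Additive.toMul x)) =
          Additive.ofMul (θ h (Additive.toMul (Additive.ofMul (θ k (Additive.toMul x)))))
        rw [θcomp]
        rfl }
  have hρ : ∀ (h : H) (x : Additive F), ρ h x = Additive.ofMul (θ h (Additive.toMul x)) :=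
    fun h x => rfl
  have hfree' : ∀ (h : H) (x : Additive F), x ≠ 0 → ρ h x = x → h = 1 := by
    intro h x hx0 hx
    apply hfree h (Additive.toMul x)
    · intro h1
      apply hx0
      exact Additive.toMul.injective h1
    · have h2 := congrArg Additive.toMul hx
      exact h2
  obtain ⟨E, instF, instFT, φ, m, hm, hφ⟩ := exists_field_of_action ρ hcomm hfree' hbig hF1
  refine ⟨E, instF, instFT, fun x => Additive.toMul (φ x), m, ?_, ?_, hm, ?_⟩
  · exact Additive.toMul.bijective.comp φ.bijective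
  · intro x y
    show Additive.toMul (φ (x + y)) = Additive.toMul (φ x) * Additive.toMul (φ y)
    rw [map_add]
    rfl
  · intro h x
    have h1 := hφ h x
    rw [hρ] at h1
    exact congrArg Additive.toMul h1

end Coords

/-- The coordinate map: `∞ ↦ a`, `x ↦ τ x • b`. -/
def ptOf {G Ω E : Type*} [SMul G Ω] (τ : E → G) (a b : Ω) (y : OnePoint E) : Ω :=
  Option.elim y a (fun x => τ x • b)

section Geom

variable {G Ω : Type*} [Group G] [Finite G] [MulAction G Ω] [Fintype Ω]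
variable {E : Type*} [Field E] [Fintype E]

/-- The geometric heart: from coordinates `τ` on the regular normal subgroup, scalars `m` on the
two-point stabiliser, and the inverting involutions `h w`, recognise `PSL₂(E)`. -/
theorem geom_main {a b : Ω} (hab : a ≠ b)
    (h3 : ∀ g : G, ∀ a b c : Ω, a ≠ b → b ≠ c → a ≠ c → g • a = a → g • b = b → g • c = c → g = 1)
    (hfaith : ∀ g : G, (∀ x : Ω, g • x = x) → g = 1)
    (H : Subgroup G) (hmem : ∀ g : G, g ∈ H ↔ g • a = a ∧ g • b = b)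
    (τ : E → G) (τadd : ∀ x y : E, τ (x + y) = τ x * τ y) (τa : ∀ x : E, τ x • a = a)
    (τinj : ∀ x y : E, τ x • b = τ y • b → x = y)
    (τsurj : ∀ y : Ω, y ≠ a → ∃ x : E, τ x • b = y)
    (m : ↥H →* Eˣ) (hm : Function.Injective m)
    (hτH : ∀ (h : ↥H) (x : E), (h : G) * τ x * (h : G)⁻¹ = τ ((m h : E) * x))
    (hcardE : Fintype.card E = 2 * Nat.card ↥H + 1)
    (hcardΩ : Fintype.card Ω = 2 * Nat.card ↥H + 2)
    (hcardG : Nat.card G = Fintype.card Ω * ((Fintype.card Ω - 1) * Nat.card ↥H))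
    (w : G) (hwa : w • a = b) (hwb : w • b = a)
    (hfix : ∀ x : Ω, x ≠ a → x ≠ b → ∃ h ∈ H, (h * w) • x = x)
    (hinv : ∀ h ∈ H, (h * w) * (h * w) = 1)
    (heven : Even (Nat.card ↥H)) :
    Nonempty (G ≃* Matrix.ProjectiveSpecialLinearGroup (Fin 2) E) := by
  classical
  have hdpos : 0 < Nat.card ↥H := Nat.card_pos
  have τ0 : τ 0 = 1 := by
    have h := τadd 0 0
    rw [add_zero] at h
    have h' : τ 0 * τ 0 = τ 0 * 1 := by
      rw [mul_one]
      exact h.symm
    exact mul_left_cancel h'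
  have τb0 : τ 0 • b = b := by rw [τ0, one_smul]
  have τne : ∀ x : E, τ x • b ≠ a := by
    intro x h
    apply hab
    apply smul_inj' (τ x)
    rw [τa, h]
  have τtr : ∀ c x : E, τ c • τ x • b = τ (c + x) • b := by
    intro c x
    rw [τadd, mul_smul]
  have hHa : ∀ h : ↥H, (h : G) • a = a := fun h => ((hmem _).1 h.2).1
  have hHb : ∀ h : ↥H, (h : G) • b = b := fun h => ((hmem _).1 h.2).2
  have τH : ∀ (h : ↥H) (x : E), (h : G) • τ x • b = τ ((m h : E) * x) • b := by
    intro h x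
    rw [← hτH h x, mul_smul, mul_smul]
    have e : (h : G)⁻¹ • b = b := inv_smul_eq_iff.2 (hHb h).symm
    rw [e]
  have hcover : ∀ y : Ω, y = a ∨ ∃ x : E, y = τ x • b := by
    intro y
    by_cases hy : y = a
    · exact Or.inl hy
    · obtain ⟨x, hx⟩ := τsurj y hy
      exact Or.inr ⟨x, hx.symm⟩
  -- the involution of `H`
  have h2F : Fact (Nat.Prime 2) := ⟨Nat.prime_two⟩
  obtain ⟨z, hz⟩ := exists_prime_orderOf_dvd_card' (G := ↥H) 2 (even_iff_two_dvd.1 heven)
  have hmz_ord : orderOf (m z) = 2 := by rw [orderOf_injective m hm z, hz]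
  have hmz1 : m z ≠ 1 := by
    intro h
    rw [h, orderOf_one] at hmz_ord
    omega
  have hmz2 : (m z : E) * (m z : E) = 1 := by
    have h : m z ^ orderOf (m z) = 1 := pow_orderOf_eq_one _
    rw [hmz_ord] at h
    have h' := congrArg Units.val h
    rw [pow_two, Units.val_mul, Units.val_one] at h'
    exact h'
  have hmzE1 : (m z : E) ≠ 1 := by
    intro h
    apply hmz1
    exact Units.ext h
  have hmz : (m z : E) = -1 := by
    rcases mul_self_eq_one_iff.1 hmz2 with h | h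
    · exact absurd h hmzE1
    · exact h
  have hneg1 : (-1 : E) ≠ 1 := by
    rw [← hmz]
    exact hmzE1
  have h2 : (2 : E) ≠ 0 := by
    intro h
    apply hneg1
    have h' : (1 : E) + 1 = 0 := by
      rw [one_add_one_eq_two]
      exact h
    exact (eq_neg_of_add_eq_zero_left h').symm
  -- the point `1`
  have hp1a : τ 1 • b ≠ a := τne 1
  have hp1b : τ 1 • b ≠ b := by
    intro h
    have h' := τinj 1 0 (by rw [h, τb0])
    exact one_ne_zero h'
  obtain ⟨h₀, hh₀, hh₀fix⟩ := hfix (τ 1 • b) hp1a hp1b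
  have hzh₀ : (z : G) * h₀ ∈ H := H.mul_mem z.2 hh₀
  obtain ⟨t, ht_def⟩ : ∃ t : G, t = (z : G) * h₀ * w := ⟨_, rfl⟩
  have htt : t * t = 1 := by
    rw [ht_def]
    exact hinv _ hzh₀
  have hta : t • a = b := by
    rw [ht_def, mul_smul, hwa, mul_smul, ((hmem h₀).1 hh₀).2, hHb z]
  have htb : t • b = a := by
    rw [ht_def, mul_smul, hwb, mul_smul, ((hmem h₀).1 hh₀).1, hHa z]
  have htinv : t⁻¹ = t := inv_eq_of_mul_eq_one_left htt
  have htH : ∀ h : ↥H, t * (h : G) = (h : G)⁻¹ * t := by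
    intro h
    have e : ((h : G) * t) * ((h : G) * t) = 1 := by
      have h1 := hinv ((h : G) * ((z : G) * h₀)) (H.mul_mem h.2 hzh₀)
      have e2 : (h : G) * t = (h : G) * ((z : G) * h₀) * w := by
        rw [ht_def, mul_assoc (h : G)]
      rw [e2]
      exact h1
    calc t * (h : G) = (h : G)⁻¹ * (((h : G) * t) * ((h : G) * t)) * t⁻¹ := by group
      _ = (h : G)⁻¹ * t := by rw [e, mul_one, htinv]
  have htp1 : t • τ 1 • b = τ (-1) • b := by
    have e : t = (z : G) * (h₀ * w) := by rw [ht_def, mul_assoc]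
    rw [e, mul_smul, hh₀fix, τH z 1, hmz, mul_one]
  -- the map `j`
  have hex : ∀ x : E, ∃ y : E, x ≠ 0 → t • τ x • b = τ y • b := by
    intro x
    by_cases hx : x = 0
    · exact ⟨0, fun h => absurd hx h⟩
    · rcases hcover (t • τ x • b) with h | ⟨y, hy⟩
      · exfalso
        apply hx
        apply τinj x 0
        rw [τb0]
        apply smul_inj' t
        rw [h, htb]
      · exact ⟨y, fun _ => hy⟩
  choose j hj using hex
  have hj0 : ∀ x : E, x ≠ 0 → j x ≠ 0 := by
    intro x hx h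
    have h1 := hj x hx
    rw [h, τb0] at h1
    apply τne x
    apply smul_inj' t
    rw [h1, hta]
  have hjj : ∀ x : E, x ≠ 0 → j (j x) = x := by
    intro x hx
    apply τinj
    rw [← hj (j x) (hj0 x hx), ← hj x hx, ← mul_smul, htt, one_smul]
  have hjS : ∀ (h : ↥H) (x : E), x ≠ 0 → j ((m h : E) * x) = (m h : E)⁻¹ * j x := by
    intro h x hx
    have hmx : (m h : E) * x ≠ 0 := mul_ne_zero (Units.ne_zero _) hx
    apply τinj
    rw [← hj _ hmx, ← τH h x, ← mul_smul, htH h, mul_smul, hj x hx]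
    have e := τH h⁻¹ (j x)
    rw [map_inv, Units.val_inv_eq_inv_val] at e
    rw [← e]
    rfl
  have hj1 : j 1 = -1 := by
    apply τinj
    rw [← hj 1 one_ne_zero, htp1]
  have hjm1 : j (-1) = 1 := by
    have h := hjj 1 one_ne_zero
    rwa [hj1] at h
  -- the braid-type identity
  have hident : t * τ 1 * t = τ (-1) * t * τ (-1) := by
    have key : (τ (-1) * t * τ (-1))⁻¹ * (t * τ 1 * t) = 1 := by
      apply h3 _ a b (τ 1 • b) hab (Ne.symm hp1b) (Ne.symm hp1a)
      · rw [mul_smul, inv_smul_eq_iff]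
        rw [mul_smul, mul_smul, hta, htp1, mul_smul, mul_smul, τa, hta]
      · rw [mul_smul, inv_smul_eq_iff]
        rw [mul_smul, mul_smul, htb, τa, hta, mul_smul, mul_smul, ← htp1, ← mul_smul t t, htt,
          one_smul, τtr, neg_add_cancel, τb0]
      · rw [mul_smul, inv_smul_eq_iff]
        rw [mul_smul, mul_smul, htp1, τtr, add_neg_cancel, τb0, htb, mul_smul, mul_smul, τtr,
          neg_add_cancel, τb0, htb, τa]
    exact (inv_mul_eq_one.1 key).symm
  have hFE : ∀ x : E, x ≠ 0 → x ≠ 1 → j x + 1 ≠ 0 ∧ j (j x + 1) = j (x - 1) - 1 := by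
    intro x hx0 hx1
    have hx10 : x - 1 ≠ 0 := sub_ne_zero.2 hx1
    have e1 : (t * τ 1 * t) • τ x • b = t • τ (j x + 1) • b := by
      rw [mul_smul, mul_smul, hj x hx0, τtr, add_comm 1 (j x)]
    have e2 : (τ (-1) * t * τ (-1)) • τ x • b = τ (j (x - 1) - 1) • b := by
      rw [mul_smul, mul_smul, τtr, neg_add_eq_sub, hj _ hx10, τtr, neg_add_eq_sub]
    rw [hident, e2] at e1
    have hne : j x + 1 ≠ 0 := by
      intro h
      rw [h, τb0, htb] at e1
      exact τne _ e1
    refine ⟨hne, ?_⟩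
    apply τinj
    rw [← hj _ hne]
    exact e1.symm
  -- the subgroup of multipliers
  have hcardU : Nat.card Eˣ = 2 * Nat.card ↥H := by
    rw [Nat.card_units, Nat.card_eq_fintype_card, hcardE]
    omega
  have hcardR : Nat.card ↥m.range = Nat.card ↥H :=
    (Nat.card_congr (MonoidHom.ofInjective hm).toEquiv).symm
  have hidx2 : m.range.index = 2 := by
    have h1 := Subgroup.card_mul_index m.range
    rw [hcardR, hcardU] at h1
    have h2' : Nat.card ↥H * m.range.index = Nat.card ↥H * 2 := by rw [h1, mul_comm]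
    exact Nat.eq_of_mul_eq_mul_left hdpos h2'
  obtain ⟨S, hS⟩ : ∃ S : Set E, ∀ x : E, x ∈ S ↔ ∃ h : ↥H, (m h : E) = x :=
    ⟨{x | ∃ h : ↥H, (m h : E) = x}, fun x => Iff.rfl⟩
  have hSunit : ∀ u : Eˣ, (u : E) ∈ S ↔ u ∈ m.range := by
    intro u
    rw [hS]
    constructor
    · rintro ⟨h, hh⟩
      exact ⟨h, Units.ext hh⟩
    · rintro ⟨h, hh⟩
      exact ⟨h, congrArg Units.val hh⟩
  have hS1 : (1 : E) ∈ S := (hS 1).2 ⟨1, by rw [map_one, Units.val_one]⟩
  have hSmul : ∀ x y : E, x ∈ S → y ∈ S → x * y ∈ S := by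
    intro x y hx hy
    obtain ⟨h, rfl⟩ := (hS x).1 hx
    obtain ⟨k, rfl⟩ := (hS y).1 hy
    exact (hS _).2 ⟨h * k, by rw [map_mul, Units.val_mul]⟩
  have hSinv : ∀ x : E, x ∈ S → x⁻¹ ∈ S := by
    intro x hx
    obtain ⟨h, rfl⟩ := (hS x).1 hx
    exact (hS _).2 ⟨h⁻¹, by rw [map_inv, Units.val_inv_eq_inv_val]⟩
  have hS0 : (0 : E) ∉ S := by
    intro h0
    obtain ⟨h, hh⟩ := (hS 0).1 h0
    exact Units.ne_zero _ hh
  have hSneg : (-1 : E) ∈ S := (hS _).2 ⟨z, hmz⟩
  have hidx : ∀ x y : E, x ≠ 0 → y ≠ 0 → x ∉ S → y ∉ S → x * y ∈ S := by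
    intro x y hx hy hxS hyS
    have h1 : (Units.mk0 x hx) * (Units.mk0 y hy) ∈ m.range := by
      rw [Subgroup.mul_mem_iff_of_index_two hidx2]
      constructor
      · intro h
        have h' := (hSunit _).2 h
        rw [Units.val_mk0] at h'
        exact absurd h' hxS
      · intro h
        have h' := (hSunit _).2 h
        rw [Units.val_mk0] at h'
        exact absurd h' hyS
    have h2' := (hSunit _).2 h1
    rwa [Units.val_mul, Units.val_mk0, Units.val_mk0] at h2'
  obtain ⟨ν, hν0, hνS⟩ : ∃ ν : E, ν ≠ 0 ∧ ν ∉ S := by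
    have hne : m.range ≠ ⊤ := by
      intro h
      have h1 := Subgroup.index_eq_one.2 h
      rw [hidx2] at h1
      omega
    obtain ⟨u, hu⟩ : ∃ u : Eˣ, u ∉ m.range := by
      by_contra hcon
      push Not at hcon
      exact hne (eq_top_iff.2 (fun u _ => hcon u))
    exact ⟨(u : E), Units.ne_zero u, fun h => hu ((hSunit u).1 h)⟩
  have hjS' : ∀ s : E, s ∈ S → ∀ x : E, x ≠ 0 → j (s * x) = s⁻¹ * j x := by
    intro s hs x hx
    obtain ⟨h, rfl⟩ := (hS s).1 hs
    exact hjS h x hx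
  have hjfinal := fe_solve S hS1 hSmul hSinv hS0 hSneg hidx ν hν0 hνS j hj0 hjj hjS' hj1 hFE
  -- squares
  have hchar : ringChar E ≠ 2 := by
    intro h
    haveI : CharP E 2 := h ▸ ringChar.charP E
    have h0 : ((2 : ℕ) : E) = 0 := CharP.cast_eq_zero E 2
    apply h2
    exact_mod_cast h0
  have hsq : ∀ h : ↥H, ∃ s : E, s ≠ 0 ∧ s * s = (m h : E) := by
    intro h
    have hpow : (m h : E) ^ (Fintype.card E / 2) = 1 := by
      have e : Fintype.card E / 2 = Nat.card ↥H := by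
        rw [hcardE]
        omega
      rw [e, ← Units.val_pow_eq_pow_val, ← map_pow, pow_card_eq_one', map_one, Units.val_one]
    obtain ⟨s, hs⟩ := (FiniteField.isSquare_iff hchar (Units.ne_zero (m h))).2 hpow
    refine ⟨s, ?_, hs.symm⟩
    rintro rfl
    rw [mul_zero] at hs
    exact Units.ne_zero _ hs
  -- hypotheses of the recognition theorem
  have hB1 : ∀ g : G, g • ptOf τ a b OnePoint.infty = ptOf τ a b OnePoint.infty →
      ∃ s c : E, s ≠ 0 ∧ ∀ x : E, g • ptOf τ a b (x : OnePoint E) =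
        ptOf τ a b ((x * (s * s) + c : E) : OnePoint E) := by
    intro g hg
    have hga : g • a = a := hg
    have hgb : g • b ≠ a := by
      intro h
      apply hab
      apply smul_inj' g
      rw [hga, h]
    obtain ⟨c, hc⟩ := τsurj (g • b) hgb
    have hk : (τ c)⁻¹ * g ∈ H := by
      rw [hmem]
      constructor
      · rw [mul_smul, hga, inv_smul_eq_iff, τa]
      · rw [mul_smul, inv_smul_eq_iff, hc]
    obtain ⟨s, hs0, hss⟩ := hsq ⟨_, hk⟩
    refine ⟨s, c, hs0, fun x => ?_⟩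
    show g • τ x • b = τ (x * (s * s) + c) • b
    have e0 : g • τ x • b = τ c • ((τ c)⁻¹ * g) • τ x • b := by
      rw [← mul_smul (τ c), mul_inv_cancel_left]
    have e := τH ⟨_, hk⟩ x
    have e3 : c + (m ⟨_, hk⟩ : E) * x = x * (s * s) + c := by
      rw [hss]
      ring
    rw [e0, e, τtr, e3]
  have ht1 : t • ptOf τ a b OnePoint.infty = ptOf τ a b ((0 : E) : OnePoint E) := by
    show t • a = τ 0 • b
    rw [hta, τb0]
  have ht2 : t • ptOf τ a b ((0 : E) : OnePoint E) = ptOf τ a b OnePoint.infty := by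
    show t • τ 0 • b = a
    rw [τb0, htb]
  have ht3 : ∀ x : E, x ≠ 0 →
      t • ptOf τ a b (x : OnePoint E) = ptOf τ a b ((-x⁻¹ : E) : OnePoint E) := by
    intro x hx
    show t • τ x • b = τ (-x⁻¹) • b
    rw [hj x hx, hjfinal x hx]
  have hB3 : ∀ c : E, ∃ g : G, g • ptOf τ a b OnePoint.infty = ptOf τ a b OnePoint.infty ∧
      g • ptOf τ a b ((0 : E) : OnePoint E) = ptOf τ a b (c : OnePoint E) := by
    intro c
    refine ⟨τ c, τa c, ?_⟩
    show τ c • τ 0 • b = τ c • b
    rw [τb0]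
  have hpt : Function.Bijective (ptOf τ a b) := by
    constructor
    · intro y y' h
      induction y using OnePoint.rec with
      | infty =>
        induction y' using OnePoint.rec with
        | infty => rfl
        | coe y' => exact absurd h.symm (τne y')
      | coe y =>
        induction y' using OnePoint.rec with
        | infty => exact absurd h (τne y)
        | coe y' =>
          have hyy : y = y' := τinj y y' h
          rw [hyy]
    · intro x
      rcases hcover x with h | ⟨y, hy⟩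
      · exact ⟨OnePoint.infty, h.symm⟩
      · exact ⟨(y : OnePoint E), hy.symm⟩
  have hcard : Fintype.card E * (Fintype.card E ^ 2 - 1) ≤ 2 * Nat.card G := by
    rw [hcardG, hcardΩ, hcardE]
    have e1 : (2 * Nat.card ↥H + 1) ^ 2 - 1 =
        4 * Nat.card ↥H * Nat.card ↥H + 4 * Nat.card ↥H := by
      have e : (2 * Nat.card ↥H + 1) ^ 2 =
          4 * Nat.card ↥H * Nat.card ↥H + 4 * Nat.card ↥H + 1 := by ring
      rw [e, Nat.add_sub_cancel]
    have e2 : 2 * Nat.card ↥H + 2 - 1 = 2 * Nat.card ↥H + 1 := by omega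
    rw [e1, e2]
    apply le_of_eq
    ring
  exact recog_odd h2 (ptOf τ a b) hpt hfaith hB1 t ht1 ht2 ht3 hB3 hcard

end Geom

section Main

variable {G Ω : Type*} [Group G] [Finite G] [MulAction G Ω] [Fintype Ω]

/-- **Main theorem**: a Zassenhaus group of degree `n + 1` with even two-point stabiliser of order
`d`, `2 d ≤ n - 1`, is `PSL₂(p^f)` with `n = p^f` odd. -/
theorem main_half (hZ : Cfsg.IsZassenhausGroup G Ω) {a b : Ω} (hab : a ≠ b)
    (heven : Even (Nat.card ↥(stabilizer G a ⊓ stabilizer G b)))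
    (hd : 2 * Nat.card ↥(stabilizer G a ⊓ stabilizer G b) ≤ Fintype.card Ω - 2) :
    ∃ (p f : ℕ) (K : Type) (_ : Field K) (_ : Fintype K), p.Prime ∧ p ≠ 2 ∧
      Fintype.card K = p ^ f ∧ Fintype.card Ω = p ^ f + 1 ∧
      Nonempty (G ≃* Matrix.ProjectiveSpecialLinearGroup (Fin 2) K) := by
  classical
  have h741 := Cfsg.Agent.S0741.result hZ hab heven
  have h741o := h741
  have hZ' := hZ
  obtain ⟨hfaith, h2t, h3, ⟨g₀, hg₀1, a₀, b₀, hab₀, hg₀a, hg₀b⟩, _⟩ := hZ'
  rw [MulAction.is_two_pretransitive_iff] at h2t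
  obtain ⟨H, hHdef⟩ : ∃ H : Subgroup G, H = stabilizer G a ⊓ stabilizer G b := ⟨_, rfl⟩
  rw [← hHdef] at heven hd h741
  have hmem : ∀ g : G, g ∈ H ↔ g • a = a ∧ g • b = b := by
    intro g
    rw [hHdef, Subgroup.mem_inf, mem_stabilizer_iff, mem_stabilizer_iff]
  have h2t' : ∀ a b c d : Ω, a ≠ b → c ≠ d → ∃ g : G, g • a = c ∧ g • b = d :=
    fun a b c d h1 h2 => h2t h1 h2
  have hfaith' : ∀ g : G, (∀ x : Ω, g • x = x) → g = 1 := by
    intro g hg
    apply hfaith.eq_of_smul_eq_smul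
    intro x
    rw [hg x, one_smul]
  obtain ⟨h₁, hh₁, hh₁1⟩ : ∃ h ∈ H, h ≠ 1 := by
    obtain ⟨k, hka, hkb⟩ := h2t hab₀ hab
    refine ⟨k * g₀ * k⁻¹, (hmem _).2 ⟨?_, ?_⟩, ?_⟩
    · rw [mul_smul, mul_smul, ← hka, inv_smul_smul, hg₀a]
    · rw [mul_smul, mul_smul, ← hkb, inv_smul_smul, hg₀b]
    · intro h
      apply hg₀1
      have e : g₀ = k⁻¹ * (k * g₀ * k⁻¹) * k := by group
      rw [e, h]
      group
  obtain ⟨c₀, hc₀⟩ : ∃ c : Ω, h₁ • c ≠ c := by
    by_contra hcon
    push Not at hcon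
    exact hh₁1 (hfaith' h₁ hcon)
  obtain ⟨hh₁a, hh₁b⟩ := (hmem h₁).1 hh₁
  have hc₀a : c₀ ≠ a := by
    intro h
    rw [h] at hc₀
    exact hc₀ hh₁a
  have hc₀b : c₀ ≠ b := by
    intro h
    rw [h] at hc₀
    exact hc₀ hh₁b
  have hΩ2 : 2 ≤ Fintype.card Ω := by
    have h1 : 1 < Fintype.card Ω := Fintype.one_lt_card_iff.2 ⟨a, b, hab⟩
    omega
  have hcardΩ : Fintype.card Ω = 2 * Nat.card ↥H + 2 := by omega
  have hdpos : 0 < Nat.card ↥H := Nat.card_pos
  obtain ⟨F, hFle, hFn, hreg, hcardG⟩ :=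
    exists_regular_normal hab h2t' h3 hfaith H hmem hh₁ hh₁1
  obtain ⟨hFcomm, p, f, hp, hexp, hpf⟩ :=
    Cfsg.Agent.S0738.result hZ hab h741o F hFle hFn hreg
  have hua : ∀ u ∈ F, u • a = a := fun u hu => hFle hu
  have hFb_ne : ∀ u : ↥F, (u : G) • b ≠ a := by
    intro u h'
    apply hab
    apply smul_inj' (u : G)
    rw [hua u.1 u.2, h']
  have hcardF : Nat.card ↥F = Fintype.card Ω - 1 := by
    have hbij : Function.Bijective
        (fun u : ↥F => (⟨(u : G) • b, hFb_ne u⟩ : {y : Ω // y ≠ a})) := by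
      constructor
      · intro u v huv
        have huv' : (u : G) • b = (v : G) • b := congrArg Subtype.val huv
        obtain ⟨w', _, hw'⟩ := hreg b ((v : G) • b) hab.symm (hFb_ne v)
        exact (hw' u huv').trans (hw' v rfl).symm
      · rintro ⟨y, hy⟩
        obtain ⟨w', hw', _⟩ := hreg b y hab.symm hy
        exact ⟨w', Subtype.ext hw'⟩
    rw [Nat.card_congr (Equiv.ofBijective _ hbij), Nat.card_eq_fintype_card]
    exact Set.card_ne_eq a
  have hq : p ^ f = 2 * Nat.card ↥H + 1 := by omega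
  have hf0 : f ≠ 0 := by
    intro h
    rw [h, pow_zero] at hq
    omega
  have hp2 : p ≠ 2 := by
    intro h
    rw [h] at hq
    obtain ⟨k, hk⟩ := dvd_pow_self 2 hf0
    omega
  -- the inverting involution
  obtain ⟨w, c, hwa, hwb, hca, hcb, hwc⟩ :=
    exists_fixed_swapper hab h2t' h3 H hmem heven ⟨c₀, hc₀a, hc₀b⟩
  obtain ⟨hfix, hinv⟩ := half_inverts hab h3 H hmem hcardΩ w hwa hwb c hca hcb hwc
  have hww : w * w = 1 := by
    have h := hinv 1 H.one_mem
    rwa [one_mul] at h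
  have hwh : ∀ h ∈ H, w * h * w = h⁻¹ := by
    intro h hh
    have e := hinv h hh
    calc w * h * w = h⁻¹ * ((h * w) * (h * w)) := by group
      _ = h⁻¹ := by rw [e, mul_one]
  have hHcomm : ∀ h ∈ H, ∀ k ∈ H, h * k = k * h := by
    intro h hh k hk
    have e1 := hwh (h * k) (H.mul_mem hh hk)
    have e2 : w * (h * k) * w = (w * h * w) * (w * k * w) := by
      calc w * (h * k) * w = w * h * (w * w) * k * w := by
            rw [hww]
            group
        _ = (w * h * w) * (w * k * w) := by group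
    rw [e2, hwh h hh, hwh k hk, mul_inv_rev] at e1
    have e3 := congrArg (fun x => x⁻¹) e1
    simp only [mul_inv_rev, inv_inv] at e3
    exact e3.symm
  have hnorm : ∀ h ∈ H, ∀ u ∈ F, h * u * h⁻¹ ∈ F := by
    intro h hh u hu
    have hha : h ∈ stabilizer G a := ((hmem h).1 hh).1
    have key := hFn.conj_mem ⟨u, hFle hu⟩ (Subgroup.mem_subgroupOf.mpr hu) ⟨h, hha⟩
    rw [Subgroup.mem_subgroupOf] at key
    simpa using key
  have hub : ∀ u ∈ F, u ≠ 1 → u • b ≠ b := by
    intro u hu hu1 hfix'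
    obtain ⟨w', _, hw'⟩ := hreg b b hab.symm hab.symm
    have e1 := hw' ⟨u, hu⟩ hfix'
    have e2 := hw' 1 (by
      show ((1 : ↥F) : G) • b = b
      rw [Subgroup.coe_one, one_smul])
    apply hu1
    have e3 : (⟨u, hu⟩ : ↥F) = 1 := e1.trans e2.symm
    exact congrArg Subtype.val e3
  -- coordinates
  obtain ⟨θ, hθ⟩ : ∃ θ : ↥H → ↥F → ↥F,
      ∀ (h : ↥H) (u : ↥F), ((θ h u : ↥F) : G) = (h : G) * u * (h : G)⁻¹ :=
    ⟨fun h u => ⟨(h : G) * u * (h : G)⁻¹, hnorm h h.2 u u.2⟩, fun h u => rfl⟩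
  have hFc : ∀ x y : ↥F, x * y = y * x := fun x y => hFcomm.is_comm.comm x y
  have θmul : ∀ (h : ↥H) (x y : ↥F), θ h (x * y) = θ h x * θ h y := by
    intro h x y
    apply Subtype.ext
    rw [Subgroup.coe_mul, hθ, hθ, hθ, Subgroup.coe_mul]
    group
  have θone : ∀ x : ↥F, θ 1 x = x := by
    intro x
    apply Subtype.ext
    rw [hθ, Subgroup.coe_one]
    group
  have θcomp : ∀ (h k : ↥H) (x : ↥F), θ (h * k) x = θ h (θ k x) := by
    intro h k x
    apply Subtype.ext
    rw [hθ, hθ, hθ, Subgroup.coe_mul]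
    group
  have hcomm : ∀ h k : ↥H, h * k = k * h := fun h k => Subtype.ext (hHcomm h h.2 k k.2)
  have hfree : ∀ (h : ↥H) (x : ↥F), x ≠ 1 → θ h x = x → h = 1 := by
    intro h x hx1 hx
    have hx1' : (x : G) ≠ 1 := fun h' => hx1 (Subtype.ext h')
    have hconj : (h : G) * x * (h : G)⁻¹ = x := by
      rw [← hθ, hx]
    have hcomm' : (h : G) * x = x * h := by
      calc (h : G) * x = ((h : G) * x * (h : G)⁻¹) * h := by group
        _ = x * h := by rw [hconj]
    have hha : (h : G) • a = a := ((hmem _).1 h.2).1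
    have hhb : (h : G) • b = b := ((hmem _).1 h.2).2
    have hfix' : (h : G) • ((x : G) • b) = (x : G) • b := by
      rw [← mul_smul, hcomm', mul_smul, hhb]
    apply Subtype.ext
    refine h3 (h : G) a b ((x : G) • b) hab ?_ ?_ hha hhb hfix'
    · exact (hub x x.2 hx1').symm
    · exact (hFb_ne x).symm
  have hbig : Nat.card ↥F ≤ 2 * Nat.card ↥H + 1 := by omega
  have hF1 : 1 < Nat.card ↥F := by omega
  obtain ⟨E, instE, instET, ψ, m, hψbij, hψadd, hm, hψθ⟩ :=
    exists_coords hFc θ θmul θone θcomp hcomm hfree hbig hF1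
  have hcardE : Fintype.card E = 2 * Nat.card ↥H + 1 := by
    rw [← Nat.card_eq_fintype_card, Nat.card_congr (Equiv.ofBijective ψ hψbij), hcardF, hcardΩ]
    omega
  obtain ⟨τ, hτ⟩ : ∃ τ : E → G, ∀ x : E, τ x = ((ψ x : ↥F) : G) := ⟨fun x => (ψ x : G), fun x => rfl⟩
  have τadd : ∀ x y : E, τ (x + y) = τ x * τ y := by
    intro x y
    rw [hτ, hτ, hτ, hψadd, Subgroup.coe_mul]
  have τa : ∀ x : E, τ x • a = a := by
    intro x
    rw [hτ]
    exact hua _ (ψ x).2
  have τinj : ∀ x y : E, τ x • b = τ y • b → x = y := by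
    intro x y hxy
    rw [hτ, hτ] at hxy
    obtain ⟨w', _, hw'⟩ := hreg b ((ψ y : G) • b) hab.symm (hFb_ne _)
    have e1 := hw' (ψ x) hxy
    have e2 := hw' (ψ y) rfl
    exact hψbij.1 (e1.trans e2.symm)
  have τsurj : ∀ y : Ω, y ≠ a → ∃ x : E, τ x • b = y := by
    intro y hy
    obtain ⟨u, hu, _⟩ := hreg b y hab.symm hy
    obtain ⟨x, hx⟩ := hψbij.2 u
    refine ⟨x, ?_⟩
    rw [hτ, hx]
    exact hu
  have hτH : ∀ (h : ↥H) (x : E), (h : G) * τ x * (h : G)⁻¹ = τ ((m h : E) * x) := by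
    intro h x
    rw [hτ, hτ, ← hθ, hψθ]
  obtain ⟨e⟩ := geom_main hab h3 hfaith' H hmem τ τadd τa τinj τsurj m hm hτH hcardE hcardΩ
    hcardG w hwa hwb hfix hinv heven
  -- transport to the Galois field
  haveI : Fact p.Prime := ⟨hp⟩
  letI : Fintype (GaloisField p f) := Fintype.ofFinite _
  have hK : Fintype.card (GaloisField p f) = p ^ f := by
    rw [← Nat.card_eq_fintype_card]
    exact GaloisField.card p f hf0
  have hcc : Fintype.card E = Fintype.card (GaloisField p f) := by rw [hcardE, hK, hq]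
  let re : E ≃+* GaloisField p f := FiniteField.ringEquivOfCardEq hcc
  refine ⟨p, f, GaloisField p f, inferInstance, inferInstance, hp, hp2, hK, hpf, ?_⟩
  exact ⟨e.trans (Cfsg.Agent.Lib.Helper3.SLTransport.quotientCenterEquiv
    (Cfsg.Agent.Lib.Helper3.SLTransport.mapEquiv re))⟩

end Main

end Cfsg.Agent.Helper29.ZassHalf
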