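import Mathlib
import Cfsg.Agent.S0215
import Cfsg.Agent.S1019
import Cfsg.Agent.H5.SylowTupleS
import Cfsg.Agent.Lib.Helper18.SylowFix
import Cfsg.Agent.Lib.Helper18.SylowOver
import Cfsg.Agent.Lib.Helper18.Ord3960

/-!
# Tools for the order 5040 (helper29, for S0978)

Fixed points of an involution on a coset space `G ⧸ H`: parity (`fixed_parity`), congruence
modulo `p` (`fixed_mod_p`), class formula (`card_mul_fixed`); Sylow counting in a subgroup
containing a Sylow subgroup (`card_eq_card_inf_normalizer_mul`); `Z*` (`not_isolated`).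
-/

set_option autoImplicit false
set_option linter.unusedSectionVars false

namespace Cfsg.Agent.Lib.Helper29.Ord5040

open Cfsg.H5.SmallOrd Cfsg.H5.SylowTuple

variable {G : Type*} [Group G] [Finite G]

theorem mem_centralizer_singleton {u g : G} :
    g ∈ Subgroup.centralizer ({u} : Set G) ↔ u * g = g * u := by
  rw [Subgroup.mem_centralizer_iff]
  constructor
  · intro h; exact h u rfl
  · intro h y hy
    rw [Set.mem_singleton_iff] at hy
    rw [hy]; exact h

/-- a coset `gH` is fixed by `t` iff `g⁻¹ t g ∈ H` -/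
theorem mem_fixedBy_mk {H : Subgroup G} {t g : G} :
    ((g : G) : G ⧸ H) ∈ MulAction.fixedBy (G ⧸ H) t ↔ g⁻¹ * t * g ∈ H := by
  rw [MulAction.mem_fixedBy]
  show ((t * g : G) : G ⧸ H) = (g : G ⧸ H) ↔ _
  rw [QuotientGroup.eq]
  constructor
  · intro h
    have := H.inv_mem h
    simpa [mul_assoc] using this
  · intro h
    have := H.inv_mem h
    simpa [mul_assoc] using this

/-- **T1 (parity)**: an involution of a non-abelian simple group fixes `|G:H| - 4m` cosets of a
proper subgroup `H`, with `m > 0`. -/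
theorem fixed_parity [IsSimpleGroup G] (hG : ¬ IsMulCommutative G) (H : Subgroup G) (hH : H ≠ ⊤)
    (t : G) (ht : orderOf t = 2) :
    ∃ m : ℕ, 0 < m ∧ Nat.card (MulAction.fixedBy (G ⧸ H) t) + 4 * m = H.index := by
  classical
  haveI : Fintype (G ⧸ H) := Fintype.ofFinite _
  have ht2 : t ^ 2 = 1 := by rw [← ht]; exact pow_orderOf_eq_one t
  have ht1 : t ≠ 1 := by
    intro h
    rw [h, orderOf_one] at ht
    omega
  have hmove : ∃ x : G ⧸ H, t • x ≠ x := by
    by_contra hcon
    push Not at hcon
    have hker : t ∈ (MulAction.toPermHom G (G ⧸ H)).ker := by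
      rw [MonoidHom.mem_ker]
      apply Equiv.ext
      intro q
      exact hcon q
    rcases (MonoidHom.normal_ker (MulAction.toPermHom G (G ⧸ H))).eq_bot_or_eq_top with hk | hk
    · rw [hk, Subgroup.mem_bot] at hker
      exact ht1 hker
    · apply hH
      rw [eq_top_iff]
      intro g _
      have hg : g ∈ (MulAction.toPermHom G (G ⧸ H)).ker := by rw [hk]; trivial
      rw [MonoidHom.mem_ker] at hg
      have h1 : g • ((1 : G) : G ⧸ H) = ((1 : G) : G ⧸ H) := by
        have := congrArg (fun σ : Equiv.Perm (G ⧸ H) => σ ((1 : G) : G ⧸ H)) hg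
        exact this
      have h2 : ((1 : G) : G ⧸ H) ∈ MulAction.fixedBy (G ⧸ H) g := h1
      rw [mem_fixedBy_mk] at h2
      simpa using h2
  obtain ⟨m, hm0, hm⟩ :=
    Cfsg.Agent.Lib.Helper18.SylowFix.card_fixed_involution hG (α := G ⧸ H) t ht2 hmove
  refine ⟨m, hm0, ?_⟩
  have h3 : Nat.card (MulAction.fixedBy (G ⧸ H) t) =
      (Finset.univ.filter (fun x : G ⧸ H => t • x = x)).card := by
    rw [← Fintype.card_subtype, ← Nat.card_eq_fintype_card]
    rfl
  rw [h3, hm, ← Nat.card_eq_fintype_card]
  rfl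

/-- **T2 (congruence)**: if `N_G(P) ≤ H` and `t` centralizes the Sylow `p`-subgroup `P`, the number
of cosets of `H` fixed by `t` is `≡ 1 (mod p)`. -/
theorem fixed_mod_p {p : ℕ} [hp : Fact p.Prime] (P : Sylow p G) (H : Subgroup G)
    (hNH : Subgroup.normalizer ((P : Subgroup G) : Set G) ≤ H) (t : G)
    (ht : ∀ x ∈ (P : Subgroup G), t * x = x * t) :
    Nat.card (MulAction.fixedBy (G ⧸ H) t) % p = 1 := by
  classical
  have hPH : (P : Subgroup G) ≤ H := Subgroup.le_normalizer.trans hNH
  let F : SubMulAction (P : Subgroup G) (G ⧸ H) :=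
    { carrier := MulAction.fixedBy (G ⧸ H) t
      smul_mem' := by
        intro c q hq
        rw [MulAction.mem_fixedBy] at hq ⊢
        show t • ((c : G) • q) = (c : G) • q
        rw [← mul_smul, ht _ c.2, mul_smul, hq] }
  have h1 := P.2.card_modEq_card_fixedPoints F
  have key : ∀ q : G ⧸ H, (∀ c : (P : Subgroup G), c • q = q) → q = ((1 : G) : G ⧸ H) := by
    intro q hq
    induction q using QuotientGroup.induction_on with
    | H g =>
      have hQH : ((g⁻¹ • P : Sylow p G) : Subgroup G) ≤ H := by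
        intro y hy
        rw [Sylow.coe_subgroup_smul, Subgroup.mem_pointwise_smul_iff_inv_smul_mem] at hy
        have hy' : g * y * g⁻¹ ∈ (P : Subgroup G) := by
          simpa [MulAut.conj_apply, MulAut.smul_def] using hy
        have h2 := hq ⟨g * y * g⁻¹, hy'⟩
        have h3 : ((g : G) : G ⧸ H) ∈ MulAction.fixedBy (G ⧸ H) (g * y * g⁻¹) := h2
        rw [mem_fixedBy_mk] at h3
        have : g⁻¹ * (g * y * g⁻¹) * g = y := by group
        rwa [this] at h3
      obtain ⟨h, hh⟩ := MulAction.exists_smul_eq H (P.subtype hPH) ((g⁻¹ • P).subtype hQH)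
      rw [Sylow.smul_subtype] at hh
      have h3 : h • P = g⁻¹ • P := Sylow.subtype_injective hh
      have h4 : (g * (h : G)) • P = P := by
        rw [mul_smul]
        have : (h : G) • P = g⁻¹ • P := h3
        rw [this, smul_inv_smul]
      have h5 : g * h ∈ H := hNH (Sylow.smul_eq_iff_mem_normalizer.mp h4)
      have h6 : g ∈ H := by
        have := H.mul_mem h5 (H.inv_mem h.2)
        simpa using this
      rw [QuotientGroup.eq]
      simpa using H.inv_mem h6
  have htH : t ∈ H := by
    apply hNH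
    apply Subgroup.centralizer_le_normalizer
    rw [Subgroup.mem_centralizer_iff]
    intro x hx
    exact (ht x hx).symm
  have h1F : ((1 : G) : G ⧸ H) ∈ F := by
    show ((1 : G) : G ⧸ H) ∈ MulAction.fixedBy (G ⧸ H) t
    rw [mem_fixedBy_mk]
    simpa using htH
  have h2 : Nat.card (MulAction.fixedPoints (P : Subgroup G) F) = 1 := by
    rw [Nat.card_eq_one_iff_unique]
    constructor
    · constructor
      rintro ⟨⟨q, hqF⟩, hq⟩ ⟨⟨q', hqF'⟩, hq'⟩
      have e1 : q = ((1 : G) : G ⧸ H) := key q (fun c => congrArg Subtype.val (hq c))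
      have e2 : q' = ((1 : G) : G ⧸ H) := key q' (fun c => congrArg Subtype.val (hq' c))
      subst e1
      subst e2
      rfl
    · refine ⟨⟨⟨((1 : G) : G ⧸ H), h1F⟩, ?_⟩⟩
      intro c
      apply Subtype.ext
      show (c : G) • ((1 : G) : G ⧸ H) = ((1 : G) : G ⧸ H)
      have : ((1 : G) : G ⧸ H) ∈ MulAction.fixedBy (G ⧸ H) (c : G) := by
        rw [mem_fixedBy_mk]
        simpa using hPH c.2
      exact this
  rw [h2] at h1
  have h3 : Nat.card F = Nat.card (MulAction.fixedBy (G ⧸ H) t) := rfl
  rw [h3] at h1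
  unfold Nat.ModEq at h1
  rw [h1, Nat.mod_eq_of_lt hp.out.one_lt]

/-- **T3 (class formula)**: `|H| · #Fix_{G/H}(x) = |C_G(x)| · #(x^G ∩ H)`. -/
theorem card_mul_fixed (H : Subgroup G) (x : G) :
    Nat.card H * Nat.card (MulAction.fixedBy (G ⧸ H) x) =
      Nat.card (Subgroup.centralizer ({x} : Set G)) *
        Nat.card {y : G // IsConj x y ∧ y ∈ H} := by
  have h1 := Cfsg.Agent.S1019.fiber_count x (H : Set G)
  have h3 : Nat.card {g : G // g⁻¹ * x * g ∈ (H : Set G)} =
      Nat.card H * Nat.card (MulAction.fixedBy (G ⧸ H) x) := by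
    have e := QuotientGroup.preimageMkEquivSubgroupProdSet H (MulAction.fixedBy (G ⧸ H) x)
    rw [← Nat.card_prod, ← Nat.card_congr e]
    refine Nat.card_congr (Equiv.subtypeEquivRight ?_)
    intro g
    rw [Set.mem_preimage]
    exact mem_fixedBy_mk.symm
  rw [← h3, h1]
  rfl

/-- **T4**: if the Sylow `p`-subgroup `P` of `G` lies in `K` then `|K| = |K ∩ N_G(P)| · n_p(K)`. -/
theorem card_eq_card_inf_normalizer_mul {p : ℕ} [Fact p.Prime] (P : Sylow p G) (K : Subgroup G)
    (hPK : (P : Subgroup G) ≤ K) :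
    Nat.card K =
      Nat.card (K ⊓ Subgroup.normalizer ((P : Subgroup G) : Set G) : Subgroup G) *
        Nat.card (Sylow p K) := by
  have h1 : Nat.card (Sylow p K) =
      (Subgroup.normalizer (((P.subtype hPK : Sylow p K) : Subgroup K) : Set K)).index :=
    Sylow.card_eq_index_normalizer _
  have h2 : ((P.subtype hPK : Sylow p K) : Subgroup K) = (P : Subgroup G).subgroupOf K := rfl
  rw [h2, ← Subgroup.subgroupOf_normalizer_eq hPK] at h1
  have h3 := Subgroup.card_mul_index
    ((Subgroup.normalizer ((P : Subgroup G) : Set G)).subgroupOf K)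
  rw [← h1, ← Subgroup.inf_subgroupOf_left,
    Nat.card_congr (Subgroup.subgroupOfEquivOfLe (inf_le_left :
      K ⊓ Subgroup.normalizer ((P : Subgroup G) : Set G) ≤ K)).toEquiv] at h3
  exact h3.symm

/-- **T5**: a subgroup `K ≥ P` with a single Sylow `p`-subgroup normalizes `P`. -/
theorem le_normalizer_of_card_sylow_eq_one {p : ℕ} [Fact p.Prime] (P : Sylow p G)
    (K : Subgroup G) (hPK : (P : Subgroup G) ≤ K) (h1 : Nat.card (Sylow p K) = 1) :
    K ≤ Subgroup.normalizer ((P : Subgroup G) : Set G) := by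
  have h := card_eq_card_inf_normalizer_mul P K hPK
  rw [h1, mul_one] at h
  have := Subgroup.eq_of_le_of_card_ge (inf_le_left :
    K ⊓ Subgroup.normalizer ((P : Subgroup G) : Set G) ≤ K) h.le
  rw [← this]
  exact inf_le_right

/-- **T6 (`Z*`)**: a non-abelian simple group has no isolated involution. -/
theorem not_isolated [IsSimpleGroup G] (hG : ¬ IsMulCommutative G) (S : Sylow 2 G) (u : G)
    (hu : orderOf u = 2) (huS : u ∈ (S : Subgroup G))
    (hiso : ∀ g : G, g * u * g⁻¹ ∈ (S : Subgroup G) → g * u * g⁻¹ = u) : False := by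
  have hu1 : u ≠ 1 := by
    intro h
    rw [h, orderOf_one] at hu
    omega
  have hcenter := Cfsg.Agent.Lib.Helper18.Ord3960.center_eq_bot hG
  obtain ⟨N, hNn, hNodd, hNc⟩ := Cfsg.Agent.S0215.result S u hu huS hiso
  rcases hNn.eq_bot_or_eq_top with hb | ht
  · have huc : u ∈ Subgroup.center G := by
      rw [Subgroup.mem_center_iff]
      intro g
      have := hNc g
      rw [hb, Subgroup.mem_bot] at this
      calc g * u = (u * g * u⁻¹ * g⁻¹)⁻¹ * (u * g) := by group
        _ = u * g := by rw [this]; group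
    rw [hcenter, Subgroup.mem_bot] at huc
    exact hu1 huc
  · rw [ht, Subgroup.card_top] at hNodd
    have h2 : 2 ∣ Nat.card G := by
      rw [← hu]
      exact orderOf_dvd_natCard u
    rcases hNodd with ⟨k, hk⟩
    omega

/-- **T7**: a group of order 5040 that is non-abelian simple has no proper subgroup of index
`≤ 7`. -/
theorem index_gt_seven [IsSimpleGroup G] (hG : ¬ IsMulCommutative G) (hn : Nat.card G = 5040)
    (H : Subgroup G) (hH : H ≠ ⊤) : 7 < H.index := by
  have h := two_card_dvd_factorial_index hG H hH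
  rw [hn] at h
  by_contra hcon
  push Not at hcon
  have h0 : H.index ≠ 0 := Subgroup.index_ne_zero_of_finite
  generalize H.index = d at h hcon h0
  interval_cases d <;> revert h <;> decide

end Cfsg.Agent.Lib.Helper29.Ord5040
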