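import Cfsg.Agent.S0566
import Cfsg.Agent.S0560
import Cfsg.Agent.Lib.Helper4.Factorized
import Cfsg.Agent.Lib.Helper4.MinNormal
import Mathlib

set_option autoImplicit false

/-!
Kegel–Wielandt: reductions.

* `kw_solvable`: the general theorem (`G = AB`, `A`, `B` nilpotent ⇒ `G` solvable) from the coprime
  case.
* `kw_proper`: `G = AB` with `A`, `B` nilpotent, not both `G` ⇒ a proper normal subgroup contains
  `A` or `B`, from solvability.
-/

namespace Cfsg.Agent.Lib.Helper29.KW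

open scoped Pointwise
open Cfsg.Agent.S0539 Cfsg.Agent.S0566 Cfsg.Agent.Lib.Helper4

universe u

section basic

variable {G : Type u} [Group G]

theorem fact_map {H : Type*} [Group H] {A B : Subgroup G} (h : IsFactorized A B) (f : G →* H)
    (hf : Function.Surjective f) : IsFactorized (A.map f) (B.map f) := by
  intro y
  obtain ⟨g, rfl⟩ := hf y
  obtain ⟨a, ha, b, hb, he⟩ := h g
  exact ⟨f a, Subgroup.mem_map_of_mem f ha, f b, Subgroup.mem_map_of_mem f hb, by
    rw [he, map_mul]⟩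

theorem fact_subgroupOf {A B X : Subgroup G} (h : IsFactorized A B) (hAX : A ≤ X) :
    IsFactorized (A.subgroupOf X) (B.subgroupOf X) := by
  intro x
  obtain ⟨a, ha, b, hb, he⟩ := h (x : G)
  have hbX : b ∈ X := by
    have e : b = a⁻¹ * (x : G) := by rw [he]; group
    rw [e]
    exact X.mul_mem (X.inv_mem (hAX ha)) x.2
  refine ⟨⟨a, hAX ha⟩, Subgroup.mem_subgroupOf.mpr ha, ⟨b, hbX⟩,
    Subgroup.mem_subgroupOf.mpr hb, ?_⟩
  exact Subtype.ext he

theorem nilpotent_map {H : Type*} [Group H] (A : Subgroup G) (hA : Group.IsNilpotent A)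
    (f : G →* H) : Group.IsNilpotent (A.map f) := by
  have := hA
  exact Group.nilpotent_of_surjective (f.subgroupMap A) (f.subgroupMap_surjective A)

theorem nilpotent_subgroupOf (A X : Subgroup G) (hA : Group.IsNilpotent A) :
    Group.IsNilpotent (A.subgroupOf X) := by
  have := hA
  let f : A.subgroupOf X →* A :=
    { toFun := fun x => ⟨((x : X) : G), Subgroup.mem_subgroupOf.mp x.2⟩
      map_one' := rfl
      map_mul' := fun _ _ => rfl }
  have hinj : Function.Injective f := by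
    intro x y hxy
    have : ((x : X) : G) = ((y : X) : G) := congrArg (fun z : A => (z : G)) hxy
    exact Subtype.ext (Subtype.ext this)
  exact Group.nilpotent_of_mulEquiv (MonoidHom.ofInjective hinj).symm

theorem card_quotient_lt [Finite G] (M : Subgroup G) [M.Normal] (hM : M ≠ ⊥) :
    Nat.card (G ⧸ M) < Nat.card G := by
  have h1 : 1 < Nat.card M := (Subgroup.one_lt_card_iff_ne_bot M).mpr hM
  have h2 : Nat.card (G ⧸ M) * Nat.card M = Nat.card G := by
    rw [← Subgroup.index_eq_card]; exact Subgroup.index_mul_card M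
  have h3 : 0 < Nat.card (G ⧸ M) := Nat.card_pos
  nlinarith

theorem card_subgroup_lt [Finite G] (X : Subgroup G) (hX : X ≠ ⊤) : Nat.card X < Nat.card G := by
  have h1 : Nat.card X ≤ Nat.card G := Subgroup.card_le_card_group X
  have h2 : Nat.card X ≠ Nat.card G := fun h => hX ((Subgroup.card_eq_iff_eq_top X).mp h)
  omega

theorem solvable_of_normal_of_quotient (M : Subgroup G) [M.Normal] (h1 : Group.IsSolvable M)
    (h2 : Group.IsSolvable (G ⧸ M)) : Group.IsSolvable G := by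
  have := h1
  have := h2
  refine Group.isSolvable_of_ker_le_range M.subtype (QuotientGroup.mk' M) ?_
  exact le_of_eq (by rw [QuotientGroup.ker_mk', Subgroup.range_subtype])

theorem exists_mul_of_sup_eq_top (X N : Subgroup G) [N.Normal] (h : X ⊔ N = ⊤) (g : G) :
    ∃ x ∈ X, ∃ n ∈ N, g = x * n := by
  have hg : g ∈ ((X ⊔ N : Subgroup G) : Set G) := by rw [h]; exact Subgroup.mem_top g
  rw [Subgroup.mul_normal] at hg
  obtain ⟨x, hx, n, hn, he⟩ := hg
  exact ⟨x, hx, n, hn, he.symm⟩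

theorem exists_mul_of_sup_eq_top' (X N : Subgroup G) [N.Normal] (h : X ⊔ N = ⊤) (g : G) :
    ∃ n ∈ N, ∃ x ∈ X, g = n * x := by
  have hg : g ∈ ((N ⊔ X : Subgroup G) : Set G) := by
    rw [sup_comm, h]; exact Subgroup.mem_top g
  rw [Subgroup.normal_mul] at hg
  obtain ⟨n, hn, x, hx, he⟩ := hg
  exact ⟨n, hn, x, hx, he.symm⟩

theorem normal_of_sup_eq_top (X V K : Subgroup G) [V.Normal] (h : X ⊔ V = ⊤)
    (hX : ∀ x ∈ X, ∀ k ∈ K, x * k * x⁻¹ ∈ K) (hV : ∀ v ∈ V, ∀ k ∈ K, v * k * v⁻¹ ∈ K) :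
    K.Normal := by
  constructor
  intro k hk g
  obtain ⟨x, hx, v, hv, rfl⟩ := exists_mul_of_sup_eq_top X V h g
  have e : x * v * k * (x * v)⁻¹ = x * (v * k * v⁻¹) * x⁻¹ := by group
  rw [e]
  exact hX x hx _ (hV v hv k hk)

theorem le_of_isPGroup_of_not_dvd_index [Finite G] {p : ℕ} [hp : Fact p.Prime] (N : Subgroup G)
    [N.Normal] (hN : ¬ p ∣ N.index) (Y : Subgroup G) (hY : IsPGroup p Y) : Y ≤ N := by
  rw [← Subgroup.relIndex_eq_one]
  have h1 : N.relIndex Y ∣ N.index := Subgroup.relIndex_dvd_index_of_normal N Y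
  have h2 : N.relIndex Y ∣ Nat.card Y := Subgroup.relIndex_dvd_card N Y
  obtain ⟨k, hk⟩ := hY.exists_card_eq
  rw [hk] at h2
  obtain ⟨j, _, hj⟩ := (Nat.dvd_prime_pow hp.out).mp h2
  rcases Nat.eq_zero_or_pos j with rfl | hjpos
  · simpa using hj
  · exfalso
    apply hN
    have : p ∣ N.relIndex Y := by rw [hj]; exact dvd_pow_self p hjpos.ne'
    exact this.trans h1

theorem not_dvd_index_of_sylow_le [Finite G] {p : ℕ} [hp : Fact p.Prime] (X N : Subgroup G)
    [N.Normal] (h : X ⊔ N = ⊤) (P : Sylow p X)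
    (hPN : (P : Subgroup X).map X.subtype ≤ N) : ¬ p ∣ N.index := by
  have e1 : N.index = N.relIndex X := by
    rw [← Subgroup.relIndex_sup_right (H := X) (K := N), h, Subgroup.relIndex_top_right]
  have hle : (P : Subgroup X) ≤ N.subgroupOf X := by
    intro y hy
    rw [Subgroup.mem_subgroupOf]
    exact hPN (Subgroup.mem_map_of_mem X.subtype hy)
  have e2 : N.relIndex X ∣ (P : Subgroup X).index := Subgroup.index_dvd_of_le hle
  intro hdvd
  rw [e1] at hdvd
  exact P.not_dvd_index (hdvd.trans e2)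

theorem sylow_normal_of_nilpotent [Finite G] {p : ℕ} [hp : Fact p.Prime]
    (hG : Group.IsNilpotent G) (P : Sylow p G) : (P : Subgroup G).Normal := by
  have h := (Group.isNilpotent_of_finite_tfae (G := G)).out 0 3
  exact h.mp hG p hp P

theorem conj_smul_eq_of_conj_mem {K : Subgroup G} {a : G} (h1 : ∀ y ∈ K, a * y * a⁻¹ ∈ K)
    (h2 : ∀ y ∈ K, a⁻¹ * y * a ∈ K) : MulAut.conj a • K = K := by
  ext z
  rw [mem_conj_smul_iff]
  constructor
  · intro hz
    have := h1 _ hz
    have e : a * (a⁻¹ * z * a) * a⁻¹ = z := by group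
    rwa [e] at this
  · intro hz; exact h2 z hz

/-- the Sylow `p`-subgroup of a nilpotent subgroup `A`, as a subgroup of `G` -/
theorem sylow_map_props [Finite G] {p : ℕ} [hp : Fact p.Prime] (A : Subgroup G)
    (hA : Group.IsNilpotent A) (P : Sylow p A) (hpA : p ∣ Nat.card A) :
    (P : Subgroup A).map A.subtype ≤ A ∧ IsPGroup p ((P : Subgroup A).map A.subtype) ∧
      (P : Subgroup A).map A.subtype ≠ ⊥ ∧
      (∀ a ∈ A, ∀ y ∈ (P : Subgroup A).map A.subtype,
        a * y * a⁻¹ ∈ (P : Subgroup A).map A.subtype) := by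
  refine ⟨Subgroup.map_subtype_le _, P.isPGroup'.map A.subtype, ?_, ?_⟩
  · intro h
    rw [Subgroup.map_eq_bot_iff_of_injective _ A.subtype_injective] at h
    exact P.ne_bot_of_dvd_card hpA h
  · intro a ha y hy
    haveI : (P : Subgroup A).Normal := sylow_normal_of_nilpotent hA P
    obtain ⟨y', hy', rfl⟩ := hy
    have := (inferInstance : (P : Subgroup A).Normal).conj_mem y' hy' ⟨a, ha⟩
    exact ⟨_, this, rfl⟩

theorem smul_eq_of_props {A Ap : Subgroup G}
    (h : ∀ a ∈ A, ∀ y ∈ Ap, a * y * a⁻¹ ∈ Ap) {a : G} (ha : a ∈ A) :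
    MulAut.conj a • Ap = Ap := by
  apply conj_smul_eq_of_conj_mem (h a ha)
  intro y hy
  have := h a⁻¹ (A.inv_mem ha) y hy
  rwa [inv_inv] at this

/-- In a finite `p`-group a nontrivial normal subgroup meets the centre nontrivially. -/
theorem normal_inf_center_ne_bot_aux {T : Type*} [Group T] [Finite T] {p : ℕ} [Fact p.Prime]
    (hG : IsPGroup p T) (N : Subgroup T) [N.Normal] (hN : N ≠ ⊥) :
    N ⊓ Subgroup.center T ≠ ⊥ := by
  have hGc : IsPGroup p (ConjAct T) := hG.of_equiv ConjAct.toConjAct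
  have hNp : IsPGroup p N := hG.to_subgroup N
  have hdvd : p ∣ Nat.card N := by
    rcases hNp.card_eq_or_dvd with h | h
    · exfalso
      apply hN
      exact (Subgroup.card_eq_one).mp h
    · exact h
  have h1 : (1 : N) ∈ MulAction.fixedPoints (ConjAct T) N := by
    intro g
    exact smul_one g
  obtain ⟨b, hb, hb1⟩ := hGc.exists_fixed_point_of_prime_dvd_card_of_fixed_point N hdvd h1
  intro hbot
  apply hb1
  have hbc : (b : T) ∈ N ⊓ Subgroup.center T := by
    refine Subgroup.mem_inf.mpr ⟨b.2, ?_⟩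
    rw [Subgroup.mem_center_iff]
    intro g
    have := hb (ConjAct.toConjAct g)
    have h2 := congrArg Subtype.val this
    rw [ConjAct.Subgroup.val_conj_smul, ConjAct.toConjAct_smul] at h2
    calc g * (b : T) = (g * (b : T) * g⁻¹) * g := by group
      _ = (b : T) * g := by rw [h2]
  rw [hbot, Subgroup.mem_bot] at hbc
  exact (Subtype.ext hbc).symm

theorem inf_centralizer_ne_bot [Finite G] {p : ℕ} [hp : Fact p.Prime] (Xp V : Subgroup G)
    [V.Normal] (hXp : IsPGroup p Xp) (hVp : IsPGroup p V) (hV : V ≠ ⊥) :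
    V ⊓ Subgroup.centralizer (Xp : Set G) ≠ ⊥ := by
  have hT : IsPGroup p (Xp ⊔ V : Subgroup G) := IsPGroup.to_sup_of_normal_right hXp hVp
  have hV' : V.subgroupOf (Xp ⊔ V) ≠ ⊥ := by
    obtain ⟨⟨v, hv⟩, hv1⟩ := (Subgroup.ne_bot_iff_exists_ne_one).mp hV
    intro hbot
    have : (⟨v, le_sup_right (a := Xp) hv⟩ : (Xp ⊔ V : Subgroup G)) ∈ V.subgroupOf (Xp ⊔ V) :=
      Subgroup.mem_subgroupOf.mpr hv
    rw [hbot, Subgroup.mem_bot] at this
    apply hv1
    have h2 : v = 1 := congrArg Subtype.val this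
    exact Subtype.ext h2
  have key := normal_inf_center_ne_bot_aux hT (V.subgroupOf (Xp ⊔ V)) hV'
  obtain ⟨⟨z, hz⟩, hz1⟩ := (Subgroup.ne_bot_iff_exists_ne_one).mp key
  obtain ⟨hzV, hzc⟩ := Subgroup.mem_inf.mp hz
  intro hbot
  apply hz1
  have hmem : ((z : (Xp ⊔ V : Subgroup G)) : G) ∈ V ⊓ Subgroup.centralizer (Xp : Set G) := by
    refine Subgroup.mem_inf.mpr ⟨Subgroup.mem_subgroupOf.mp hzV, ?_⟩
    rw [Subgroup.mem_centralizer_iff]
    intro y hy
    rw [Subgroup.mem_center_iff] at hzc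
    have := hzc ⟨y, le_sup_left (b := V) hy⟩
    exact congrArg Subtype.val this
  rw [hbot, Subgroup.mem_bot] at hmem
  exact Subtype.ext (Subtype.ext hmem)

theorem mem_conj_smul_subgroupOf (N K : Subgroup G) (x v : N) :
    v ∈ MulAut.conj x • (K.subgroupOf N) ↔ (v : G) ∈ MulAut.conj (x : G) • K := by
  rw [mem_conj_smul_iff, mem_conj_smul_iff, Subgroup.mem_subgroupOf]
  rfl

theorem normalClosure_le_of_normal_in (X Xp N₁ : Subgroup G)
    (hXp : ∀ a ∈ X, ∀ y ∈ Xp, a * y * a⁻¹ ∈ Xp)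
    (hXN : X ⊔ Subgroup.normalClosure (Xp : Set G) = ⊤) (hXpN₁ : Xp ≤ N₁)
    (hnorm : ∀ n ∈ Subgroup.normalClosure (Xp : Set G), ∀ y ∈ N₁, n * y * n⁻¹ ∈ N₁) :
    Subgroup.normalClosure (Xp : Set G) ≤ N₁ := by
  rw [Subgroup.normalClosure, Subgroup.closure_le]
  intro z hz
  rw [Group.mem_conjugatesOfSet_iff] at hz
  obtain ⟨y, hy, hyz⟩ := hz
  rw [isConj_iff] at hyz
  obtain ⟨g, rfl⟩ := hyz
  obtain ⟨n, hn, x, hx, rfl⟩ := exists_mul_of_sup_eq_top' X _ hXN g
  have e : n * x * y * (n * x)⁻¹ = n * (x * y * x⁻¹) * n⁻¹ := by group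
  rw [e]
  exact hnorm n hn _ (hXpN₁ (hXp x hx y hy))

theorem eq_top_of_le_of_normalClosure (X Xp : Subgroup G)
    (hXp : ∀ a ∈ X, ∀ y ∈ Xp, a * y * a⁻¹ ∈ Xp) (N : Subgroup G)
    (hN : N = Subgroup.normalClosure (Xp : Set G)) (hXN : X ⊔ N = ⊤)
    (N₁ : Subgroup N) [hN₁ : N₁.Normal] (hle : Xp.subgroupOf N ≤ N₁) : N₁ = ⊤ := by
  subst hN
  have hXpN : Xp ≤ Subgroup.normalClosure (Xp : Set G) := Subgroup.le_normalClosure
  have h1 : Subgroup.normalClosure (Xp : Set G) ≤ N₁.map (Subgroup.subtype _) := by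
    apply normalClosure_le_of_normal_in X Xp _ hXp hXN
    · intro y hy
      exact ⟨⟨y, hXpN hy⟩, hle (Subgroup.mem_subgroupOf.mpr hy), rfl⟩
    · intro n hn y hy
      obtain ⟨y', hy', rfl⟩ := hy
      exact ⟨_, hN₁.conj_mem y' hy' ⟨n, hn⟩, rfl⟩
  rw [eq_top_iff]
  intro z _
  obtain ⟨z', hz', he⟩ := h1 z.2
  have : z' = z := Subtype.ext he
  rw [← this]; exact hz'

end basic

section general

variable (hW : ∀ (H : Type u) [Group H] [Finite H] (A B : Subgroup H), Group.IsNilpotent A →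
  Group.IsNilpotent B → (Nat.card A).Coprime (Nat.card B) → IsFactorized A B → Group.IsSolvable H)

theorem no_common_prime {G : Type u} [Group G] [Finite G] (A B : Subgroup G)
    (hA : Group.IsNilpotent A) (hB : Group.IsNilpotent B) (hAB : IsFactorized A B)
    (ha : ∀ M : Subgroup G, M.Normal → M ≠ ⊥ → ¬ Group.IsSolvable M)
    (hbA : ∀ M : Subgroup G, M.Normal → M ≠ ⊥ → A ⊔ M = ⊤)
    (hbB : ∀ M : Subgroup G, M.Normal → M ≠ ⊥ → B ⊔ M = ⊤)
    (p : ℕ) [hp : Fact p.Prime] (hpA : p ∣ Nat.card A) (hpB : p ∣ Nat.card B) : False := by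
  obtain ⟨P, Q, R, hR⟩ := Cfsg.Agent.S0560.result A B hAB p
  obtain ⟨hApA, hApp, hApne, hApc⟩ := sylow_map_props A hA P hpA
  obtain ⟨hBpB, hBpp, hBpne, hBpc⟩ := sylow_map_props B hB Q hpB
  obtain ⟨Ap, hApdef⟩ : ∃ Ap : Subgroup G, Ap = (P : Subgroup A).map A.subtype := ⟨_, rfl⟩
  obtain ⟨Bp, hBpdef⟩ : ∃ Bp : Subgroup G, Bp = (Q : Subgroup B).map B.subtype := ⟨_, rfl⟩
  rw [← hApdef] at hR hApA hApp hApne hApc
  rw [← hBpdef] at hR hBpB hBpp hBpne hBpc
  -- the normal closures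
  obtain ⟨N, hNdef⟩ : ∃ N : Subgroup G, N = Subgroup.normalClosure (Ap : Set G) := ⟨_, rfl⟩
  obtain ⟨N', hN'def⟩ : ∃ N' : Subgroup G, N' = Subgroup.normalClosure (Bp : Set G) := ⟨_, rfl⟩
  haveI hNn : N.Normal := by rw [hNdef]; exact Subgroup.normalClosure_normal
  haveI hN'n : N'.Normal := by rw [hN'def]; exact Subgroup.normalClosure_normal
  have hApN : Ap ≤ N := by rw [hNdef]; exact Subgroup.le_normalClosure
  have hBpN' : Bp ≤ N' := by rw [hN'def]; exact Subgroup.le_normalClosure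
  have hNne : N ≠ ⊥ := by
    intro h
    rw [h, le_bot_iff] at hApN
    exact hApne hApN
  have hN'ne : N' ≠ ⊥ := by
    intro h
    rw [h, le_bot_iff] at hBpN'
    exact hBpne hBpN'
  have hAN : A ⊔ N = ⊤ := hbA N hNn hNne
  have hBN' : B ⊔ N' = ⊤ := hbB N' hN'n hN'ne
  have hidx : ¬ p ∣ N.index := not_dvd_index_of_sylow_le A N hAN P (by rw [← hApdef]; exact hApN)
  have hidx' : ¬ p ∣ N'.index :=
    not_dvd_index_of_sylow_le B N' hBN' Q (by rw [← hBpdef]; exact hBpN')
  have hBpN : Bp ≤ N := le_of_isPGroup_of_not_dvd_index N hidx Bp hBpp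
  have hApN' : Ap ≤ N' := le_of_isPGroup_of_not_dvd_index N' hidx' Ap hApp
  have hNN' : N = N' := by
    apply le_antisymm
    · rw [hNdef]; exact Subgroup.normalClosure_le_normal (SetLike.coe_subset_coe.mpr hApN')
    · rw [hN'def]; exact Subgroup.normalClosure_le_normal (SetLike.coe_subset_coe.mpr hBpN)
  have hBN : B ⊔ N = ⊤ := by rw [hNN']; exact hBN'
  have hNdef' : N = Subgroup.normalClosure (Bp : Set G) := by rw [hNN']; exact hN'def
  have hNnotp : ¬ IsPGroup p N := by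
    intro h
    haveI : Group.IsNilpotent N := h.isNilpotent
    exact ha N hNn hNne inferInstance
  -- the hypotheses of Kegel's lemma inside `N`
  have hA₀ : Ap.subgroupOf N ≠ ⊥ := by
    obtain ⟨⟨y, hy⟩, hy1⟩ := (Subgroup.ne_bot_iff_exists_ne_one).mp hApne
    intro hbot
    have : (⟨y, hApN hy⟩ : N) ∈ Ap.subgroupOf N := Subgroup.mem_subgroupOf.mpr hy
    rw [hbot, Subgroup.mem_bot] at this
    apply hy1
    have h2 : y = 1 := congrArg Subtype.val this
    exact Subtype.ext h2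
  have hB₀ : Bp.subgroupOf N ≠ ⊥ := by
    obtain ⟨⟨y, hy⟩, hy1⟩ := (Subgroup.ne_bot_iff_exists_ne_one).mp hBpne
    intro hbot
    have : (⟨y, hBpN hy⟩ : N) ∈ Bp.subgroupOf N := Subgroup.mem_subgroupOf.mpr hy
    rw [hbot, Subgroup.mem_bot] at this
    apply hy1
    have h2 : y = 1 := congrArg Subtype.val this
    exact Subtype.ext h2
  have hkey : ∀ x : N, ∃ S : Subgroup N, S ≠ ⊤ ∧ (S : Set N) = ((Ap.subgroupOf N : Subgroup N) : Set N) *
      ((MulAut.conj x • (Bp.subgroupOf N) : Subgroup N) : Set N) := by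
    intro x
    obtain ⟨a, ha', b, hb', he⟩ := hAB (x : G)
    have hT : ((MulAut.conj a • (R : Subgroup G) : Subgroup G) : Set G) =
        (Ap : Set G) * ((MulAut.conj (x : G) • Bp : Subgroup G) : Set G) := by
      rw [conj_isProd a hR, smul_eq_of_props hApc ha', he, map_mul, mul_smul,
        smul_eq_of_props hBpc hb']
    have hTp : IsPGroup p (MulAut.conj a • (R : Subgroup G) : Subgroup G) :=
      R.isPGroup'.of_equiv (Subgroup.equivSMul (MulAut.conj a) (R : Subgroup G))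
    refine ⟨(MulAut.conj a • (R : Subgroup G)).subgroupOf N, ?_, ?_⟩
    · intro htop
      rw [Subgroup.subgroupOf_eq_top] at htop
      exact hNnotp (hTp.to_le htop)
    · ext y
      constructor
      · intro hy
        have hy' : (y : G) ∈ ((MulAut.conj a • (R : Subgroup G) : Subgroup G) : Set G) :=
          Subgroup.mem_subgroupOf.mp hy
        rw [hT] at hy'
        obtain ⟨u, hu, v, hv, huv⟩ := hy'
        have hvN : v ∈ N := by
          have hv' : v ∈ MulAut.conj (x : G) • Bp := hv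
          rw [mem_conj_smul_iff] at hv'
          have h1 : (x : G)⁻¹ * v * (x : G) ∈ N := hBpN hv'
          have h2 := N.mul_mem (N.mul_mem x.2 h1) (N.inv_mem x.2)
          have e : (x : G) * ((x : G)⁻¹ * v * (x : G)) * (x : G)⁻¹ = v := by group
          rwa [e] at h2
        refine ⟨⟨u, hApN hu⟩, Subgroup.mem_subgroupOf.mpr hu, ⟨v, hvN⟩, ?_, Subtype.ext huv⟩
        exact (mem_conj_smul_subgroupOf N Bp x ⟨v, hvN⟩).mpr hv
      · rintro ⟨u, hu, v, hv, rfl⟩
        have hu' : (u : G) ∈ Ap := Subgroup.mem_subgroupOf.mp hu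
        have hv' : (v : G) ∈ MulAut.conj (x : G) • Bp :=
          (mem_conj_smul_subgroupOf N Bp x v).mp hv
        have : ((u * v : N) : G) ∈ ((MulAut.conj a • (R : Subgroup G) : Subgroup G) : Set G) := by
          rw [hT]
          exact ⟨u, hu', v, hv', rfl⟩
        exact Subgroup.mem_subgroupOf.mpr this
  obtain ⟨N₁, hN₁n, hN₁top, hor⟩ :=
    Cfsg.Agent.S0566.result (Ap.subgroupOf N) (Bp.subgroupOf N) hA₀ hB₀ hkey
  rcases hor with h | h
  · exact hN₁top (eq_top_of_le_of_normalClosure A Ap hApc N hNdef hAN N₁ h)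
  · exact hN₁top (eq_top_of_le_of_normalClosure B Bp hBpc N hNdef' hBN N₁ h)

include hW in
theorem solvable_step (G : Type u) [Group G] [Finite G]
    (IH : ∀ (H : Type u) [Group H] [Finite H], Nat.card H < Nat.card G → ∀ (A B : Subgroup H),
      Group.IsNilpotent A → Group.IsNilpotent B → IsFactorized A B → Group.IsSolvable H)
    (A B : Subgroup G) (hA : Group.IsNilpotent A) (hB : Group.IsNilpotent B)
    (hAB : IsFactorized A B) : Group.IsSolvable G := by
  by_contra hns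
  have ha : ∀ M : Subgroup G, M.Normal → M ≠ ⊥ → ¬ Group.IsSolvable M := by
    intro M hMn hM hMs
    haveI := hMn
    apply hns
    refine solvable_of_normal_of_quotient M hMs ?_
    exact IH (G ⧸ M) (card_quotient_lt M hM) (A.map (QuotientGroup.mk' M))
      (B.map (QuotientGroup.mk' M)) (nilpotent_map A hA _) (nilpotent_map B hB _)
      (fact_map hAB _ (QuotientGroup.mk'_surjective M))
  have hb : ∀ (X Y : Subgroup G), Group.IsNilpotent X → Group.IsNilpotent Y → IsFactorized X Y →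
      ∀ M : Subgroup G, M.Normal → M ≠ ⊥ → X ⊔ M = ⊤ := by
    intro X Y hX hY hXY M hMn hM
    by_contra hne
    have hlt : Nat.card (X ⊔ M : Subgroup G) < Nat.card G := card_subgroup_lt _ hne
    have hs : Group.IsSolvable (X ⊔ M : Subgroup G) :=
      IH _ hlt (X.subgroupOf (X ⊔ M)) (Y.subgroupOf (X ⊔ M)) (nilpotent_subgroupOf X _ hX)
        (nilpotent_subgroupOf Y _ hY) (fact_subgroupOf hXY le_sup_left)
    haveI := hs
    exact ha M hMn hM
      (Group.isSolvable_of_isSolvable_injective (Subgroup.inclusion_injective (le_sup_right : M ≤ X ⊔ M)))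
  by_cases hcop : (Nat.card A).Coprime (Nat.card B)
  · exact hns (hW G A B hA hB hcop hAB)
  · obtain ⟨p, hp, hpA, hpB⟩ := Nat.Prime.not_coprime_iff_dvd.mp hcop
    haveI : Fact p.Prime := ⟨hp⟩
    exact no_common_prime A B hA hB hAB ha (hb A B hA hB hAB) (hb B A hB hA hAB.symm) p hpA hpB

include hW in
theorem kw_solvable_aux : ∀ (n : ℕ) (G : Type u) [Group G] [Finite G], Nat.card G = n →
    ∀ (A B : Subgroup G), Group.IsNilpotent A → Group.IsNilpotent B → IsFactorized A B →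
      Group.IsSolvable G := by
  intro n
  induction n using Nat.strong_induction_on with
  | _ n ih =>
    intro G _ _ hn A B hA hB hAB
    apply solvable_step hW G _ A B hA hB hAB
    intro H _ _ hlt A' B' hA' hB' hAB'
    exact ih (Nat.card H) (hn ▸ hlt) H rfl A' B' hA' hB' hAB'

include hW in
/-- **Kegel–Wielandt**, given the coprime case. -/
theorem kw_solvable (G : Type u) [Group G] [Finite G] (A B : Subgroup G)
    (hA : Group.IsNilpotent A) (hB : Group.IsNilpotent B) (hAB : IsFactorized A B) :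
    Group.IsSolvable G :=
  kw_solvable_aux hW _ G rfl A B hA hB hAB

end general

section proper

variable (hS : ∀ (H : Type u) [Group H] [Finite H] (A B : Subgroup H), Group.IsNilpotent A →
  Group.IsNilpotent B → IsFactorized A B → Group.IsSolvable H)

theorem quotient_step (G : Type u) [Group G] [Finite G]
    (IH : ∀ (H : Type u) [Group H] [Finite H], Nat.card H < Nat.card G → ∀ (A B : Subgroup H),
      Group.IsNilpotent A → Group.IsNilpotent B → IsFactorized A B → (A ≠ ⊤ ∨ B ≠ ⊤) →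
      ∃ N : Subgroup H, N.Normal ∧ N ≠ ⊤ ∧ (A ≤ N ∨ B ≤ N))
    (A B : Subgroup G) (hA : Group.IsNilpotent A) (hB : Group.IsNilpotent B)
    (hAB : IsFactorized A B) (M : Subgroup G) [M.Normal] (hM : M ≠ ⊥)
    (h : A ⊔ M ≠ ⊤ ∨ B ⊔ M ≠ ⊤) : ∃ N : Subgroup G, N.Normal ∧ N ≠ ⊤ ∧ (A ≤ N ∨ B ≤ N) := by
  have key : ∀ X : Subgroup G, X ⊔ M ≠ ⊤ → X.map (QuotientGroup.mk' M) ≠ ⊤ := by
    intro X hX htop
    apply hX
    have := Subgroup.comap_map_eq (QuotientGroup.mk' M) X
    rw [htop, Subgroup.comap_top, QuotientGroup.ker_mk'] at this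
    exact this.symm
  obtain ⟨N', hN'n, hN'top, hor⟩ := IH (G ⧸ M) (card_quotient_lt M hM)
    (A.map (QuotientGroup.mk' M)) (B.map (QuotientGroup.mk' M)) (nilpotent_map A hA _)
    (nilpotent_map B hB _) (fact_map hAB _ (QuotientGroup.mk'_surjective M))
    (h.imp (key A) (key B))
  refine ⟨N'.comap (QuotientGroup.mk' M), hN'n.comap _, ?_, ?_⟩
  · intro htop
    apply hN'top
    rw [← Subgroup.map_comap_eq_self_of_surjective (QuotientGroup.mk'_surjective M) N', htop,
      Subgroup.map_top_of_surjective _ (QuotientGroup.mk'_surjective M)]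
  · exact hor.imp Subgroup.map_le_iff_le_comap.mp Subgroup.map_le_iff_le_comap.mp

theorem core_normal {G : Type u} [Group G] (X V : Subgroup G) [hVn : V.Normal]
    (hVab : V ≤ Subgroup.centralizer (V : Set G)) (h : X ⊔ V = ⊤) :
    (X ⊓ Subgroup.centralizer (V : Set G)).Normal := by
  apply normal_of_sup_eq_top X V _ h
  · intro x hx d hd
    obtain ⟨hdX, hc⟩ := Subgroup.mem_inf.mp hd
    refine Subgroup.mem_inf.mpr ⟨X.mul_mem (X.mul_mem hx hdX) (X.inv_mem hx), ?_⟩
    rw [Subgroup.mem_centralizer_iff] at hc ⊢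
    intro v hv
    have hv' : x⁻¹ * v * x ∈ V := by
      have := hVn.conj_mem v hv x⁻¹
      rwa [inv_inv] at this
    have e := hc _ hv'
    calc v * (x * d * x⁻¹) = x * ((x⁻¹ * v * x) * d) * x⁻¹ := by group
      _ = x * (d * (x⁻¹ * v * x)) * x⁻¹ := by rw [e]
      _ = x * d * x⁻¹ * v := by group
  · intro v hv d hd
    obtain ⟨hdX, hc⟩ := Subgroup.mem_inf.mp hd
    rw [Subgroup.mem_centralizer_iff] at hc
    have e : v * d = d * v := hc v hv
    have e' : v * d * v⁻¹ = d := by rw [e]; group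
    rw [e']; exact hd

theorem not_dvd_card_of_core_eq_bot {G : Type u} [Group G] [Finite G] {p : ℕ} [hp : Fact p.Prime]
    (X V : Subgroup G) (hV : IsMinNormal V) (hVab : V ≤ Subgroup.centralizer (V : Set G))
    (hVp : IsPGroup p V) (hX : Group.IsNilpotent X) (h : X ⊔ V = ⊤)
    (hD : X ⊓ Subgroup.centralizer (V : Set G) = ⊥) : ¬ p ∣ Nat.card X := by
  intro hdvd
  haveI hVn : V.Normal := hV.1
  obtain ⟨P⟩ : Nonempty (Sylow p X) := inferInstance
  obtain ⟨hXpX, hXpp, hXpne, hXpc⟩ := sylow_map_props X hX P hdvd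
  obtain ⟨Xp, hXpdef⟩ : ∃ Xp : Subgroup G, Xp = (P : Subgroup X).map X.subtype := ⟨_, rfl⟩
  rw [← hXpdef] at hXpX hXpp hXpne hXpc
  have hWn : (V ⊓ Subgroup.centralizer (Xp : Set G)).Normal := by
    apply normal_of_sup_eq_top X V _ h
    · intro x hx w hw
      obtain ⟨hwV, hc⟩ := Subgroup.mem_inf.mp hw
      refine Subgroup.mem_inf.mpr ⟨hVn.conj_mem w hwV x, ?_⟩
      rw [Subgroup.mem_centralizer_iff] at hc ⊢
      intro y hy
      have hy' : x⁻¹ * y * x ∈ Xp := by
        have := hXpc x⁻¹ (X.inv_mem hx) y hy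
        rwa [inv_inv] at this
      have e := hc _ hy'
      calc y * (x * w * x⁻¹) = x * ((x⁻¹ * y * x) * w) * x⁻¹ := by group
        _ = x * (w * (x⁻¹ * y * x)) * x⁻¹ := by rw [e]
        _ = x * w * x⁻¹ * y := by group
    · intro v hv w hw
      obtain ⟨hwV, hc⟩ := Subgroup.mem_inf.mp hw
      have hc' := hVab hv
      rw [Subgroup.mem_centralizer_iff] at hc'
      have e : w * v = v * w := hc' w hwV
      have e' : v * w * v⁻¹ = w := by rw [← e]; group
      rw [e']; exact hw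
  have hWne : V ⊓ Subgroup.centralizer (Xp : Set G) ≠ ⊥ :=
    inf_centralizer_ne_bot Xp V hXpp hVp hV.2.1
  have hWV : V ⊓ Subgroup.centralizer (Xp : Set G) = V :=
    (hV.2.2 _ hWn inf_le_left).resolve_left hWne
  have hle : Xp ≤ X ⊓ Subgroup.centralizer (V : Set G) := by
    intro y hy
    refine Subgroup.mem_inf.mpr ⟨hXpX hy, ?_⟩
    rw [Subgroup.mem_centralizer_iff]
    intro v hv
    have hv' : v ∈ V ⊓ Subgroup.centralizer (Xp : Set G) := by rw [hWV]; exact hv
    have hc := (Subgroup.mem_inf.mp hv').2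
    rw [Subgroup.mem_centralizer_iff] at hc
    exact (hc y hy).symm
  rw [hD, le_bot_iff] at hle
  exact hXpne hle

include hS in
theorem proper_step (G : Type u) [Group G] [Finite G]
    (IH : ∀ (H : Type u) [Group H] [Finite H], Nat.card H < Nat.card G → ∀ (A B : Subgroup H),
      Group.IsNilpotent A → Group.IsNilpotent B → IsFactorized A B → (A ≠ ⊤ ∨ B ≠ ⊤) →
      ∃ N : Subgroup H, N.Normal ∧ N ≠ ⊤ ∧ (A ≤ N ∨ B ≤ N))
    (A B : Subgroup G) (hA : Group.IsNilpotent A) (hB : Group.IsNilpotent B)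
    (hAB : IsFactorized A B) (hproper : A ≠ ⊤ ∨ B ≠ ⊤) :
    ∃ N : Subgroup G, N.Normal ∧ N ≠ ⊤ ∧ (A ≤ N ∨ B ≤ N) := by
  have nilcase : ∀ X Y : Subgroup G, X = ⊤ → Group.IsNilpotent X → Y ≠ ⊤ →
      ∃ N : Subgroup G, N.Normal ∧ N ≠ ⊤ ∧ Y ≤ N := by
    intro X Y hXt hX hY
    haveI : Group.IsNilpotent G := by
      haveI := hX
      subst hXt
      exact Group.nilpotent_of_mulEquiv Subgroup.topEquiv
    rcases eq_top_or_exists_le_coatom Y with h | ⟨K, hK, hYK⟩
    · exact absurd h hY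
    · exact ⟨K, Subgroup.NormalizerCondition.normal_of_coatom K
        Group.normalizerCondition_of_isNilpotent hK, hK.1, hYK⟩
  by_cases hAt : A = ⊤
  · have hBt : B ≠ ⊤ := hproper.resolve_left (not_not.mpr hAt)
    obtain ⟨N, h1, h2, h3⟩ := nilcase A B hAt hA hBt
    exact ⟨N, h1, h2, Or.inr h3⟩
  by_cases hBt : B = ⊤
  · obtain ⟨N, h1, h2, h3⟩ := nilcase B A hBt hB hAt
    exact ⟨N, h1, h2, Or.inl h3⟩
  haveI : Group.IsSolvable G := hS G A B hA hB hAB
  haveI : Nontrivial G := by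
    by_contra hnt
    rw [not_nontrivial_iff_subsingleton] at hnt
    exact hAt (Subsingleton.elim _ _)
  obtain ⟨V, hV⟩ := exists_minNormal (G := G)
  have hVab := hV.le_centralizer
  obtain ⟨p, hp, hVp⟩ := hV.exists_isPGroup hVab
  haveI : Fact p.Prime := ⟨hp⟩
  haveI hVn : V.Normal := hV.1
  by_cases hAV : A ⊔ V = ⊤
  swap
  · exact quotient_step G IH A B hA hB hAB V hV.2.1 (Or.inl hAV)
  by_cases hBV : B ⊔ V = ⊤
  swap
  · exact quotient_step G IH A B hA hB hAB V hV.2.1 (Or.inr hBV)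
  have hDAn := core_normal A V hVab hAV
  have hDBn := core_normal B V hVab hBV
  by_cases hDA : A ⊓ Subgroup.centralizer (V : Set G) = ⊥
  swap
  · haveI := hDAn
    refine quotient_step G IH A B hA hB hAB _ hDA (Or.inl ?_)
    rw [sup_of_le_left inf_le_left]; exact hAt
  by_cases hDB : B ⊓ Subgroup.centralizer (V : Set G) = ⊥
  swap
  · haveI := hDBn
    refine quotient_step G IH A B hA hB hAB _ hDB (Or.inr ?_)
    rw [sup_of_le_left inf_le_left]; exact hBt
  have hpA := not_dvd_card_of_core_eq_bot A V hV hVab hVp hA hAV hDA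
  have hpB := not_dvd_card_of_core_eq_bot B V hV hVab hVp hB hBV hDB
  exfalso
  obtain ⟨P, Q, R, hR⟩ := Cfsg.Agent.S0560.result A B hAB p
  have hP : (P : Subgroup A) = ⊥ := by
    rcases P.isPGroup'.card_eq_or_dvd with h | h
    · exact Subgroup.card_eq_one.mp h
    · exact absurd (h.trans (Subgroup.card_subgroup_dvd_card _)) hpA
  have hQ : (Q : Subgroup B) = ⊥ := by
    rcases Q.isPGroup'.card_eq_or_dvd with h | h
    · exact Subgroup.card_eq_one.mp h
    · exact absurd (h.trans (Subgroup.card_subgroup_dvd_card _)) hpB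
  have hRbot : (R : Subgroup G) = ⊥ := by
    rw [hP, hQ, Subgroup.map_bot, Subgroup.map_bot] at hR
    rw [eq_bot_iff]
    intro z hz
    have hz' : z ∈ ((R : Subgroup G) : Set G) := hz
    rw [hR] at hz'
    obtain ⟨u, hu, v, hv, he⟩ := hz'
    dsimp only at he
    rw [SetLike.mem_coe, Subgroup.mem_bot] at hu hv
    rw [Subgroup.mem_bot, ← he, hu, hv, one_mul]
  have hpG : p ∣ Nat.card G := by
    have h1 : p ∣ Nat.card V := by
      rcases hVp.card_eq_or_dvd with h | h
      · exact absurd (Subgroup.card_eq_one.mp h) hV.2.1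
      · exact h
    exact h1.trans (Subgroup.card_subgroup_dvd_card V)
  exact R.ne_bot_of_dvd_card hpG hRbot

include hS in
theorem kw_proper_aux : ∀ (n : ℕ) (G : Type u) [Group G] [Finite G], Nat.card G = n →
    ∀ (A B : Subgroup G), Group.IsNilpotent A → Group.IsNilpotent B → IsFactorized A B →
      (A ≠ ⊤ ∨ B ≠ ⊤) → ∃ N : Subgroup G, N.Normal ∧ N ≠ ⊤ ∧ (A ≤ N ∨ B ≤ N) := by
  intro n
  induction n using Nat.strong_induction_on with
  | _ n ih =>
    intro G _ _ hn A B hA hB hAB hproper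
    apply proper_step hS G _ A B hA hB hAB hproper
    intro H _ _ hlt A' B' hA' hB' hAB' hproper'
    exact ih (Nat.card H) (hn ▸ hlt) H rfl A' B' hA' hB' hAB' hproper'

include hS in
/-- `G = AB` with `A`, `B` nilpotent, not both equal to `G`: a proper normal subgroup contains
`A` or `B` (given the Kegel–Wielandt theorem). -/
theorem kw_proper (G : Type u) [Group G] [Finite G] (A B : Subgroup G)
    (hA : Group.IsNilpotent A) (hB : Group.IsNilpotent B) (hAB : IsFactorized A B)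
    (hproper : A ≠ ⊤ ∨ B ≠ ⊤) : ∃ N : Subgroup G, N.Normal ∧ N ≠ ⊤ ∧ (A ≤ N ∨ B ≤ N) :=
  kw_proper_aux hS _ G rfl A B hA hB hAB hproper

end proper

end Cfsg.Agent.Lib.Helper29.KW
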