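import Mathlib
import Cfsg.Prelude.Def_Characters
import Cfsg.Agent.Lib.Helper11.S3282Defs
import Cfsg.Agent.Lib.Helper11.Frobenius
import Cfsg.Agent.Lib.Helper2.NormalInduction
import Cfsg.Agent.Lib.Helper25.CharBasic

/-!
S3282 (Brauer–Suzuki–Wall, abstract form; architect helper11), pieces CT2 and CT3:
values of `Del K μ = Ind_K^G (1 - μ)` on `K` and off the conjugates of `K`, and the Gram matrix of
the `Del K μ`.
-/

set_option autoImplicit false

namespace Cfsg.Agent.Lib.Helper29.S3282CT23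

open Cfsg Cfsg.Agent.Lib.Helper11 Cfsg.Agent.Lib.Helper11.S3282
open scoped ComplexConjugate

universe u

variable {G : Type u} [Group G] {t s : G} {K : Subgroup G}

/-- fusion of `K#` is controlled by `C(t)`. -/
theorem fusion (h : Hyp t s K) {a g : G} (ha : a ∈ K) (ha1 : a ≠ 1) (hg : g * a * g⁻¹ ∈ K) :
    g ∈ Subgroup.centralizer ({t} : Set G) := by
  by_contra hgn
  have h1 := h.hTI g hgn
  have h2 : g * a * g⁻¹ ∈ K ⊓ K.map (MulAut.conj g).toMonoidHom := by
    refine ⟨hg, ?_⟩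
    exact ⟨a, ha, by simp [MulAut.conj_apply]⟩
  rw [h1, Subgroup.mem_bot] at h2
  apply ha1
  have h3 : a = g⁻¹ * (g * a * g⁻¹) * g := by group
  rw [h3, h2]
  group

theorem s_mul_s (h : Hyp t s K) : s * s = 1 := by
  haveI : Fact (Nat.Prime 2) := ⟨Nat.prime_two⟩
  have h1 := (orderOf_eq_prime_iff (p := 2)).1 h.hs
  rw [← pow_two]
  exact h1.1

theorem s_inv (h : Hyp t s K) : s⁻¹ = s := inv_eq_of_mul_eq_one_right (s_mul_s h)

/-- `C(t) = K ∪ K s`. -/
theorem mem_H (h : Hyp t s K) {x : G} (hx : x ∈ Subgroup.centralizer ({t} : Set G)) :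
    x ∈ K ∨ x * s ∈ K := by
  have hs2 := s_mul_s h
  have hsinv := s_inv h
  have hsN : s ∈ Subgroup.normalizer (K : Set G) := by
    rw [Subgroup.mem_normalizer_iff]
    intro y
    constructor
    · intro hy
      rw [h.hinv y hy]
      exact K.inv_mem hy
    · intro hy
      have h1 := h.hinv _ hy
      have h2 : s * (s * y * s⁻¹) * s⁻¹ = y := by
        rw [hsinv]
        calc s * (s * y * s) * s = (s * s) * y * (s * s) := by group
          _ = y := by simp [hs2]
      rw [h2] at h1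
      rw [h1]
      exact K.inv_mem hy
  have hle : Subgroup.zpowers s ≤ Subgroup.normalizer (K : Set G) :=
    (Subgroup.zpowers_le).2 hsN
  have hcoe := Subgroup.coe_mul_of_right_le_normalizer_left K (Subgroup.zpowers s) hle
  rw [← h.hH] at hx
  have hx' : x ∈ ((K ⊔ Subgroup.zpowers s : Subgroup G) : Set G) := hx
  rw [hcoe] at hx'
  obtain ⟨k, hk, z, hz, rfl⟩ := hx'
  obtain ⟨n, rfl⟩ := Subgroup.mem_zpowers_iff.1 hz
  have hpow : s ^ n = 1 ∨ s ^ n = s := by
    have h5 : s ^ n = s ^ (n % 2) := by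
      conv_lhs => rw [← Int.emod_add_mul_ediv n 2]
      rw [zpow_add, zpow_mul]
      have : s ^ (2 : ℤ) = 1 := by
        have : s ^ (2 : ℤ) = s * s := by
          rw [show (2 : ℤ) = ((2 : ℕ) : ℤ) by norm_num, zpow_natCast, pow_two]
        rw [this, hs2]
      rw [this, one_zpow, mul_one]
    rcases Int.emod_two_eq_zero_or_one n with h6 | h6
    · left; rw [h5, h6, zpow_zero]
    · right; rw [h5, h6, zpow_one]
  rcases hpow with h7 | h7
  · left
    change k * s ^ n ∈ K
    rw [h7, mul_one]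
    exact hk
  · right
    change k * s ^ n * s ∈ K
    rw [h7, mul_assoc, hs2, mul_one]
    exact hk

section CT
variable [Fintype G] [Fintype K]

theorem CT2_apply_not_mem (μ : K → ℂ) {x : G} (hx1 : x ≠ 1) (hx : x ∉ conjSet K) :
    Del K μ x = 0 := by
  unfold Del
  rw [Cfsg.Agent.Lib.Helper2.indFun_apply]
  have h0 : ∀ g : G, extendByZero K (fun y => 1 - μ y) (g⁻¹ * x * g) = 0 := by
    intro g
    apply Cfsg.Agent.Lib.Helper2.extendByZero_of_not_mem
    intro hmem
    apply hx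
    refine ⟨hx1, g⁻¹, ?_⟩
    rwa [inv_inv]
  rw [Finset.sum_eq_zero (fun g _ => h0 g), mul_zero]

/-- the general computation: for `y ∈ K#`, `Ind_K^G α (y) = α y + α y⁻¹`. -/
theorem indFun_apply_mem (h : Hyp t s K) (α : K → ℂ) (y : K) (hy1 : y ≠ 1) :
    indFun K α (y : G) = α y + α y⁻¹ := by
  classical
  have hs2 := s_mul_s h
  have hsinv := s_inv h
  have hyG1 : (y : G) ≠ 1 := fun hc => hy1 (Subtype.ext hc)
  rw [Cfsg.Agent.Lib.Helper2.indFun_apply]
  set F : G → ℂ := fun x => extendByZero K α (x⁻¹ * (y : G) * x) with hF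
  have hFK : ∀ k : K, F (k : G) = α y := by
    intro k
    have h1 : ((k : G))⁻¹ * (y : G) * (k : G) = (y : G) := by
      have h2 := h.comm k k.2 y y.2
      calc ((k : G))⁻¹ * (y : G) * (k : G) = ((k : G))⁻¹ * ((y : G) * (k : G)) := by group
        _ = ((k : G))⁻¹ * ((k : G) * (y : G)) := by rw [h2]
        _ = (y : G) := by group
    show extendByZero K α (((k : G))⁻¹ * (y : G) * (k : G)) = α y
    rw [h1]
    exact Cfsg.Agent.Lib.Helper2.extendByZero_coe K α y
  have hFKs : ∀ k : K, F ((k : G) * s) = α y⁻¹ := by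
    intro k
    have h1 : ((k : G) * s)⁻¹ * (y : G) * ((k : G) * s) = ((y⁻¹ : K) : G) := by
      have h2 := h.comm k k.2 y y.2
      have h3 := h.hinv y y.2
      rw [hsinv] at h3
      calc ((k : G) * s)⁻¹ * (y : G) * ((k : G) * s)
          = s⁻¹ * (((k : G))⁻¹ * ((y : G) * (k : G))) * s := by group
        _ = s⁻¹ * (((k : G))⁻¹ * ((k : G) * (y : G))) * s := by rw [h2]
        _ = s⁻¹ * (y : G) * s := by group
        _ = s * (y : G) * s := by rw [hsinv]
        _ = ((y⁻¹ : K) : G) := by rw [h3]; simp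
    show extendByZero K α (((k : G) * s)⁻¹ * (y : G) * ((k : G) * s)) = α y⁻¹
    rw [h1]
    exact Cfsg.Agent.Lib.Helper2.extendByZero_coe K α y⁻¹
  have hpt : ∀ x : G, F x = extendByZero K (fun k : K => F (k : G)) x
      + extendByZero K (fun k : K => F ((k : G) * s)) (x * s) := by
    intro x
    by_cases hxK : x ∈ K
    · have hxs : x * s ∉ K := by
        intro hc
        apply h.hsK
        have : s = x⁻¹ * (x * s) := by group
        rw [this]
        exact K.mul_mem (K.inv_mem hxK) hc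
      rw [Cfsg.Agent.Lib.Helper2.extendByZero_of_mem K _ hxK,
        Cfsg.Agent.Lib.Helper2.extendByZero_of_not_mem K _ hxs, add_zero]
    · by_cases hxs : x * s ∈ K
      · rw [Cfsg.Agent.Lib.Helper2.extendByZero_of_not_mem K _ hxK,
          Cfsg.Agent.Lib.Helper2.extendByZero_of_mem K _ hxs, zero_add]
        show F x = F (x * s * s)
        rw [mul_assoc, hs2, mul_one]
      · rw [Cfsg.Agent.Lib.Helper2.extendByZero_of_not_mem K _ hxK,
          Cfsg.Agent.Lib.Helper2.extendByZero_of_not_mem K _ hxs, add_zero]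
        show extendByZero K α (x⁻¹ * (y : G) * x) = 0
        apply Cfsg.Agent.Lib.Helper2.extendByZero_of_not_mem
        intro hmem
        have h1 : x⁻¹ ∈ Subgroup.centralizer ({t} : Set G) := by
          apply fusion h y.2 hyG1
          rwa [inv_inv]
        have h2 : x ∈ Subgroup.centralizer ({t} : Set G) := by
          have := Subgroup.inv_mem _ h1
          rwa [inv_inv] at this
        rcases mem_H h h2 with h3 | h3
        · exact hxK h3
        · exact hxs h3
  have hsum : ∑ x : G, F x = ∑ k : K, F (k : G) + ∑ k : K, F ((k : G) * s) := by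
    rw [Finset.sum_congr rfl (fun x _ => hpt x), Finset.sum_add_distrib]
    congr 1
    · exact Cfsg.Agent.Lib.Helper2.sum_extendByZero K _
    · rw [← Cfsg.Agent.Lib.Helper2.sum_extendByZero K (fun k : K => F ((k : G) * s))]
      exact Equiv.sum_comp (Equiv.mulRight s)
        (fun x => extendByZero K (fun k : K => F ((k : G) * s)) x)
  rw [hsum, Finset.sum_congr rfl (fun k _ => hFK k), Finset.sum_congr rfl (fun k _ => hFKs k),
    Finset.sum_const, Finset.sum_const, Finset.card_univ, nsmul_eq_mul, nsmul_eq_mul,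
    ← Nat.card_eq_fintype_card]
  have hK0 : (Nat.card K : ℂ) ≠ 0 := Cfsg.Agent.Lib.Helper2.card_subgroup_ne_zero K
  field_simp

theorem CT2_apply_mem (h : Hyp t s K) {μ : K → ℂ} (hμ : Cfsg.IsIrrCharacter K μ) (y : K) :
    Del K μ (y : G) = 2 - μ y - conj (μ y) := by
  have hμc : Cfsg.IsCharacter K μ := by
    obtain ⟨n, ρ, _, hρ⟩ := hμ
    exact ⟨n, ρ, hρ⟩
  have hμ1 : μ 1 = 1 := by
    apply Cfsg.Agent.Lib.Helper2.IsIrrCharacter.apply_one_of_comm _ hμ
    intro a b
    exact Subtype.ext (h.comm a a.2 b b.2)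
  by_cases hy1 : y = 1
  · subst hy1
    rw [hμ1]
    unfold Del
    rw [Cfsg.Agent.Lib.Helper2.indFun_apply]
    have h0 : ∀ g : G, extendByZero K (fun y => 1 - μ y) (g⁻¹ * ((1 : K) : G) * g) = 0 := by
      intro g
      have h1 : g⁻¹ * ((1 : K) : G) * g = ((1 : K) : G) := by simp
      rw [h1, Cfsg.Agent.Lib.Helper2.extendByZero_coe, hμ1, sub_self]
    rw [Finset.sum_eq_zero (fun g _ => h0 g), mul_zero]
    norm_num
  · unfold Del
    rw [indFun_apply_mem h _ y hy1]
    have h1 : μ y⁻¹ = conj (μ y) := Cfsg.Agent.Lib.Helper25.char_inv hμc y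
    rw [h1]
    ring

theorem inner_irr {A : Type*} [Group A] [Fintype A] {μ ν : A → ℂ}
    (hμ : Cfsg.IsIrrCharacter A μ) (hν : Cfsg.IsIrrCharacter A ν) [Decidable (μ = ν)] :
    Cfsg.classInner μ ν = if μ = ν then 1 else 0 := by
  by_cases hμν : μ = ν
  · rw [if_pos hμν]
    subst hμν
    exact Cfsg.Agent.Lib.Helper2.classInner_irrCharacter_self ⟨μ, hμ⟩
  · rw [if_neg hμν]
    have hne : (⟨μ, hμ⟩ : Cfsg.IrrCharacter A) ≠ ⟨ν, hν⟩ := by
      intro hc
      exact hμν (congrArg Subtype.val hc)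
    exact Cfsg.Agent.Lib.Helper2.classInner_irrCharacter_ne hne

theorem del_restrict (h : Hyp t s K) {ν : K → ℂ} (hν : Cfsg.IsIrrCharacter K ν) :
    (fun y : K => Del K ν (y : G))
      = (2 : ℂ) • (fun _ : K => (1 : ℂ)) - ν - cj ν := by
  funext y
  rw [CT2_apply_mem h hν y]
  simp [cj]

theorem cj_ne_one {ν : K → ℂ} (hν1 : ν ≠ fun _ => 1) : cj ν ≠ fun _ => 1 := by
  intro hc
  apply hν1
  funext y
  have h1 := congrFun hc y
  have h2 : conj (conj (ν y)) = conj (1 : ℂ) := by
    show conj (cj ν y) = conj (1 : ℂ)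
    rw [h1]
  simpa using h2

open Classical in
theorem CT3_gram (h : Hyp t s K) {μ ν : K → ℂ} (hμ : Cfsg.IsIrrCharacter K μ)
    (hν : Cfsg.IsIrrCharacter K ν) (hμ1 : μ ≠ fun _ => 1) (hν1 : ν ≠ fun _ => 1) :
    Cfsg.classInner (Del K μ) (Del K ν)
      = 2 + (if μ = ν then 1 else 0) + (if μ = cj ν then 1 else 0) := by
  have hone : Cfsg.IsIrrCharacter K (fun _ => (1 : ℂ)) := Cfsg.Agent.Lib.Helper2.isIrrCharacter_one
  have hνc : Cfsg.IsIrrCharacter K (cj ν) := Cfsg.Agent.Lib.Helper2.isIrrCharacter_conj hν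
  have hcl : Cfsg.IsClassFunction G (Del K ν) :=
    Cfsg.Agent.Lib.Helper2.indFun_isClassFunction K _
  have hνc1 := cj_ne_one hν1
  have e1 : Cfsg.classInner (Del K μ) (Del K ν)
      = Cfsg.classInner (fun y : K => 1 - μ y) (fun y : K => Del K ν (y : G)) :=
    classInner_indFun_left K _ _ hcl
  have e2 : (fun y : K => 1 - μ y) = (fun _ : K => (1 : ℂ)) - μ := by
    funext y; rfl
  rw [e1, del_restrict h hν, e2]
  simp only [Cfsg.Agent.Lib.Helper2.classInner_sub_left,
    Cfsg.Agent.Lib.Helper2.classInner_sub_right, Cfsg.Agent.Lib.Helper2.classInner_smul_right]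
  rw [inner_irr hone hone, inner_irr hone hν, inner_irr hone hνc, inner_irr hμ hone,
    inner_irr hμ hν, inner_irr hμ hνc]
  rw [if_pos rfl, if_neg (Ne.symm hν1), if_neg (Ne.symm hνc1), if_neg hμ1]
  have h2 : (starRingEnd ℂ) (2 : ℂ) = 2 := map_ofNat (starRingEnd ℂ) 2
  rw [h2]
  ring

theorem CT3_one (h : Hyp t s K) {μ : K → ℂ} (hμ : Cfsg.IsIrrCharacter K μ)
    (hμ1 : μ ≠ fun _ => 1) : Cfsg.classInner (Del K μ) (fun _ => 1) = 1 := by
  classical
  have hone : Cfsg.IsIrrCharacter K (fun _ => (1 : ℂ)) := Cfsg.Agent.Lib.Helper2.isIrrCharacter_one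
  have hcl : Cfsg.IsClassFunction G (fun _ : G => (1 : ℂ)) := fun _ _ => rfl
  have e1 : Cfsg.classInner (Del K μ) (fun _ => 1)
      = Cfsg.classInner (fun y : K => 1 - μ y) (fun y : K => (fun _ : G => (1 : ℂ)) (y : G)) :=
    classInner_indFun_left K _ _ hcl
  have e2 : (fun y : K => 1 - μ y) = (fun _ : K => (1 : ℂ)) - μ := by
    funext y; rfl
  rw [e1, e2, Cfsg.Agent.Lib.Helper2.classInner_sub_left, inner_irr hone hone,
    inner_irr hμ hone, if_pos rfl, if_neg hμ1, sub_zero]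

end CT

end Cfsg.Agent.Lib.Helper29.S3282CT23
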