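import Mathlib
import Cfsg.Prelude.Def_Characters
import Cfsg.Agent.Lib.Helper11.S3282Defs
import Cfsg.Agent.Lib.Helper2.Integrality
import Cfsg.Agent.Lib.Helper2.Orthogonality
import Cfsg.Agent.Lib.Helper2.BurnsidePQ
import Cfsg.Agent.Lib.Helper29.S3282CT23
import Cfsg.Agent.Lib.Helper24.S3282G1c
import Cfsg.Agent.Lib.Helper14.S3282G2b

/-!
S3282 (architect helper11), piece B1 (`B1_count`): in case B the irreducible character `X` of degree
`2k-1` forces `|C(x)| = k-1` on `RO K`, `|NR K| = (2k-1)^2 - 1` and `X = 0` on `NR K`.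
-/

set_option autoImplicit false

namespace Cfsg.Agent.Lib.Helper29.S3282B1

open Cfsg Cfsg.Agent.Lib.Helper11 Cfsg.Agent.Lib.Helper11.S3282
open scoped ComplexConjugate

universe u

variable {G : Type u} [Group G] {t s : G} {K : Subgroup G}

theorem beta_NR {x : G} (hx : x ∈ NR K) : S3282.beta x = 0 := by
  unfold S3282.beta
  rw [Nat.card_eq_zero]
  left
  constructor
  rintro ⟨⟨u, v⟩, hu, hv, huv⟩
  simp only at hu hv huv
  apply hx.2.2
  refine ⟨u, hu, ?_⟩
  have hu2 : u * u = 1 := by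
    have h1 := pow_orderOf_eq_one u
    rwa [hu, pow_two] at h1
  have hv2 : v * v = 1 := by
    have h1 := pow_orderOf_eq_one v
    rwa [hv, pow_two] at h1
  have huinv : u⁻¹ = u := inv_eq_of_mul_eq_one_right hu2
  have hvinv : v⁻¹ = v := inv_eq_of_mul_eq_one_right hv2
  rw [← huv, mul_inv_rev, huinv, hvinv]
  calc u * (u * v) * u = (u * u) * v * u := by group
    _ = v * u := by rw [hu2, one_mul]

open Classical in
theorem sum_split [Fintype G] (K : Subgroup G) (f : G → ℂ) :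
    ∑ g, f g = f 1 + ∑ g ∈ Finset.univ.filter (fun g => g ∈ conjSet K), f g
      + ∑ g ∈ Finset.univ.filter (fun g => g ∈ RO K), f g
      + ∑ g ∈ Finset.univ.filter (fun g => g ∈ NR K), f g := by
  rw [Finset.sum_filter, Finset.sum_filter, Finset.sum_filter]
  have h1 : f 1 = ∑ g, if g = 1 then f g else 0 := by simp
  rw [h1, ← Finset.sum_add_distrib, ← Finset.sum_add_distrib, ← Finset.sum_add_distrib]
  apply Finset.sum_congr rfl
  intro g _
  by_cases hg1 : g = 1
  · subst hg1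
    have a1 : (1 : G) ∉ conjSet K := one_not_mem_conjSet K
    have a2 : (1 : G) ∉ RO K := fun hc => hc.1 rfl
    have a3 : (1 : G) ∉ NR K := fun hc => hc.1 rfl
    simp [a1, a2, a3]
  by_cases hgA : g ∈ conjSet K
  · have a2 : g ∉ RO K := fun hc => hc.2.1 hgA
    have a3 : g ∉ NR K := fun hc => hc.2.1 hgA
    simp [hg1, hgA, a2, a3]
  by_cases hgS : SReal g
  · have a2 : g ∈ RO K := ⟨hg1, hgA, hgS⟩
    have a3 : g ∉ NR K := fun hc => hc.2.2 hgS
    simp [hg1, hgA, a2, a3]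
  · have a2 : g ∉ RO K := fun hc => hgS hc.2.2
    have a3 : g ∈ NR K := ⟨hg1, hgA, hgS⟩
    simp [hg1, hgA, a2, a3]

open Classical in
theorem card_set_eq [Fintype G] (S : Set G) :
    Nat.card S = (Finset.univ.filter (fun g => g ∈ S)).card := by
  rw [Nat.card_eq_fintype_card]
  exact Fintype.card_of_subtype _ (by intro x; simp)

/-- `B1_count` with the two not-yet-landed pieces (`G1_card_KG`, `G2_beta_RO`) as hypotheses. -/
theorem B1_count_aux [Fintype G] (hk : 4 ≤ Nat.card K)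
    (hKG : Nat.card (conjSet K) * (2 * Nat.card K) = Nat.card G * (Nat.card K - 1))
    (hβRO : ∀ x ∈ RO K, S3282.beta x = Nat.card (Subgroup.centralizer ({x} : Set G)))
    (hG : Nat.card G = Nat.card K * (2 * Nat.card K - 1) * (2 * Nat.card K - 2))
    (X : G → ℂ) (hX : Cfsg.IsIrrCharacter G X) (hX1 : X 1 = 2 * (Nat.card K : ℂ) - 1)
    (hXK : ∀ y ∈ conjSet K, X y = -1)
    (hXβ : ∀ x : G, x ≠ 1 → x ∉ conjSet K →
      ((Nat.card K : ℂ) - 1) * X x = (S3282.beta x : ℂ)) :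
    (∀ x ∈ RO K, Nat.card (Subgroup.centralizer ({x} : Set G)) = Nat.card K - 1) ∧
    Nat.card (NR K) = (2 * Nat.card K - 1) ^ 2 - 1 ∧ (∀ x ∈ NR K, X x = 0) := by
  classical
  set k := Nat.card K with hkdef
  have hkC : (k : ℂ) ≠ 0 := by
    have : k ≠ 0 := by omega
    exact_mod_cast this
  have hk0 : ((k : ℂ) - 1) ≠ 0 := by
    intro hc
    have h1 : (k : ℂ) = 1 := by linear_combination hc
    have h2 : k = 1 := by exact_mod_cast h1
    omega
  have hkZ : (4 : ℤ) ≤ (k : ℤ) := by exact_mod_cast hk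
  -- `X` on `NR`
  have hXN : ∀ x ∈ NR K, X x = 0 := by
    intro x hx
    have h1 := hXβ x hx.1 hx.2.1
    rw [beta_NR hx, Nat.cast_zero] at h1
    exact (mul_eq_zero.1 h1).resolve_left hk0
  -- `X` on `RO`
  have hXR : ∀ x ∈ RO K, ∃ z : ℤ, 1 ≤ z ∧ X x = (z : ℂ) ∧
      ((k : ℤ) - 1) * z = (Nat.card (Subgroup.centralizer ({x} : Set G)) : ℤ) := by
    intro x hx
    have h1 := hXβ x hx.1 hx.2.1
    rw [hβRO x hx] at h1
    set c := Nat.card (Subgroup.centralizer ({x} : Set G)) with hc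
    have hint : IsIntegral ℤ (X x) := by
      obtain ⟨n, ρ, _, rfl⟩ := hX
      exact Cfsg.Agent.Lib.Helper2.char_isIntegral ρ x
    have hq : X x = (((c : ℚ) / ((k : ℚ) - 1) : ℚ) : ℂ) := by
      push_cast
      rw [eq_div_iff hk0]
      linear_combination h1
    obtain ⟨z, hz⟩ := Cfsg.Agent.Lib.Helper2.exists_int_of_isIntegral_of_rat _ hq hint
    have h2 : ((k : ℤ) - 1) * z = (c : ℤ) := by
      have h3 : ((((k : ℤ) - 1) * z : ℤ) : ℂ) = ((c : ℤ) : ℂ) := by
        push_cast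
        rw [← hz]
        exact h1
      exact_mod_cast h3
    refine ⟨z, ?_, hz, h2⟩
    have hcpos : 0 < (c : ℤ) := by
      have : 0 < c := Nat.card_pos
      exact_mod_cast this
    by_contra hz0
    rw [not_le] at hz0
    have hz1 : z ≤ 0 := by omega
    nlinarith
  choose! zf hzf using hXR
  -- `X` is real valued
  have hreal : ∀ g, conj (X g) = X g := by
    intro g
    by_cases hg1 : g = 1
    · subst hg1
      have h2 : (starRingEnd ℂ) (2 : ℂ) = 2 := map_ofNat (starRingEnd ℂ) 2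
      rw [hX1]
      simp [h2]
    by_cases hgA : g ∈ conjSet K
    · rw [hXK g hgA]
      simp
    by_cases hgS : SReal g
    · rw [(hzf g ⟨hg1, hgA, hgS⟩).2.1]
      simp
    · rw [hXN g ⟨hg1, hgA, hgS⟩]
      simp
  -- orthogonality
  have hone : IsIrrCharacter G (fun _ => (1 : ℂ)) := Cfsg.Agent.Lib.Helper2.isIrrCharacter_one
  have hXne : X ≠ fun _ => 1 := by
    intro hc
    have h1 := congrFun hc 1
    rw [hX1] at h1
    have h2 : (k : ℂ) = 1 := by linear_combination h1 / 2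
    have h3 : k = 1 := by exact_mod_cast h2
    omega
  have hGne : (Nat.card G : ℂ) ≠ 0 := Cfsg.Agent.Lib.Helper2.card_ne_zero_complex
  have hsum1 : ∑ g, X g = 0 := by
    have h1 : classInner X (fun _ => 1) = 0 := by
      rw [Cfsg.Agent.Lib.Helper29.S3282CT23.inner_irr hX hone, if_neg hXne]
    rw [Cfsg.Agent.Lib.Helper2.classInner_def] at h1
    have h2 := (mul_eq_zero.1 h1).resolve_left (inv_ne_zero hGne)
    simpa using h2
  have hsum2 : ∑ g, X g * X g = (Nat.card G : ℂ) := by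
    have h1 : classInner X X = 1 := by
      rw [Cfsg.Agent.Lib.Helper29.S3282CT23.inner_irr hX hX, if_pos rfl]
    rw [Cfsg.Agent.Lib.Helper2.classInner_def, inv_mul_eq_iff_eq_mul₀ hGne, mul_one] at h1
    rw [← h1]
    apply Finset.sum_congr rfl
    intro g _
    rw [hreal g]
  -- the three parts
  set A := Finset.univ.filter (fun g => g ∈ conjSet K) with hA
  set R := Finset.univ.filter (fun g => g ∈ RO K) with hR
  set N := Finset.univ.filter (fun g => g ∈ NR K) with hN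
  have memA : ∀ g, g ∈ A → g ∈ conjSet K := fun g hg => (Finset.mem_filter.1 hg).2
  have memR : ∀ g, g ∈ R → g ∈ RO K := fun g hg => (Finset.mem_filter.1 hg).2
  have memN : ∀ g, g ∈ N → g ∈ NR K := fun g hg => (Finset.mem_filter.1 hg).2
  -- casts of the truncated subtractions
  have e1 : ((2 * k - 1 : ℕ) : ℂ) = 2 * (k : ℂ) - 1 := by
    rw [Nat.cast_sub (by omega)]; push_cast; ring
  have e2 : ((2 * k - 2 : ℕ) : ℂ) = 2 * (k : ℂ) - 2 := by
    rw [Nat.cast_sub (by omega)]; push_cast; ring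
  have e3 : ((k - 1 : ℕ) : ℂ) = (k : ℂ) - 1 := by
    rw [Nat.cast_sub (by omega)]; push_cast; ring
  have hGC : (Nat.card G : ℂ) = (k : ℂ) * (2 * (k : ℂ) - 1) * (2 * (k : ℂ) - 2) := by
    rw [hG]; push_cast; rw [e1, e2]
  -- `|A|`
  have haC : (A.card : ℂ) = (2 * (k : ℂ) - 1) * ((k : ℂ) - 1) ^ 2 := by
    have h1 : ((Nat.card (conjSet K) * (2 * k) : ℕ) : ℂ) = ((Nat.card G * (k - 1) : ℕ) : ℂ) := by
      rw [hKG]
    rw [card_set_eq] at h1
    push_cast at h1
    rw [e3, hGC] at h1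
    have h2k : (2 * (k : ℂ)) ≠ 0 := mul_ne_zero two_ne_zero hkC
    apply mul_right_cancel₀ h2k
    rw [h1]
    ring
  -- first sum
  have E1 : (2 * (k : ℂ) - 1) - (A.card : ℂ) + ∑ g ∈ R, (zf g : ℂ) = 0 := by
    have h1 := sum_split K X
    rw [hsum1, hX1] at h1
    have h2 : ∑ g ∈ A, X g = -(A.card : ℂ) := by
      rw [Finset.sum_congr rfl (fun g hg => hXK g (memA g hg)), Finset.sum_const, nsmul_eq_mul]
      ring
    have h3 : ∑ g ∈ R, X g = ∑ g ∈ R, (zf g : ℂ) :=
      Finset.sum_congr rfl (fun g hg => (hzf g (memR g hg)).2.1)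
    have h4 : ∑ g ∈ N, X g = 0 := Finset.sum_eq_zero (fun g hg => hXN g (memN g hg))
    rw [h2, h3, h4] at h1
    linear_combination -h1
  have E2 : (2 * (k : ℂ) - 1) * (2 * (k : ℂ) - 1) + (A.card : ℂ)
      + ∑ g ∈ R, ((zf g : ℂ) * (zf g : ℂ)) = (Nat.card G : ℂ) := by
    have h1 := sum_split K (fun g => X g * X g)
    rw [hsum2] at h1
    simp only [hX1] at h1
    have h2 : ∑ g ∈ A, X g * X g = (A.card : ℂ) := by
      rw [Finset.sum_congr rfl (fun g hg => by rw [hXK g (memA g hg)]), Finset.sum_const,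
        nsmul_eq_mul]
      ring
    have h3 : ∑ g ∈ R, X g * X g = ∑ g ∈ R, ((zf g : ℂ) * (zf g : ℂ)) :=
      Finset.sum_congr rfl (fun g hg => by rw [(hzf g (memR g hg)).2.1])
    have h4 : ∑ g ∈ N, X g * X g = 0 :=
      Finset.sum_eq_zero (fun g hg => by rw [hXN g (memN g hg), mul_zero])
    rw [h2, h3, h4] at h1
    linear_combination -h1
  -- `∑ (z² - z) = 0`
  have hdiffC : ∑ g ∈ R, ((zf g : ℂ) * (zf g : ℂ)) - ∑ g ∈ R, (zf g : ℂ) = 0 := by
    rw [hGC] at E2
    rw [haC] at E1 E2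
    linear_combination E2 - E1
  have hdiffZ : ∑ g ∈ R, (zf g * zf g - zf g) = 0 := by
    have h1 : ((∑ g ∈ R, (zf g * zf g - zf g) : ℤ) : ℂ) = 0 := by
      push_cast
      rw [Finset.sum_sub_distrib]
      exact hdiffC
    exact_mod_cast h1
  have hz1 : ∀ g ∈ R, zf g = 1 := by
    have hnn : ∀ g ∈ R, 0 ≤ zf g * zf g - zf g := by
      intro g hg
      have := (hzf g (memR g hg)).1
      nlinarith
    have h0 := (Finset.sum_eq_zero_iff_of_nonneg hnn).1 hdiffZ
    intro g hg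
    have h1 := h0 g hg
    have h2 := (hzf g (memR g hg)).1
    have h3 : zf g * (zf g - 1) = 0 := by linarith
    rcases mul_eq_zero.1 h3 with h4 | h4
    · omega
    · omega
  refine ⟨?_, ?_, hXN⟩
  · intro x hx
    have hxR : x ∈ R := Finset.mem_filter.2 ⟨Finset.mem_univ _, hx⟩
    have h1 := (hzf x hx).2.2
    rw [hz1 x hxR, mul_one] at h1
    omega
  · -- `|NR|`
    have hrC : ∑ g ∈ R, (zf g : ℂ) = (R.card : ℂ) := by
      rw [Finset.sum_congr rfl (fun g hg => by rw [hz1 g hg]), Finset.sum_const, nsmul_eq_mul]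
      simp
    have htot : (Nat.card G : ℂ) = 1 + (A.card : ℂ) + (R.card : ℂ) + (N.card : ℂ) := by
      have h1 := sum_split K (fun _ => (1 : ℂ))
      simp only [Finset.sum_const, nsmul_eq_mul, mul_one, Finset.card_univ] at h1
      rw [← Nat.card_eq_fintype_card] at h1
      exact h1
    rw [hrC] at E1
    have hnC : (N.card : ℂ) = (2 * (k : ℂ) - 1) ^ 2 - 1 := by
      rw [hGC] at htot
      rw [haC] at E1 htot
      linear_combination -htot - E1
    rw [card_set_eq]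
    have e4 : (((2 * k - 1) ^ 2 - 1 : ℕ) : ℂ) = (2 * (k : ℂ) - 1) ^ 2 - 1 := by
      rw [Nat.cast_sub (Nat.one_le_pow _ _ (by omega)), Nat.cast_pow, e1]
      simp
    have h5 : ((N.card : ℕ) : ℂ) = (((2 * k - 1) ^ 2 - 1 : ℕ) : ℂ) := by
      rw [e4, hnC]
    exact_mod_cast h5

/-- The piece `B1_count` with the exact skeleton signature. -/
theorem B1_count [Fintype G] (h : Hyp t s K) (hk : 4 ≤ Nat.card K)
    (hG : Nat.card G = Nat.card K * (2 * Nat.card K - 1) * (2 * Nat.card K - 2))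
    (X : G → ℂ) (hX : Cfsg.IsIrrCharacter G X) (hX1 : X 1 = 2 * (Nat.card K : ℂ) - 1)
    (hXK : ∀ y ∈ conjSet K, X y = -1)
    (hXβ : ∀ x : G, x ≠ 1 → x ∉ conjSet K →
      ((Nat.card K : ℂ) - 1) * X x = (S3282.beta x : ℂ)) :
    (∀ x ∈ RO K, Nat.card (Subgroup.centralizer ({x} : Set G)) = Nat.card K - 1) ∧
    Nat.card (NR K) = (2 * Nat.card K - 1) ^ 2 - 1 ∧ (∀ x ∈ NR K, X x = 0) :=
  B1_count_aux hk (Cfsg.Agent.Lib.Helper24.S3282G1c.G1_card_KG h)
    (fun _ hx => Cfsg.Agent.Lib.Helper14.S3282G2b.G2_beta_RO h hx) hG X hX hX1 hXK hXβ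

end Cfsg.Agent.Lib.Helper29.S3282B1
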