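import Mathlib

/-!
# S3341 FO-1 (helper29): the (3,3,3) lemma `tri_local`
-/

set_option autoImplicit false

namespace Cfsg.Agent.Lib.Helper29.S3341A

variable {G : Type*} [Group G] [Finite G]

/-- closure of two commuting elements is commutative -/
theorem closure_pair_comm (a b : G) (hab : a * b = b * a) :
    ∀ u ∈ Subgroup.closure ({a, b} : Set G), ∀ v ∈ Subgroup.closure ({a, b} : Set G),
      u * v = v * u := by
  intro u hu v hv
  have hs : ({a, b} : Set G) ⊆ Subgroup.centralizer ({a, b} : Set G) := by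
    intro t ht
    rw [SetLike.mem_coe, Subgroup.mem_centralizer_iff]
    intro h hh
    rcases ht with rfl | rfl <;> rcases hh with rfl | rfl
    · rfl
    · exact hab.symm
    · exact hab
    · rfl
  have hv' : v ∈ Subgroup.centralizer ({a, b} : Set G) := (Subgroup.closure_le _).2 hs hv
  have hu' := Subgroup.closure_le_centralizer_centralizer ({a, b} : Set G) hu
  rw [Subgroup.mem_centralizer_iff] at hu'
  exact (hu' v hv').symm

theorem tri_local (P : Sylow 3 G)
    (hcomm : ∀ a ∈ (P : Subgroup G), ∀ b ∈ (P : Subgroup G), a * b = b * a)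
    (hexp : ∀ a ∈ (P : Subgroup G), a ^ 3 = 1)
    (hcard : Nat.card (P : Subgroup G) = 9)
    (hcent : ∀ s ∈ (P : Subgroup G), s ≠ 1 → Subgroup.centralizer ({s} : Set G) = (P : Subgroup G))
    (x y : G) (hx : x ∈ (P : Subgroup G)) (hx1 : x ≠ 1) (hy : y ∈ (P : Subgroup G)) (hy1 : y ≠ 1)
    (hxy : ¬ IsConj x y)
    (p q : G) (hp : IsConj x p) (hq : IsConj y q)
    (hpq : p * q ∈ (P : Subgroup G)) (hpq1 : p * q ≠ 1) :
    p ∈ (P : Subgroup G) ∧ q ∈ (P : Subgroup G) := by
  obtain ⟨g, hg⟩ := isConj_iff.1 hp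
  obtain ⟨k, hk⟩ := isConj_iff.1 hq
  -- orders
  have hp3 : p ^ 3 = 1 := by
    rw [← hg, conj_pow, hexp x hx]; group
  have hq3 : q ^ 3 = 1 := by
    rw [← hk, conj_pow, hexp y hy]; group
  have hpq3 : (p * q) ^ 3 = 1 := hexp _ hpq
  -- basic identities
  have hpinv : p⁻¹ = p * p := by
    have : p * p * p = 1 := by rw [← hp3, pow_succ, pow_two]
    exact inv_eq_of_mul_eq_one_right (by rw [← mul_assoc]; exact this)
  have hqinv : q⁻¹ = q * q := by
    have : q * q * q = 1 := by rw [← hq3, pow_succ, pow_two]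
    exact inv_eq_of_mul_eq_one_right (by rw [← mul_assoc]; exact this)
  have hpqp : p * q * p = q⁻¹ * p⁻¹ * q⁻¹ := by
    have h : p * q * (p * q) * (p * q) = 1 := by rw [← hpq3, pow_succ, pow_two]
    have : p * q * p * (q * p * q) = 1 := by rw [← h]; group
    have h2 := eq_inv_of_mul_eq_one_left this
    rw [h2]; group
  set a : G := p * q⁻¹ with ha
  set b : G := q⁻¹ * p with hb
  have hab1 : a * b = p * q * p := by
    rw [ha, hb]
    calc p * q⁻¹ * (q⁻¹ * p) = p * (q⁻¹ * q⁻¹) * p := by group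
      _ = p * q * p := by
        congr 2
        rw [hqinv]
        have : q * q * q = 1 := by rw [← hq3, pow_succ, pow_two]
        calc q * q * (q * q) = (q * q * q) * q := by group
          _ = q := by rw [this, one_mul]
  have hba1 : b * a = q⁻¹ * p⁻¹ * q⁻¹ := by
    rw [ha, hb]
    calc q⁻¹ * p * (p * q⁻¹) = q⁻¹ * (p * p) * q⁻¹ := by group
      _ = q⁻¹ * p⁻¹ * q⁻¹ := by rw [← hpinv]
  have hab : a * b = b * a := by rw [hab1, hba1, hpqp]
  have hpa : p * a * p⁻¹ = (a * b)⁻¹ := by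
    rw [hab1, ha]
    calc p * (p * q⁻¹) * p⁻¹ = (p * p) * q⁻¹ * p⁻¹ := by group
      _ = p⁻¹ * q⁻¹ * p⁻¹ := by rw [← hpinv]
      _ = (p * q * p)⁻¹ := by group
  have hpb : p * b * p⁻¹ = a := by
    rw [ha, hb]; group
  have hqa : q = a⁻¹ * p := by rw [ha]; group
  let A : Subgroup G := Subgroup.closure ({a, b} : Set G)
  have haA : a ∈ A := Subgroup.subset_closure (by simp)
  have hbA : b ∈ A := Subgroup.subset_closure (by simp)
  have hAcomm : ∀ u ∈ A, ∀ v ∈ A, u * v = v * u := closure_pair_comm a b hab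
  have hAnorm : ∀ u ∈ A, p * u * p⁻¹ ∈ A := by
    intro u hu
    induction hu using Subgroup.closure_induction with
    | mem t ht =>
      rcases ht with rfl | ht
      · rw [hpa]; exact A.inv_mem (A.mul_mem haA hbA)
      · rw [Set.mem_singleton_iff] at ht
        rw [ht, hpb]; exact haA
    | one => simp
    | mul u v _ _ hu hv =>
      have : p * (u * v) * p⁻¹ = (p * u * p⁻¹) * (p * v * p⁻¹) := by group
      rw [this]; exact A.mul_mem hu hv
    | inv u _ hu =>
      have : p * u⁻¹ * p⁻¹ = (p * u * p⁻¹)⁻¹ := by group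
      rw [this]; exact A.inv_mem hu
  -- centralizer facts
  have F1 : ∀ t : G, t * p = p * t → g⁻¹ * t * g ∈ (P : Subgroup G) := by
    intro t ht
    rw [← hcent x hx hx1, Subgroup.mem_centralizer_singleton_iff]
    have : x = g⁻¹ * p * g := by rw [← hg]; group
    rw [this]
    symm
    calc g⁻¹ * p * g * (g⁻¹ * t * g) = g⁻¹ * (p * t) * g := by group
      _ = g⁻¹ * (t * p) * g := by rw [ht]
      _ = g⁻¹ * t * g * (g⁻¹ * p * g) := by group
  have F2 : ∀ w : G, g⁻¹ * w * g ∈ (P : Subgroup G) → w ≠ 1 →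
      ∀ t : G, (t * w = w * t ↔ g⁻¹ * t * g ∈ (P : Subgroup G)) := by
    intro w hw hw1 t
    have hw1' : g⁻¹ * w * g ≠ 1 := by
      intro h
      apply hw1
      have : w = g * (g⁻¹ * w * g) * g⁻¹ := by group
      rw [this, h]; group
    rw [← hcent _ hw hw1', Subgroup.mem_centralizer_singleton_iff]
    constructor
    · intro ht
      symm
      calc g⁻¹ * w * g * (g⁻¹ * t * g) = g⁻¹ * (w * t) * g := by group
        _ = g⁻¹ * (t * w) * g := by rw [ht]
        _ = g⁻¹ * t * g * (g⁻¹ * w * g) := by group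
    · intro ht
      have h1 : g * (g⁻¹ * w * g * (g⁻¹ * t * g)) * g⁻¹ = w * t := by group
      have h2 : g * (g⁻¹ * t * g * (g⁻¹ * w * g)) * g⁻¹ = t * w := by group
      rw [← h1, ← h2, ht]
  have hxg : g⁻¹ * p * g ∈ (P : Subgroup G) := by
    have : g⁻¹ * p * g = x := by rw [← hg]; group
    rw [this]; exact hx
  by_cases hC : ∃ w ∈ A, w ≠ 1 ∧ w * p = p * w
  · -- Case 2
    obtain ⟨w, hwA, hw1, hwp⟩ := hC
    have hwP := F1 w hwp
    have haP : g⁻¹ * a * g ∈ (P : Subgroup G) := (F2 w hwP hw1 a).1 (hAcomm a haA w hwA)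
    have hqP : g⁻¹ * q * g ∈ (P : Subgroup G) := by
      have : g⁻¹ * q * g = (g⁻¹ * a * g)⁻¹ * (g⁻¹ * p * g) := by
        rw [hqa]; group
      rw [this]
      exact (P : Subgroup G).mul_mem ((P : Subgroup G).inv_mem haP) hxg
    have hpqP : g⁻¹ * (p * q) * g ∈ (P : Subgroup G) := by
      have : g⁻¹ * (p * q) * g = (g⁻¹ * p * g) * (g⁻¹ * q * g) := by group
      rw [this]; exact (P : Subgroup G).mul_mem hxg hqP
    have key : ∀ t : G, g⁻¹ * t * g ∈ (P : Subgroup G) → t ∈ (P : Subgroup G) := by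
      intro t ht
      have h1 := (F2 (p * q) hpqP hpq1 t).2 ht
      rw [← hcent (p * q) hpq hpq1, Subgroup.mem_centralizer_singleton_iff]
      exact h1
    exact ⟨key p hxg, key q hqP⟩
  · -- Case 1
    exfalso
    simp only [not_exists, not_and] at hC
    let f : A → A := fun α => ⟨(α : G)⁻¹ * (p * (α : G) * p⁻¹), A.mul_mem (A.inv_mem α.2) (hAnorm _ α.2)⟩
    have hf : Function.Injective f := by
      intro α β hαβ
      have h1 : (α : G)⁻¹ * (p * (α : G) * p⁻¹) = (β : G)⁻¹ * (p * (β : G) * p⁻¹) :=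
        congrArg Subtype.val hαβ
      have h2 : ((β : G) * (α : G)⁻¹) * p = p * ((β : G) * (α : G)⁻¹) := by
        have h3 : (α : G)⁻¹ * p * (α : G) = (β : G)⁻¹ * p * (β : G) := by
          have := congrArg (fun t => t * p) h1
          calc (α : G)⁻¹ * p * (α : G) = (α : G)⁻¹ * (p * (α : G) * p⁻¹) * p := by group
            _ = (β : G)⁻¹ * (p * (β : G) * p⁻¹) * p := this
            _ = (β : G)⁻¹ * p * (β : G) := by group
        calc (β : G) * (α : G)⁻¹ * p = (β : G) * ((α : G)⁻¹ * p * (α : G)) * (α : G)⁻¹ := by group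
          _ = (β : G) * ((β : G)⁻¹ * p * (β : G)) * (α : G)⁻¹ := by rw [h3]
          _ = p * ((β : G) * (α : G)⁻¹) := by group
      have h4 : (β : G) * (α : G)⁻¹ = 1 := by
        by_contra hne
        exact hC _ (A.mul_mem β.2 (A.inv_mem α.2)) hne h2
      apply Subtype.ext
      have := mul_inv_eq_one.1 h4
      exact this.symm
    have hsurj : Function.Surjective f := Finite.injective_iff_surjective.1 hf
    obtain ⟨α, hα⟩ := hsurj ⟨a⁻¹, A.inv_mem haA⟩
    have h1 : (α : G)⁻¹ * (p * (α : G) * p⁻¹) = a⁻¹ := congrArg Subtype.val hα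
    have h2 : (α : G)⁻¹ * p * ((α : G)⁻¹)⁻¹ = q := by
      rw [hqa, ← h1]; group
    have hpq' : IsConj p q := isConj_iff.2 ⟨(α : G)⁻¹, h2⟩
    exact hxy ((hp.trans hpq').trans hq.symm)

end Cfsg.Agent.Lib.Helper29.S3341A
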