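import Mathlib
import Cfsg.Prelude.Def_GeometricClasses

set_option autoImplicit false
set_option linter.unusedSectionVars false
set_option linter.unusedVariables false

namespace Cfsg.Agent.Lib.Helper29.S5775Q4

open Matrix Cfsg.Geo Polynomial

variable {F : Type*} [Field F] [Fintype F]

theorem two_eq_zero (hq : Fintype.card F = 4) : (2 : F) = 0 := by
  obtain ⟨p, hp⟩ := CharP.exists F
  haveI := hp
  haveI hpp : Fact p.Prime := ⟨CharP.char_is_prime F p⟩
  obtain ⟨k, hk⟩ := FiniteField.card F p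
  have hk1 : p ^ (k : ℕ) = 2 ^ 2 := by rw [← hk.2, hq]; norm_num
  have hdvd : p ∣ 2 ^ 2 := by
    rw [← hk1]
    exact dvd_pow_self p k.pos.ne'
  have hp2 : p = 2 := (Nat.prime_dvd_prime_iff_eq hpp.out Nat.prime_two).mp (hpp.out.dvd_of_dvd_pow hdvd)
  subst hp2
  exact_mod_cast CharP.cast_eq_zero F 2

theorem charP_two (hq : Fintype.card F = 4) : CharP F 2 :=
  CharTwo.of_one_ne_zero_of_two_eq_zero one_ne_zero (two_eq_zero hq)

theorem pow_three_eq_one (hq : Fintype.card F = 4) {x : F} (hx : x ≠ 0) : x ^ 3 = 1 := by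
  have h := FiniteField.pow_card x
  rw [hq] at h
  have h2 : x * x ^ 3 = x * 1 := by
    rw [mul_one, ← pow_succ']
    exact h
  exact mul_left_cancel₀ hx h2

/-- `1, θ, θ²` are independent over the field with four elements when `θ³ = θ + 1`. -/
theorem indep {A : Type*} [Ring A] [Nontrivial A] [Algebra F A] (hq : Fintype.card F = 4)
    (θ : A) (h3 : θ ^ 3 = θ + 1) (a b c : F) (h : a • (1 : A) + b • θ + c • θ ^ 2 = 0) :
    a = 0 ∧ b = 0 ∧ c = 0 := by
  have h2 := two_eq_zero hq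
  have h2A : (2 : A) = 0 := by
    have := congrArg (algebraMap F A) h2
    rw [map_ofNat, map_zero] at this
    exact this
  set p : F[X] := X ^ 3 + X + 1 with hp
  have hpm : p.Monic := by
    rw [hp]
    monicity!
  have hpd : p.natDegree = 3 := by
    rw [hp]
    compute_degree!
  have hpθ : aeval θ p = 0 := by
    simp only [hp, map_add, map_pow, aeval_X, map_one]
    rw [h3]
    calc θ + 1 + θ + 1 = 2 * θ + 2 := by rw [two_mul, ← one_add_one_eq_two]; abel
      _ = 0 := by rw [h2A]; simp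
  have hirr : Irreducible p := by
    rw [hpm.irreducible_iff_roots_eq_zero_of_degree_le_three (by omega) (by omega)]
    apply Multiset.eq_zero_of_forall_notMem
    intro x hx
    rw [mem_roots hpm.ne_zero, IsRoot.def] at hx
    simp only [hp, eval_add, eval_pow, eval_X, eval_one] at hx
    by_cases hx0 : x = 0
    · subst hx0
      simp at hx
    · rw [pow_three_eq_one hq hx0] at hx
      apply hx0
      linear_combination hx - h2
  have hmin : p = minpoly F θ := minpoly.eq_of_irreducible_of_monic hirr hpθ hpm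
  set q : F[X] := C a + C b * X + C c * X ^ 2 with hqd
  have hqθ : aeval θ q = 0 := by
    simp only [hqd, map_add, map_mul, map_pow, aeval_X, aeval_C]
    rw [← h]
    simp [Algebra.smul_def]
  have hq0 : q = 0 := by
    by_contra hne
    have hle := minpoly.degree_le_of_ne_zero F θ hne hqθ
    rw [← hmin] at hle
    have hle' : p.natDegree ≤ q.natDegree := natDegree_le_natDegree hle
    have : q.natDegree ≤ 2 := by
      rw [hqd]
      compute_degree
    omega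
  have ha : q.coeff 0 = a := by simp [hqd]
  have hb : q.coeff 1 = b := by simp [hqd]
  have hc : q.coeff 2 = c := by simp [hqd]
  rw [hq0] at ha hb hc
  simp only [coeff_zero] at ha hb hc
  exact ⟨ha.symm, hb.symm, hc.symm⟩


/-! ### the basis `e₀, θ e₀, θ² e₀` -/

/-- the first standard basis vector -/
def e0 : Fin 3 → F := Pi.single 0 1

theorem e0_ne_zero : (e0 : Fin 3 → F) ≠ 0 := by
  intro h
  have := congrFun h 0
  simp [e0] at this

/-- the combination `w 0 • 1 + w 1 • θ + w 2 • θ²` -/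
def lin (θ : Matrix (Fin 3) (Fin 3) F) (w : Fin 3 → F) : Matrix (Fin 3) (Fin 3) F :=
  w 0 • (1 : Matrix (Fin 3) (Fin 3) F) + w 1 • θ + w 2 • θ ^ 2

/-- the matrix with columns `e₀, θ e₀, θ² e₀` -/
def colP (θ : Matrix (Fin 3) (Fin 3) F) : Matrix (Fin 3) (Fin 3) F :=
  Matrix.of fun i j => ((θ ^ (j : ℕ)) *ᵥ (e0 : Fin 3 → F)) i

theorem colP_mulVec (θ : Matrix (Fin 3) (Fin 3) F) (w : Fin 3 → F) :
    colP θ *ᵥ w = lin θ w *ᵥ e0 := by
  ext i
  have hL : (colP θ *ᵥ w) i = ((θ ^ 0) *ᵥ (e0 : Fin 3 → F)) i * w 0 + ((θ ^ 1) *ᵥ (e0 : Fin 3 → F)) i * w 1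
      + ((θ ^ 2) *ᵥ (e0 : Fin 3 → F)) i * w 2 := by
    rw [Matrix.mulVec, dotProduct, Fin.sum_univ_three]
    rfl
  rw [hL, lin, Matrix.add_mulVec, Matrix.add_mulVec, Matrix.smul_mulVec, Matrix.smul_mulVec,
    Matrix.smul_mulVec, pow_zero, pow_one]
  simp only [Pi.add_apply, Pi.smul_apply, smul_eq_mul]
  ring

theorem colP_mulVec_single (θ : Matrix (Fin 3) (Fin 3) F) (k : Fin 3) :
    colP θ *ᵥ Pi.single k 1 = (θ ^ (k : ℕ)) *ᵥ e0 := by
  rw [Matrix.mulVec_single_one]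
  ext i
  rfl

theorem lin_mem (K : Subalgebra F (Matrix (Fin 3) (Fin 3) F)) (θ : Matrix (Fin 3) (Fin 3) F)
    (hθ : θ ∈ K) (w : Fin 3 → F) : lin θ w ∈ K :=
  K.add_mem (K.add_mem (K.smul_mem K.one_mem _) (K.smul_mem hθ _)) (K.smul_mem (K.pow_mem hθ 2) _)

theorem eq_zero_of_mulVec_e0 (K : Subalgebra F (Matrix (Fin 3) (Fin 3) F)) (hK : IsFieldSubalgebra 3 K)
    (x : Matrix (Fin 3) (Fin 3) F) (hx : x ∈ K) (h : x *ᵥ (e0 : Fin 3 → F) = 0) : x = 0 := by
  by_contra hne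
  obtain ⟨y, hy, hxy⟩ := hK.inv x hx hne
  have hyx : y * x = 1 := by
    rw [hK.comm y hy x hx]
    exact hxy
  have h0 : (e0 : Fin 3 → F) = 0 := by
    calc (e0 : Fin 3 → F) = (y * x) *ᵥ e0 := by rw [hyx, one_mulVec]
      _ = y *ᵥ (x *ᵥ e0) := (mulVec_mulVec _ _ _).symm
      _ = 0 := by rw [h, mulVec_zero]
  exact e0_ne_zero h0

theorem isUnit_colP (hq : Fintype.card F = 4) (K : Subalgebra F (Matrix (Fin 3) (Fin 3) F))
    (hK : IsFieldSubalgebra 3 K) (θ : Matrix (Fin 3) (Fin 3) F) (hθ : θ ∈ K) (h3 : θ ^ 3 = θ + 1) :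
    IsUnit (colP θ) := by
  rw [← Matrix.mulVec_injective_iff_isUnit]
  intro w w' hww
  have h0 : colP θ *ᵥ (w - w') = 0 := by
    rw [mulVec_sub]
    exact sub_eq_zero.mpr hww
  rw [colP_mulVec] at h0
  have hl := eq_zero_of_mulVec_e0 K hK _ (lin_mem K θ hθ _) h0
  obtain ⟨ha, hb, hc⟩ := indep hq θ h3 _ _ _ hl
  ext i
  fin_cases i
  · exact sub_eq_zero.mp ha
  · exact sub_eq_zero.mp hb
  · exact sub_eq_zero.mp hc

theorem pow_lin (θ : Matrix (Fin 3) (Fin 3) F) (h3 : θ ^ 3 = θ + 1) (m : ℕ) :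
    ∃ w : Fin 3 → F, (∀ i, w i ∈ (⊥ : Subfield F)) ∧ θ ^ m = lin θ w := by
  induction m with
  | zero =>
    refine ⟨![1, 0, 0], ?_, ?_⟩
    · intro i
      fin_cases i
      · exact one_mem _
      · exact zero_mem _
      · exact zero_mem _
    · simp [lin]
  | succ m ih =>
    obtain ⟨w, hw, he⟩ := ih
    refine ⟨![w 2, w 0 + w 2, w 1], ?_, ?_⟩
    · intro i
      fin_cases i
      · exact hw 2
      · exact add_mem (hw 0) (hw 2)
      · exact hw 1
    · rw [pow_succ, he, lin, lin]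
      have e1 : (w 2 • θ ^ 2) * θ = w 2 • θ + w 2 • (1 : Matrix (Fin 3) (Fin 3) F) := by
        rw [smul_mul_assoc, ← pow_succ, h3, smul_add]
      have e2 : (w 1 • θ) * θ = w 1 • θ ^ 2 := by
        rw [smul_mul_assoc, ← sq]
      have e3 : (w 0 • (1 : Matrix (Fin 3) (Fin 3) F)) * θ = w 0 • θ := by
        rw [smul_mul_assoc, one_mul]
      rw [add_mul, add_mul, e1, e2, e3]
      simp only [Matrix.cons_val_zero, Matrix.cons_val_one, Matrix.cons_val_two, Matrix.head_cons,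
        Matrix.tail_cons, add_smul]
      abel


/-! ### membership in the subfield subgroup -/

theorem mem_subfieldSubgroup_of_map {n : ℕ} (K : Subfield F) (P g : GL (Fin n) F) (l : F)
    (hl : l ≠ 0) (B : Matrix (Fin n) (Fin n) K)
    (h : ((P⁻¹ * g * P : GL (Fin n) F) : Matrix (Fin n) (Fin n) F) = l • B.map K.subtype) :
    g ∈ subfieldSubgroup K P := by
  have hx : ((P⁻¹ * g * P : GL (Fin n) F) : Matrix (Fin n) (Fin n) F).det ≠ 0 := by
    have := (Matrix.GeneralLinearGroup.det (P⁻¹ * g * P)).ne_zero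
    rwa [Matrix.GeneralLinearGroup.val_det_apply] at this
  have hdet : B.det ≠ 0 := by
    intro h0
    apply hx
    have h1 : (B.map K.subtype).det = K.subtype B.det := by
      rw [RingHom.map_det]
      rfl
    rw [h, det_smul, h1, h0, map_zero, mul_zero]
  let B' : GL (Fin n) K := Matrix.GeneralLinearGroup.mkOfDetNeZero B hdet
  have hB' : ((Matrix.GeneralLinearGroup.map K.subtype B' : GL (Fin n) F) :
      Matrix (Fin n) (Fin n) F) = B.map K.subtype := rfl
  have hs : (Matrix.GeneralLinearGroup.map K.subtype B')⁻¹ * (P⁻¹ * g * P) ∈ scalars (Fin n) F := by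
    rw [mem_scalars_iff]
    refine ⟨Units.mk0 l hl, ?_⟩
    rw [Units.val_mul, h, ← hB', Matrix.mul_smul, ← Units.val_mul, inv_mul_cancel, Units.val_one]
    rfl
  have hx2 : P⁻¹ * g * P ∈
      (Matrix.GeneralLinearGroup.map (K.subtype : K →+* F)).range ⊔ scalars (Fin n) F := by
    have hr : Matrix.GeneralLinearGroup.map (K.subtype : K →+* F) B' ∈
        (Matrix.GeneralLinearGroup.map (K.subtype : K →+* F)).range :=
      MonoidHom.mem_range.mpr ⟨B', rfl⟩
    have := Subgroup.mul_mem_sup hr hs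
    rwa [mul_inv_cancel_left] at this
  refine Subgroup.mem_map.mpr ⟨P⁻¹ * g * P, hx2, ?_⟩
  rw [MulEquiv.coe_toMonoidHom, MulAut.conj_apply]
  group

/-- a matrix sending `θ^k e₀` to `c • θ^(m k) e₀` is `c` times a matrix over the prime field in the basis
`e₀, θ e₀, θ² e₀`. -/
theorem cols (θ : Matrix (Fin 3) (Fin 3) F) (h3 : θ ^ 3 = θ + 1) (P : GL (Fin 3) F)
    (hP : (P : Matrix (Fin 3) (Fin 3) F) = colP θ) (h : GL (Fin 3) F) (c : F) (m : Fin 3 → ℕ)
    (hh : ∀ k : Fin 3, (h : Matrix (Fin 3) (Fin 3) F) *ᵥ ((θ ^ (k : ℕ)) *ᵥ e0) = c • ((θ ^ (m k)) *ᵥ e0)) :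
    ∃ B : Matrix (Fin 3) (Fin 3) (⊥ : Subfield F),
      ((P⁻¹ * h * P : GL (Fin 3) F) : Matrix (Fin 3) (Fin 3) F) = c • B.map (⊥ : Subfield F).subtype := by
  choose w hw he using fun k => pow_lin θ h3 (m k)
  refine ⟨Matrix.of fun i k => ⟨w k i, hw k i⟩, ?_⟩
  apply Matrix.ext_of_mulVec_single
  intro k
  have hPinv : ((P⁻¹ : GL (Fin 3) F) : Matrix (Fin 3) (Fin 3) F) * (P : Matrix (Fin 3) (Fin 3) F) = 1 := by
    rw [← Units.val_mul, inv_mul_cancel, Units.val_one]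
  have e1 : (P : Matrix (Fin 3) (Fin 3) F) *ᵥ Pi.single k 1 = (θ ^ (k : ℕ)) *ᵥ e0 := by
    rw [hP, colP_mulVec_single]
  have e2 : (θ ^ (m k)) *ᵥ (e0 : Fin 3 → F) = (P : Matrix (Fin 3) (Fin 3) F) *ᵥ w k := by
    rw [hP, colP_mulVec, he k]
  have e3 : ((P⁻¹ * h * P : GL (Fin 3) F) : Matrix (Fin 3) (Fin 3) F) *ᵥ Pi.single k 1 = c • w k := by
    rw [Units.val_mul, Units.val_mul, ← mulVec_mulVec, e1, ← mulVec_mulVec, hh k, e2, mulVec_smul,
      mulVec_mulVec, hPinv, one_mulVec]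
  rw [e3, Matrix.smul_mulVec, Matrix.mulVec_single_one]
  ext i
  rfl


theorem two_eq_zero_alg {A : Type*} [Ring A] [Algebra F A] (hq : Fintype.card F = 4) : (2 : A) = 0 := by
  have := congrArg (algebraMap F A) (two_eq_zero hq)
  rw [map_ofNat, map_zero] at this
  exact this

theorem theta_pow_seven (hq : Fintype.card F = 4) (θ : Matrix (Fin 3) (Fin 3) F) (h3 : θ ^ 3 = θ + 1) :
    θ ^ 7 = 1 := by
  have h2 : (2 : Matrix (Fin 3) (Fin 3) F) = 0 := two_eq_zero_alg hq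
  calc θ ^ 7 = θ * (θ ^ 3) ^ 2 := by rw [← pow_mul, ← pow_succ']
    _ = θ * (θ + 1) ^ 2 := by rw [h3]
    _ = θ ^ 3 + 2 * θ ^ 2 + θ := by noncomm_ring
    _ = 1 + 2 * (θ ^ 2 + θ) := by rw [h3]; noncomm_ring
    _ = 1 := by rw [h2, zero_mul, add_zero]

/-- Q4-B: the normaliser of `GF(64)` in `SL₃(4)` lies in a subfield group over the prime field. -/
theorem main_of_theta (hq : Fintype.card F = 4) (K : Subalgebra F (Matrix (Fin 3) (Fin 3) F))
    (hK : IsFieldSubalgebra 3 K) (Θ : GL (Fin 3) F) (hΘK : (Θ : Matrix (Fin 3) (Fin 3) F) ∈ K)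
    (h3 : (Θ : Matrix (Fin 3) (Fin 3) F) ^ 3 = (Θ : Matrix (Fin 3) (Fin 3) F) + 1)
    (h7 : ∀ a : GL (Fin 3) F, (a : Matrix (Fin 3) (Fin 3) F) ∈ K → a ^ 7 = 1 → ∃ i : ℕ, a = Θ ^ i)
    (hdet : ∀ a : GL (Fin 3) F, (a : Matrix (Fin 3) (Fin 3) F) ∈ K →
      (a : Matrix (Fin 3) (Fin 3) F).det = 1 →
        ∃ (c : F) (i : ℕ), c ≠ 0 ∧
          (a : Matrix (Fin 3) (Fin 3) F) = c • (Θ : Matrix (Fin 3) (Fin 3) F) ^ i) :
    ∃ (F₀ : Subfield F) (P : GL (Fin 3) F), Fintype.card F = Nat.card F₀ ^ 2 ∧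
      subalgebraNormalizer K ⊓ specialLinear (Fin 3) F ≤ subfieldSubgroup F₀ P := by
  classical
  haveI := charP_two hq
  set θ : Matrix (Fin 3) (Fin 3) F := (Θ : Matrix (Fin 3) (Fin 3) F) with hθ
  let P : GL (Fin 3) F := (isUnit_colP hq K hK θ hΘK h3).unit
  have hP : (P : Matrix (Fin 3) (Fin 3) F) = colP θ := IsUnit.unit_spec _
  refine ⟨⊥, P, ?_, ?_⟩
  · rw [Subfield.card_bot F 2, hq]
    norm_num
  · rintro g ⟨hgN, hgS⟩
    have hgN' : ∀ k : Matrix (Fin 3) (Fin 3) F, k ∈ K ↔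
        (g : Matrix (Fin 3) (Fin 3) F) * k * ((g⁻¹ : GL (Fin 3) F) : Matrix (Fin 3) (Fin 3) F) ∈ K := hgN
    have hPinv : (P : Matrix (Fin 3) (Fin 3) F) * ((P⁻¹ : GL (Fin 3) F) : Matrix (Fin 3) (Fin 3) F) = 1 := by
      rw [← Units.val_mul, mul_inv_cancel, Units.val_one]
    -- step 1 : `g e₀ = x e₀` with `x ∈ K`
    set u : Fin 3 → F := (g : Matrix (Fin 3) (Fin 3) F) *ᵥ e0 with hu
    set w : Fin 3 → F := ((P⁻¹ : GL (Fin 3) F) : Matrix (Fin 3) (Fin 3) F) *ᵥ u with hw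
    set x : Matrix (Fin 3) (Fin 3) F := lin θ w with hx
    have hxK : x ∈ K := lin_mem K θ hΘK w
    have hxu : x *ᵥ e0 = u := by
      rw [hx, ← colP_mulVec, ← hP, hw, mulVec_mulVec, hPinv, one_mulVec]
    have hx0 : x ≠ 0 := by
      intro h0
      have hu0 : u = 0 := by rw [← hxu, h0, zero_mulVec]
      have h1 : (e0 : Fin 3 → F) = ((g⁻¹ : GL (Fin 3) F) : Matrix (Fin 3) (Fin 3) F) *ᵥ u := by
        rw [hu, mulVec_mulVec, ← Units.val_mul, inv_mul_cancel, Units.val_one, one_mulVec]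
      rw [hu0, mulVec_zero] at h1
      exact e0_ne_zero h1
    obtain ⟨y, hyK, hxy⟩ := hK.inv x hxK hx0
    have hyx : y * x = 1 := by
      rw [hK.comm y hyK x hxK]
      exact hxy
    let a : GL (Fin 3) F := ⟨x, y, hxy, hyx⟩
    have ha : (a : Matrix (Fin 3) (Fin 3) F) = x := rfl
    have hainv : ((a⁻¹ : GL (Fin 3) F) : Matrix (Fin 3) (Fin 3) F) = y := rfl
    set T : GL (Fin 3) F := a⁻¹ * g with hT
    have hTval : (T : Matrix (Fin 3) (Fin 3) F) = y * (g : Matrix (Fin 3) (Fin 3) F) := by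
      rw [hT, Units.val_mul, hainv]
    have hTinv : ((T⁻¹ : GL (Fin 3) F) : Matrix (Fin 3) (Fin 3) F) =
        ((g⁻¹ : GL (Fin 3) F) : Matrix (Fin 3) (Fin 3) F) * x := by
      rw [hT, _root_.mul_inv_rev, inv_inv, Units.val_mul, ha]
    have hTe : (T : Matrix (Fin 3) (Fin 3) F) *ᵥ e0 = e0 := by
      rw [hTval, ← mulVec_mulVec, ← hu, ← hxu, mulVec_mulVec, hyx, one_mulVec]
    have hTN : ∀ k ∈ K, (T : Matrix (Fin 3) (Fin 3) F) * k *
        ((T⁻¹ : GL (Fin 3) F) : Matrix (Fin 3) (Fin 3) F) ∈ K := by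
      intro k hk
      have h1 := (hgN' k).mp hk
      rw [hTval, hTinv]
      have e : y * (g : Matrix (Fin 3) (Fin 3) F) * k *
          (((g⁻¹ : GL (Fin 3) F) : Matrix (Fin 3) (Fin 3) F) * x) =
          y * ((g : Matrix (Fin 3) (Fin 3) F) * k *
            ((g⁻¹ : GL (Fin 3) F) : Matrix (Fin 3) (Fin 3) F)) * x := by
        simp only [mul_assoc]
      rw [e]
      exact K.mul_mem (K.mul_mem hyK h1) hxK
    -- step 2 : `T Θ T⁻¹` is a power of `Θ`
    have hΘ7 : Θ ^ 7 = 1 := by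
      apply Units.ext
      rw [Units.val_pow_eq_pow_val, Units.val_one]
      exact theta_pow_seven hq θ h3
    set τ : GL (Fin 3) F := T * Θ * T⁻¹ with hτ
    have hτK : (τ : Matrix (Fin 3) (Fin 3) F) ∈ K := by
      rw [hτ, Units.val_mul, Units.val_mul]
      exact hTN θ hΘK
    have hτ7 : τ ^ 7 = 1 := by
      rw [hτ, conj_pow, hΘ7, mul_one, mul_inv_cancel]
    obtain ⟨j, hj⟩ := h7 τ hτK hτ7
    have hTΘ : ∀ k : ℕ, T * Θ ^ k = Θ ^ (j * k) * T := by
      intro k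
      have h1 : (T * Θ * T⁻¹) ^ k = Θ ^ (j * k) := by rw [← hτ, hj, pow_mul]
      rw [conj_pow] at h1
      rw [← h1]
      group
    have hTk : ∀ k : ℕ, (T : Matrix (Fin 3) (Fin 3) F) *ᵥ ((θ ^ k) *ᵥ e0) = (θ ^ (j * k)) *ᵥ e0 := by
      intro k
      have h1 := congrArg (fun z : GL (Fin 3) F => (z : Matrix (Fin 3) (Fin 3) F)) (hTΘ k)
      simp only [Units.val_mul, Units.val_pow_eq_pow_val] at h1
      rw [mulVec_mulVec, h1, ← mulVec_mulVec, hTe]
    -- step 3 : `T` has entries in the prime field, so `det T = 1`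
    obtain ⟨BT, hBT⟩ := cols θ h3 P hP T 1 (fun k => j * (k : ℕ))
      (fun k => by rw [one_smul]; exact hTk k)
    have hPinv' : ((P⁻¹ : GL (Fin 3) F) : Matrix (Fin 3) (Fin 3) F) * (P : Matrix (Fin 3) (Fin 3) F) = 1 := by
      rw [← Units.val_mul, inv_mul_cancel, Units.val_one]
    have hdetconj : ∀ z : GL (Fin 3) F,
        ((P⁻¹ * z * P : GL (Fin 3) F) : Matrix (Fin 3) (Fin 3) F).det =
          (z : Matrix (Fin 3) (Fin 3) F).det := by
      intro z
      rw [Units.val_mul, Units.val_mul, det_mul, det_mul, mul_comm, ← mul_assoc, ← det_mul, hPinv,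
        det_one, one_mul]
    have hdT : (T : Matrix (Fin 3) (Fin 3) F).det = 1 := by
      have h1 : (T : Matrix (Fin 3) (Fin 3) F).det ∈ (⊥ : Subfield F) := by
        rw [← hdetconj T, hBT, one_smul]
        have e : (BT.map (⊥ : Subfield F).subtype).det = (⊥ : Subfield F).subtype BT.det := by
          rw [RingHom.map_det]
          rfl
        rw [e]
        exact BT.det.2
      rw [Subfield.mem_bot_iff_pow_eq_self F 2] at h1
      have hne : (T : Matrix (Fin 3) (Fin 3) F).det ≠ 0 := by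
        have := (Matrix.GeneralLinearGroup.det T).ne_zero
        rwa [Matrix.GeneralLinearGroup.val_det_apply] at this
      have h2 : (T : Matrix (Fin 3) (Fin 3) F).det * ((T : Matrix (Fin 3) (Fin 3) F).det - 1) = 0 := by
        linear_combination h1
      rcases mul_eq_zero.mp h2 with h | h
      · exact absurd h hne
      · exact sub_eq_zero.mp h
    have hdg : (g : Matrix (Fin 3) (Fin 3) F).det = 1 := by
      have h1 : Matrix.GeneralLinearGroup.det g = 1 := hgS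
      have h2 := congrArg Units.val h1
      rwa [Matrix.GeneralLinearGroup.val_det_apply, Units.val_one] at h2
    have hgaT : (g : Matrix (Fin 3) (Fin 3) F) = x * (T : Matrix (Fin 3) (Fin 3) F) := by
      rw [hTval, ← mul_assoc, hxy, one_mul]
    have hda : (a : Matrix (Fin 3) (Fin 3) F).det = 1 := by
      have h1 := hdg
      rw [hgaT, det_mul, hdT, mul_one] at h1
      exact h1
    -- step 4 : `a = c Θ^i`
    obtain ⟨c, i, hc0, hci⟩ := hdet a hxK hda
    have hgk : ∀ k : Fin 3, (g : Matrix (Fin 3) (Fin 3) F) *ᵥ ((θ ^ (k : ℕ)) *ᵥ e0) =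
        c • ((θ ^ (i + j * (k : ℕ))) *ᵥ e0) := by
      intro k
      rw [hgaT, ← mulVec_mulVec, hTk, ← ha, hci, smul_mulVec, mulVec_mulVec, ← pow_add]
    obtain ⟨B, hB⟩ := cols θ h3 P hP g c (fun k => i + j * (k : ℕ)) hgk
    exact mem_subfieldSubgroup_of_map ⊥ P g c hc0 B hB

end Cfsg.Agent.Lib.Helper29.S5775Q4
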