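import Mathlib

set_option autoImplicit false

namespace Cfsg.Agent.Lib.Helper29.S1903FOA

/-! Farm-out pieces FO-A1 .. FO-A4 for S1903 (architect helper12). Mathlib only. -/

/-- Conjugation by every element of `zpowers σ` preserves `W`. -/
theorem conj_mem_of_mem_zpowers {X : Type*} [Group X] [Finite X] (σ : X)
    (W : Subgroup X) (hW : ∀ w ∈ W, σ * w * σ⁻¹ ∈ W) :
    ∀ z ∈ Subgroup.zpowers σ, ∀ w ∈ W, z * w * z⁻¹ ∈ W := by
  have hpow : ∀ n : ℕ, ∀ w ∈ W, σ ^ n * w * (σ ^ n)⁻¹ ∈ W := by
    intro n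
    induction n with
    | zero => intro w hw; simpa using hw
    | succ n ih =>
      intro w hw
      have h1 := hW _ (ih w hw)
      have e : σ ^ (n + 1) * w * (σ ^ (n + 1))⁻¹ = σ * (σ ^ n * w * (σ ^ n)⁻¹) * σ⁻¹ := by
        rw [pow_succ']; group
      rw [e]; exact h1
  intro z hz w hw
  rw [← mem_powers_iff_mem_zpowers] at hz
  obtain ⟨n, rfl⟩ := hz
  exact hpow n w hw

/-- FO-A1. -/
theorem card_modEq_card_centralizer {X : Type*} [Group X] [Finite X] (σ : X) (hσ : σ ^ 5 = 1)
    (W : Subgroup X) (hW : ∀ w ∈ W, σ * w * σ⁻¹ ∈ W) :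
    Nat.card W ≡ Nat.card (W ⊓ Subgroup.centralizer {σ} : Subgroup X) [MOD 5] := by
  classical
  have hmem := conj_mem_of_mem_zpowers σ W hW
  letI act : MulAction (Subgroup.zpowers σ) W :=
    { smul := fun z w => ⟨(z : X) * w * (z : X)⁻¹, hmem z z.2 w w.2⟩
      one_smul := fun w => by
        apply Subtype.ext
        show ((1 : Subgroup.zpowers σ) : X) * w * ((1 : Subgroup.zpowers σ) : X)⁻¹ = w
        simp
      mul_smul := fun z z' w => by
        apply Subtype.ext
        show ((z * z' : Subgroup.zpowers σ) : X) * w * ((z * z' : Subgroup.zpowers σ) : X)⁻¹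
          = (z : X) * ((z' : X) * w * (z' : X)⁻¹) * (z : X)⁻¹
        simp [mul_assoc] }
  have hsmul : ∀ (z : Subgroup.zpowers σ) (w : W), ((z • w : W) : X) = (z : X) * w * (z : X)⁻¹ :=
    fun _ _ => rfl
  haveI : Fact (Nat.Prime 5) := ⟨by norm_num⟩
  have hP : IsPGroup 5 (Subgroup.zpowers σ) := by
    have hdvd : orderOf σ ∣ 5 := orderOf_dvd_of_pow_eq_one hσ
    have hcard : Nat.card (Subgroup.zpowers σ) = orderOf σ := Nat.card_zpowers σ
    rcases (Nat.dvd_prime (by norm_num : Nat.Prime 5)).mp hdvd with h | h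
    · exact IsPGroup.of_card (n := 0) (by rw [hcard, h]; rfl)
    · exact IsPGroup.of_card (n := 1) (by rw [hcard, h]; rfl)
  have key := hP.card_modEq_card_fixedPoints W
  have e : (MulAction.fixedPoints (Subgroup.zpowers σ) W) ≃
      (W ⊓ Subgroup.centralizer {σ} : Subgroup X) :=
    { toFun := fun w => ⟨(w : W), by
        refine Subgroup.mem_inf.mpr ⟨(w : W).2, ?_⟩
        rw [Subgroup.mem_centralizer_iff]
        intro h hh
        rw [Set.mem_singleton_iff] at hh
        subst hh
        have h1 := w.2 ⟨h, Subgroup.mem_zpowers h⟩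
        have h2 := congrArg (fun t : W => (t : X)) h1
        simp only [hsmul] at h2
        calc h * ((w : W) : X) = (h * ((w : W) : X) * h⁻¹) * h := by group
          _ = ((w : W) : X) * h := by rw [h2]⟩
      invFun := fun w => ⟨⟨(w : X), (Subgroup.mem_inf.mp w.2).1⟩, by
        intro z
        apply Subtype.ext
        rw [hsmul]
        show (z : X) * (w : X) * (z : X)⁻¹ = (w : X)
        have hc : Commute σ (w : X) := by
          have := (Subgroup.mem_inf.mp w.2).2
          rw [Subgroup.mem_centralizer_iff] at this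
          exact this σ rfl
        obtain ⟨k, hk⟩ := Subgroup.mem_zpowers_iff.mp z.2
        have hc2 : Commute (z : X) (w : X) := by
          rw [← hk]; exact hc.zpow_left k
        rw [hc2.eq]; group⟩
      left_inv := fun w => by apply Subtype.ext; apply Subtype.ext; rfl
      right_inv := fun w => by apply Subtype.ext; rfl }
  rw [Nat.card_congr e] at key
  exact key

/-- FO-A2. -/
theorem exists_central_mem_of_normal {X : Type*} [Group X] [Finite X] {p : ℕ} [Fact p.Prime]
    (P N : Subgroup X) [P.Normal] [N.Normal] (hP : IsPGroup p P) (hN : N ⊓ P ≠ ⊥) :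
    ∃ z ∈ N, z ≠ 1 ∧ z ∈ P ∧ ∀ x ∈ P, x * z = z * x := by
  classical
  set K : Subgroup X := N ⊓ P with hK
  have hKn : ∀ (x : X) (k : X), k ∈ K → x * k * x⁻¹ ∈ K := by
    intro x k hk
    have h1 := Subgroup.mem_inf.mp hk
    exact Subgroup.mem_inf.mpr ⟨‹N.Normal›.conj_mem k h1.1 x, ‹P.Normal›.conj_mem k h1.2 x⟩
  letI act : MulAction P K :=
    { smul := fun z w => ⟨(z : X) * w * (z : X)⁻¹, hKn z w w.2⟩
      one_smul := fun w => by
        apply Subtype.ext
        show ((1 : P) : X) * w * ((1 : P) : X)⁻¹ = w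
        simp
      mul_smul := fun z z' w => by
        apply Subtype.ext
        show ((z * z' : P) : X) * w * ((z * z' : P) : X)⁻¹
          = (z : X) * ((z' : X) * w * (z' : X)⁻¹) * (z : X)⁻¹
        simp [mul_assoc] }
  have hsmul : ∀ (z : P) (w : K), ((z • w : K) : X) = (z : X) * w * (z : X)⁻¹ :=
    fun _ _ => rfl
  have hKP : IsPGroup p K := hP.to_le inf_le_right
  have hKnt : Nontrivial K := (Subgroup.nontrivial_iff_ne_bot K).mpr hN
  have hdvd : p ∣ Nat.card K := by
    obtain ⟨n, hn0, hn⟩ := hKP.nontrivial_iff_card.mp hKnt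
    rw [hn]; exact dvd_pow_self _ (ne_of_gt hn0)
  have hone : (1 : K) ∈ MulAction.fixedPoints P K := by
    intro z
    apply Subtype.ext
    rw [hsmul]
    simp
  obtain ⟨b, hb, hne⟩ := hP.exists_fixed_point_of_prime_dvd_card_of_fixed_point K hdvd hone
  refine ⟨(b : X), (Subgroup.mem_inf.mp b.2).1, ?_, (Subgroup.mem_inf.mp b.2).2, ?_⟩
  · intro h
    apply hne
    apply Subtype.ext
    simpa using h.symm
  · intro x hx
    have h1 := hb ⟨x, hx⟩
    have h2 := congrArg (fun t : K => (t : X)) h1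
    simp only [hsmul] at h2
    calc x * (b : X) = (x * (b : X) * x⁻¹) * x := by group
      _ = (b : X) * x := by rw [h2]

/-- FO-A3. -/
theorem mem_commutator_of_central {X : Type*} [Group X] [Finite X] (z : X)
    (hzc : z ∈ Subgroup.center X) (hzP : z ∈ commutator X) (hz : z ^ (commutator X).index = z) :
    z ∈ ⁅commutator X, commutator X⁆ := by
  classical
  let H : Subgroup X := commutator X
  let ϕ : H →* Abelianization H := Abelianization.of
  have key : ∀ (k : ℕ) (g₀ : X), g₀⁻¹ * z ^ k * g₀ ∈ H → g₀⁻¹ * z ^ k * g₀ = z ^ k := by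
    intro k g₀ _
    have hk : z ^ k ∈ Subgroup.center X := Subgroup.pow_mem _ hzc k
    rw [Subgroup.mem_center_iff] at hk
    rw [mul_assoc, ← hk g₀, ← mul_assoc, inv_mul_cancel, one_mul]
  have h1 := MonoidHom.transfer_eq_pow (H := H) ϕ z key
  have h2 : MonoidHom.transfer ϕ z = 1 := by
    have := Abelianization.commutator_subset_ker (MonoidHom.transfer ϕ) hzP
    exact MonoidHom.mem_ker.mp this
  rw [h2] at h1
  have h3 : (⟨z ^ H.index, MonoidHom.transfer_eq_pow_aux z key⟩ : H) ∈ commutator H := by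
    rw [← Abelianization.ker_of]
    exact MonoidHom.mem_ker.mpr h1.symm
  have h4 : z ^ H.index ∈ (commutator H).map H.subtype :=
    ⟨_, h3, rfl⟩
  rw [Subgroup.map_subtype_commutator] at h4
  rw [hz] at h4
  exact h4

/-- the basic swap: if `k = x y x⁻¹ y⁻¹` is an involution then `y x = k (x y)`. -/
theorem swap_of_comm {X : Type*} [Group X] (x y : X)
    (h2 : (x * y * x⁻¹ * y⁻¹) * (x * y * x⁻¹ * y⁻¹) = 1) :
    y * x = (x * y * x⁻¹ * y⁻¹) * (x * y) := by
  have e : (x * y * x⁻¹ * y⁻¹)⁻¹ = x * y * x⁻¹ * y⁻¹ := inv_eq_of_mul_eq_one_left h2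
  calc y * x = (x * y * x⁻¹ * y⁻¹)⁻¹ * (x * y) := by group
    _ = (x * y * x⁻¹ * y⁻¹) * (x * y) := by rw [e]

/-- one collection step with a central commutator. -/
theorem collect_step {X : Type*} [Group X] (k x y : X) (hk : ∀ t, t * k = k * t)
    (h : y * x = k * (x * y)) (l r : X) : l * y * x * r = k * (l * x * y * r) := by
  calc l * y * x * r = l * (y * x) * r := by group
    _ = l * (k * (x * y)) * r := by rw [h]
    _ = (l * k) * (x * y) * r := by group
    _ = (k * l) * (x * y) * r := by rw [hk l]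
    _ = k * (l * x * y * r) := by group

/-- FO-A4. -/
theorem sq_prod_four {X : Type*} [Group X] (Z : Subgroup X) (hZc : Z ≤ Subgroup.center X)
    (hZ2 : ∀ z ∈ Z, z * z = 1) (a b c d z0 : X) (hz0 : z0 ∈ Z)
    (ha : a * a = z0) (hb : b * b = z0) (hc : c * c = z0) (hd : d * d = z0)
    (hab : a * b * a⁻¹ * b⁻¹ ∈ Z) (hac : a * c * a⁻¹ * c⁻¹ ∈ Z) (had : a * d * a⁻¹ * d⁻¹ ∈ Z)
    (hbc : b * c * b⁻¹ * c⁻¹ ∈ Z) (hbd : b * d * b⁻¹ * d⁻¹ ∈ Z) (hcd : c * d * c⁻¹ * d⁻¹ ∈ Z) :
    (a * b * c * d) * (a * b * c * d) =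
      (a * b * a⁻¹ * b⁻¹) * (a * c * a⁻¹ * c⁻¹) * (a * d * a⁻¹ * d⁻¹) *
      ((b * c * b⁻¹ * c⁻¹) * (b * d * b⁻¹ * d⁻¹) * (c * d * c⁻¹ * d⁻¹)) := by
  have cen : ∀ k ∈ Z, ∀ t, t * k = k * t := fun k hk t =>
    (Subgroup.mem_center_iff.mp (hZc hk)) t
  set u := a * b * a⁻¹ * b⁻¹ with hu
  set v := a * c * a⁻¹ * c⁻¹ with hv
  set w := a * d * a⁻¹ * d⁻¹ with hw
  set p := b * c * b⁻¹ * c⁻¹ with hp
  set q := b * d * b⁻¹ * d⁻¹ with hq
  set r := c * d * c⁻¹ * d⁻¹ with hr
  have sba : b * a = u * (a * b) := swap_of_comm a b (hZ2 _ hab)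
  have sca : c * a = v * (a * c) := swap_of_comm a c (hZ2 _ hac)
  have sda : d * a = w * (a * d) := swap_of_comm a d (hZ2 _ had)
  have scb : c * b = p * (b * c) := swap_of_comm b c (hZ2 _ hbc)
  have sdb : d * b = q * (b * d) := swap_of_comm b d (hZ2 _ hbd)
  have sdc : d * c = r * (c * d) := swap_of_comm c d (hZ2 _ hcd)
  have e1 : (a * b * c * d) * (a * b * c * d) = w * ((a * b * c) * a * d * (b * c * d)) := by
    have := collect_step w a d (cen w had) sda (a * b * c) (b * c * d)
    rw [← this]; group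
  have e2 : (a * b * c) * a * d * (b * c * d) = v * ((a * b) * a * c * (d * b * c * d)) := by
    have := collect_step v a c (cen v hac) sca (a * b) (d * b * c * d)
    rw [← this]; group
  have e3 : (a * b) * a * c * (d * b * c * d) = u * (a * a * b * (c * d * b * c * d)) := by
    have := collect_step u a b (cen u hab) sba a (c * d * b * c * d)
    rw [← this]; group
  have e4 : a * a * b * (c * d * b * c * d) = q * ((a * a * b * c) * b * d * (c * d)) := by
    have := collect_step q b d (cen q hbd) sdb (a * a * b * c) (c * d)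
    rw [← this]; group
  have e5 : (a * a * b * c) * b * d * (c * d) = p * ((a * a * b) * b * c * (d * c * d)) := by
    have := collect_step p b c (cen p hbc) scb (a * a * b) (d * c * d)
    rw [← this]; group
  have e6 : (a * a * b) * b * c * (d * c * d) = r * ((a * a * b * b * c) * c * d * d) := by
    have := collect_step r c d (cen r hcd) sdc (a * a * b * b * c) d
    rw [← this]; group
  have e7 : (a * a * b * b * c) * c * d * d = 1 := by
    have : (a * a * b * b * c) * c * d * d = (a * a) * (b * b) * (c * c) * (d * d) := by group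
    rw [this, ha, hb, hc, hd, hZ2 z0 hz0, one_mul, hZ2 z0 hz0]
  rw [e1, e2, e3, e4, e5, e6, e7, mul_one]
  -- w * (v * (u * (q * (p * r)))) = u * v * w * (p * q * r)
  have c1 : q * (p * r) = p * q * r := by rw [← mul_assoc, cen p hbc q]
  have c2 : w * (v * (u * (p * q * r))) = u * v * w * (p * q * r) := by
    have : w * (v * (u * (p * q * r))) = (w * (v * u)) * (p * q * r) := by group
    rw [this]
    congr 1
    rw [← cen w had (v * u), cen u hab v]
  rw [c1, c2]

end Cfsg.Agent.Lib.Helper29.S1903FOA
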