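import Mathlib
import Cfsg.Agent.Lib.Helper20.Ord64C

/-!
# S2933 FO-G (architect helper12): the linear case

A group `T` of order `64` with a fixed-point-free automorphism `σ` of order `3` (helper20's `Setup σ`)
and a non-central involution is isomorphic to a Sylow `2`-subgroup of `PSL₃(4)`.
-/

set_option autoImplicit false

namespace Cfsg.Agent.Lib.Helper29.S2933FOG

open Subgroup Cfsg.Agent.Lib.Helper20.Ord64 Cfsg.Agent.Lib.Helper6.FFour

variable {T : Type*} [Group T] {σ : MulAut T}

/-- a non-central involution `e` and some `w` outside its line give a second involution `w * a`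
not commuting with `e` -/
theorem exists_second_involution (S : Setup σ) (e : T) (he2 : e * e = 1) (hec : e ∉ center T) :
    ∃ s₂ : T, s₂ * s₂ = 1 ∧ cm e s₂ ≠ 1 := by
  haveI := S.finite
  -- a `w` outside the line of `e`
  have hline : Nat.card (Fpf3.lineOf σ e) = 16 := S.card_line e hec
  obtain ⟨w, hw⟩ : ∃ w : T, w ∉ Fpf3.lineOf σ e := by
    by_contra hcon
    push Not at hcon
    have htop : Fpf3.lineOf σ e = ⊤ := by
      rw [eq_top_iff]; intro x _; exact hcon x
    rw [htop, Subgroup.card_top, S.card] at hline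
    omega
  set c := cm e w with hc
  have hc1 : c ≠ 1 := by
    intro h
    rw [hc, cm_eq_one_iff] at h
    exact hw (S.mem_line_of_commute e w hec h)
  have hcc : c ∈ center T := S.cm_mem e w
  have hs : w * w ∈ center T := S.sq_mem_center w
  have hcomm := S.fp.lineOf_comm e
  have hσe2 : σ e * σ e = 1 := by rw [← map_mul, he2, map_one]
  have hσσe2 : σ (σ e) * σ (σ e) = 1 := by rw [← map_mul, hσe2, map_one]
  -- the general computation
  have key : ∀ a : T, a * a = 1 → a ∈ Fpf3.lineOf σ e → cm a w = w * w →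
      (w * a) * (w * a) = 1 ∧ cm e (w * a) ≠ 1 := by
    intro a ha2 hal hcm
    constructor
    · have h1 : a * w = cm a w * (w * a) := mul_eq_cm_mul a w
      have h2 : (w * a) * (w * a) = w * (a * w) * a := by group
      rw [h2, h1, hcm]
      have h3 : w * (w * w * (w * a)) * a = (w * w) * (w * w) * (a * a) := by group
      rw [h3, ha2, mul_one]
      exact S.center_sq _ hs
    · rw [S.cm_mul_right]
      have : cm e a = 1 := by
        rw [cm_eq_one_iff]
        exact hcomm e (Fpf3.mem_lineOf_self σ e) a hal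
      rw [this, mul_one]
      exact hc1
  rcases S.center_cases c hcc hc1 (w * w) hs with h | h | h | h
  · -- `w² = 1`: take `a = 1`
    refine ⟨w * 1, ?_⟩
    exact key 1 (one_mul 1) (one_mem _) (by rw [cm_one_left, h])
  · -- `w² = c = cm e w`: take `a = e`
    refine ⟨w * e, ?_⟩
    exact key e he2 (Fpf3.mem_lineOf_self σ e) (by rw [h])
  · -- `w² = σ c`: take `a = σ (σ e)`
    refine ⟨w * σ (σ e), ?_⟩
    refine key (σ (σ e)) hσσe2 (Fpf3.map_map_mem_lineOf_self σ e) ?_
    rw [S.cm_rho_left, S.cm_rho_left, h, ← hc, S.fp.cube]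
  · -- `w² = σ (σ c)`: take `a = σ e`
    refine ⟨w * σ e, ?_⟩
    refine key (σ e) hσe2 (Fpf3.map_mem_lineOf_self σ e) ?_
    rw [S.cm_rho_left, h]

/-- **FO-G** -/
theorem sylow_L (S : Setup σ) (e : T) (he2 : e * e = 1) (hec : e ∉ center T)
    (P : Sylow 2 (Matrix.ProjectiveSpecialLinearGroup (Fin 3) K4)) :
    Nonempty (T ≃* ↥(P : Subgroup (Matrix.ProjectiveSpecialLinearGroup (Fin 3) K4))) := by
  obtain ⟨s₂, h2, hne⟩ := exists_second_involution S e he2 hec
  obtain ⟨P', ⟨f⟩⟩ := S.nonempty_sylow_mulEquiv e s₂ he2 h2 hne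
  haveI : Fact (Nat.Prime 2) := ⟨Nat.prime_two⟩
  obtain ⟨g, hg⟩ := MulAction.exists_smul_eq (Matrix.ProjectiveSpecialLinearGroup (Fin 3) K4) P' P
  subst hg
  exact ⟨f.trans (Sylow.equivSMul P' g)⟩

end Cfsg.Agent.Lib.Helper29.S2933FOG
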