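import Mathlib
import Cfsg.Agent.Lib.Helper20.Ord64C
import Cfsg.Agent.Lib.Helper3.SU3Syl4
import Cfsg.Agent.Lib.Helper3.SU3Syl6

/-!
# S2933 FO-I (architect helper12): the model `UP F 4 2`

`F = GaloisField 2 4`; `UP F 4 2` (helper3's abstract Sylow `2`-subgroup of `PSU₃(4)`) with the torus
automorphism of order `3` is a `Setup` in the sense of helper20's `Ord64`, and all its involutions are
central.  Hence (given the uniqueness statement FO-H3 as a hypothesis) every such `T` is isomorphic to
every Sylow `2`-subgroup of `PSU₃(4)`.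
-/

set_option autoImplicit false

namespace Cfsg.Agent.Lib.Helper29.S2933FOI

open Subgroup Cfsg.Agent.Lib.Helper20.Ord64 Cfsg.Agent.Lib.Helper3.SU3

universe u

/-- the field with 16 elements -/
abbrev F16 : Type := GaloisField 2 4

noncomputable instance instFintypeF16 : Fintype F16 := Fintype.ofFinite _

theorem card_F16 : Fintype.card F16 = 16 := by
  rw [← Nat.card_eq_fintype_card]
  have := GaloisField.card 2 4 (by norm_num)
  simpa using this

instance instQData : Fact (QData F16 4 2) := ⟨⟨by norm_num, by rw [card_F16]; norm_num⟩⟩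

/-- a fixed element of `F₄ ∖ {0, 1}` gives the torus automorphism -/
theorem exists_rho : ∃ ρ : MulAut (UP F16 4 2), Setup ρ := by
  have d : QData F16 4 2 := instQData.out
  obtain ⟨c, hc, hc0, hc1⟩ := UP.exists_fixed_ne (F := F16) (q := 4) (n := 2) le_rfl
  have hc3 : c ^ 3 = 1 := by
    have h : c * (c ^ 3 - 1) = 0 := by linear_combination hc
    rcases mul_eq_zero.1 h with h | h
    · exact absurd h hc0
    · linear_combination h
  have hcsq : c ^ 2 ≠ 1 := by
    intro h
    apply hc1
    have h2 : (c - 1) * (c - 1) = 0 := by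
      linear_combination h + (1 - c) * d.two_eq_zero
    rcases mul_eq_zero.1 h2 with h3 | h3 <;> linear_combination h3
  let u : fixU F16 4 := ⟨Units.mk0 c hc0, by
    rw [mem_fixU]; simpa using hc⟩
  have hu : ((u.1 : F16ˣ) : F16) = c := rfl
  refine ⟨UP.torAut u, ⟨?_, ?_⟩, ?_, ?_⟩
  · intro y
    ext
    · rw [UP.torAut_apply_a, UP.torAut_apply_a, UP.torAut_apply_a, hu]
      linear_combination y.a * hc3
    · rw [UP.torAut_apply_b, UP.torAut_apply_b, UP.torAut_apply_b, hu]
      linear_combination (c ^ 3 + 1) * y.b * hc3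
  · intro y hy
    have ha : c * y.a = y.a := by
      have := congrArg UP.a hy
      rwa [UP.torAut_apply_a, hu] at this
    have hb : c ^ 2 * y.b = y.b := by
      have := congrArg UP.b hy
      rwa [UP.torAut_apply_b, hu] at this
    have ha0 : y.a = 0 := by
      have h : (c - 1) * y.a = 0 := by linear_combination ha
      rcases mul_eq_zero.1 h with h | h
      · exact absurd (by linear_combination h) hc1
      · exact h
    have hb0 : y.b = 0 := by
      have h : (c ^ 2 - 1) * y.b = 0 := by linear_combination hb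
      rcases mul_eq_zero.1 h with h | h
      · exact absurd (by linear_combination h) hcsq
      · exact h
    ext
    · exact ha0
    · exact hb0
  · rw [UP.card_UP]; norm_num
  · intro h
    obtain ⟨x, y, hxy⟩ := UP.not_comm (F := F16) (q := 4) (n := 2)
    exact hxy (h.is_comm.comm x y)

theorem inv_central (e : UP F16 4 2) (he : e * e = 1) : e ∈ center (UP F16 4 2) := by
  rw [UP.mem_center_iff]
  exact (UP.mul_self_eq_one_iff e).1 he

/-- **FO-I**, with the uniqueness statement FO-H3 (`equiv_of_no_inv`) as a hypothesis -/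
theorem exists_UP_model_of
    (hequiv : ∀ (T₁ : Type u) (T₂ : Type) [Group T₁] [Group T₂] (ρ₁ : MulAut T₁) (ρ₂ : MulAut T₂),
      Setup ρ₁ → Setup ρ₂ → (∀ e : T₁, e * e = 1 → e ∈ center T₁) →
      (∀ e : T₂, e * e = 1 → e ∈ center T₂) → Nonempty (T₁ ≃* T₂)) :
    ∃ (F : Type) (_ : Field F) (_ : Fintype F), Fintype.card F = 16 ∧
    ∀ (T : Type u) [Group T] (σ : MulAut T), Setup σ → (∀ e : T, e * e = 1 → e ∈ center T) →
      ∀ P : Sylow 2 (Cfsg.PSU 3 F 4), Nonempty (T ≃* ↥(P : Subgroup (Cfsg.PSU 3 F 4))) := by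
  refine ⟨F16, inferInstance, instFintypeF16, card_F16, ?_⟩
  intro T _ σ S hinv P
  obtain ⟨ρ, Sρ⟩ := exists_rho
  obtain ⟨f⟩ := hequiv T (UP F16 4 2) σ ρ S Sρ hinv inv_central
  obtain ⟨g⟩ := sylow_PSU_equiv (F := F16) (q := 4) (n := 2) P
  exact ⟨f.trans g.symm⟩

end Cfsg.Agent.Lib.Helper29.S2933FOI
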