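import Mathlib
import Cfsg.Agent.Lib.Helper12.S2933H3
import Cfsg.Agent.Lib.Helper29.S2933FOI

/-!
# S2933 FO-I (architect helper12), final form: `exists_UP_model`
-/

set_option autoImplicit false

namespace Cfsg.Agent.Lib.Helper29.S2933FOI

open Subgroup Cfsg.Agent.Lib.Helper20.Ord64 Cfsg.Agent.Lib.Helper3.SU3

universe u

/-- **FO-I** -/
theorem exists_UP_model : ∃ (F : Type) (_ : Field F) (_ : Fintype F), Fintype.card F = 16 ∧
    ∀ (T : Type u) [Group T] (σ : MulAut T), Setup σ → (∀ e : T, e * e = 1 → e ∈ center T) →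
      ∀ P : Sylow 2 (Cfsg.PSU 3 F 4), Nonempty (T ≃* ↥(P : Subgroup (Cfsg.PSU 3 F 4))) :=
  exists_UP_model_of
    (fun _ _ _ _ _ _ S₁ S₂ h₁ h₂ => Cfsg.Agent.Lib.Helper12.S2933.equiv_of_no_inv S₁ S₂ h₁ h₂)

end Cfsg.Agent.Lib.Helper29.S2933FOI
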