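import Cfsg.Agent.Lib.Helper11.IcoData

/-!
# Complete enumerations of the icosians of small norm (helper29)

The `ENUM` sub-block of BLOCK B of the icosian `J₂` front (helper11's model `Q8`):
for `x : Q8` with `inI x`:
* `enum_4_0 : nrm x = (4, 0) → x ∈ U` (the 120 units),
* `enum_4_4 : nrm x = (4, 4) → ∃ u ∈ U, x = Q8.mul u tauQ`,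
* `enum_8_m4 : nrm x = (8, -4) → ∃ u ∈ U, x = Q8.mul u sigQ`,
* `enum_8_0 : nrm x = (8, 0) → ∃ u ∈ U, ∃ h ∈ H5, x = Q8.mul u h`,
by a complete "sum of eight squares" search evaluated in the kernel, plus the elementary
bounds `nrm_fst_nonneg`, `neg_fst_le_snd`, `snd_le_two_fst`, `eq_zero_of_nrm_fst`,
`four_dvd_nrm`.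
-/

set_option autoImplicit false
set_option maxRecDepth 100000

namespace Cfsg.Agent.Lib.Helper29.IcoEnum

open Cfsg.Agent.Lib.Helper11.Ico Cfsg.Agent.Lib.Helper11.Ico.Q8

/-! ### Elementary bounds on `nrm` -/

theorem nrm_fst_nonneg (x : Q8) : 0 ≤ (nrm x).1 := by
  simp only [nrm]
  nlinarith [mul_self_nonneg x.a0, mul_self_nonneg x.b0, mul_self_nonneg x.a1, mul_self_nonneg x.b1,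
    mul_self_nonneg x.a2, mul_self_nonneg x.b2, mul_self_nonneg x.a3, mul_self_nonneg x.b3]

theorem neg_fst_le_snd (x : Q8) : -(nrm x).1 ≤ (nrm x).2 := by
  simp only [nrm]
  nlinarith [mul_self_nonneg (x.a0 + x.b0), mul_self_nonneg x.b0, mul_self_nonneg (x.a1 + x.b1),
    mul_self_nonneg x.b1, mul_self_nonneg (x.a2 + x.b2), mul_self_nonneg x.b2,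
    mul_self_nonneg (x.a3 + x.b3), mul_self_nonneg x.b3]

theorem snd_le_two_fst (x : Q8) : (nrm x).2 ≤ 2 * (nrm x).1 := by
  simp only [nrm]
  nlinarith [mul_self_nonneg (x.a0 - x.b0), mul_self_nonneg x.a0, mul_self_nonneg (x.a1 - x.b1),
    mul_self_nonneg x.a1, mul_self_nonneg (x.a2 - x.b2), mul_self_nonneg x.a2,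
    mul_self_nonneg (x.a3 - x.b3), mul_self_nonneg x.a3]

theorem eq_zero_of_nrm_fst (x : Q8) (h : (nrm x).1 = 0) : x = Q8.zero := by
  simp only [nrm] at h
  have h0 := mul_self_nonneg x.a0
  have h1 := mul_self_nonneg x.b0
  have h2 := mul_self_nonneg x.a1
  have h3 := mul_self_nonneg x.b1
  have h4 := mul_self_nonneg x.a2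
  have h5 := mul_self_nonneg x.b2
  have h6 := mul_self_nonneg x.a3
  have h7 := mul_self_nonneg x.b3
  have e0 : x.a0 = 0 := mul_self_eq_zero.mp (by linarith)
  have e1 : x.b0 = 0 := mul_self_eq_zero.mp (by linarith)
  have e2 : x.a1 = 0 := mul_self_eq_zero.mp (by linarith)
  have e3 : x.b1 = 0 := mul_self_eq_zero.mp (by linarith)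
  have e4 : x.a2 = 0 := mul_self_eq_zero.mp (by linarith)
  have e5 : x.b2 = 0 := mul_self_eq_zero.mp (by linarith)
  have e6 : x.a3 = 0 := mul_self_eq_zero.mp (by linarith)
  have e7 : x.b3 = 0 := mul_self_eq_zero.mp (by linarith)
  ext <;> simp [Q8.zero, *]

/-- the norm form on the ℤ-basis of words: `nrm (lin c) = (4 QA, 4 QB)` -/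
theorem nrm_lin (c0 c1 c2 c3 c4 c5 c6 c7 : ℤ) :
    nrm (lin c0 c1 c2 c3 c4 c5 c6 c7) =
      (4 * (c0 * c0 + c1 * c1 + c2 * c2 + c3 * c3 + c4 * c4 + c5 * c5 + c6 * c6 + c7 * c7 + c0 * c2
        - c0 * c3 - c0 * c4 - c0 * c5 - c0 * c6 + c1 * c2 + c1 * c3 + c1 * c4 - c1 * c5 - c1 * c7
        - c2 * c5 - c2 * c6 - c2 * c7 + c3 * c4 + c3 * c6 - c3 * c7 + c4 * c6 - c4 * c7 + c5 * c6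
        + c5 * c7),
       4 * (c0 * c3 + c0 * c4 + c0 * c6 - c0 * c7 - c1 * c2 + c1 * c5 + c1 * c6 + c1 * c7 + c2 * c5
        + c2 * c6 - c3 * c4 + c3 * c7)) := by
  simp only [nrm, lin, Prod.mk.injEq]
  constructor <;> ring

theorem four_dvd_nrm {x : Q8} (h : inI x = true) : 4 ∣ (nrm x).1 ∧ 4 ∣ (nrm x).2 := by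
  obtain ⟨c0, c1, c2, c3, c4, c5, c6, c7, rfl⟩ := (inI_iff x).mp h
  rw [nrm_lin]
  exact ⟨Dvd.intro _ rfl, Dvd.intro _ rfl⟩

/-! ### The search -/

/-- the possible coordinates `c` with `c² ≤ 8`, with their squares (constructor normal forms, so
that the kernel does not re-evaluate literals) -/
def R5 : List (ℤ × ℕ) :=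
  [(Int.negSucc 1, 4), (Int.negSucc 0, 1), (Int.ofNat 0, 0), (Int.ofNat 1, 1), (Int.ofNat 2, 4)]

def sq (c : ℤ) : ℕ := c.natAbs * c.natAbs

theorem sq_cast (c : ℤ) : ((sq c : ℕ) : ℤ) = c * c := by
  unfold sq
  rw [Nat.cast_mul]
  exact Int.natAbs_mul_self' c

theorem mem_R5 {c : ℤ} (h : sq c ≤ 8) : (c, sq c) ∈ R5 := by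
  have h1 : c.natAbs ≤ 2 := by
    unfold sq at h
    by_contra hc
    push Not at hc
    have : 3 * 3 ≤ c.natAbs * c.natAbs := Nat.mul_le_mul hc hc
    omega
  have h2 : -2 ≤ c := by omega
  have h3 : c ≤ 2 := by omega
  interval_cases c <;> decide

/-- one level of the search, in accumulator-passing style -/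
def lvlA (rem : ℕ) (k : ℤ → ℕ → List Q8 → List Q8) (acc : List Q8) : List Q8 :=
  R5.foldr (fun p acc => bif Nat.ble p.2 rem then k p.1 (rem - p.2) acc else acc) acc

theorem foldr_mono {α : Type} (f : α → List Q8 → List Q8)
    (hm : ∀ p acc y, y ∈ acc → y ∈ f p acc) (l : List α) :
    ∀ acc y, y ∈ acc → y ∈ l.foldr f acc := by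
  induction l with
  | nil => intro acc y h; simpa using h
  | cons a t ih =>
    intro acc y h
    simp only [List.foldr_cons]
    exact hm _ _ _ (ih acc y h)

theorem foldr_mem {α : Type} (f : α → List Q8 → List Q8)
    (hm : ∀ p acc y, y ∈ acc → y ∈ f p acc) (l : List α) (x : Q8) (p : α) (hp : p ∈ l)
    (hx : ∀ acc, x ∈ f p acc) : ∀ acc, x ∈ l.foldr f acc := by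
  induction l with
  | nil => simp at hp
  | cons a t ih =>
    intro acc
    simp only [List.foldr_cons]
    rcases List.mem_cons.mp hp with rfl | hp'
    · exact hx _
    · exact hm _ _ _ (ih hp' acc)

theorem lvlA_mono (rem : ℕ) (k : ℤ → ℕ → List Q8 → List Q8)
    (hk : ∀ c r acc y, y ∈ acc → y ∈ k c r acc) : ∀ acc y, y ∈ acc → y ∈ lvlA rem k acc := by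
  unfold lvlA
  apply foldr_mono
  intro p acc y h
  cases hb : Nat.ble p.2 rem
  · simpa using h
  · simpa using hk _ _ _ _ h

theorem lvlA_mem (rem : ℕ) (k : ℤ → ℕ → List Q8 → List Q8)
    (hk : ∀ c r acc y, y ∈ acc → y ∈ k c r acc) (x : Q8) (c : ℤ) (hc : sq c ≤ 8)
    (hle : sq c ≤ rem) (hx : ∀ acc, x ∈ k c (rem - sq c) acc) : ∀ acc, x ∈ lvlA rem k acc := by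
  unfold lvlA
  refine foldr_mem _ ?_ _ x (c, sq c) (mem_R5 hc) ?_
  · intro p acc y h
    cases hb : Nat.ble p.2 rem
    · simpa using h
    · simpa using hk _ _ _ _ h
  · intro acc
    have hb : Nat.ble (sq c) rem = true := Nat.ble_eq_true_of_le hle
    simpa [hb] using hx acc

def L7 (a0 b0 a1 b1 a2 b2 a3 : ℤ) (r : ℕ) (acc : List Q8) : List Q8 :=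
  R5.foldr (fun p acc =>
    bif Nat.beq p.2 r then (⟨a0, b0, a1, b1, a2, b2, a3, p.1⟩ : Q8) :: acc else acc) acc
def L6 (a0 b0 a1 b1 a2 b2 : ℤ) (r : ℕ) (acc : List Q8) : List Q8 :=
  lvlA r (fun c r' => L7 a0 b0 a1 b1 a2 b2 c r') acc
def L5 (a0 b0 a1 b1 a2 : ℤ) (r : ℕ) (acc : List Q8) : List Q8 :=
  lvlA r (fun c r' => L6 a0 b0 a1 b1 a2 c r') acc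
def L4 (a0 b0 a1 b1 : ℤ) (r : ℕ) (acc : List Q8) : List Q8 :=
  lvlA r (fun c r' => L5 a0 b0 a1 b1 c r') acc
def L3 (a0 b0 a1 : ℤ) (r : ℕ) (acc : List Q8) : List Q8 :=
  lvlA r (fun c r' => L4 a0 b0 a1 c r') acc
def L2 (a0 b0 : ℤ) (r : ℕ) (acc : List Q8) : List Q8 :=
  lvlA r (fun c r' => L3 a0 b0 c r') acc
def L1 (a0 : ℤ) (r : ℕ) (acc : List Q8) : List Q8 :=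
  lvlA r (fun c r' => L2 a0 c r') acc

/-- all `x : Q8` with `Σ (coordinates)² = n` (`n ≤ 8`), in lexicographic order -/
def enumA (n : ℕ) : List Q8 := lvlA n (fun c r' => L1 c r') []

theorem L7_mono (a0 b0 a1 b1 a2 b2 a3 : ℤ) (r : ℕ) (acc : List Q8) (y : Q8) (h : y ∈ acc) :
    y ∈ L7 a0 b0 a1 b1 a2 b2 a3 r acc := by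
  unfold L7
  apply foldr_mono _ _ _ _ _ h
  intro p acc y h
  cases hb : Nat.beq p.2 r
  · simpa using h
  · simpa using Or.inr h

theorem L7_mem (a0 b0 a1 b1 a2 b2 a3 b3 : ℤ) (r : ℕ) (hc : sq b3 ≤ 8) (hr : sq b3 = r)
    (acc : List Q8) : (⟨a0, b0, a1, b1, a2, b2, a3, b3⟩ : Q8) ∈ L7 a0 b0 a1 b1 a2 b2 a3 r acc := by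
  unfold L7
  refine foldr_mem _ ?_ _ _ (b3, sq b3) (mem_R5 hc) ?_ acc
  · intro p acc y h
    cases hb : Nat.beq p.2 r
    · simpa using h
    · simpa using Or.inr h
  · intro acc
    have hb : Nat.beq (sq b3) r = true := by subst hr; exact Nat.beq_refl _
    simp [hb]

theorem L6_mono (a0 b0 a1 b1 a2 b2 : ℤ) (r : ℕ) (acc : List Q8) (y : Q8) (h : y ∈ acc) :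
    y ∈ L6 a0 b0 a1 b1 a2 b2 r acc :=
  lvlA_mono _ _ (fun c r' acc y h => L7_mono a0 b0 a1 b1 a2 b2 c r' acc y h) _ _ h
theorem L5_mono (a0 b0 a1 b1 a2 : ℤ) (r : ℕ) (acc : List Q8) (y : Q8) (h : y ∈ acc) :
    y ∈ L5 a0 b0 a1 b1 a2 r acc :=
  lvlA_mono _ _ (fun c r' acc y h => L6_mono a0 b0 a1 b1 a2 c r' acc y h) _ _ h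
theorem L4_mono (a0 b0 a1 b1 : ℤ) (r : ℕ) (acc : List Q8) (y : Q8) (h : y ∈ acc) :
    y ∈ L4 a0 b0 a1 b1 r acc :=
  lvlA_mono _ _ (fun c r' acc y h => L5_mono a0 b0 a1 b1 c r' acc y h) _ _ h
theorem L3_mono (a0 b0 a1 : ℤ) (r : ℕ) (acc : List Q8) (y : Q8) (h : y ∈ acc) :
    y ∈ L3 a0 b0 a1 r acc :=
  lvlA_mono _ _ (fun c r' acc y h => L4_mono a0 b0 a1 c r' acc y h) _ _ h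
theorem L2_mono (a0 b0 : ℤ) (r : ℕ) (acc : List Q8) (y : Q8) (h : y ∈ acc) :
    y ∈ L2 a0 b0 r acc :=
  lvlA_mono _ _ (fun c r' acc y h => L3_mono a0 b0 c r' acc y h) _ _ h
theorem L1_mono (a0 : ℤ) (r : ℕ) (acc : List Q8) (y : Q8) (h : y ∈ acc) :
    y ∈ L1 a0 r acc :=
  lvlA_mono _ _ (fun c r' acc y h => L2_mono a0 c r' acc y h) _ _ h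

theorem mem_enumA (x : Q8) (n : ℕ) (hn : n ≤ 8)
    (h : sq x.a0 + sq x.b0 + sq x.a1 + sq x.b1 + sq x.a2 + sq x.b2 + sq x.a3 + sq x.b3 = n) :
    x ∈ enumA n := by
  unfold enumA
  refine lvlA_mem _ _ (fun c r' acc y h => L1_mono c r' acc y h) x x.a0 (by omega) (by omega) ?_ _
  intro acc
  refine lvlA_mem _ _ (fun c r' acc y h => L2_mono _ c r' acc y h) x x.b0 (by omega) (by omega) ?_ _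
  intro acc
  refine lvlA_mem _ _ (fun c r' acc y h => L3_mono _ _ c r' acc y h) x x.a1 (by omega) (by omega) ?_ _
  intro acc
  refine lvlA_mem _ _ (fun c r' acc y h => L4_mono _ _ _ c r' acc y h) x x.b1 (by omega) (by omega) ?_ _
  intro acc
  refine lvlA_mem _ _ (fun c r' acc y h => L5_mono _ _ _ _ c r' acc y h) x x.a2 (by omega) (by omega) ?_ _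
  intro acc
  refine lvlA_mem _ _ (fun c r' acc y h => L6_mono _ _ _ _ _ c r' acc y h) x x.b2 (by omega) (by omega) ?_ _
  intro acc
  refine lvlA_mem _ _ (fun c r' acc y h => L7_mono _ _ _ _ _ _ c r' acc y h) x x.a3 (by omega) (by omega) ?_ _
  intro acc
  exact L7_mem x.a0 x.b0 x.a1 x.b1 x.a2 x.b2 x.a3 x.b3 _ (by omega) (by omega) acc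

theorem mem_enumA_of_nrm (x : Q8) (n : ℕ) (hn : n ≤ 8) (h : (nrm x).1 = (n : ℤ)) : x ∈ enumA n := by
  apply mem_enumA x n hn
  have e : ((sq x.a0 + sq x.b0 + sq x.a1 + sq x.b1 + sq x.a2 + sq x.b2 + sq x.a3 + sq x.b3 : ℕ) : ℤ)
      = (n : ℤ) := by
    push_cast
    simp only [sq_cast]
    simpa [nrm] using h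
  exact_mod_cast e

/-! ### Data: the complete lists with certificates -/

/-- all icosians of norm `(4,4)` (i.e. `N = τ²`), with a unit `u` such that `x = u τ` -/
def C44 : List (Q8 × Q8) :=
  [(⟨-1, -1, -1, 0, 0, -1, 0, 0⟩, ⟨0, -1, 1, -1, -1, 0, 0, 0⟩), (⟨-1, -1, -1, 0, 0, 1, 0, 0⟩, ⟨0, -1, 1, -1, 1, 0, 0, 0⟩),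
   (⟨-1, -1, 0, -1, 0, 0, -1, 0⟩, ⟨0, -1, -1, 0, 0, 0, 1, -1⟩), (⟨-1, -1, 0, -1, 0, 0, 1, 0⟩, ⟨0, -1, -1, 0, 0, 0, -1, 1⟩),
   (⟨-1, -1, 0, 0, -1, 0, 0, -1⟩, ⟨0, -1, 0, 0, 1, -1, -1, 0⟩), (⟨-1, -1, 0, 0, -1, 0, 0, 1⟩, ⟨0, -1, 0, 0, 1, -1, 1, 0⟩),
   (⟨-1, -1, 0, 0, 1, 0, 0, -1⟩, ⟨0, -1, 0, 0, -1, 1, -1, 0⟩), (⟨-1, -1, 0, 0, 1, 0, 0, 1⟩, ⟨0, -1, 0, 0, -1, 1, 1, 0⟩),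
   (⟨-1, -1, 0, 1, 0, 0, -1, 0⟩, ⟨0, -1, 1, 0, 0, 0, 1, -1⟩), (⟨-1, -1, 0, 1, 0, 0, 1, 0⟩, ⟨0, -1, 1, 0, 0, 0, -1, 1⟩),
   (⟨-1, -1, 1, 0, 0, -1, 0, 0⟩, ⟨0, -1, -1, 1, -1, 0, 0, 0⟩), (⟨-1, -1, 1, 0, 0, 1, 0, 0⟩, ⟨0, -1, -1, 1, 1, 0, 0, 0⟩),
   (⟨-1, 0, -1, -1, 0, 0, 0, -1⟩, ⟨1, -1, 0, -1, 0, 0, -1, 0⟩), (⟨-1, 0, -1, -1, 0, 0, 0, 1⟩, ⟨1, -1, 0, -1, 0, 0, 1, 0⟩),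
   (⟨-1, 0, 0, -1, -1, -1, 0, 0⟩, ⟨1, -1, -1, 0, 0, -1, 0, 0⟩), (⟨-1, 0, 0, -1, 1, 1, 0, 0⟩, ⟨1, -1, -1, 0, 0, 1, 0, 0⟩),
   (⟨-1, 0, 0, 0, 0, -1, -1, -1⟩, ⟨1, -1, 0, 0, -1, 0, 0, -1⟩), (⟨-1, 0, 0, 0, 0, -1, 1, 1⟩, ⟨1, -1, 0, 0, -1, 0, 0, 1⟩),
   (⟨-1, 0, 0, 0, 0, 1, -1, -1⟩, ⟨1, -1, 0, 0, 1, 0, 0, -1⟩), (⟨-1, 0, 0, 0, 0, 1, 1, 1⟩, ⟨1, -1, 0, 0, 1, 0, 0, 1⟩),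
   (⟨-1, 0, 0, 1, -1, -1, 0, 0⟩, ⟨1, -1, 1, 0, 0, -1, 0, 0⟩), (⟨-1, 0, 0, 1, 1, 1, 0, 0⟩, ⟨1, -1, 1, 0, 0, 1, 0, 0⟩),
   (⟨-1, 0, 1, 1, 0, 0, 0, -1⟩, ⟨1, -1, 0, 1, 0, 0, -1, 0⟩), (⟨-1, 0, 1, 1, 0, 0, 0, 1⟩, ⟨1, -1, 0, 1, 0, 0, 1, 0⟩),
   (⟨0, -2, 0, 0, 0, 0, 0, 0⟩, ⟨-2, 0, 0, 0, 0, 0, 0, 0⟩), (⟨0, -1, -1, -1, -1, 0, 0, 0⟩, ⟨-1, 0, 0, -1, 1, -1, 0, 0⟩),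
   (⟨0, -1, -1, -1, 1, 0, 0, 0⟩, ⟨-1, 0, 0, -1, -1, 1, 0, 0⟩), (⟨0, -1, -1, 0, 0, 0, -1, -1⟩, ⟨-1, 0, 1, -1, 0, 0, 0, -1⟩),
   (⟨0, -1, -1, 0, 0, 0, 1, 1⟩, ⟨-1, 0, 1, -1, 0, 0, 0, 1⟩), (⟨0, -1, 0, -1, 0, -1, 0, -1⟩, ⟨-1, 0, -1, 0, -1, 0, -1, 0⟩),
   (⟨0, -1, 0, -1, 0, -1, 0, 1⟩, ⟨-1, 0, -1, 0, -1, 0, 1, 0⟩), (⟨0, -1, 0, -1, 0, 1, 0, -1⟩, ⟨-1, 0, -1, 0, 1, 0, -1, 0⟩),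
   (⟨0, -1, 0, -1, 0, 1, 0, 1⟩, ⟨-1, 0, -1, 0, 1, 0, 1, 0⟩), (⟨0, -1, 0, 0, -1, -1, -1, 0⟩, ⟨-1, 0, 0, 0, 0, -1, 1, -1⟩),
   (⟨0, -1, 0, 0, -1, -1, 1, 0⟩, ⟨-1, 0, 0, 0, 0, -1, -1, 1⟩), (⟨0, -1, 0, 0, 1, 1, -1, 0⟩, ⟨-1, 0, 0, 0, 0, 1, 1, -1⟩),
   (⟨0, -1, 0, 0, 1, 1, 1, 0⟩, ⟨-1, 0, 0, 0, 0, 1, -1, 1⟩), (⟨0, -1, 0, 1, 0, -1, 0, -1⟩, ⟨-1, 0, 1, 0, -1, 0, -1, 0⟩),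
   (⟨0, -1, 0, 1, 0, -1, 0, 1⟩, ⟨-1, 0, 1, 0, -1, 0, 1, 0⟩), (⟨0, -1, 0, 1, 0, 1, 0, -1⟩, ⟨-1, 0, 1, 0, 1, 0, -1, 0⟩),
   (⟨0, -1, 0, 1, 0, 1, 0, 1⟩, ⟨-1, 0, 1, 0, 1, 0, 1, 0⟩), (⟨0, -1, 1, 0, 0, 0, -1, -1⟩, ⟨-1, 0, -1, 1, 0, 0, 0, -1⟩),
   (⟨0, -1, 1, 0, 0, 0, 1, 1⟩, ⟨-1, 0, -1, 1, 0, 0, 0, 1⟩), (⟨0, -1, 1, 1, -1, 0, 0, 0⟩, ⟨-1, 0, 0, 1, 1, -1, 0, 0⟩),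
   (⟨0, -1, 1, 1, 1, 0, 0, 0⟩, ⟨-1, 0, 0, 1, -1, 1, 0, 0⟩), (⟨0, 0, -1, -1, 0, -1, -1, 0⟩, ⟨0, 0, 0, -1, -1, 0, 1, -1⟩),
   (⟨0, 0, -1, -1, 0, -1, 1, 0⟩, ⟨0, 0, 0, -1, -1, 0, -1, 1⟩), (⟨0, 0, -1, -1, 0, 1, -1, 0⟩, ⟨0, 0, 0, -1, 1, 0, 1, -1⟩),
   (⟨0, 0, -1, -1, 0, 1, 1, 0⟩, ⟨0, 0, 0, -1, 1, 0, -1, 1⟩), (⟨0, 0, -1, 0, -1, -1, 0, -1⟩, ⟨0, 0, 1, -1, 0, -1, -1, 0⟩),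
   (⟨0, 0, -1, 0, -1, -1, 0, 1⟩, ⟨0, 0, 1, -1, 0, -1, 1, 0⟩), (⟨0, 0, -1, 0, 1, 1, 0, -1⟩, ⟨0, 0, 1, -1, 0, 1, -1, 0⟩),
   (⟨0, 0, -1, 0, 1, 1, 0, 1⟩, ⟨0, 0, 1, -1, 0, 1, 1, 0⟩), (⟨0, 0, 0, -2, 0, 0, 0, 0⟩, ⟨0, 0, -2, 0, 0, 0, 0, 0⟩),
   (⟨0, 0, 0, -1, -1, 0, -1, -1⟩, ⟨0, 0, -1, 0, 1, -1, 0, -1⟩), (⟨0, 0, 0, -1, -1, 0, 1, 1⟩, ⟨0, 0, -1, 0, 1, -1, 0, 1⟩),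
   (⟨0, 0, 0, -1, 1, 0, -1, -1⟩, ⟨0, 0, -1, 0, -1, 1, 0, -1⟩), (⟨0, 0, 0, -1, 1, 0, 1, 1⟩, ⟨0, 0, -1, 0, -1, 1, 0, 1⟩),
   (⟨0, 0, 0, 0, 0, -2, 0, 0⟩, ⟨0, 0, 0, 0, -2, 0, 0, 0⟩), (⟨0, 0, 0, 0, 0, 0, 0, -2⟩, ⟨0, 0, 0, 0, 0, 0, -2, 0⟩),
   (⟨0, 0, 0, 0, 0, 0, 0, 2⟩, ⟨0, 0, 0, 0, 0, 0, 2, 0⟩), (⟨0, 0, 0, 0, 0, 2, 0, 0⟩, ⟨0, 0, 0, 0, 2, 0, 0, 0⟩),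
   (⟨0, 0, 0, 1, -1, 0, -1, -1⟩, ⟨0, 0, 1, 0, 1, -1, 0, -1⟩), (⟨0, 0, 0, 1, -1, 0, 1, 1⟩, ⟨0, 0, 1, 0, 1, -1, 0, 1⟩),
   (⟨0, 0, 0, 1, 1, 0, -1, -1⟩, ⟨0, 0, 1, 0, -1, 1, 0, -1⟩), (⟨0, 0, 0, 1, 1, 0, 1, 1⟩, ⟨0, 0, 1, 0, -1, 1, 0, 1⟩),
   (⟨0, 0, 0, 2, 0, 0, 0, 0⟩, ⟨0, 0, 2, 0, 0, 0, 0, 0⟩), (⟨0, 0, 1, 0, -1, -1, 0, -1⟩, ⟨0, 0, -1, 1, 0, -1, -1, 0⟩),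
   (⟨0, 0, 1, 0, -1, -1, 0, 1⟩, ⟨0, 0, -1, 1, 0, -1, 1, 0⟩), (⟨0, 0, 1, 0, 1, 1, 0, -1⟩, ⟨0, 0, -1, 1, 0, 1, -1, 0⟩),
   (⟨0, 0, 1, 0, 1, 1, 0, 1⟩, ⟨0, 0, -1, 1, 0, 1, 1, 0⟩), (⟨0, 0, 1, 1, 0, -1, -1, 0⟩, ⟨0, 0, 0, 1, -1, 0, 1, -1⟩),
   (⟨0, 0, 1, 1, 0, -1, 1, 0⟩, ⟨0, 0, 0, 1, -1, 0, -1, 1⟩), (⟨0, 0, 1, 1, 0, 1, -1, 0⟩, ⟨0, 0, 0, 1, 1, 0, 1, -1⟩),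
   (⟨0, 0, 1, 1, 0, 1, 1, 0⟩, ⟨0, 0, 0, 1, 1, 0, -1, 1⟩), (⟨0, 1, -1, -1, -1, 0, 0, 0⟩, ⟨1, 0, 0, -1, 1, -1, 0, 0⟩),
   (⟨0, 1, -1, -1, 1, 0, 0, 0⟩, ⟨1, 0, 0, -1, -1, 1, 0, 0⟩), (⟨0, 1, -1, 0, 0, 0, -1, -1⟩, ⟨1, 0, 1, -1, 0, 0, 0, -1⟩),
   (⟨0, 1, -1, 0, 0, 0, 1, 1⟩, ⟨1, 0, 1, -1, 0, 0, 0, 1⟩), (⟨0, 1, 0, -1, 0, -1, 0, -1⟩, ⟨1, 0, -1, 0, -1, 0, -1, 0⟩),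
   (⟨0, 1, 0, -1, 0, -1, 0, 1⟩, ⟨1, 0, -1, 0, -1, 0, 1, 0⟩), (⟨0, 1, 0, -1, 0, 1, 0, -1⟩, ⟨1, 0, -1, 0, 1, 0, -1, 0⟩),
   (⟨0, 1, 0, -1, 0, 1, 0, 1⟩, ⟨1, 0, -1, 0, 1, 0, 1, 0⟩), (⟨0, 1, 0, 0, -1, -1, -1, 0⟩, ⟨1, 0, 0, 0, 0, -1, 1, -1⟩),
   (⟨0, 1, 0, 0, -1, -1, 1, 0⟩, ⟨1, 0, 0, 0, 0, -1, -1, 1⟩), (⟨0, 1, 0, 0, 1, 1, -1, 0⟩, ⟨1, 0, 0, 0, 0, 1, 1, -1⟩),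
   (⟨0, 1, 0, 0, 1, 1, 1, 0⟩, ⟨1, 0, 0, 0, 0, 1, -1, 1⟩), (⟨0, 1, 0, 1, 0, -1, 0, -1⟩, ⟨1, 0, 1, 0, -1, 0, -1, 0⟩),
   (⟨0, 1, 0, 1, 0, -1, 0, 1⟩, ⟨1, 0, 1, 0, -1, 0, 1, 0⟩), (⟨0, 1, 0, 1, 0, 1, 0, -1⟩, ⟨1, 0, 1, 0, 1, 0, -1, 0⟩),
   (⟨0, 1, 0, 1, 0, 1, 0, 1⟩, ⟨1, 0, 1, 0, 1, 0, 1, 0⟩), (⟨0, 1, 1, 0, 0, 0, -1, -1⟩, ⟨1, 0, -1, 1, 0, 0, 0, -1⟩),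
   (⟨0, 1, 1, 0, 0, 0, 1, 1⟩, ⟨1, 0, -1, 1, 0, 0, 0, 1⟩), (⟨0, 1, 1, 1, -1, 0, 0, 0⟩, ⟨1, 0, 0, 1, 1, -1, 0, 0⟩),
   (⟨0, 1, 1, 1, 1, 0, 0, 0⟩, ⟨1, 0, 0, 1, -1, 1, 0, 0⟩), (⟨0, 2, 0, 0, 0, 0, 0, 0⟩, ⟨2, 0, 0, 0, 0, 0, 0, 0⟩),
   (⟨1, 0, -1, -1, 0, 0, 0, -1⟩, ⟨-1, 1, 0, -1, 0, 0, -1, 0⟩), (⟨1, 0, -1, -1, 0, 0, 0, 1⟩, ⟨-1, 1, 0, -1, 0, 0, 1, 0⟩),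
   (⟨1, 0, 0, -1, -1, -1, 0, 0⟩, ⟨-1, 1, -1, 0, 0, -1, 0, 0⟩), (⟨1, 0, 0, -1, 1, 1, 0, 0⟩, ⟨-1, 1, -1, 0, 0, 1, 0, 0⟩),
   (⟨1, 0, 0, 0, 0, -1, -1, -1⟩, ⟨-1, 1, 0, 0, -1, 0, 0, -1⟩), (⟨1, 0, 0, 0, 0, -1, 1, 1⟩, ⟨-1, 1, 0, 0, -1, 0, 0, 1⟩),
   (⟨1, 0, 0, 0, 0, 1, -1, -1⟩, ⟨-1, 1, 0, 0, 1, 0, 0, -1⟩), (⟨1, 0, 0, 0, 0, 1, 1, 1⟩, ⟨-1, 1, 0, 0, 1, 0, 0, 1⟩),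
   (⟨1, 0, 0, 1, -1, -1, 0, 0⟩, ⟨-1, 1, 1, 0, 0, -1, 0, 0⟩), (⟨1, 0, 0, 1, 1, 1, 0, 0⟩, ⟨-1, 1, 1, 0, 0, 1, 0, 0⟩),
   (⟨1, 0, 1, 1, 0, 0, 0, -1⟩, ⟨-1, 1, 0, 1, 0, 0, -1, 0⟩), (⟨1, 0, 1, 1, 0, 0, 0, 1⟩, ⟨-1, 1, 0, 1, 0, 0, 1, 0⟩),
   (⟨1, 1, -1, 0, 0, -1, 0, 0⟩, ⟨0, 1, 1, -1, -1, 0, 0, 0⟩), (⟨1, 1, -1, 0, 0, 1, 0, 0⟩, ⟨0, 1, 1, -1, 1, 0, 0, 0⟩),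
   (⟨1, 1, 0, -1, 0, 0, -1, 0⟩, ⟨0, 1, -1, 0, 0, 0, 1, -1⟩), (⟨1, 1, 0, -1, 0, 0, 1, 0⟩, ⟨0, 1, -1, 0, 0, 0, -1, 1⟩),
   (⟨1, 1, 0, 0, -1, 0, 0, -1⟩, ⟨0, 1, 0, 0, 1, -1, -1, 0⟩), (⟨1, 1, 0, 0, -1, 0, 0, 1⟩, ⟨0, 1, 0, 0, 1, -1, 1, 0⟩),
   (⟨1, 1, 0, 0, 1, 0, 0, -1⟩, ⟨0, 1, 0, 0, -1, 1, -1, 0⟩), (⟨1, 1, 0, 0, 1, 0, 0, 1⟩, ⟨0, 1, 0, 0, -1, 1, 1, 0⟩),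
   (⟨1, 1, 0, 1, 0, 0, -1, 0⟩, ⟨0, 1, 1, 0, 0, 0, 1, -1⟩), (⟨1, 1, 0, 1, 0, 0, 1, 0⟩, ⟨0, 1, 1, 0, 0, 0, -1, 1⟩),
   (⟨1, 1, 1, 0, 0, -1, 0, 0⟩, ⟨0, 1, -1, 1, -1, 0, 0, 0⟩), (⟨1, 1, 1, 0, 0, 1, 0, 0⟩, ⟨0, 1, -1, 1, 1, 0, 0, 0⟩)]

/-- all icosians of norm `(8,-4)` (i.e. `N = σ²`), with a unit `u` such that `x = u σ` -/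
def C8m : List (Q8 × Q8) :=
  [(⟨-2, 1, -1, 0, 0, 0, -1, 1⟩, ⟨-1, 1, 0, 1, 0, 0, -1, 0⟩), (⟨-2, 1, -1, 0, 0, 0, 1, -1⟩, ⟨-1, 1, 0, 1, 0, 0, 1, 0⟩),
   (⟨-2, 1, -1, 1, -1, 0, 0, 0⟩, ⟨-1, 1, -1, 0, 0, 1, 0, 0⟩), (⟨-2, 1, -1, 1, 1, 0, 0, 0⟩, ⟨-1, 1, -1, 0, 0, -1, 0, 0⟩),
   (⟨-2, 1, 0, 0, -1, 1, -1, 0⟩, ⟨-1, 1, 0, 0, -1, 0, 0, 1⟩), (⟨-2, 1, 0, 0, -1, 1, 1, 0⟩, ⟨-1, 1, 0, 0, -1, 0, 0, -1⟩),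
   (⟨-2, 1, 0, 0, 1, -1, -1, 0⟩, ⟨-1, 1, 0, 0, 1, 0, 0, 1⟩), (⟨-2, 1, 0, 0, 1, -1, 1, 0⟩, ⟨-1, 1, 0, 0, 1, 0, 0, -1⟩),
   (⟨-2, 1, 1, -1, -1, 0, 0, 0⟩, ⟨-1, 1, 1, 0, 0, 1, 0, 0⟩), (⟨-2, 1, 1, -1, 1, 0, 0, 0⟩, ⟨-1, 1, 1, 0, 0, -1, 0, 0⟩),
   (⟨-2, 1, 1, 0, 0, 0, -1, 1⟩, ⟨-1, 1, 0, -1, 0, 0, -1, 0⟩), (⟨-2, 1, 1, 0, 0, 0, 1, -1⟩, ⟨-1, 1, 0, -1, 0, 0, 1, 0⟩),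
   (⟨-2, 2, 0, 0, 0, 0, 0, 0⟩, ⟨-2, 0, 0, 0, 0, 0, 0, 0⟩), (⟨-1, 0, -2, 1, -1, 1, 0, 0⟩, ⟨0, 1, -1, 1, -1, 0, 0, 0⟩),
   (⟨-1, 0, -2, 1, 1, -1, 0, 0⟩, ⟨0, 1, -1, 1, 1, 0, 0, 0⟩), (⟨-1, 0, -1, 1, 0, 0, -2, 1⟩, ⟨0, 1, -1, 0, 0, 0, -1, 1⟩),
   (⟨-1, 0, -1, 1, 0, 0, 2, -1⟩, ⟨0, 1, -1, 0, 0, 0, 1, -1⟩), (⟨-1, 0, 0, 0, -2, 1, -1, 1⟩, ⟨0, 1, 0, 0, -1, 1, -1, 0⟩),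
   (⟨-1, 0, 0, 0, -2, 1, 1, -1⟩, ⟨0, 1, 0, 0, -1, 1, 1, 0⟩), (⟨-1, 0, 0, 0, 2, -1, -1, 1⟩, ⟨0, 1, 0, 0, 1, -1, -1, 0⟩),
   (⟨-1, 0, 0, 0, 2, -1, 1, -1⟩, ⟨0, 1, 0, 0, 1, -1, 1, 0⟩), (⟨-1, 0, 1, -1, 0, 0, -2, 1⟩, ⟨0, 1, 1, 0, 0, 0, -1, 1⟩),
   (⟨-1, 0, 1, -1, 0, 0, 2, -1⟩, ⟨0, 1, 1, 0, 0, 0, 1, -1⟩), (⟨-1, 0, 2, -1, -1, 1, 0, 0⟩, ⟨0, 1, 1, -1, -1, 0, 0, 0⟩),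
   (⟨-1, 0, 2, -1, 1, -1, 0, 0⟩, ⟨0, 1, 1, -1, 1, 0, 0, 0⟩), (⟨-1, 1, -2, 1, 0, 0, -1, 0⟩, ⟨-1, 0, -1, 1, 0, 0, 0, 1⟩),
   (⟨-1, 1, -2, 1, 0, 0, 1, 0⟩, ⟨-1, 0, -1, 1, 0, 0, 0, -1⟩), (⟨-1, 1, -1, 0, -2, 1, 0, 0⟩, ⟨-1, 0, 0, 1, -1, 1, 0, 0⟩),
   (⟨-1, 1, -1, 0, 2, -1, 0, 0⟩, ⟨-1, 0, 0, 1, 1, -1, 0, 0⟩), (⟨-1, 1, -1, 1, -1, 1, -1, 1⟩, ⟨-1, 0, -1, 0, -1, 0, -1, 0⟩),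
   (⟨-1, 1, -1, 1, -1, 1, 1, -1⟩, ⟨-1, 0, -1, 0, -1, 0, 1, 0⟩), (⟨-1, 1, -1, 1, 1, -1, -1, 1⟩, ⟨-1, 0, -1, 0, 1, 0, -1, 0⟩),
   (⟨-1, 1, -1, 1, 1, -1, 1, -1⟩, ⟨-1, 0, -1, 0, 1, 0, 1, 0⟩), (⟨-1, 1, 0, 0, -1, 0, -2, 1⟩, ⟨-1, 0, 0, 0, 0, 1, -1, 1⟩),
   (⟨-1, 1, 0, 0, -1, 0, 2, -1⟩, ⟨-1, 0, 0, 0, 0, 1, 1, -1⟩), (⟨-1, 1, 0, 0, 1, 0, -2, 1⟩, ⟨-1, 0, 0, 0, 0, -1, -1, 1⟩),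
   (⟨-1, 1, 0, 0, 1, 0, 2, -1⟩, ⟨-1, 0, 0, 0, 0, -1, 1, -1⟩), (⟨-1, 1, 1, -1, -1, 1, -1, 1⟩, ⟨-1, 0, 1, 0, -1, 0, -1, 0⟩),
   (⟨-1, 1, 1, -1, -1, 1, 1, -1⟩, ⟨-1, 0, 1, 0, -1, 0, 1, 0⟩), (⟨-1, 1, 1, -1, 1, -1, -1, 1⟩, ⟨-1, 0, 1, 0, 1, 0, -1, 0⟩),
   (⟨-1, 1, 1, -1, 1, -1, 1, -1⟩, ⟨-1, 0, 1, 0, 1, 0, 1, 0⟩), (⟨-1, 1, 1, 0, -2, 1, 0, 0⟩, ⟨-1, 0, 0, -1, -1, 1, 0, 0⟩),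
   (⟨-1, 1, 1, 0, 2, -1, 0, 0⟩, ⟨-1, 0, 0, -1, 1, -1, 0, 0⟩), (⟨-1, 1, 2, -1, 0, 0, -1, 0⟩, ⟨-1, 0, 1, -1, 0, 0, 0, 1⟩),
   (⟨-1, 1, 2, -1, 0, 0, 1, 0⟩, ⟨-1, 0, 1, -1, 0, 0, 0, -1⟩), (⟨0, 0, -2, 1, -1, 0, -1, 1⟩, ⟨0, 0, -1, 1, 0, 1, -1, 0⟩),
   (⟨0, 0, -2, 1, -1, 0, 1, -1⟩, ⟨0, 0, -1, 1, 0, 1, 1, 0⟩), (⟨0, 0, -2, 1, 1, 0, -1, 1⟩, ⟨0, 0, -1, 1, 0, -1, -1, 0⟩),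
   (⟨0, 0, -2, 1, 1, 0, 1, -1⟩, ⟨0, 0, -1, 1, 0, -1, 1, 0⟩), (⟨0, 0, -2, 2, 0, 0, 0, 0⟩, ⟨0, 0, -2, 0, 0, 0, 0, 0⟩),
   (⟨0, 0, -1, 0, -1, 1, -2, 1⟩, ⟨0, 0, 0, 1, -1, 0, -1, 1⟩), (⟨0, 0, -1, 0, -1, 1, 2, -1⟩, ⟨0, 0, 0, 1, -1, 0, 1, -1⟩),
   (⟨0, 0, -1, 0, 1, -1, -2, 1⟩, ⟨0, 0, 0, 1, 1, 0, -1, 1⟩), (⟨0, 0, -1, 0, 1, -1, 2, -1⟩, ⟨0, 0, 0, 1, 1, 0, 1, -1⟩),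
   (⟨0, 0, -1, 1, -2, 1, -1, 0⟩, ⟨0, 0, -1, 0, -1, 1, 0, 1⟩), (⟨0, 0, -1, 1, -2, 1, 1, 0⟩, ⟨0, 0, -1, 0, -1, 1, 0, -1⟩),
   (⟨0, 0, -1, 1, 2, -1, -1, 0⟩, ⟨0, 0, -1, 0, 1, -1, 0, 1⟩), (⟨0, 0, -1, 1, 2, -1, 1, 0⟩, ⟨0, 0, -1, 0, 1, -1, 0, -1⟩),
   (⟨0, 0, 0, 0, -2, 2, 0, 0⟩, ⟨0, 0, 0, 0, -2, 0, 0, 0⟩), (⟨0, 0, 0, 0, 0, 0, -2, 2⟩, ⟨0, 0, 0, 0, 0, 0, -2, 0⟩),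
   (⟨0, 0, 0, 0, 0, 0, 2, -2⟩, ⟨0, 0, 0, 0, 0, 0, 2, 0⟩), (⟨0, 0, 0, 0, 2, -2, 0, 0⟩, ⟨0, 0, 0, 0, 2, 0, 0, 0⟩),
   (⟨0, 0, 1, -1, -2, 1, -1, 0⟩, ⟨0, 0, 1, 0, -1, 1, 0, 1⟩), (⟨0, 0, 1, -1, -2, 1, 1, 0⟩, ⟨0, 0, 1, 0, -1, 1, 0, -1⟩),
   (⟨0, 0, 1, -1, 2, -1, -1, 0⟩, ⟨0, 0, 1, 0, 1, -1, 0, 1⟩), (⟨0, 0, 1, -1, 2, -1, 1, 0⟩, ⟨0, 0, 1, 0, 1, -1, 0, -1⟩),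
   (⟨0, 0, 1, 0, -1, 1, -2, 1⟩, ⟨0, 0, 0, -1, -1, 0, -1, 1⟩), (⟨0, 0, 1, 0, -1, 1, 2, -1⟩, ⟨0, 0, 0, -1, -1, 0, 1, -1⟩),
   (⟨0, 0, 1, 0, 1, -1, -2, 1⟩, ⟨0, 0, 0, -1, 1, 0, -1, 1⟩), (⟨0, 0, 1, 0, 1, -1, 2, -1⟩, ⟨0, 0, 0, -1, 1, 0, 1, -1⟩),
   (⟨0, 0, 2, -2, 0, 0, 0, 0⟩, ⟨0, 0, 2, 0, 0, 0, 0, 0⟩), (⟨0, 0, 2, -1, -1, 0, -1, 1⟩, ⟨0, 0, 1, -1, 0, 1, -1, 0⟩),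
   (⟨0, 0, 2, -1, -1, 0, 1, -1⟩, ⟨0, 0, 1, -1, 0, 1, 1, 0⟩), (⟨0, 0, 2, -1, 1, 0, -1, 1⟩, ⟨0, 0, 1, -1, 0, -1, -1, 0⟩),
   (⟨0, 0, 2, -1, 1, 0, 1, -1⟩, ⟨0, 0, 1, -1, 0, -1, 1, 0⟩), (⟨1, -1, -2, 1, 0, 0, -1, 0⟩, ⟨1, 0, -1, 1, 0, 0, 0, 1⟩),
   (⟨1, -1, -2, 1, 0, 0, 1, 0⟩, ⟨1, 0, -1, 1, 0, 0, 0, -1⟩), (⟨1, -1, -1, 0, -2, 1, 0, 0⟩, ⟨1, 0, 0, 1, -1, 1, 0, 0⟩),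
   (⟨1, -1, -1, 0, 2, -1, 0, 0⟩, ⟨1, 0, 0, 1, 1, -1, 0, 0⟩), (⟨1, -1, -1, 1, -1, 1, -1, 1⟩, ⟨1, 0, -1, 0, -1, 0, -1, 0⟩),
   (⟨1, -1, -1, 1, -1, 1, 1, -1⟩, ⟨1, 0, -1, 0, -1, 0, 1, 0⟩), (⟨1, -1, -1, 1, 1, -1, -1, 1⟩, ⟨1, 0, -1, 0, 1, 0, -1, 0⟩),
   (⟨1, -1, -1, 1, 1, -1, 1, -1⟩, ⟨1, 0, -1, 0, 1, 0, 1, 0⟩), (⟨1, -1, 0, 0, -1, 0, -2, 1⟩, ⟨1, 0, 0, 0, 0, 1, -1, 1⟩),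
   (⟨1, -1, 0, 0, -1, 0, 2, -1⟩, ⟨1, 0, 0, 0, 0, 1, 1, -1⟩), (⟨1, -1, 0, 0, 1, 0, -2, 1⟩, ⟨1, 0, 0, 0, 0, -1, -1, 1⟩),
   (⟨1, -1, 0, 0, 1, 0, 2, -1⟩, ⟨1, 0, 0, 0, 0, -1, 1, -1⟩), (⟨1, -1, 1, -1, -1, 1, -1, 1⟩, ⟨1, 0, 1, 0, -1, 0, -1, 0⟩),
   (⟨1, -1, 1, -1, -1, 1, 1, -1⟩, ⟨1, 0, 1, 0, -1, 0, 1, 0⟩), (⟨1, -1, 1, -1, 1, -1, -1, 1⟩, ⟨1, 0, 1, 0, 1, 0, -1, 0⟩),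
   (⟨1, -1, 1, -1, 1, -1, 1, -1⟩, ⟨1, 0, 1, 0, 1, 0, 1, 0⟩), (⟨1, -1, 1, 0, -2, 1, 0, 0⟩, ⟨1, 0, 0, -1, -1, 1, 0, 0⟩),
   (⟨1, -1, 1, 0, 2, -1, 0, 0⟩, ⟨1, 0, 0, -1, 1, -1, 0, 0⟩), (⟨1, -1, 2, -1, 0, 0, -1, 0⟩, ⟨1, 0, 1, -1, 0, 0, 0, 1⟩),
   (⟨1, -1, 2, -1, 0, 0, 1, 0⟩, ⟨1, 0, 1, -1, 0, 0, 0, -1⟩), (⟨1, 0, -2, 1, -1, 1, 0, 0⟩, ⟨0, -1, -1, 1, -1, 0, 0, 0⟩),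
   (⟨1, 0, -2, 1, 1, -1, 0, 0⟩, ⟨0, -1, -1, 1, 1, 0, 0, 0⟩), (⟨1, 0, -1, 1, 0, 0, -2, 1⟩, ⟨0, -1, -1, 0, 0, 0, -1, 1⟩),
   (⟨1, 0, -1, 1, 0, 0, 2, -1⟩, ⟨0, -1, -1, 0, 0, 0, 1, -1⟩), (⟨1, 0, 0, 0, -2, 1, -1, 1⟩, ⟨0, -1, 0, 0, -1, 1, -1, 0⟩),
   (⟨1, 0, 0, 0, -2, 1, 1, -1⟩, ⟨0, -1, 0, 0, -1, 1, 1, 0⟩), (⟨1, 0, 0, 0, 2, -1, -1, 1⟩, ⟨0, -1, 0, 0, 1, -1, -1, 0⟩),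
   (⟨1, 0, 0, 0, 2, -1, 1, -1⟩, ⟨0, -1, 0, 0, 1, -1, 1, 0⟩), (⟨1, 0, 1, -1, 0, 0, -2, 1⟩, ⟨0, -1, 1, 0, 0, 0, -1, 1⟩),
   (⟨1, 0, 1, -1, 0, 0, 2, -1⟩, ⟨0, -1, 1, 0, 0, 0, 1, -1⟩), (⟨1, 0, 2, -1, -1, 1, 0, 0⟩, ⟨0, -1, 1, -1, -1, 0, 0, 0⟩),
   (⟨1, 0, 2, -1, 1, -1, 0, 0⟩, ⟨0, -1, 1, -1, 1, 0, 0, 0⟩), (⟨2, -2, 0, 0, 0, 0, 0, 0⟩, ⟨2, 0, 0, 0, 0, 0, 0, 0⟩),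
   (⟨2, -1, -1, 0, 0, 0, -1, 1⟩, ⟨1, -1, 0, 1, 0, 0, -1, 0⟩), (⟨2, -1, -1, 0, 0, 0, 1, -1⟩, ⟨1, -1, 0, 1, 0, 0, 1, 0⟩),
   (⟨2, -1, -1, 1, -1, 0, 0, 0⟩, ⟨1, -1, -1, 0, 0, 1, 0, 0⟩), (⟨2, -1, -1, 1, 1, 0, 0, 0⟩, ⟨1, -1, -1, 0, 0, -1, 0, 0⟩),
   (⟨2, -1, 0, 0, -1, 1, -1, 0⟩, ⟨1, -1, 0, 0, -1, 0, 0, 1⟩), (⟨2, -1, 0, 0, -1, 1, 1, 0⟩, ⟨1, -1, 0, 0, -1, 0, 0, -1⟩),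
   (⟨2, -1, 0, 0, 1, -1, -1, 0⟩, ⟨1, -1, 0, 0, 1, 0, 0, 1⟩), (⟨2, -1, 0, 0, 1, -1, 1, 0⟩, ⟨1, -1, 0, 0, 1, 0, 0, -1⟩),
   (⟨2, -1, 1, -1, -1, 0, 0, 0⟩, ⟨1, -1, 1, 0, 0, 1, 0, 0⟩), (⟨2, -1, 1, -1, 1, 0, 0, 0⟩, ⟨1, -1, 1, 0, 0, -1, 0, 0⟩),
   (⟨2, -1, 1, 0, 0, 0, -1, 1⟩, ⟨1, -1, 0, -1, 0, 0, -1, 0⟩), (⟨2, -1, 1, 0, 0, 0, 1, -1⟩, ⟨1, -1, 0, -1, 0, 0, 1, 0⟩)]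

/-- all icosians of norm `(8,0)` (i.e. `N = 2`), with a unit `u` and `h ∈ H5` such that `x = u h` -/
def C80 : List (Q8 × Q8 × Q8) :=
  [(⟨-2, 0, -2, 0, 0, 0, 0, 0⟩, ⟨2, 0, 0, 0, 0, 0, 0, 0⟩, ⟨-2, 0, -2, 0, 0, 0, 0, 0⟩),
   (⟨-2, 0, -1, 0, -1, 1, 0, -1⟩, ⟨2, 0, 0, 0, 0, 0, 0, 0⟩, ⟨-2, 0, -1, 0, -1, 1, 0, -1⟩),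
   (⟨-2, 0, -1, 0, -1, 1, 0, 1⟩, ⟨2, 0, 0, 0, 0, 0, 0, 0⟩, ⟨-2, 0, -1, 0, -1, 1, 0, 1⟩),
   (⟨-2, 0, -1, 0, 1, -1, 0, -1⟩, ⟨2, 0, 0, 0, 0, 0, 0, 0⟩, ⟨-2, 0, -1, 0, 1, -1, 0, -1⟩),
   (⟨-2, 0, -1, 0, 1, -1, 0, 1⟩, ⟨2, 0, 0, 0, 0, 0, 0, 0⟩, ⟨-2, 0, -1, 0, 1, -1, 0, 1⟩),
   (⟨-2, 0, -1, 1, 0, -1, -1, 0⟩, ⟨1, 0, 0, -1, -1, 1, 0, 0⟩, ⟨-2, 0, -1, 0, -1, 1, 0, -1⟩),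
   (⟨-2, 0, -1, 1, 0, -1, 1, 0⟩, ⟨1, 0, 0, 0, 0, 1, -1, 1⟩, ⟨-2, 0, -1, 0, -1, 1, 0, 1⟩),
   (⟨-2, 0, -1, 1, 0, 1, -1, 0⟩, ⟨1, 0, 0, 0, 0, -1, 1, -1⟩, ⟨-2, 0, -1, 0, 1, -1, 0, -1⟩),
   (⟨-2, 0, -1, 1, 0, 1, 1, 0⟩, ⟨1, 0, 0, -1, 1, -1, 0, 0⟩, ⟨-2, 0, -1, 0, 1, -1, 0, 1⟩),
   (⟨-2, 0, 0, -1, -1, 0, -1, 1⟩, ⟨1, 0, 0, 0, 0, 1, 1, -1⟩, ⟨-2, 0, -1, 0, -1, 1, 0, -1⟩),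
   (⟨-2, 0, 0, -1, -1, 0, 1, -1⟩, ⟨1, 0, -1, 1, 0, 0, 0, 1⟩, ⟨-2, 0, -1, 0, -1, 1, 0, 1⟩),
   (⟨-2, 0, 0, -1, 1, 0, -1, 1⟩, ⟨1, 0, -1, 1, 0, 0, 0, -1⟩, ⟨-2, 0, -1, 0, 1, -1, 0, -1⟩),
   (⟨-2, 0, 0, -1, 1, 0, 1, -1⟩, ⟨1, 0, 0, 0, 0, -1, -1, 1⟩, ⟨-2, 0, -1, 0, 1, -1, 0, 1⟩),
   (⟨-2, 0, 0, 0, -2, 0, 0, 0⟩, ⟨1, 0, -1, 0, 1, 0, 1, 0⟩, ⟨-2, 0, -2, 0, 0, 0, 0, 0⟩),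
   (⟨-2, 0, 0, 0, 0, 0, -2, 0⟩, ⟨1, 0, -1, 0, -1, 0, 1, 0⟩, ⟨-2, 0, -2, 0, 0, 0, 0, 0⟩),
   (⟨-2, 0, 0, 0, 0, 0, 2, 0⟩, ⟨1, 0, -1, 0, 1, 0, -1, 0⟩, ⟨-2, 0, -2, 0, 0, 0, 0, 0⟩),
   (⟨-2, 0, 0, 0, 2, 0, 0, 0⟩, ⟨1, 0, -1, 0, -1, 0, -1, 0⟩, ⟨-2, 0, -2, 0, 0, 0, 0, 0⟩),
   (⟨-2, 0, 0, 1, -1, 0, -1, 1⟩, ⟨1, 0, -1, 0, 1, 0, 1, 0⟩, ⟨-2, 0, -1, 0, 1, -1, 0, 1⟩),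
   (⟨-2, 0, 0, 1, -1, 0, 1, -1⟩, ⟨1, 0, 0, -1, 1, -1, 0, 0⟩, ⟨-2, 0, -1, 0, 1, -1, 0, -1⟩),
   (⟨-2, 0, 0, 1, 1, 0, -1, 1⟩, ⟨1, 0, 0, -1, -1, 1, 0, 0⟩, ⟨-2, 0, -1, 0, -1, 1, 0, 1⟩),
   (⟨-2, 0, 0, 1, 1, 0, 1, -1⟩, ⟨1, 0, -1, 0, -1, 0, -1, 0⟩, ⟨-2, 0, -1, 0, -1, 1, 0, -1⟩),
   (⟨-2, 0, 1, -1, 0, -1, -1, 0⟩, ⟨1, 0, -1, 1, 0, 0, 0, 1⟩, ⟨-2, 0, -1, 0, 1, -1, 0, 1⟩),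
   (⟨-2, 0, 1, -1, 0, -1, 1, 0⟩, ⟨1, 0, -1, 0, 1, 0, -1, 0⟩, ⟨-2, 0, -1, 0, 1, -1, 0, -1⟩),
   (⟨-2, 0, 1, -1, 0, 1, -1, 0⟩, ⟨1, 0, -1, 0, -1, 0, 1, 0⟩, ⟨-2, 0, -1, 0, -1, 1, 0, 1⟩),
   (⟨-2, 0, 1, -1, 0, 1, 1, 0⟩, ⟨1, 0, -1, 1, 0, 0, 0, -1⟩, ⟨-2, 0, -1, 0, -1, 1, 0, -1⟩),
   (⟨-2, 0, 1, 0, -1, 1, 0, -1⟩, ⟨0, 0, -1, 0, 1, -1, 0, 1⟩, ⟨-2, 0, -1, 0, 1, -1, 0, 1⟩),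
   (⟨-2, 0, 1, 0, -1, 1, 0, 1⟩, ⟨0, 0, -1, 0, 1, -1, 0, -1⟩, ⟨-2, 0, -1, 0, 1, -1, 0, -1⟩),
   (⟨-2, 0, 1, 0, 1, -1, 0, -1⟩, ⟨0, 0, -1, 0, -1, 1, 0, 1⟩, ⟨-2, 0, -1, 0, -1, 1, 0, 1⟩),
   (⟨-2, 0, 1, 0, 1, -1, 0, 1⟩, ⟨0, 0, -1, 0, -1, 1, 0, -1⟩, ⟨-2, 0, -1, 0, -1, 1, 0, -1⟩),
   (⟨-2, 0, 2, 0, 0, 0, 0, 0⟩, ⟨0, 0, -2, 0, 0, 0, 0, 0⟩, ⟨-2, 0, -2, 0, 0, 0, 0, 0⟩),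
   (⟨-2, 1, -1, -1, -1, 0, 0, 0⟩, ⟨1, 0, 0, 1, 1, -1, 0, 0⟩, ⟨-2, 0, -1, 0, 1, -1, 0, 1⟩),
   (⟨-2, 1, -1, -1, 1, 0, 0, 0⟩, ⟨1, 0, 0, 1, -1, 1, 0, 0⟩, ⟨-2, 0, -1, 0, -1, 1, 0, -1⟩),
   (⟨-2, 1, -1, 0, 0, 0, -1, -1⟩, ⟨1, -1, 0, 0, -1, 0, 0, 1⟩, ⟨-2, 0, -1, 0, -1, 1, 0, 1⟩),
   (⟨-2, 1, -1, 0, 0, 0, 1, 1⟩, ⟨1, -1, 0, 0, 1, 0, 0, -1⟩, ⟨-2, 0, -1, 0, 1, -1, 0, -1⟩),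
   (⟨-2, 1, 0, -1, 0, -1, 0, -1⟩, ⟨1, 0, -1, 1, 0, 0, 0, 1⟩, ⟨-2, 0, -2, 0, 0, 0, 0, 0⟩),
   (⟨-2, 1, 0, -1, 0, -1, 0, 1⟩, ⟨1, 0, 0, 1, -1, 1, 0, 0⟩, ⟨-2, 0, -1, 0, -1, 1, 0, 1⟩),
   (⟨-2, 1, 0, -1, 0, 1, 0, -1⟩, ⟨1, 0, 0, 1, 1, -1, 0, 0⟩, ⟨-2, 0, -1, 0, 1, -1, 0, -1⟩),
   (⟨-2, 1, 0, -1, 0, 1, 0, 1⟩, ⟨1, 0, -1, 1, 0, 0, 0, -1⟩, ⟨-2, 0, -2, 0, 0, 0, 0, 0⟩),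
   (⟨-2, 1, 0, 0, -1, -1, -1, 0⟩, ⟨1, 0, -1, 0, 1, 0, 1, 0⟩, ⟨-2, 0, -1, 0, 1, -1, 0, -1⟩),
   (⟨-2, 1, 0, 0, -1, -1, 1, 0⟩, ⟨1, -1, -1, 0, 0, 1, 0, 0⟩, ⟨-2, 0, -1, 0, -1, 1, 0, -1⟩),
   (⟨-2, 1, 0, 0, 1, 1, -1, 0⟩, ⟨1, -1, -1, 0, 0, -1, 0, 0⟩, ⟨-2, 0, -1, 0, 1, -1, 0, 1⟩),
   (⟨-2, 1, 0, 0, 1, 1, 1, 0⟩, ⟨1, 0, -1, 0, -1, 0, -1, 0⟩, ⟨-2, 0, -1, 0, -1, 1, 0, 1⟩),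
   (⟨-2, 1, 0, 1, 0, -1, 0, -1⟩, ⟨1, -1, 0, 0, 1, 0, 0, 1⟩, ⟨-2, 0, -1, 0, 1, -1, 0, 1⟩),
   (⟨-2, 1, 0, 1, 0, -1, 0, 1⟩, ⟨1, -1, -1, 0, 0, 1, 0, 0⟩, ⟨-2, 0, -2, 0, 0, 0, 0, 0⟩),
   (⟨-2, 1, 0, 1, 0, 1, 0, -1⟩, ⟨1, -1, -1, 0, 0, -1, 0, 0⟩, ⟨-2, 0, -2, 0, 0, 0, 0, 0⟩),
   (⟨-2, 1, 0, 1, 0, 1, 0, 1⟩, ⟨1, -1, 0, 0, -1, 0, 0, -1⟩, ⟨-2, 0, -1, 0, -1, 1, 0, -1⟩),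
   (⟨-2, 1, 1, 0, 0, 0, -1, -1⟩, ⟨1, 0, -1, 0, -1, 0, 1, 0⟩, ⟨-2, 0, -1, 0, -1, 1, 0, -1⟩),
   (⟨-2, 1, 1, 0, 0, 0, 1, 1⟩, ⟨1, 0, -1, 0, 1, 0, -1, 0⟩, ⟨-2, 0, -1, 0, 1, -1, 0, 1⟩),
   (⟨-2, 1, 1, 1, -1, 0, 0, 0⟩, ⟨1, -1, -1, 0, 0, 1, 0, 0⟩, ⟨-2, 0, -1, 0, -1, 1, 0, 1⟩),
   (⟨-2, 1, 1, 1, 1, 0, 0, 0⟩, ⟨1, -1, -1, 0, 0, -1, 0, 0⟩, ⟨-2, 0, -1, 0, 1, -1, 0, -1⟩),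
   (⟨-1, -1, -2, 1, 0, 0, -1, 0⟩, ⟨1, 0, 1, -1, 0, 0, 0, 1⟩, ⟨-2, 0, -1, 0, -1, 1, 0, 1⟩),
   (⟨-1, -1, -2, 1, 0, 0, 1, 0⟩, ⟨1, 0, 1, -1, 0, 0, 0, -1⟩, ⟨-2, 0, -1, 0, 1, -1, 0, -1⟩),
   (⟨-1, -1, -1, 0, -2, 1, 0, 0⟩, ⟨0, 1, 0, 0, 1, -1, 1, 0⟩, ⟨-2, 0, -1, 0, 1, -1, 0, 1⟩),
   (⟨-1, -1, -1, 0, 2, -1, 0, 0⟩, ⟨0, 1, 0, 0, -1, 1, -1, 0⟩, ⟨-2, 0, -1, 0, -1, 1, 0, -1⟩),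
   (⟨-1, -1, -1, 1, -1, 1, -1, 1⟩, ⟨1, 0, 1, -1, 0, 0, 0, -1⟩, ⟨-2, 0, -1, 0, -1, 1, 0, -1⟩),
   (⟨-1, -1, -1, 1, -1, 1, 1, -1⟩, ⟨1, 0, 0, -1, 1, -1, 0, 0⟩, ⟨-2, 0, -2, 0, 0, 0, 0, 0⟩),
   (⟨-1, -1, -1, 1, 1, -1, -1, 1⟩, ⟨1, 0, 0, -1, -1, 1, 0, 0⟩, ⟨-2, 0, -2, 0, 0, 0, 0, 0⟩),
   (⟨-1, -1, -1, 1, 1, -1, 1, -1⟩, ⟨1, 0, 1, -1, 0, 0, 0, 1⟩, ⟨-2, 0, -1, 0, 1, -1, 0, 1⟩),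
   (⟨-1, -1, 0, 0, -1, 0, -2, 1⟩, ⟨0, 1, -1, 0, 0, 0, 1, -1⟩, ⟨-2, 0, -1, 0, 1, -1, 0, -1⟩),
   (⟨-1, -1, 0, 0, -1, 0, 2, -1⟩, ⟨1, 0, -1, 0, 1, 0, -1, 0⟩, ⟨-2, 0, -1, 0, -1, 1, 0, -1⟩),
   (⟨-1, -1, 0, 0, 1, 0, -2, 1⟩, ⟨1, 0, -1, 0, -1, 0, 1, 0⟩, ⟨-2, 0, -1, 0, 1, -1, 0, 1⟩),
   (⟨-1, -1, 0, 0, 1, 0, 2, -1⟩, ⟨0, 1, -1, 0, 0, 0, -1, 1⟩, ⟨-2, 0, -1, 0, -1, 1, 0, 1⟩),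
   (⟨-1, -1, 1, -1, -1, 1, -1, 1⟩, ⟨0, 1, -1, 0, 0, 0, 1, -1⟩, ⟨-2, 0, -2, 0, 0, 0, 0, 0⟩),
   (⟨-1, -1, 1, -1, -1, 1, 1, -1⟩, ⟨0, 1, 0, 0, 1, -1, -1, 0⟩, ⟨-2, 0, -1, 0, 1, -1, 0, -1⟩),
   (⟨-1, -1, 1, -1, 1, -1, -1, 1⟩, ⟨0, 1, 0, 0, -1, 1, 1, 0⟩, ⟨-2, 0, -1, 0, -1, 1, 0, 1⟩),
   (⟨-1, -1, 1, -1, 1, -1, 1, -1⟩, ⟨0, 1, -1, 0, 0, 0, -1, 1⟩, ⟨-2, 0, -2, 0, 0, 0, 0, 0⟩),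
   (⟨-1, -1, 1, 0, -2, 1, 0, 0⟩, ⟨1, 0, -1, 0, 1, 0, 1, 0⟩, ⟨-2, 0, -1, 0, -1, 1, 0, 1⟩),
   (⟨-1, -1, 1, 0, 2, -1, 0, 0⟩, ⟨1, 0, -1, 0, -1, 0, -1, 0⟩, ⟨-2, 0, -1, 0, 1, -1, 0, -1⟩),
   (⟨-1, -1, 2, -1, 0, 0, -1, 0⟩, ⟨0, 1, -1, 0, 0, 0, 1, -1⟩, ⟨-2, 0, -1, 0, -1, 1, 0, -1⟩),
   (⟨-1, -1, 2, -1, 0, 0, 1, 0⟩, ⟨0, 1, -1, 0, 0, 0, -1, 1⟩, ⟨-2, 0, -1, 0, 1, -1, 0, 1⟩),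
   (⟨-1, 0, -2, 0, 0, -1, -1, 1⟩, ⟨1, 0, 0, 0, 0, 1, 1, -1⟩, ⟨-2, 0, -1, 0, 1, -1, 0, -1⟩),
   (⟨-1, 0, -2, 0, 0, -1, 1, -1⟩, ⟨1, 0, 0, 0, 0, 1, -1, 1⟩, ⟨-2, 0, -1, 0, -1, 1, 0, -1⟩),
   (⟨-1, 0, -2, 0, 0, 1, -1, 1⟩, ⟨1, 0, 0, 0, 0, -1, 1, -1⟩, ⟨-2, 0, -1, 0, 1, -1, 0, 1⟩),
   (⟨-1, 0, -2, 0, 0, 1, 1, -1⟩, ⟨1, 0, 0, 0, 0, -1, -1, 1⟩, ⟨-2, 0, -1, 0, -1, 1, 0, 1⟩),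
   (⟨-1, 0, -2, 1, -1, -1, 0, 0⟩, ⟨1, 0, 1, 0, 1, 0, 1, 0⟩, ⟨-2, 0, -1, 0, 1, -1, 0, 1⟩),
   (⟨-1, 0, -2, 1, 1, 1, 0, 0⟩, ⟨1, 0, 1, 0, -1, 0, -1, 0⟩, ⟨-2, 0, -1, 0, -1, 1, 0, -1⟩),
   (⟨-1, 0, -1, -1, 0, 0, -2, 1⟩, ⟨1, 0, 1, 0, -1, 0, 1, 0⟩, ⟨-2, 0, -1, 0, -1, 1, 0, 1⟩),
   (⟨-1, 0, -1, -1, 0, 0, 2, -1⟩, ⟨1, 0, 1, 0, 1, 0, -1, 0⟩, ⟨-2, 0, -1, 0, 1, -1, 0, -1⟩),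
   (⟨-1, 0, -1, 0, -1, 0, -1, 2⟩, ⟨1, 0, 0, 0, 0, 1, 1, -1⟩, ⟨-2, 0, -2, 0, 0, 0, 0, 0⟩),
   (⟨-1, 0, -1, 0, -1, 0, 1, -2⟩, ⟨0, 0, 1, 0, 1, -1, 0, 1⟩, ⟨-2, 0, -1, 0, 1, -1, 0, 1⟩),
   (⟨-1, 0, -1, 0, -1, 2, -1, 0⟩, ⟨1, 0, 0, 0, 0, -1, 1, -1⟩, ⟨-2, 0, -2, 0, 0, 0, 0, 0⟩),
   (⟨-1, 0, -1, 0, -1, 2, 1, 0⟩, ⟨0, 0, 1, 0, 1, -1, 0, -1⟩, ⟨-2, 0, -1, 0, 1, -1, 0, -1⟩),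
   (⟨-1, 0, -1, 0, 1, -2, -1, 0⟩, ⟨0, 0, 1, 0, -1, 1, 0, 1⟩, ⟨-2, 0, -1, 0, -1, 1, 0, 1⟩),
   (⟨-1, 0, -1, 0, 1, -2, 1, 0⟩, ⟨1, 0, 0, 0, 0, 1, -1, 1⟩, ⟨-2, 0, -2, 0, 0, 0, 0, 0⟩),
   (⟨-1, 0, -1, 0, 1, 0, -1, 2⟩, ⟨0, 0, 1, 0, -1, 1, 0, -1⟩, ⟨-2, 0, -1, 0, -1, 1, 0, -1⟩),
   (⟨-1, 0, -1, 0, 1, 0, 1, -2⟩, ⟨1, 0, 0, 0, 0, -1, -1, 1⟩, ⟨-2, 0, -2, 0, 0, 0, 0, 0⟩),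
   (⟨-1, 0, -1, 1, -2, 0, 0, -1⟩, ⟨1, -1, 0, 0, 1, 0, 0, 1⟩, ⟨-2, 0, -1, 0, -1, 1, 0, 1⟩),
   (⟨-1, 0, -1, 1, -2, 0, 0, 1⟩, ⟨0, 0, 0, -1, 1, 0, 1, -1⟩, ⟨-2, 0, -1, 0, 1, -1, 0, -1⟩),
   (⟨-1, 0, -1, 1, 2, 0, 0, -1⟩, ⟨0, 0, 0, -1, -1, 0, -1, 1⟩, ⟨-2, 0, -1, 0, -1, 1, 0, 1⟩),
   (⟨-1, 0, -1, 1, 2, 0, 0, 1⟩, ⟨1, -1, 0, 0, -1, 0, 0, -1⟩, ⟨-2, 0, -1, 0, 1, -1, 0, -1⟩),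
   (⟨-1, 0, -1, 2, -1, 0, -1, 0⟩, ⟨1, -1, 0, -1, 0, 0, 1, 0⟩, ⟨-2, 0, -2, 0, 0, 0, 0, 0⟩),
   (⟨-1, 0, -1, 2, -1, 0, 1, 0⟩, ⟨1, -1, 0, -1, 0, 0, -1, 0⟩, ⟨-2, 0, -1, 0, -1, 1, 0, -1⟩),
   (⟨-1, 0, -1, 2, 1, 0, -1, 0⟩, ⟨1, -1, 0, -1, 0, 0, 1, 0⟩, ⟨-2, 0, -1, 0, 1, -1, 0, 1⟩),
   (⟨-1, 0, -1, 2, 1, 0, 1, 0⟩, ⟨1, -1, 0, -1, 0, 0, -1, 0⟩, ⟨-2, 0, -2, 0, 0, 0, 0, 0⟩),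
   (⟨-1, 0, 0, -1, -1, 1, -2, 0⟩, ⟨0, 0, -1, 1, 0, -1, 1, 0⟩, ⟨-2, 0, -1, 0, 1, -1, 0, 1⟩),
   (⟨-1, 0, 0, -1, -1, 1, 2, 0⟩, ⟨0, 1, 0, 0, 1, -1, -1, 0⟩, ⟨-2, 0, -1, 0, 1, -1, 0, 1⟩),
   (⟨-1, 0, 0, -1, 1, -1, -2, 0⟩, ⟨0, 1, 0, 0, -1, 1, 1, 0⟩, ⟨-2, 0, -1, 0, -1, 1, 0, -1⟩),
   (⟨-1, 0, 0, -1, 1, -1, 2, 0⟩, ⟨0, 0, -1, 1, 0, 1, -1, 0⟩, ⟨-2, 0, -1, 0, -1, 1, 0, -1⟩),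
   (⟨-1, 0, 0, 0, -2, 1, -1, -1⟩, ⟨0, 1, 0, 0, 1, -1, 1, 0⟩, ⟨-2, 0, -1, 0, 1, -1, 0, -1⟩),
   (⟨-1, 0, 0, 0, -2, 1, 1, 1⟩, ⟨1, -1, 0, 0, 1, 0, 0, -1⟩, ⟨-2, 0, -1, 0, -1, 1, 0, -1⟩),
   (⟨-1, 0, 0, 0, 2, -1, -1, -1⟩, ⟨1, -1, 0, 0, -1, 0, 0, 1⟩, ⟨-2, 0, -1, 0, 1, -1, 0, 1⟩),
   (⟨-1, 0, 0, 0, 2, -1, 1, 1⟩, ⟨0, 1, 0, 0, -1, 1, -1, 0⟩, ⟨-2, 0, -1, 0, -1, 1, 0, 1⟩),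
   (⟨-1, 0, 0, 1, -1, 1, -2, 0⟩, ⟨1, -1, 0, -1, 0, 0, 1, 0⟩, ⟨-2, 0, -1, 0, -1, 1, 0, 1⟩),
   (⟨-1, 0, 0, 1, -1, 1, 2, 0⟩, ⟨1, 0, -1, 0, 1, 0, -1, 0⟩, ⟨-2, 0, -1, 0, -1, 1, 0, 1⟩),
   (⟨-1, 0, 0, 1, 1, -1, -2, 0⟩, ⟨1, 0, -1, 0, -1, 0, 1, 0⟩, ⟨-2, 0, -1, 0, 1, -1, 0, -1⟩),
   (⟨-1, 0, 0, 1, 1, -1, 2, 0⟩, ⟨1, -1, 0, -1, 0, 0, -1, 0⟩, ⟨-2, 0, -1, 0, 1, -1, 0, -1⟩),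
   (⟨-1, 0, 1, -2, -1, 0, -1, 0⟩, ⟨0, 1, -1, 1, 1, 0, 0, 0⟩, ⟨-2, 0, -1, 0, 1, -1, 0, -1⟩),
   (⟨-1, 0, 1, -2, -1, 0, 1, 0⟩, ⟨0, 1, -1, 1, 1, 0, 0, 0⟩, ⟨-2, 0, -2, 0, 0, 0, 0, 0⟩),
   (⟨-1, 0, 1, -2, 1, 0, -1, 0⟩, ⟨0, 1, -1, 1, -1, 0, 0, 0⟩, ⟨-2, 0, -2, 0, 0, 0, 0, 0⟩),
   (⟨-1, 0, 1, -2, 1, 0, 1, 0⟩, ⟨0, 1, -1, 1, -1, 0, 0, 0⟩, ⟨-2, 0, -1, 0, -1, 1, 0, 1⟩),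
   (⟨-1, 0, 1, -1, -2, 0, 0, -1⟩, ⟨1, 0, -1, 0, 1, 0, 1, 0⟩, ⟨-2, 0, -1, 0, -1, 1, 0, -1⟩),
   (⟨-1, 0, 1, -1, -2, 0, 0, 1⟩, ⟨0, 1, -1, 1, 1, 0, 0, 0⟩, ⟨-2, 0, -1, 0, 1, -1, 0, 1⟩),
   (⟨-1, 0, 1, -1, 2, 0, 0, -1⟩, ⟨0, 1, -1, 1, -1, 0, 0, 0⟩, ⟨-2, 0, -1, 0, -1, 1, 0, -1⟩),
   (⟨-1, 0, 1, -1, 2, 0, 0, 1⟩, ⟨1, 0, -1, 0, -1, 0, -1, 0⟩, ⟨-2, 0, -1, 0, 1, -1, 0, 1⟩),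
   (⟨-1, 0, 1, 0, -1, 0, -1, 2⟩, ⟨1, 0, 0, 0, 0, 1, 1, -1⟩, ⟨-2, 0, -1, 0, -1, 1, 0, 1⟩),
   (⟨-1, 0, 1, 0, -1, 0, 1, -2⟩, ⟨0, 0, -1, 0, 1, -1, 0, 1⟩, ⟨-2, 0, -2, 0, 0, 0, 0, 0⟩),
   (⟨-1, 0, 1, 0, -1, 2, -1, 0⟩, ⟨1, 0, 0, 0, 0, -1, 1, -1⟩, ⟨-2, 0, -1, 0, -1, 1, 0, -1⟩),
   (⟨-1, 0, 1, 0, -1, 2, 1, 0⟩, ⟨0, 0, -1, 0, 1, -1, 0, -1⟩, ⟨-2, 0, -2, 0, 0, 0, 0, 0⟩),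
   (⟨-1, 0, 1, 0, 1, -2, -1, 0⟩, ⟨0, 0, -1, 0, -1, 1, 0, 1⟩, ⟨-2, 0, -2, 0, 0, 0, 0, 0⟩),
   (⟨-1, 0, 1, 0, 1, -2, 1, 0⟩, ⟨1, 0, 0, 0, 0, 1, -1, 1⟩, ⟨-2, 0, -1, 0, 1, -1, 0, 1⟩),
   (⟨-1, 0, 1, 0, 1, 0, -1, 2⟩, ⟨0, 0, -1, 0, -1, 1, 0, -1⟩, ⟨-2, 0, -2, 0, 0, 0, 0, 0⟩),
   (⟨-1, 0, 1, 0, 1, 0, 1, -2⟩, ⟨1, 0, 0, 0, 0, -1, -1, 1⟩, ⟨-2, 0, -1, 0, 1, -1, 0, -1⟩),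
   (⟨-1, 0, 1, 1, 0, 0, -2, 1⟩, ⟨0, 0, 0, -1, -1, 0, 1, -1⟩, ⟨-2, 0, -1, 0, -1, 1, 0, -1⟩),
   (⟨-1, 0, 1, 1, 0, 0, 2, -1⟩, ⟨0, 0, 0, -1, 1, 0, -1, 1⟩, ⟨-2, 0, -1, 0, 1, -1, 0, 1⟩),
   (⟨-1, 0, 2, -1, -1, -1, 0, 0⟩, ⟨0, 0, -1, 1, 0, 1, 1, 0⟩, ⟨-2, 0, -1, 0, -1, 1, 0, 1⟩),
   (⟨-1, 0, 2, -1, 1, 1, 0, 0⟩, ⟨0, 0, -1, 1, 0, -1, -1, 0⟩, ⟨-2, 0, -1, 0, 1, -1, 0, -1⟩),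
   (⟨-1, 0, 2, 0, 0, -1, -1, 1⟩, ⟨0, 0, -2, 0, 0, 0, 0, 0⟩, ⟨-2, 0, -1, 0, 1, -1, 0, -1⟩),
   (⟨-1, 0, 2, 0, 0, -1, 1, -1⟩, ⟨0, 0, -2, 0, 0, 0, 0, 0⟩, ⟨-2, 0, -1, 0, -1, 1, 0, -1⟩),
   (⟨-1, 0, 2, 0, 0, 1, -1, 1⟩, ⟨0, 0, -2, 0, 0, 0, 0, 0⟩, ⟨-2, 0, -1, 0, 1, -1, 0, 1⟩),
   (⟨-1, 0, 2, 0, 0, 1, 1, -1⟩, ⟨0, 0, -2, 0, 0, 0, 0, 0⟩, ⟨-2, 0, -1, 0, -1, 1, 0, 1⟩),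
   (⟨-1, 1, -2, 0, -1, 0, 0, -1⟩, ⟨1, 0, 1, 0, 1, 0, 1, 0⟩, ⟨-2, 0, -1, 0, 1, -1, 0, -1⟩),
   (⟨-1, 1, -2, 0, -1, 0, 0, 1⟩, ⟨1, -1, 1, 0, 0, 1, 0, 0⟩, ⟨-2, 0, -1, 0, -1, 1, 0, -1⟩),
   (⟨-1, 1, -2, 0, 1, 0, 0, -1⟩, ⟨1, -1, 1, 0, 0, -1, 0, 0⟩, ⟨-2, 0, -1, 0, 1, -1, 0, 1⟩),
   (⟨-1, 1, -2, 0, 1, 0, 0, 1⟩, ⟨1, 0, 1, 0, -1, 0, -1, 0⟩, ⟨-2, 0, -1, 0, -1, 1, 0, 1⟩),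
   (⟨-1, 1, -1, -1, -1, 1, -1, 1⟩, ⟨0, 0, 0, 1, 1, 0, 1, -1⟩, ⟨-2, 0, -1, 0, 1, -1, 0, -1⟩),
   (⟨-1, 1, -1, -1, -1, 1, 1, -1⟩, ⟨1, 0, 0, 1, 1, -1, 0, 0⟩, ⟨-2, 0, -2, 0, 0, 0, 0, 0⟩),
   (⟨-1, 1, -1, -1, 1, -1, -1, 1⟩, ⟨1, 0, 0, 1, -1, 1, 0, 0⟩, ⟨-2, 0, -2, 0, 0, 0, 0, 0⟩),
   (⟨-1, 1, -1, -1, 1, -1, 1, -1⟩, ⟨0, 0, 0, 1, -1, 0, -1, 1⟩, ⟨-2, 0, -1, 0, -1, 1, 0, 1⟩),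
   (⟨-1, 1, -1, 0, 0, -1, -2, 0⟩, ⟨1, -1, 0, 1, 0, 0, 1, 0⟩, ⟨-2, 0, -1, 0, 1, -1, 0, 1⟩),
   (⟨-1, 1, -1, 0, 0, -1, 2, 0⟩, ⟨1, 0, 1, 0, 1, 0, -1, 0⟩, ⟨-2, 0, -1, 0, 1, -1, 0, 1⟩),
   (⟨-1, 1, -1, 0, 0, 1, -2, 0⟩, ⟨1, 0, 1, 0, -1, 0, 1, 0⟩, ⟨-2, 0, -1, 0, -1, 1, 0, -1⟩),
   (⟨-1, 1, -1, 0, 0, 1, 2, 0⟩, ⟨1, -1, 0, 1, 0, 0, -1, 0⟩, ⟨-2, 0, -1, 0, -1, 1, 0, -1⟩),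
   (⟨-1, 1, -1, 1, -1, -1, -1, 1⟩, ⟨1, -1, 1, 0, 0, 1, 0, 0⟩, ⟨-2, 0, -1, 0, -1, 1, 0, 1⟩),
   (⟨-1, 1, -1, 1, -1, -1, 1, -1⟩, ⟨1, -1, 0, 0, 1, 0, 0, 1⟩, ⟨-2, 0, -2, 0, 0, 0, 0, 0⟩),
   (⟨-1, 1, -1, 1, -1, 1, -1, -1⟩, ⟨0, -1, 0, 0, 1, -1, 1, 0⟩, ⟨-2, 0, -1, 0, 1, -1, 0, 1⟩),
   (⟨-1, 1, -1, 1, -1, 1, 1, 1⟩, ⟨1, -1, 0, 0, 1, 0, 0, -1⟩, ⟨-2, 0, -2, 0, 0, 0, 0, 0⟩),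
   (⟨-1, 1, -1, 1, 1, -1, -1, -1⟩, ⟨1, -1, 0, 0, -1, 0, 0, 1⟩, ⟨-2, 0, -2, 0, 0, 0, 0, 0⟩),
   (⟨-1, 1, -1, 1, 1, -1, 1, 1⟩, ⟨0, -1, 0, 0, -1, 1, -1, 0⟩, ⟨-2, 0, -1, 0, -1, 1, 0, -1⟩),
   (⟨-1, 1, -1, 1, 1, 1, -1, 1⟩, ⟨1, -1, 0, 0, -1, 0, 0, -1⟩, ⟨-2, 0, -2, 0, 0, 0, 0, 0⟩),
   (⟨-1, 1, -1, 1, 1, 1, 1, -1⟩, ⟨1, -1, 1, 0, 0, -1, 0, 0⟩, ⟨-2, 0, -1, 0, 1, -1, 0, -1⟩),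
   (⟨-1, 1, -1, 2, 0, -1, 0, 0⟩, ⟨1, -1, 0, -1, 0, 0, 1, 0⟩, ⟨-2, 0, -1, 0, 1, -1, 0, -1⟩),
   (⟨-1, 1, -1, 2, 0, 1, 0, 0⟩, ⟨1, -1, 0, -1, 0, 0, -1, 0⟩, ⟨-2, 0, -1, 0, -1, 1, 0, 1⟩),
   (⟨-1, 1, 0, -1, -2, 0, -1, 0⟩, ⟨1, -1, 0, 1, 0, 0, 1, 0⟩, ⟨-2, 0, -1, 0, -1, 1, 0, 1⟩),
   (⟨-1, 1, 0, -1, -2, 0, 1, 0⟩, ⟨0, 0, 0, 0, 2, 0, 0, 0⟩, ⟨-2, 0, -1, 0, 1, -1, 0, -1⟩),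
   (⟨-1, 1, 0, -1, 0, 0, -1, 2⟩, ⟨1, 0, -1, 1, 0, 0, 0, -1⟩, ⟨-2, 0, -1, 0, 1, -1, 0, 1⟩),
   (⟨-1, 1, 0, -1, 0, 0, 1, -2⟩, ⟨1, 0, -1, 1, 0, 0, 0, 1⟩, ⟨-2, 0, -1, 0, -1, 1, 0, -1⟩),
   (⟨-1, 1, 0, -1, 2, 0, -1, 0⟩, ⟨0, 0, 0, 0, -2, 0, 0, 0⟩, ⟨-2, 0, -1, 0, -1, 1, 0, 1⟩),
   (⟨-1, 1, 0, -1, 2, 0, 1, 0⟩, ⟨1, -1, 0, 1, 0, 0, -1, 0⟩, ⟨-2, 0, -1, 0, 1, -1, 0, -1⟩),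
   (⟨-1, 1, 0, 0, -1, 2, 0, -1⟩, ⟨1, -1, -1, 0, 0, -1, 0, 0⟩, ⟨-2, 0, -1, 0, -1, 1, 0, 1⟩),
   (⟨-1, 1, 0, 0, -1, 2, 0, 1⟩, ⟨0, 0, -1, 0, 1, -1, 0, -1⟩, ⟨-2, 0, -1, 0, 1, -1, 0, 1⟩),
   (⟨-1, 1, 0, 0, 1, -2, 0, -1⟩, ⟨0, 0, -1, 0, -1, 1, 0, 1⟩, ⟨-2, 0, -1, 0, -1, 1, 0, -1⟩),
   (⟨-1, 1, 0, 0, 1, -2, 0, 1⟩, ⟨1, -1, -1, 0, 0, 1, 0, 0⟩, ⟨-2, 0, -1, 0, 1, -1, 0, -1⟩),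
   (⟨-1, 1, 0, 1, -2, 0, -1, 0⟩, ⟨1, -1, 0, -1, 0, 0, 1, 0⟩, ⟨-2, 0, -1, 0, -1, 1, 0, -1⟩),
   (⟨-1, 1, 0, 1, -2, 0, 1, 0⟩, ⟨0, 0, 0, 0, 2, 0, 0, 0⟩, ⟨-2, 0, -1, 0, 1, -1, 0, 1⟩),
   (⟨-1, 1, 0, 1, 0, 0, -1, 2⟩, ⟨0, -1, -1, 0, 0, 0, 1, -1⟩, ⟨-2, 0, -1, 0, 1, -1, 0, -1⟩),
   (⟨-1, 1, 0, 1, 0, 0, 1, -2⟩, ⟨0, -1, -1, 0, 0, 0, -1, 1⟩, ⟨-2, 0, -1, 0, -1, 1, 0, 1⟩),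
   (⟨-1, 1, 0, 1, 2, 0, -1, 0⟩, ⟨0, 0, 0, 0, -2, 0, 0, 0⟩, ⟨-2, 0, -1, 0, -1, 1, 0, -1⟩),
   (⟨-1, 1, 0, 1, 2, 0, 1, 0⟩, ⟨1, -1, 0, -1, 0, 0, -1, 0⟩, ⟨-2, 0, -1, 0, 1, -1, 0, 1⟩),
   (⟨-1, 1, 1, -2, 0, -1, 0, 0⟩, ⟨0, 0, -1, 1, 0, 1, 1, 0⟩, ⟨-2, 0, -1, 0, -1, 1, 0, -1⟩),
   (⟨-1, 1, 1, -2, 0, 1, 0, 0⟩, ⟨0, 0, -1, 1, 0, -1, -1, 0⟩, ⟨-2, 0, -1, 0, 1, -1, 0, 1⟩),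
   (⟨-1, 1, 1, -1, -1, -1, -1, 1⟩, ⟨0, 0, -1, 1, 0, 1, 1, 0⟩, ⟨-2, 0, -2, 0, 0, 0, 0, 0⟩),
   (⟨-1, 1, 1, -1, -1, -1, 1, -1⟩, ⟨0, 0, 0, 1, 1, 0, -1, 1⟩, ⟨-2, 0, -1, 0, 1, -1, 0, 1⟩),
   (⟨-1, 1, 1, -1, -1, 1, -1, -1⟩, ⟨0, 0, -1, 1, 0, -1, 1, 0⟩, ⟨-2, 0, -2, 0, 0, 0, 0, 0⟩),
   (⟨-1, 1, 1, -1, -1, 1, 1, 1⟩, ⟨1, 0, -1, 1, 0, 0, 0, -1⟩, ⟨-2, 0, -1, 0, -1, 1, 0, 1⟩),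
   (⟨-1, 1, 1, -1, 1, -1, -1, -1⟩, ⟨1, 0, -1, 1, 0, 0, 0, 1⟩, ⟨-2, 0, -1, 0, 1, -1, 0, -1⟩),
   (⟨-1, 1, 1, -1, 1, -1, 1, 1⟩, ⟨0, 0, -1, 1, 0, 1, -1, 0⟩, ⟨-2, 0, -2, 0, 0, 0, 0, 0⟩),
   (⟨-1, 1, 1, -1, 1, 1, -1, 1⟩, ⟨0, 0, 0, 1, -1, 0, 1, -1⟩, ⟨-2, 0, -1, 0, -1, 1, 0, -1⟩),
   (⟨-1, 1, 1, -1, 1, 1, 1, -1⟩, ⟨0, 0, -1, 1, 0, -1, -1, 0⟩, ⟨-2, 0, -2, 0, 0, 0, 0, 0⟩),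
   (⟨-1, 1, 1, 0, 0, -1, -2, 0⟩, ⟨0, -1, 0, 0, -1, 1, 1, 0⟩, ⟨-2, 0, -1, 0, -1, 1, 0, 1⟩),
   (⟨-1, 1, 1, 0, 0, -1, 2, 0⟩, ⟨0, 0, -1, 1, 0, 1, -1, 0⟩, ⟨-2, 0, -1, 0, -1, 1, 0, 1⟩),
   (⟨-1, 1, 1, 0, 0, 1, -2, 0⟩, ⟨0, 0, -1, 1, 0, -1, 1, 0⟩, ⟨-2, 0, -1, 0, 1, -1, 0, -1⟩),
   (⟨-1, 1, 1, 0, 0, 1, 2, 0⟩, ⟨0, -1, 0, 0, 1, -1, -1, 0⟩, ⟨-2, 0, -1, 0, 1, -1, 0, -1⟩),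
   (⟨-1, 1, 1, 1, -1, 1, -1, 1⟩, ⟨0, -1, -1, 0, 0, 0, 1, -1⟩, ⟨-2, 0, -2, 0, 0, 0, 0, 0⟩),
   (⟨-1, 1, 1, 1, -1, 1, 1, -1⟩, ⟨1, -1, -1, 0, 0, -1, 0, 0⟩, ⟨-2, 0, -1, 0, -1, 1, 0, -1⟩),
   (⟨-1, 1, 1, 1, 1, -1, -1, 1⟩, ⟨1, -1, -1, 0, 0, 1, 0, 0⟩, ⟨-2, 0, -1, 0, 1, -1, 0, 1⟩),
   (⟨-1, 1, 1, 1, 1, -1, 1, -1⟩, ⟨0, -1, -1, 0, 0, 0, -1, 1⟩, ⟨-2, 0, -2, 0, 0, 0, 0, 0⟩),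
   (⟨-1, 1, 2, 0, -1, 0, 0, -1⟩, ⟨0, 0, -1, 0, 1, -1, 0, 1⟩, ⟨-2, 0, -1, 0, 1, -1, 0, -1⟩),
   (⟨-1, 1, 2, 0, -1, 0, 0, 1⟩, ⟨0, -1, -1, 0, 0, 0, 1, -1⟩, ⟨-2, 0, -1, 0, -1, 1, 0, -1⟩),
   (⟨-1, 1, 2, 0, 1, 0, 0, -1⟩, ⟨0, -1, -1, 0, 0, 0, -1, 1⟩, ⟨-2, 0, -1, 0, 1, -1, 0, 1⟩),
   (⟨-1, 1, 2, 0, 1, 0, 0, 1⟩, ⟨0, 0, -1, 0, -1, 1, 0, -1⟩, ⟨-2, 0, -1, 0, -1, 1, 0, 1⟩),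
   (⟨-1, 2, -1, 0, -1, 0, -1, 0⟩, ⟨1, -1, 0, 1, 0, 0, 1, 0⟩, ⟨-2, 0, -2, 0, 0, 0, 0, 0⟩),
   (⟨-1, 2, -1, 0, -1, 0, 1, 0⟩, ⟨1, -1, 0, 1, 0, 0, -1, 0⟩, ⟨-2, 0, -1, 0, -1, 1, 0, 1⟩),
   (⟨-1, 2, -1, 0, 1, 0, -1, 0⟩, ⟨1, -1, 0, 1, 0, 0, 1, 0⟩, ⟨-2, 0, -1, 0, 1, -1, 0, -1⟩),
   (⟨-1, 2, -1, 0, 1, 0, 1, 0⟩, ⟨1, -1, 0, 1, 0, 0, -1, 0⟩, ⟨-2, 0, -2, 0, 0, 0, 0, 0⟩),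
   (⟨-1, 2, -1, 1, 0, 0, 0, -1⟩, ⟨1, -1, 0, 0, -1, 0, 0, 1⟩, ⟨-2, 0, -1, 0, -1, 1, 0, -1⟩),
   (⟨-1, 2, -1, 1, 0, 0, 0, 1⟩, ⟨1, -1, 0, 0, 1, 0, 0, -1⟩, ⟨-2, 0, -1, 0, 1, -1, 0, 1⟩),
   (⟨-1, 2, 0, -1, -1, 1, 0, 0⟩, ⟨1, -1, 0, 1, 0, 0, 1, 0⟩, ⟨-2, 0, -1, 0, -1, 1, 0, -1⟩),
   (⟨-1, 2, 0, -1, 1, -1, 0, 0⟩, ⟨1, -1, 0, 1, 0, 0, -1, 0⟩, ⟨-2, 0, -1, 0, 1, -1, 0, 1⟩),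
   (⟨-1, 2, 0, 0, 0, -1, -1, 1⟩, ⟨0, -1, 0, 0, -1, 1, 1, 0⟩, ⟨-2, 0, -1, 0, -1, 1, 0, -1⟩),
   (⟨-1, 2, 0, 0, 0, -1, 1, -1⟩, ⟨1, -1, 0, 0, 1, 0, 0, 1⟩, ⟨-2, 0, -1, 0, 1, -1, 0, -1⟩),
   (⟨-1, 2, 0, 0, 0, 1, -1, 1⟩, ⟨1, -1, 0, 0, -1, 0, 0, -1⟩, ⟨-2, 0, -1, 0, -1, 1, 0, 1⟩),
   (⟨-1, 2, 0, 0, 0, 1, 1, -1⟩, ⟨0, -1, 0, 0, 1, -1, -1, 0⟩, ⟨-2, 0, -1, 0, 1, -1, 0, 1⟩),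
   (⟨-1, 2, 0, 1, -1, 1, 0, 0⟩, ⟨0, -1, 0, 0, 1, -1, 1, 0⟩, ⟨-2, 0, -1, 0, 1, -1, 0, -1⟩),
   (⟨-1, 2, 0, 1, 1, -1, 0, 0⟩, ⟨0, -1, 0, 0, -1, 1, -1, 0⟩, ⟨-2, 0, -1, 0, -1, 1, 0, 1⟩),
   (⟨-1, 2, 1, -1, 0, 0, 0, -1⟩, ⟨0, -1, -1, 1, -1, 0, 0, 0⟩, ⟨-2, 0, -1, 0, -1, 1, 0, 1⟩),
   (⟨-1, 2, 1, -1, 0, 0, 0, 1⟩, ⟨0, -1, -1, 1, 1, 0, 0, 0⟩, ⟨-2, 0, -1, 0, 1, -1, 0, -1⟩),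
   (⟨-1, 2, 1, 0, -1, 0, -1, 0⟩, ⟨0, -1, -1, 1, 1, 0, 0, 0⟩, ⟨-2, 0, -1, 0, 1, -1, 0, 1⟩),
   (⟨-1, 2, 1, 0, -1, 0, 1, 0⟩, ⟨0, -1, -1, 1, 1, 0, 0, 0⟩, ⟨-2, 0, -2, 0, 0, 0, 0, 0⟩),
   (⟨-1, 2, 1, 0, 1, 0, -1, 0⟩, ⟨0, -1, -1, 1, -1, 0, 0, 0⟩, ⟨-2, 0, -2, 0, 0, 0, 0, 0⟩),
   (⟨-1, 2, 1, 0, 1, 0, 1, 0⟩, ⟨0, -1, -1, 1, -1, 0, 0, 0⟩, ⟨-2, 0, -1, 0, -1, 1, 0, -1⟩),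
   (⟨0, -1, -2, 0, -1, 1, -1, 0⟩, ⟨0, 1, 1, 0, 0, 0, 1, -1⟩, ⟨-2, 0, -1, 0, 1, -1, 0, -1⟩),
   (⟨0, -1, -2, 0, -1, 1, 1, 0⟩, ⟨1, 0, 1, 0, 1, 0, -1, 0⟩, ⟨-2, 0, -1, 0, -1, 1, 0, -1⟩),
   (⟨0, -1, -2, 0, 1, -1, -1, 0⟩, ⟨1, 0, 1, 0, -1, 0, 1, 0⟩, ⟨-2, 0, -1, 0, 1, -1, 0, 1⟩),
   (⟨0, -1, -2, 0, 1, -1, 1, 0⟩, ⟨0, 1, 1, 0, 0, 0, -1, 1⟩, ⟨-2, 0, -1, 0, -1, 1, 0, 1⟩),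
   (⟨0, -1, -2, 1, 0, -1, 0, -1⟩, ⟨1, 0, 1, -1, 0, 0, 0, 1⟩, ⟨-2, 0, -2, 0, 0, 0, 0, 0⟩),
   (⟨0, -1, -2, 1, 0, -1, 0, 1⟩, ⟨0, 0, 1, -1, 0, 1, -1, 0⟩, ⟨-2, 0, -1, 0, -1, 1, 0, -1⟩),
   (⟨0, -1, -2, 1, 0, 1, 0, -1⟩, ⟨0, 0, 1, -1, 0, -1, 1, 0⟩, ⟨-2, 0, -1, 0, 1, -1, 0, 1⟩),
   (⟨0, -1, -2, 1, 0, 1, 0, 1⟩, ⟨1, 0, 1, -1, 0, 0, 0, -1⟩, ⟨-2, 0, -2, 0, 0, 0, 0, 0⟩),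
   (⟨0, -1, -1, 0, -2, 0, -1, 1⟩, ⟨1, 0, 1, 0, 1, 0, 1, 0⟩, ⟨-2, 0, -1, 0, -1, 1, 0, 1⟩),
   (⟨0, -1, -1, 0, -2, 0, 1, -1⟩, ⟨0, 1, 1, -1, 1, 0, 0, 0⟩, ⟨-2, 0, -1, 0, 1, -1, 0, -1⟩),
   (⟨0, -1, -1, 0, 2, 0, -1, 1⟩, ⟨0, 1, 1, -1, -1, 0, 0, 0⟩, ⟨-2, 0, -1, 0, -1, 1, 0, 1⟩),
   (⟨0, -1, -1, 0, 2, 0, 1, -1⟩, ⟨1, 0, 1, 0, -1, 0, -1, 0⟩, ⟨-2, 0, -1, 0, 1, -1, 0, -1⟩),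
   (⟨0, -1, -1, 1, -1, 0, -2, 0⟩, ⟨0, 0, 0, 0, 0, 0, 2, 0⟩, ⟨-2, 0, -1, 0, 1, -1, 0, 1⟩),
   (⟨0, -1, -1, 1, -1, 0, 2, 0⟩, ⟨0, 1, 1, -1, 1, 0, 0, 0⟩, ⟨-2, 0, -1, 0, 1, -1, 0, 1⟩),
   (⟨0, -1, -1, 1, -1, 2, 0, 0⟩, ⟨1, 0, 0, -1, 1, -1, 0, 0⟩, ⟨-2, 0, -1, 0, -1, 1, 0, 1⟩),
   (⟨0, -1, -1, 1, 1, -2, 0, 0⟩, ⟨1, 0, 0, -1, -1, 1, 0, 0⟩, ⟨-2, 0, -1, 0, 1, -1, 0, -1⟩),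
   (⟨0, -1, -1, 1, 1, 0, -2, 0⟩, ⟨0, 1, 1, -1, -1, 0, 0, 0⟩, ⟨-2, 0, -1, 0, -1, 1, 0, -1⟩),
   (⟨0, -1, -1, 1, 1, 0, 2, 0⟩, ⟨0, 0, 0, 0, 0, 0, -2, 0⟩, ⟨-2, 0, -1, 0, -1, 1, 0, -1⟩),
   (⟨0, -1, -1, 2, 0, 0, -1, 1⟩, ⟨0, 0, 0, -1, -1, 0, 1, -1⟩, ⟨-2, 0, -1, 0, 1, -1, 0, -1⟩),
   (⟨0, -1, -1, 2, 0, 0, 1, -1⟩, ⟨0, 0, 0, -1, 1, 0, -1, 1⟩, ⟨-2, 0, -1, 0, -1, 1, 0, 1⟩),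
   (⟨0, -1, 0, -1, -2, 1, 0, -1⟩, ⟨0, 1, 0, 0, 1, -1, 1, 0⟩, ⟨-2, 0, -2, 0, 0, 0, 0, 0⟩),
   (⟨0, -1, 0, -1, -2, 1, 0, 1⟩, ⟨-1, 1, 0, 0, 1, 0, 0, -1⟩, ⟨-2, 0, -1, 0, 1, -1, 0, -1⟩),
   (⟨0, -1, 0, -1, 0, -1, -2, 1⟩, ⟨0, 1, 0, 0, -1, 1, 1, 0⟩, ⟨-2, 0, -2, 0, 0, 0, 0, 0⟩),
   (⟨0, -1, 0, -1, 0, -1, 2, -1⟩, ⟨0, 1, 1, 0, 0, 0, -1, 1⟩, ⟨-2, 0, -1, 0, 1, -1, 0, 1⟩),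
   (⟨0, -1, 0, -1, 0, 1, -2, 1⟩, ⟨0, 1, 1, 0, 0, 0, 1, -1⟩, ⟨-2, 0, -1, 0, -1, 1, 0, -1⟩),
   (⟨0, -1, 0, -1, 0, 1, 2, -1⟩, ⟨0, 1, 0, 0, 1, -1, -1, 0⟩, ⟨-2, 0, -2, 0, 0, 0, 0, 0⟩),
   (⟨0, -1, 0, -1, 2, -1, 0, -1⟩, ⟨-1, 1, 0, 0, -1, 0, 0, 1⟩, ⟨-2, 0, -1, 0, -1, 1, 0, 1⟩),
   (⟨0, -1, 0, -1, 2, -1, 0, 1⟩, ⟨0, 1, 0, 0, -1, 1, -1, 0⟩, ⟨-2, 0, -2, 0, 0, 0, 0, 0⟩),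
   (⟨0, -1, 0, 0, -1, 1, -1, 2⟩, ⟨0, 1, -1, 0, 0, 0, 1, -1⟩, ⟨-2, 0, -1, 0, 1, -1, 0, 1⟩),
   (⟨0, -1, 0, 0, -1, 1, 1, -2⟩, ⟨0, 0, -1, 0, 1, -1, 0, 1⟩, ⟨-2, 0, -1, 0, -1, 1, 0, 1⟩),
   (⟨0, -1, 0, 0, 1, -1, -1, 2⟩, ⟨0, 0, -1, 0, -1, 1, 0, -1⟩, ⟨-2, 0, -1, 0, 1, -1, 0, -1⟩),
   (⟨0, -1, 0, 0, 1, -1, 1, -2⟩, ⟨0, 1, -1, 0, 0, 0, -1, 1⟩, ⟨-2, 0, -1, 0, -1, 1, 0, -1⟩),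
   (⟨0, -1, 0, 1, -2, 1, 0, -1⟩, ⟨1, 0, 0, -1, 1, -1, 0, 0⟩, ⟨-2, 0, -1, 0, -1, 1, 0, -1⟩),
   (⟨0, -1, 0, 1, -2, 1, 0, 1⟩, ⟨0, 0, 0, -1, 1, 0, 1, -1⟩, ⟨-2, 0, -2, 0, 0, 0, 0, 0⟩),
   (⟨0, -1, 0, 1, 0, -1, -2, 1⟩, ⟨0, 0, 1, -1, 0, 1, 1, 0⟩, ⟨-2, 0, -1, 0, -1, 1, 0, 1⟩),
   (⟨0, -1, 0, 1, 0, -1, 2, -1⟩, ⟨0, 0, 0, -1, 1, 0, -1, 1⟩, ⟨-2, 0, -2, 0, 0, 0, 0, 0⟩),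
   (⟨0, -1, 0, 1, 0, 1, -2, 1⟩, ⟨0, 0, 0, -1, -1, 0, 1, -1⟩, ⟨-2, 0, -2, 0, 0, 0, 0, 0⟩),
   (⟨0, -1, 0, 1, 0, 1, 2, -1⟩, ⟨0, 0, 1, -1, 0, -1, -1, 0⟩, ⟨-2, 0, -1, 0, 1, -1, 0, -1⟩),
   (⟨0, -1, 0, 1, 2, -1, 0, -1⟩, ⟨0, 0, 0, -1, -1, 0, -1, 1⟩, ⟨-2, 0, -2, 0, 0, 0, 0, 0⟩),
   (⟨0, -1, 0, 1, 2, -1, 0, 1⟩, ⟨1, 0, 0, -1, -1, 1, 0, 0⟩, ⟨-2, 0, -1, 0, 1, -1, 0, 1⟩),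
   (⟨0, -1, 1, -2, 0, 0, -1, 1⟩, ⟨0, 1, -1, 1, -1, 0, 0, 0⟩, ⟨-2, 0, -1, 0, 1, -1, 0, 1⟩),
   (⟨0, -1, 1, -2, 0, 0, 1, -1⟩, ⟨0, 1, -1, 1, 1, 0, 0, 0⟩, ⟨-2, 0, -1, 0, -1, 1, 0, -1⟩),
   (⟨0, -1, 1, -1, -1, 0, -2, 0⟩, ⟨0, 0, 0, 0, 0, 0, 2, 0⟩, ⟨-2, 0, -1, 0, -1, 1, 0, 1⟩),
   (⟨0, -1, 1, -1, -1, 0, 2, 0⟩, ⟨0, 1, -1, 1, 1, 0, 0, 0⟩, ⟨-2, 0, -1, 0, -1, 1, 0, 1⟩),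
   (⟨0, -1, 1, -1, -1, 2, 0, 0⟩, ⟨-1, 1, -1, 0, 0, -1, 0, 0⟩, ⟨-2, 0, -1, 0, 1, -1, 0, 1⟩),
   (⟨0, -1, 1, -1, 1, -2, 0, 0⟩, ⟨-1, 1, -1, 0, 0, 1, 0, 0⟩, ⟨-2, 0, -1, 0, -1, 1, 0, -1⟩),
   (⟨0, -1, 1, -1, 1, 0, -2, 0⟩, ⟨0, 1, -1, 1, -1, 0, 0, 0⟩, ⟨-2, 0, -1, 0, 1, -1, 0, -1⟩),
   (⟨0, -1, 1, -1, 1, 0, 2, 0⟩, ⟨0, 0, 0, 0, 0, 0, -2, 0⟩, ⟨-2, 0, -1, 0, 1, -1, 0, -1⟩),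
   (⟨0, -1, 1, 0, -2, 0, -1, 1⟩, ⟨0, 0, 0, -1, 1, 0, 1, -1⟩, ⟨-2, 0, -1, 0, -1, 1, 0, -1⟩),
   (⟨0, -1, 1, 0, -2, 0, 1, -1⟩, ⟨-1, 1, 0, 0, 1, 0, 0, 1⟩, ⟨-2, 0, -1, 0, 1, -1, 0, 1⟩),
   (⟨0, -1, 1, 0, 2, 0, -1, 1⟩, ⟨-1, 1, 0, 0, -1, 0, 0, -1⟩, ⟨-2, 0, -1, 0, -1, 1, 0, -1⟩),
   (⟨0, -1, 1, 0, 2, 0, 1, -1⟩, ⟨0, 0, 0, -1, -1, 0, -1, 1⟩, ⟨-2, 0, -1, 0, 1, -1, 0, 1⟩),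
   (⟨0, -1, 2, -1, 0, -1, 0, -1⟩, ⟨0, 1, -1, 0, 0, 0, -1, 1⟩, ⟨-2, 0, -1, 0, 1, -1, 0, -1⟩),
   (⟨0, -1, 2, -1, 0, -1, 0, 1⟩, ⟨-1, 1, -1, 0, 0, 1, 0, 0⟩, ⟨-2, 0, -2, 0, 0, 0, 0, 0⟩),
   (⟨0, -1, 2, -1, 0, 1, 0, -1⟩, ⟨-1, 1, -1, 0, 0, -1, 0, 0⟩, ⟨-2, 0, -2, 0, 0, 0, 0, 0⟩),
   (⟨0, -1, 2, -1, 0, 1, 0, 1⟩, ⟨0, 1, -1, 0, 0, 0, 1, -1⟩, ⟨-2, 0, -1, 0, -1, 1, 0, 1⟩),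
   (⟨0, -1, 2, 0, -1, 1, -1, 0⟩, ⟨-1, 1, -1, 0, 0, -1, 0, 0⟩, ⟨-2, 0, -1, 0, 1, -1, 0, -1⟩),
   (⟨0, -1, 2, 0, -1, 1, 1, 0⟩, ⟨0, 0, -1, 0, 1, -1, 0, -1⟩, ⟨-2, 0, -1, 0, -1, 1, 0, -1⟩),
   (⟨0, -1, 2, 0, 1, -1, -1, 0⟩, ⟨0, 0, -1, 0, -1, 1, 0, 1⟩, ⟨-2, 0, -1, 0, 1, -1, 0, 1⟩),
   (⟨0, -1, 2, 0, 1, -1, 1, 0⟩, ⟨-1, 1, -1, 0, 0, 1, 0, 0⟩, ⟨-2, 0, -1, 0, -1, 1, 0, 1⟩),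
   (⟨0, 0, -2, 0, -2, 0, 0, 0⟩, ⟨1, 0, 1, 0, 1, 0, 1, 0⟩, ⟨-2, 0, -2, 0, 0, 0, 0, 0⟩),
   (⟨0, 0, -2, 0, 0, 0, -2, 0⟩, ⟨1, 0, 1, 0, -1, 0, 1, 0⟩, ⟨-2, 0, -2, 0, 0, 0, 0, 0⟩),
   (⟨0, 0, -2, 0, 0, 0, 2, 0⟩, ⟨1, 0, 1, 0, 1, 0, -1, 0⟩, ⟨-2, 0, -2, 0, 0, 0, 0, 0⟩),
   (⟨0, 0, -2, 0, 2, 0, 0, 0⟩, ⟨1, 0, 1, 0, -1, 0, -1, 0⟩, ⟨-2, 0, -2, 0, 0, 0, 0, 0⟩),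
   (⟨0, 0, -2, 1, -1, 0, -1, -1⟩, ⟨1, 0, 1, -1, 0, 0, 0, 1⟩, ⟨-2, 0, -1, 0, -1, 1, 0, -1⟩),
   (⟨0, 0, -2, 1, -1, 0, 1, 1⟩, ⟨1, 0, 1, 0, 1, 0, -1, 0⟩, ⟨-2, 0, -1, 0, -1, 1, 0, 1⟩),
   (⟨0, 0, -2, 1, 1, 0, -1, -1⟩, ⟨1, 0, 1, 0, -1, 0, 1, 0⟩, ⟨-2, 0, -1, 0, 1, -1, 0, -1⟩),
   (⟨0, 0, -2, 1, 1, 0, 1, 1⟩, ⟨1, 0, 1, -1, 0, 0, 0, -1⟩, ⟨-2, 0, -1, 0, 1, -1, 0, 1⟩),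
   (⟨0, 0, -1, -1, -2, 1, -1, 0⟩, ⟨1, 0, 1, 0, 1, 0, 1, 0⟩, ⟨-2, 0, -1, 0, -1, 1, 0, -1⟩),
   (⟨0, 0, -1, -1, -2, 1, 1, 0⟩, ⟨1, 0, 0, 1, 1, -1, 0, 0⟩, ⟨-2, 0, -1, 0, -1, 1, 0, 1⟩),
   (⟨0, 0, -1, -1, 2, -1, -1, 0⟩, ⟨1, 0, 0, 1, -1, 1, 0, 0⟩, ⟨-2, 0, -1, 0, 1, -1, 0, -1⟩),
   (⟨0, 0, -1, -1, 2, -1, 1, 0⟩, ⟨1, 0, 1, 0, -1, 0, -1, 0⟩, ⟨-2, 0, -1, 0, 1, -1, 0, 1⟩),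
   (⟨0, 0, -1, 0, -1, -1, -2, 1⟩, ⟨0, 0, 1, -1, 0, 1, 1, 0⟩, ⟨-2, 0, -1, 0, -1, 1, 0, -1⟩),
   (⟨0, 0, -1, 0, -1, -1, 2, -1⟩, ⟨0, 0, 0, 1, 1, 0, -1, 1⟩, ⟨-2, 0, -1, 0, -1, 1, 0, 1⟩),
   (⟨0, 0, -1, 0, 1, 1, -2, 1⟩, ⟨0, 0, 0, 1, -1, 0, 1, -1⟩, ⟨-2, 0, -1, 0, 1, -1, 0, -1⟩),
   (⟨0, 0, -1, 0, 1, 1, 2, -1⟩, ⟨0, 0, 1, -1, 0, -1, -1, 0⟩, ⟨-2, 0, -1, 0, 1, -1, 0, 1⟩),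
   (⟨0, 0, -1, 1, 0, -1, -1, 2⟩, ⟨1, 0, 0, 0, 0, 1, 1, -1⟩, ⟨-2, 0, -1, 0, 1, -1, 0, 1⟩),
   (⟨0, 0, -1, 1, 0, -1, 1, -2⟩, ⟨1, 0, 1, -1, 0, 0, 0, 1⟩, ⟨-2, 0, -1, 0, 1, -1, 0, -1⟩),
   (⟨0, 0, -1, 1, 0, 1, -1, 2⟩, ⟨1, 0, 1, -1, 0, 0, 0, -1⟩, ⟨-2, 0, -1, 0, -1, 1, 0, 1⟩),
   (⟨0, 0, -1, 1, 0, 1, 1, -2⟩, ⟨1, 0, 0, 0, 0, -1, -1, 1⟩, ⟨-2, 0, -1, 0, -1, 1, 0, -1⟩),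
   (⟨0, 0, -1, 2, -1, 1, 0, -1⟩, ⟨0, 0, 1, -1, 0, -1, 1, 0⟩, ⟨-2, 0, -1, 0, 1, -1, 0, -1⟩),
   (⟨0, 0, -1, 2, -1, 1, 0, 1⟩, ⟨0, 0, 0, -1, 1, 0, 1, -1⟩, ⟨-2, 0, -1, 0, 1, -1, 0, 1⟩),
   (⟨0, 0, -1, 2, 1, -1, 0, -1⟩, ⟨0, 0, 0, -1, -1, 0, -1, 1⟩, ⟨-2, 0, -1, 0, -1, 1, 0, -1⟩),
   (⟨0, 0, -1, 2, 1, -1, 0, 1⟩, ⟨0, 0, 1, -1, 0, 1, -1, 0⟩, ⟨-2, 0, -1, 0, -1, 1, 0, 1⟩),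
   (⟨0, 0, 0, -1, -1, 2, -1, 1⟩, ⟨1, 0, 0, 0, 0, -1, 1, -1⟩, ⟨-2, 0, -1, 0, -1, 1, 0, 1⟩),
   (⟨0, 0, 0, -1, -1, 2, 1, -1⟩, ⟨1, 0, 0, 1, 1, -1, 0, 0⟩, ⟨-2, 0, -1, 0, -1, 1, 0, -1⟩),
   (⟨0, 0, 0, -1, 1, -2, -1, 1⟩, ⟨1, 0, 0, 1, -1, 1, 0, 0⟩, ⟨-2, 0, -1, 0, 1, -1, 0, 1⟩),
   (⟨0, 0, 0, -1, 1, -2, 1, -1⟩, ⟨1, 0, 0, 0, 0, 1, -1, 1⟩, ⟨-2, 0, -1, 0, 1, -1, 0, -1⟩),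
   (⟨0, 0, 0, 0, -2, 0, -2, 0⟩, ⟨0, 0, 0, 0, 0, 0, 2, 0⟩, ⟨-2, 0, -2, 0, 0, 0, 0, 0⟩),
   (⟨0, 0, 0, 0, -2, 0, 2, 0⟩, ⟨0, 0, 0, 0, 2, 0, 0, 0⟩, ⟨-2, 0, -2, 0, 0, 0, 0, 0⟩),
   (⟨0, 0, 0, 0, 2, 0, -2, 0⟩, ⟨0, 0, 0, 0, -2, 0, 0, 0⟩, ⟨-2, 0, -2, 0, 0, 0, 0, 0⟩),
   (⟨0, 0, 0, 0, 2, 0, 2, 0⟩, ⟨0, 0, 0, 0, 0, 0, -2, 0⟩, ⟨-2, 0, -2, 0, 0, 0, 0, 0⟩),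
   (⟨0, 0, 0, 1, -1, 2, -1, 1⟩, ⟨-1, 0, 0, 0, 0, -1, 1, -1⟩, ⟨-2, 0, -1, 0, 1, -1, 0, -1⟩),
   (⟨0, 0, 0, 1, -1, 2, 1, -1⟩, ⟨-1, 0, 0, -1, 1, -1, 0, 0⟩, ⟨-2, 0, -1, 0, 1, -1, 0, 1⟩),
   (⟨0, 0, 0, 1, 1, -2, -1, 1⟩, ⟨-1, 0, 0, -1, -1, 1, 0, 0⟩, ⟨-2, 0, -1, 0, -1, 1, 0, -1⟩),
   (⟨0, 0, 0, 1, 1, -2, 1, -1⟩, ⟨-1, 0, 0, 0, 0, 1, -1, 1⟩, ⟨-2, 0, -1, 0, -1, 1, 0, 1⟩),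
   (⟨0, 0, 1, -2, -1, 1, 0, -1⟩, ⟨0, 0, -1, 1, 0, -1, 1, 0⟩, ⟨-2, 0, -1, 0, -1, 1, 0, 1⟩),
   (⟨0, 0, 1, -2, -1, 1, 0, 1⟩, ⟨0, 0, 0, 1, 1, 0, 1, -1⟩, ⟨-2, 0, -1, 0, -1, 1, 0, -1⟩),
   (⟨0, 0, 1, -2, 1, -1, 0, -1⟩, ⟨0, 0, 0, 1, -1, 0, -1, 1⟩, ⟨-2, 0, -1, 0, 1, -1, 0, 1⟩),
   (⟨0, 0, 1, -2, 1, -1, 0, 1⟩, ⟨0, 0, -1, 1, 0, 1, -1, 0⟩, ⟨-2, 0, -1, 0, 1, -1, 0, -1⟩),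
   (⟨0, 0, 1, -1, 0, -1, -1, 2⟩, ⟨-1, 0, 0, 0, 0, 1, 1, -1⟩, ⟨-2, 0, -1, 0, -1, 1, 0, -1⟩),
   (⟨0, 0, 1, -1, 0, -1, 1, -2⟩, ⟨-1, 0, -1, 1, 0, 0, 0, 1⟩, ⟨-2, 0, -1, 0, -1, 1, 0, 1⟩),
   (⟨0, 0, 1, -1, 0, 1, -1, 2⟩, ⟨-1, 0, -1, 1, 0, 0, 0, -1⟩, ⟨-2, 0, -1, 0, 1, -1, 0, -1⟩),
   (⟨0, 0, 1, -1, 0, 1, 1, -2⟩, ⟨-1, 0, 0, 0, 0, -1, -1, 1⟩, ⟨-2, 0, -1, 0, 1, -1, 0, 1⟩),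
   (⟨0, 0, 1, 0, -1, -1, -2, 1⟩, ⟨0, 0, -1, 1, 0, 1, 1, 0⟩, ⟨-2, 0, -1, 0, 1, -1, 0, 1⟩),
   (⟨0, 0, 1, 0, -1, -1, 2, -1⟩, ⟨0, 0, 0, -1, 1, 0, -1, 1⟩, ⟨-2, 0, -1, 0, 1, -1, 0, -1⟩),
   (⟨0, 0, 1, 0, 1, 1, -2, 1⟩, ⟨0, 0, 0, -1, -1, 0, 1, -1⟩, ⟨-2, 0, -1, 0, -1, 1, 0, 1⟩),
   (⟨0, 0, 1, 0, 1, 1, 2, -1⟩, ⟨0, 0, -1, 1, 0, -1, -1, 0⟩, ⟨-2, 0, -1, 0, -1, 1, 0, -1⟩),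
   (⟨0, 0, 1, 1, -2, 1, -1, 0⟩, ⟨-1, 0, -1, 0, 1, 0, 1, 0⟩, ⟨-2, 0, -1, 0, 1, -1, 0, 1⟩),
   (⟨0, 0, 1, 1, -2, 1, 1, 0⟩, ⟨-1, 0, 0, -1, 1, -1, 0, 0⟩, ⟨-2, 0, -1, 0, 1, -1, 0, -1⟩),
   (⟨0, 0, 1, 1, 2, -1, -1, 0⟩, ⟨-1, 0, 0, -1, -1, 1, 0, 0⟩, ⟨-2, 0, -1, 0, -1, 1, 0, 1⟩),
   (⟨0, 0, 1, 1, 2, -1, 1, 0⟩, ⟨-1, 0, -1, 0, -1, 0, -1, 0⟩, ⟨-2, 0, -1, 0, -1, 1, 0, -1⟩),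
   (⟨0, 0, 2, -1, -1, 0, -1, -1⟩, ⟨-1, 0, -1, 1, 0, 0, 0, 1⟩, ⟨-2, 0, -1, 0, 1, -1, 0, 1⟩),
   (⟨0, 0, 2, -1, -1, 0, 1, 1⟩, ⟨-1, 0, -1, 0, 1, 0, -1, 0⟩, ⟨-2, 0, -1, 0, 1, -1, 0, -1⟩),
   (⟨0, 0, 2, -1, 1, 0, -1, -1⟩, ⟨-1, 0, -1, 0, -1, 0, 1, 0⟩, ⟨-2, 0, -1, 0, -1, 1, 0, 1⟩),
   (⟨0, 0, 2, -1, 1, 0, 1, 1⟩, ⟨-1, 0, -1, 1, 0, 0, 0, -1⟩, ⟨-2, 0, -1, 0, -1, 1, 0, -1⟩),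
   (⟨0, 0, 2, 0, -2, 0, 0, 0⟩, ⟨-1, 0, -1, 0, 1, 0, 1, 0⟩, ⟨-2, 0, -2, 0, 0, 0, 0, 0⟩),
   (⟨0, 0, 2, 0, 0, 0, -2, 0⟩, ⟨-1, 0, -1, 0, -1, 0, 1, 0⟩, ⟨-2, 0, -2, 0, 0, 0, 0, 0⟩),
   (⟨0, 0, 2, 0, 0, 0, 2, 0⟩, ⟨-1, 0, -1, 0, 1, 0, -1, 0⟩, ⟨-2, 0, -2, 0, 0, 0, 0, 0⟩),
   (⟨0, 0, 2, 0, 2, 0, 0, 0⟩, ⟨-1, 0, -1, 0, -1, 0, -1, 0⟩, ⟨-2, 0, -2, 0, 0, 0, 0, 0⟩),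
   (⟨0, 1, -2, 0, -1, 1, -1, 0⟩, ⟨1, -1, 1, 0, 0, -1, 0, 0⟩, ⟨-2, 0, -1, 0, -1, 1, 0, 1⟩),
   (⟨0, 1, -2, 0, -1, 1, 1, 0⟩, ⟨0, 0, 1, 0, 1, -1, 0, -1⟩, ⟨-2, 0, -1, 0, 1, -1, 0, 1⟩),
   (⟨0, 1, -2, 0, 1, -1, -1, 0⟩, ⟨0, 0, 1, 0, -1, 1, 0, 1⟩, ⟨-2, 0, -1, 0, -1, 1, 0, -1⟩),
   (⟨0, 1, -2, 0, 1, -1, 1, 0⟩, ⟨1, -1, 1, 0, 0, 1, 0, 0⟩, ⟨-2, 0, -1, 0, 1, -1, 0, -1⟩),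
   (⟨0, 1, -2, 1, 0, -1, 0, -1⟩, ⟨0, -1, 1, 0, 0, 0, -1, 1⟩, ⟨-2, 0, -1, 0, -1, 1, 0, 1⟩),
   (⟨0, 1, -2, 1, 0, -1, 0, 1⟩, ⟨1, -1, 1, 0, 0, 1, 0, 0⟩, ⟨-2, 0, -2, 0, 0, 0, 0, 0⟩),
   (⟨0, 1, -2, 1, 0, 1, 0, -1⟩, ⟨1, -1, 1, 0, 0, -1, 0, 0⟩, ⟨-2, 0, -2, 0, 0, 0, 0, 0⟩),
   (⟨0, 1, -2, 1, 0, 1, 0, 1⟩, ⟨0, -1, 1, 0, 0, 0, 1, -1⟩, ⟨-2, 0, -1, 0, 1, -1, 0, -1⟩),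
   (⟨0, 1, -1, 0, -2, 0, -1, 1⟩, ⟨0, 0, 0, 1, 1, 0, 1, -1⟩, ⟨-2, 0, -1, 0, 1, -1, 0, 1⟩),
   (⟨0, 1, -1, 0, -2, 0, 1, -1⟩, ⟨1, -1, 0, 0, 1, 0, 0, 1⟩, ⟨-2, 0, -1, 0, -1, 1, 0, -1⟩),
   (⟨0, 1, -1, 0, 2, 0, -1, 1⟩, ⟨1, -1, 0, 0, -1, 0, 0, -1⟩, ⟨-2, 0, -1, 0, 1, -1, 0, 1⟩),
   (⟨0, 1, -1, 0, 2, 0, 1, -1⟩, ⟨0, 0, 0, 1, -1, 0, -1, 1⟩, ⟨-2, 0, -1, 0, -1, 1, 0, -1⟩),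
   (⟨0, 1, -1, 1, -1, 0, -2, 0⟩, ⟨0, 0, 0, 0, 0, 0, 2, 0⟩, ⟨-2, 0, -1, 0, 1, -1, 0, -1⟩),
   (⟨0, 1, -1, 1, -1, 0, 2, 0⟩, ⟨0, -1, 1, -1, 1, 0, 0, 0⟩, ⟨-2, 0, -1, 0, 1, -1, 0, -1⟩),
   (⟨0, 1, -1, 1, -1, 2, 0, 0⟩, ⟨1, -1, 1, 0, 0, -1, 0, 0⟩, ⟨-2, 0, -1, 0, -1, 1, 0, -1⟩),
   (⟨0, 1, -1, 1, 1, -2, 0, 0⟩, ⟨1, -1, 1, 0, 0, 1, 0, 0⟩, ⟨-2, 0, -1, 0, 1, -1, 0, 1⟩),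
   (⟨0, 1, -1, 1, 1, 0, -2, 0⟩, ⟨0, -1, 1, -1, -1, 0, 0, 0⟩, ⟨-2, 0, -1, 0, -1, 1, 0, 1⟩),
   (⟨0, 1, -1, 1, 1, 0, 2, 0⟩, ⟨0, 0, 0, 0, 0, 0, -2, 0⟩, ⟨-2, 0, -1, 0, -1, 1, 0, 1⟩),
   (⟨0, 1, -1, 2, 0, 0, -1, 1⟩, ⟨0, -1, 1, -1, -1, 0, 0, 0⟩, ⟨-2, 0, -1, 0, -1, 1, 0, -1⟩),
   (⟨0, 1, -1, 2, 0, 0, 1, -1⟩, ⟨0, -1, 1, -1, 1, 0, 0, 0⟩, ⟨-2, 0, -1, 0, 1, -1, 0, 1⟩),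
   (⟨0, 1, 0, -1, -2, 1, 0, -1⟩, ⟨-1, 0, 0, 1, 1, -1, 0, 0⟩, ⟨-2, 0, -1, 0, 1, -1, 0, 1⟩),
   (⟨0, 1, 0, -1, -2, 1, 0, 1⟩, ⟨0, 0, 0, 1, 1, 0, 1, -1⟩, ⟨-2, 0, -2, 0, 0, 0, 0, 0⟩),
   (⟨0, 1, 0, -1, 0, -1, -2, 1⟩, ⟨0, 0, -1, 1, 0, 1, 1, 0⟩, ⟨-2, 0, -1, 0, 1, -1, 0, -1⟩),
   (⟨0, 1, 0, -1, 0, -1, 2, -1⟩, ⟨0, 0, 0, 1, 1, 0, -1, 1⟩, ⟨-2, 0, -2, 0, 0, 0, 0, 0⟩),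
   (⟨0, 1, 0, -1, 0, 1, -2, 1⟩, ⟨0, 0, 0, 1, -1, 0, 1, -1⟩, ⟨-2, 0, -2, 0, 0, 0, 0, 0⟩),
   (⟨0, 1, 0, -1, 0, 1, 2, -1⟩, ⟨0, 0, -1, 1, 0, -1, -1, 0⟩, ⟨-2, 0, -1, 0, -1, 1, 0, 1⟩),
   (⟨0, 1, 0, -1, 2, -1, 0, -1⟩, ⟨0, 0, 0, 1, -1, 0, -1, 1⟩, ⟨-2, 0, -2, 0, 0, 0, 0, 0⟩),
   (⟨0, 1, 0, -1, 2, -1, 0, 1⟩, ⟨-1, 0, 0, 1, -1, 1, 0, 0⟩, ⟨-2, 0, -1, 0, -1, 1, 0, -1⟩),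
   (⟨0, 1, 0, 0, -1, 1, -1, 2⟩, ⟨0, -1, 1, 0, 0, 0, 1, -1⟩, ⟨-2, 0, -1, 0, -1, 1, 0, -1⟩),
   (⟨0, 1, 0, 0, -1, 1, 1, -2⟩, ⟨0, 0, 1, 0, 1, -1, 0, 1⟩, ⟨-2, 0, -1, 0, 1, -1, 0, -1⟩),
   (⟨0, 1, 0, 0, 1, -1, -1, 2⟩, ⟨0, 0, 1, 0, -1, 1, 0, -1⟩, ⟨-2, 0, -1, 0, -1, 1, 0, 1⟩),
   (⟨0, 1, 0, 0, 1, -1, 1, -2⟩, ⟨0, -1, 1, 0, 0, 0, -1, 1⟩, ⟨-2, 0, -1, 0, 1, -1, 0, 1⟩),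
   (⟨0, 1, 0, 1, -2, 1, 0, -1⟩, ⟨0, -1, 0, 0, 1, -1, 1, 0⟩, ⟨-2, 0, -2, 0, 0, 0, 0, 0⟩),
   (⟨0, 1, 0, 1, -2, 1, 0, 1⟩, ⟨1, -1, 0, 0, 1, 0, 0, -1⟩, ⟨-2, 0, -1, 0, -1, 1, 0, 1⟩),
   (⟨0, 1, 0, 1, 0, -1, -2, 1⟩, ⟨0, -1, 0, 0, -1, 1, 1, 0⟩, ⟨-2, 0, -2, 0, 0, 0, 0, 0⟩),
   (⟨0, 1, 0, 1, 0, -1, 2, -1⟩, ⟨0, -1, -1, 0, 0, 0, -1, 1⟩, ⟨-2, 0, -1, 0, -1, 1, 0, -1⟩),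
   (⟨0, 1, 0, 1, 0, 1, -2, 1⟩, ⟨0, -1, -1, 0, 0, 0, 1, -1⟩, ⟨-2, 0, -1, 0, 1, -1, 0, 1⟩),
   (⟨0, 1, 0, 1, 0, 1, 2, -1⟩, ⟨0, -1, 0, 0, 1, -1, -1, 0⟩, ⟨-2, 0, -2, 0, 0, 0, 0, 0⟩),
   (⟨0, 1, 0, 1, 2, -1, 0, -1⟩, ⟨1, -1, 0, 0, -1, 0, 0, 1⟩, ⟨-2, 0, -1, 0, 1, -1, 0, -1⟩),
   (⟨0, 1, 0, 1, 2, -1, 0, 1⟩, ⟨0, -1, 0, 0, -1, 1, -1, 0⟩, ⟨-2, 0, -2, 0, 0, 0, 0, 0⟩),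
   (⟨0, 1, 1, -2, 0, 0, -1, 1⟩, ⟨0, 0, 0, 1, -1, 0, 1, -1⟩, ⟨-2, 0, -1, 0, -1, 1, 0, 1⟩),
   (⟨0, 1, 1, -2, 0, 0, 1, -1⟩, ⟨0, 0, 0, 1, 1, 0, -1, 1⟩, ⟨-2, 0, -1, 0, 1, -1, 0, -1⟩),
   (⟨0, 1, 1, -1, -1, 0, -2, 0⟩, ⟨0, 0, 0, 0, 0, 0, 2, 0⟩, ⟨-2, 0, -1, 0, -1, 1, 0, -1⟩),
   (⟨0, 1, 1, -1, -1, 0, 2, 0⟩, ⟨0, -1, -1, 1, 1, 0, 0, 0⟩, ⟨-2, 0, -1, 0, -1, 1, 0, -1⟩),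
   (⟨0, 1, 1, -1, -1, 2, 0, 0⟩, ⟨-1, 0, 0, 1, 1, -1, 0, 0⟩, ⟨-2, 0, -1, 0, 1, -1, 0, -1⟩),
   (⟨0, 1, 1, -1, 1, -2, 0, 0⟩, ⟨-1, 0, 0, 1, -1, 1, 0, 0⟩, ⟨-2, 0, -1, 0, -1, 1, 0, 1⟩),
   (⟨0, 1, 1, -1, 1, 0, -2, 0⟩, ⟨0, -1, -1, 1, -1, 0, 0, 0⟩, ⟨-2, 0, -1, 0, 1, -1, 0, 1⟩),
   (⟨0, 1, 1, -1, 1, 0, 2, 0⟩, ⟨0, 0, 0, 0, 0, 0, -2, 0⟩, ⟨-2, 0, -1, 0, 1, -1, 0, 1⟩),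
   (⟨0, 1, 1, 0, -2, 0, -1, 1⟩, ⟨-1, 0, -1, 0, 1, 0, 1, 0⟩, ⟨-2, 0, -1, 0, 1, -1, 0, -1⟩),
   (⟨0, 1, 1, 0, -2, 0, 1, -1⟩, ⟨0, -1, -1, 1, 1, 0, 0, 0⟩, ⟨-2, 0, -1, 0, -1, 1, 0, 1⟩),
   (⟨0, 1, 1, 0, 2, 0, -1, 1⟩, ⟨0, -1, -1, 1, -1, 0, 0, 0⟩, ⟨-2, 0, -1, 0, 1, -1, 0, -1⟩),
   (⟨0, 1, 1, 0, 2, 0, 1, -1⟩, ⟨-1, 0, -1, 0, -1, 0, -1, 0⟩, ⟨-2, 0, -1, 0, -1, 1, 0, 1⟩),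
   (⟨0, 1, 2, -1, 0, -1, 0, -1⟩, ⟨-1, 0, -1, 1, 0, 0, 0, 1⟩, ⟨-2, 0, -2, 0, 0, 0, 0, 0⟩),
   (⟨0, 1, 2, -1, 0, -1, 0, 1⟩, ⟨0, 0, -1, 1, 0, 1, -1, 0⟩, ⟨-2, 0, -1, 0, 1, -1, 0, 1⟩),
   (⟨0, 1, 2, -1, 0, 1, 0, -1⟩, ⟨0, 0, -1, 1, 0, -1, 1, 0⟩, ⟨-2, 0, -1, 0, -1, 1, 0, -1⟩),
   (⟨0, 1, 2, -1, 0, 1, 0, 1⟩, ⟨-1, 0, -1, 1, 0, 0, 0, -1⟩, ⟨-2, 0, -2, 0, 0, 0, 0, 0⟩),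
   (⟨0, 1, 2, 0, -1, 1, -1, 0⟩, ⟨0, -1, -1, 0, 0, 0, 1, -1⟩, ⟨-2, 0, -1, 0, -1, 1, 0, 1⟩),
   (⟨0, 1, 2, 0, -1, 1, 1, 0⟩, ⟨-1, 0, -1, 0, 1, 0, -1, 0⟩, ⟨-2, 0, -1, 0, 1, -1, 0, 1⟩),
   (⟨0, 1, 2, 0, 1, -1, -1, 0⟩, ⟨-1, 0, -1, 0, -1, 0, 1, 0⟩, ⟨-2, 0, -1, 0, -1, 1, 0, -1⟩),
   (⟨0, 1, 2, 0, 1, -1, 1, 0⟩, ⟨0, -1, -1, 0, 0, 0, -1, 1⟩, ⟨-2, 0, -1, 0, 1, -1, 0, -1⟩),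
   (⟨1, -2, -1, 0, -1, 0, -1, 0⟩, ⟨0, 1, 1, -1, 1, 0, 0, 0⟩, ⟨-2, 0, -1, 0, -1, 1, 0, -1⟩),
   (⟨1, -2, -1, 0, -1, 0, 1, 0⟩, ⟨0, 1, 1, -1, 1, 0, 0, 0⟩, ⟨-2, 0, -2, 0, 0, 0, 0, 0⟩),
   (⟨1, -2, -1, 0, 1, 0, -1, 0⟩, ⟨0, 1, 1, -1, -1, 0, 0, 0⟩, ⟨-2, 0, -2, 0, 0, 0, 0, 0⟩),
   (⟨1, -2, -1, 0, 1, 0, 1, 0⟩, ⟨0, 1, 1, -1, -1, 0, 0, 0⟩, ⟨-2, 0, -1, 0, 1, -1, 0, 1⟩),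
   (⟨1, -2, -1, 1, 0, 0, 0, -1⟩, ⟨0, 1, 1, -1, -1, 0, 0, 0⟩, ⟨-2, 0, -1, 0, 1, -1, 0, -1⟩),
   (⟨1, -2, -1, 1, 0, 0, 0, 1⟩, ⟨0, 1, 1, -1, 1, 0, 0, 0⟩, ⟨-2, 0, -1, 0, -1, 1, 0, 1⟩),
   (⟨1, -2, 0, -1, -1, 1, 0, 0⟩, ⟨0, 1, 0, 0, 1, -1, 1, 0⟩, ⟨-2, 0, -1, 0, -1, 1, 0, 1⟩),
   (⟨1, -2, 0, -1, 1, -1, 0, 0⟩, ⟨0, 1, 0, 0, -1, 1, -1, 0⟩, ⟨-2, 0, -1, 0, 1, -1, 0, -1⟩),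
   (⟨1, -2, 0, 0, 0, -1, -1, 1⟩, ⟨0, 1, 0, 0, -1, 1, 1, 0⟩, ⟨-2, 0, -1, 0, 1, -1, 0, 1⟩),
   (⟨1, -2, 0, 0, 0, -1, 1, -1⟩, ⟨-1, 1, 0, 0, 1, 0, 0, 1⟩, ⟨-2, 0, -1, 0, -1, 1, 0, 1⟩),
   (⟨1, -2, 0, 0, 0, 1, -1, 1⟩, ⟨-1, 1, 0, 0, -1, 0, 0, -1⟩, ⟨-2, 0, -1, 0, 1, -1, 0, -1⟩),
   (⟨1, -2, 0, 0, 0, 1, 1, -1⟩, ⟨0, 1, 0, 0, 1, -1, -1, 0⟩, ⟨-2, 0, -1, 0, -1, 1, 0, -1⟩),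
   (⟨1, -2, 0, 1, -1, 1, 0, 0⟩, ⟨-1, 1, 0, -1, 0, 0, 1, 0⟩, ⟨-2, 0, -1, 0, 1, -1, 0, 1⟩),
   (⟨1, -2, 0, 1, 1, -1, 0, 0⟩, ⟨-1, 1, 0, -1, 0, 0, -1, 0⟩, ⟨-2, 0, -1, 0, -1, 1, 0, -1⟩),
   (⟨1, -2, 1, -1, 0, 0, 0, -1⟩, ⟨-1, 1, 0, 0, -1, 0, 0, 1⟩, ⟨-2, 0, -1, 0, 1, -1, 0, 1⟩),
   (⟨1, -2, 1, -1, 0, 0, 0, 1⟩, ⟨-1, 1, 0, 0, 1, 0, 0, -1⟩, ⟨-2, 0, -1, 0, -1, 1, 0, -1⟩),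
   (⟨1, -2, 1, 0, -1, 0, -1, 0⟩, ⟨-1, 1, 0, -1, 0, 0, 1, 0⟩, ⟨-2, 0, -2, 0, 0, 0, 0, 0⟩),
   (⟨1, -2, 1, 0, -1, 0, 1, 0⟩, ⟨-1, 1, 0, -1, 0, 0, -1, 0⟩, ⟨-2, 0, -1, 0, 1, -1, 0, -1⟩),
   (⟨1, -2, 1, 0, 1, 0, -1, 0⟩, ⟨-1, 1, 0, -1, 0, 0, 1, 0⟩, ⟨-2, 0, -1, 0, -1, 1, 0, 1⟩),
   (⟨1, -2, 1, 0, 1, 0, 1, 0⟩, ⟨-1, 1, 0, -1, 0, 0, -1, 0⟩, ⟨-2, 0, -2, 0, 0, 0, 0, 0⟩),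
   (⟨1, -1, -2, 0, -1, 0, 0, -1⟩, ⟨0, 0, 1, 0, 1, -1, 0, 1⟩, ⟨-2, 0, -1, 0, -1, 1, 0, 1⟩),
   (⟨1, -1, -2, 0, -1, 0, 0, 1⟩, ⟨0, 1, 1, 0, 0, 0, 1, -1⟩, ⟨-2, 0, -1, 0, 1, -1, 0, 1⟩),
   (⟨1, -1, -2, 0, 1, 0, 0, -1⟩, ⟨0, 1, 1, 0, 0, 0, -1, 1⟩, ⟨-2, 0, -1, 0, -1, 1, 0, -1⟩),
   (⟨1, -1, -2, 0, 1, 0, 0, 1⟩, ⟨0, 0, 1, 0, -1, 1, 0, -1⟩, ⟨-2, 0, -1, 0, 1, -1, 0, -1⟩),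
   (⟨1, -1, -1, -1, -1, 1, -1, 1⟩, ⟨0, 1, 1, 0, 0, 0, 1, -1⟩, ⟨-2, 0, -2, 0, 0, 0, 0, 0⟩),
   (⟨1, -1, -1, -1, -1, 1, 1, -1⟩, ⟨-1, 1, 1, 0, 0, -1, 0, 0⟩, ⟨-2, 0, -1, 0, 1, -1, 0, 1⟩),
   (⟨1, -1, -1, -1, 1, -1, -1, 1⟩, ⟨-1, 1, 1, 0, 0, 1, 0, 0⟩, ⟨-2, 0, -1, 0, -1, 1, 0, -1⟩),
   (⟨1, -1, -1, -1, 1, -1, 1, -1⟩, ⟨0, 1, 1, 0, 0, 0, -1, 1⟩, ⟨-2, 0, -2, 0, 0, 0, 0, 0⟩),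
   (⟨1, -1, -1, 0, 0, -1, -2, 0⟩, ⟨0, 1, 0, 0, -1, 1, 1, 0⟩, ⟨-2, 0, -1, 0, 1, -1, 0, -1⟩),
   (⟨1, -1, -1, 0, 0, -1, 2, 0⟩, ⟨0, 0, 1, -1, 0, 1, -1, 0⟩, ⟨-2, 0, -1, 0, 1, -1, 0, -1⟩),
   (⟨1, -1, -1, 0, 0, 1, -2, 0⟩, ⟨0, 0, 1, -1, 0, -1, 1, 0⟩, ⟨-2, 0, -1, 0, -1, 1, 0, 1⟩),
   (⟨1, -1, -1, 0, 0, 1, 2, 0⟩, ⟨0, 1, 0, 0, 1, -1, -1, 0⟩, ⟨-2, 0, -1, 0, -1, 1, 0, 1⟩),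
   (⟨1, -1, -1, 1, -1, -1, -1, 1⟩, ⟨0, 0, 1, -1, 0, 1, 1, 0⟩, ⟨-2, 0, -2, 0, 0, 0, 0, 0⟩),
   (⟨1, -1, -1, 1, -1, -1, 1, -1⟩, ⟨0, 0, 0, -1, 1, 0, -1, 1⟩, ⟨-2, 0, -1, 0, -1, 1, 0, -1⟩),
   (⟨1, -1, -1, 1, -1, 1, -1, -1⟩, ⟨0, 0, 1, -1, 0, -1, 1, 0⟩, ⟨-2, 0, -2, 0, 0, 0, 0, 0⟩),
   (⟨1, -1, -1, 1, -1, 1, 1, 1⟩, ⟨-1, 0, 1, -1, 0, 0, 0, -1⟩, ⟨-2, 0, -1, 0, 1, -1, 0, -1⟩),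
   (⟨1, -1, -1, 1, 1, -1, -1, -1⟩, ⟨-1, 0, 1, -1, 0, 0, 0, 1⟩, ⟨-2, 0, -1, 0, -1, 1, 0, 1⟩),
   (⟨1, -1, -1, 1, 1, -1, 1, 1⟩, ⟨0, 0, 1, -1, 0, 1, -1, 0⟩, ⟨-2, 0, -2, 0, 0, 0, 0, 0⟩),
   (⟨1, -1, -1, 1, 1, 1, -1, 1⟩, ⟨0, 0, 0, -1, -1, 0, 1, -1⟩, ⟨-2, 0, -1, 0, 1, -1, 0, 1⟩),
   (⟨1, -1, -1, 1, 1, 1, 1, -1⟩, ⟨0, 0, 1, -1, 0, -1, -1, 0⟩, ⟨-2, 0, -2, 0, 0, 0, 0, 0⟩),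
   (⟨1, -1, -1, 2, 0, -1, 0, 0⟩, ⟨0, 0, 1, -1, 0, 1, 1, 0⟩, ⟨-2, 0, -1, 0, 1, -1, 0, 1⟩),
   (⟨1, -1, -1, 2, 0, 1, 0, 0⟩, ⟨0, 0, 1, -1, 0, -1, -1, 0⟩, ⟨-2, 0, -1, 0, -1, 1, 0, -1⟩),
   (⟨1, -1, 0, -1, -2, 0, -1, 0⟩, ⟨-1, 1, 0, 1, 0, 0, 1, 0⟩, ⟨-2, 0, -1, 0, 1, -1, 0, 1⟩),
   (⟨1, -1, 0, -1, -2, 0, 1, 0⟩, ⟨0, 0, 0, 0, 2, 0, 0, 0⟩, ⟨-2, 0, -1, 0, -1, 1, 0, -1⟩),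
   (⟨1, -1, 0, -1, 0, 0, -1, 2⟩, ⟨0, 1, 1, 0, 0, 0, 1, -1⟩, ⟨-2, 0, -1, 0, -1, 1, 0, 1⟩),
   (⟨1, -1, 0, -1, 0, 0, 1, -2⟩, ⟨0, 1, 1, 0, 0, 0, -1, 1⟩, ⟨-2, 0, -1, 0, 1, -1, 0, -1⟩),
   (⟨1, -1, 0, -1, 2, 0, -1, 0⟩, ⟨0, 0, 0, 0, -2, 0, 0, 0⟩, ⟨-2, 0, -1, 0, 1, -1, 0, 1⟩),
   (⟨1, -1, 0, -1, 2, 0, 1, 0⟩, ⟨-1, 1, 0, 1, 0, 0, -1, 0⟩, ⟨-2, 0, -1, 0, -1, 1, 0, -1⟩),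
   (⟨1, -1, 0, 0, -1, 2, 0, -1⟩, ⟨-1, 1, 1, 0, 0, -1, 0, 0⟩, ⟨-2, 0, -1, 0, 1, -1, 0, -1⟩),
   (⟨1, -1, 0, 0, -1, 2, 0, 1⟩, ⟨0, 0, 1, 0, 1, -1, 0, -1⟩, ⟨-2, 0, -1, 0, -1, 1, 0, -1⟩),
   (⟨1, -1, 0, 0, 1, -2, 0, -1⟩, ⟨0, 0, 1, 0, -1, 1, 0, 1⟩, ⟨-2, 0, -1, 0, 1, -1, 0, 1⟩),
   (⟨1, -1, 0, 0, 1, -2, 0, 1⟩, ⟨-1, 1, 1, 0, 0, 1, 0, 0⟩, ⟨-2, 0, -1, 0, -1, 1, 0, 1⟩),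
   (⟨1, -1, 0, 1, -2, 0, -1, 0⟩, ⟨-1, 1, 0, -1, 0, 0, 1, 0⟩, ⟨-2, 0, -1, 0, 1, -1, 0, -1⟩),
   (⟨1, -1, 0, 1, -2, 0, 1, 0⟩, ⟨0, 0, 0, 0, 2, 0, 0, 0⟩, ⟨-2, 0, -1, 0, -1, 1, 0, 1⟩),
   (⟨1, -1, 0, 1, 0, 0, -1, 2⟩, ⟨-1, 0, 1, -1, 0, 0, 0, -1⟩, ⟨-2, 0, -1, 0, -1, 1, 0, -1⟩),
   (⟨1, -1, 0, 1, 0, 0, 1, -2⟩, ⟨-1, 0, 1, -1, 0, 0, 0, 1⟩, ⟨-2, 0, -1, 0, 1, -1, 0, 1⟩),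
   (⟨1, -1, 0, 1, 2, 0, -1, 0⟩, ⟨0, 0, 0, 0, -2, 0, 0, 0⟩, ⟨-2, 0, -1, 0, 1, -1, 0, -1⟩),
   (⟨1, -1, 0, 1, 2, 0, 1, 0⟩, ⟨-1, 1, 0, -1, 0, 0, -1, 0⟩, ⟨-2, 0, -1, 0, -1, 1, 0, 1⟩),
   (⟨1, -1, 1, -2, 0, -1, 0, 0⟩, ⟨-1, 1, 0, 1, 0, 0, 1, 0⟩, ⟨-2, 0, -1, 0, -1, 1, 0, 1⟩),
   (⟨1, -1, 1, -2, 0, 1, 0, 0⟩, ⟨-1, 1, 0, 1, 0, 0, -1, 0⟩, ⟨-2, 0, -1, 0, 1, -1, 0, -1⟩),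
   (⟨1, -1, 1, -1, -1, -1, -1, 1⟩, ⟨-1, 1, -1, 0, 0, 1, 0, 0⟩, ⟨-2, 0, -1, 0, 1, -1, 0, -1⟩),
   (⟨1, -1, 1, -1, -1, -1, 1, -1⟩, ⟨-1, 1, 0, 0, 1, 0, 0, 1⟩, ⟨-2, 0, -2, 0, 0, 0, 0, 0⟩),
   (⟨1, -1, 1, -1, -1, 1, -1, -1⟩, ⟨0, 1, 0, 0, 1, -1, 1, 0⟩, ⟨-2, 0, -1, 0, -1, 1, 0, -1⟩),
   (⟨1, -1, 1, -1, -1, 1, 1, 1⟩, ⟨-1, 1, 0, 0, 1, 0, 0, -1⟩, ⟨-2, 0, -2, 0, 0, 0, 0, 0⟩),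
   (⟨1, -1, 1, -1, 1, -1, -1, -1⟩, ⟨-1, 1, 0, 0, -1, 0, 0, 1⟩, ⟨-2, 0, -2, 0, 0, 0, 0, 0⟩),
   (⟨1, -1, 1, -1, 1, -1, 1, 1⟩, ⟨0, 1, 0, 0, -1, 1, -1, 0⟩, ⟨-2, 0, -1, 0, 1, -1, 0, 1⟩),
   (⟨1, -1, 1, -1, 1, 1, -1, 1⟩, ⟨-1, 1, 0, 0, -1, 0, 0, -1⟩, ⟨-2, 0, -2, 0, 0, 0, 0, 0⟩),
   (⟨1, -1, 1, -1, 1, 1, 1, -1⟩, ⟨-1, 1, -1, 0, 0, -1, 0, 0⟩, ⟨-2, 0, -1, 0, -1, 1, 0, 1⟩),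
   (⟨1, -1, 1, 0, 0, -1, -2, 0⟩, ⟨-1, 1, 0, -1, 0, 0, 1, 0⟩, ⟨-2, 0, -1, 0, -1, 1, 0, -1⟩),
   (⟨1, -1, 1, 0, 0, -1, 2, 0⟩, ⟨-1, 0, -1, 0, 1, 0, -1, 0⟩, ⟨-2, 0, -1, 0, -1, 1, 0, -1⟩),
   (⟨1, -1, 1, 0, 0, 1, -2, 0⟩, ⟨-1, 0, -1, 0, -1, 0, 1, 0⟩, ⟨-2, 0, -1, 0, 1, -1, 0, 1⟩),
   (⟨1, -1, 1, 0, 0, 1, 2, 0⟩, ⟨-1, 1, 0, -1, 0, 0, -1, 0⟩, ⟨-2, 0, -1, 0, 1, -1, 0, 1⟩),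
   (⟨1, -1, 1, 1, -1, 1, -1, 1⟩, ⟨0, 0, 0, -1, 1, 0, 1, -1⟩, ⟨-2, 0, -1, 0, -1, 1, 0, 1⟩),
   (⟨1, -1, 1, 1, -1, 1, 1, -1⟩, ⟨-1, 0, 0, -1, 1, -1, 0, 0⟩, ⟨-2, 0, -2, 0, 0, 0, 0, 0⟩),
   (⟨1, -1, 1, 1, 1, -1, -1, 1⟩, ⟨-1, 0, 0, -1, -1, 1, 0, 0⟩, ⟨-2, 0, -2, 0, 0, 0, 0, 0⟩),
   (⟨1, -1, 1, 1, 1, -1, 1, -1⟩, ⟨0, 0, 0, -1, -1, 0, -1, 1⟩, ⟨-2, 0, -1, 0, 1, -1, 0, -1⟩),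
   (⟨1, -1, 2, 0, -1, 0, 0, -1⟩, ⟨-1, 0, -1, 0, 1, 0, 1, 0⟩, ⟨-2, 0, -1, 0, -1, 1, 0, 1⟩),
   (⟨1, -1, 2, 0, -1, 0, 0, 1⟩, ⟨-1, 1, -1, 0, 0, 1, 0, 0⟩, ⟨-2, 0, -1, 0, 1, -1, 0, 1⟩),
   (⟨1, -1, 2, 0, 1, 0, 0, -1⟩, ⟨-1, 1, -1, 0, 0, -1, 0, 0⟩, ⟨-2, 0, -1, 0, -1, 1, 0, -1⟩),
   (⟨1, -1, 2, 0, 1, 0, 0, 1⟩, ⟨-1, 0, -1, 0, -1, 0, -1, 0⟩, ⟨-2, 0, -1, 0, 1, -1, 0, -1⟩),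
   (⟨1, 0, -2, 0, 0, -1, -1, 1⟩, ⟨0, 0, 2, 0, 0, 0, 0, 0⟩, ⟨-2, 0, -1, 0, -1, 1, 0, 1⟩),
   (⟨1, 0, -2, 0, 0, -1, 1, -1⟩, ⟨0, 0, 2, 0, 0, 0, 0, 0⟩, ⟨-2, 0, -1, 0, 1, -1, 0, 1⟩),
   (⟨1, 0, -2, 0, 0, 1, -1, 1⟩, ⟨0, 0, 2, 0, 0, 0, 0, 0⟩, ⟨-2, 0, -1, 0, -1, 1, 0, -1⟩),
   (⟨1, 0, -2, 0, 0, 1, 1, -1⟩, ⟨0, 0, 2, 0, 0, 0, 0, 0⟩, ⟨-2, 0, -1, 0, 1, -1, 0, -1⟩),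
   (⟨1, 0, -2, 1, -1, -1, 0, 0⟩, ⟨0, 0, 1, -1, 0, 1, 1, 0⟩, ⟨-2, 0, -1, 0, 1, -1, 0, -1⟩),
   (⟨1, 0, -2, 1, 1, 1, 0, 0⟩, ⟨0, 0, 1, -1, 0, -1, -1, 0⟩, ⟨-2, 0, -1, 0, -1, 1, 0, 1⟩),
   (⟨1, 0, -1, -1, 0, 0, -2, 1⟩, ⟨0, 0, 0, 1, -1, 0, 1, -1⟩, ⟨-2, 0, -1, 0, 1, -1, 0, 1⟩),
   (⟨1, 0, -1, -1, 0, 0, 2, -1⟩, ⟨0, 0, 0, 1, 1, 0, -1, 1⟩, ⟨-2, 0, -1, 0, -1, 1, 0, -1⟩),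
   (⟨1, 0, -1, 0, -1, 0, -1, 2⟩, ⟨-1, 0, 0, 0, 0, 1, 1, -1⟩, ⟨-2, 0, -1, 0, 1, -1, 0, -1⟩),
   (⟨1, 0, -1, 0, -1, 0, 1, -2⟩, ⟨0, 0, 1, 0, 1, -1, 0, 1⟩, ⟨-2, 0, -2, 0, 0, 0, 0, 0⟩),
   (⟨1, 0, -1, 0, -1, 2, -1, 0⟩, ⟨-1, 0, 0, 0, 0, -1, 1, -1⟩, ⟨-2, 0, -1, 0, 1, -1, 0, 1⟩),
   (⟨1, 0, -1, 0, -1, 2, 1, 0⟩, ⟨0, 0, 1, 0, 1, -1, 0, -1⟩, ⟨-2, 0, -2, 0, 0, 0, 0, 0⟩),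
   (⟨1, 0, -1, 0, 1, -2, -1, 0⟩, ⟨0, 0, 1, 0, -1, 1, 0, 1⟩, ⟨-2, 0, -2, 0, 0, 0, 0, 0⟩),
   (⟨1, 0, -1, 0, 1, -2, 1, 0⟩, ⟨-1, 0, 0, 0, 0, 1, -1, 1⟩, ⟨-2, 0, -1, 0, -1, 1, 0, -1⟩),
   (⟨1, 0, -1, 0, 1, 0, -1, 2⟩, ⟨0, 0, 1, 0, -1, 1, 0, -1⟩, ⟨-2, 0, -2, 0, 0, 0, 0, 0⟩),
   (⟨1, 0, -1, 0, 1, 0, 1, -2⟩, ⟨-1, 0, 0, 0, 0, -1, -1, 1⟩, ⟨-2, 0, -1, 0, -1, 1, 0, 1⟩),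
   (⟨1, 0, -1, 1, -2, 0, 0, -1⟩, ⟨-1, 0, 1, 0, 1, 0, 1, 0⟩, ⟨-2, 0, -1, 0, 1, -1, 0, 1⟩),
   (⟨1, 0, -1, 1, -2, 0, 0, 1⟩, ⟨0, -1, 1, -1, 1, 0, 0, 0⟩, ⟨-2, 0, -1, 0, -1, 1, 0, -1⟩),
   (⟨1, 0, -1, 1, 2, 0, 0, -1⟩, ⟨0, -1, 1, -1, -1, 0, 0, 0⟩, ⟨-2, 0, -1, 0, 1, -1, 0, 1⟩),
   (⟨1, 0, -1, 1, 2, 0, 0, 1⟩, ⟨-1, 0, 1, 0, -1, 0, -1, 0⟩, ⟨-2, 0, -1, 0, -1, 1, 0, -1⟩),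
   (⟨1, 0, -1, 2, -1, 0, -1, 0⟩, ⟨0, -1, 1, -1, 1, 0, 0, 0⟩, ⟨-2, 0, -1, 0, -1, 1, 0, 1⟩),
   (⟨1, 0, -1, 2, -1, 0, 1, 0⟩, ⟨0, -1, 1, -1, 1, 0, 0, 0⟩, ⟨-2, 0, -2, 0, 0, 0, 0, 0⟩),
   (⟨1, 0, -1, 2, 1, 0, -1, 0⟩, ⟨0, -1, 1, -1, -1, 0, 0, 0⟩, ⟨-2, 0, -2, 0, 0, 0, 0, 0⟩),
   (⟨1, 0, -1, 2, 1, 0, 1, 0⟩, ⟨0, -1, 1, -1, -1, 0, 0, 0⟩, ⟨-2, 0, -1, 0, 1, -1, 0, -1⟩),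
   (⟨1, 0, 0, -1, -1, 1, -2, 0⟩, ⟨-1, 1, 0, 1, 0, 0, 1, 0⟩, ⟨-2, 0, -1, 0, 1, -1, 0, -1⟩),
   (⟨1, 0, 0, -1, -1, 1, 2, 0⟩, ⟨-1, 0, 1, 0, 1, 0, -1, 0⟩, ⟨-2, 0, -1, 0, 1, -1, 0, -1⟩),
   (⟨1, 0, 0, -1, 1, -1, -2, 0⟩, ⟨-1, 0, 1, 0, -1, 0, 1, 0⟩, ⟨-2, 0, -1, 0, -1, 1, 0, 1⟩),
   (⟨1, 0, 0, -1, 1, -1, 2, 0⟩, ⟨-1, 1, 0, 1, 0, 0, -1, 0⟩, ⟨-2, 0, -1, 0, -1, 1, 0, 1⟩),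
   (⟨1, 0, 0, 0, -2, 1, -1, -1⟩, ⟨0, -1, 0, 0, 1, -1, 1, 0⟩, ⟨-2, 0, -1, 0, -1, 1, 0, 1⟩),
   (⟨1, 0, 0, 0, -2, 1, 1, 1⟩, ⟨-1, 1, 0, 0, 1, 0, 0, -1⟩, ⟨-2, 0, -1, 0, 1, -1, 0, 1⟩),
   (⟨1, 0, 0, 0, 2, -1, -1, -1⟩, ⟨-1, 1, 0, 0, -1, 0, 0, 1⟩, ⟨-2, 0, -1, 0, -1, 1, 0, -1⟩),
   (⟨1, 0, 0, 0, 2, -1, 1, 1⟩, ⟨0, -1, 0, 0, -1, 1, -1, 0⟩, ⟨-2, 0, -1, 0, 1, -1, 0, -1⟩),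
   (⟨1, 0, 0, 1, -1, 1, -2, 0⟩, ⟨0, 0, 1, -1, 0, -1, 1, 0⟩, ⟨-2, 0, -1, 0, -1, 1, 0, -1⟩),
   (⟨1, 0, 0, 1, -1, 1, 2, 0⟩, ⟨0, -1, 0, 0, 1, -1, -1, 0⟩, ⟨-2, 0, -1, 0, -1, 1, 0, -1⟩),
   (⟨1, 0, 0, 1, 1, -1, -2, 0⟩, ⟨0, -1, 0, 0, -1, 1, 1, 0⟩, ⟨-2, 0, -1, 0, 1, -1, 0, 1⟩),
   (⟨1, 0, 0, 1, 1, -1, 2, 0⟩, ⟨0, 0, 1, -1, 0, 1, -1, 0⟩, ⟨-2, 0, -1, 0, 1, -1, 0, 1⟩),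
   (⟨1, 0, 1, -2, -1, 0, -1, 0⟩, ⟨-1, 1, 0, 1, 0, 0, 1, 0⟩, ⟨-2, 0, -2, 0, 0, 0, 0, 0⟩),
   (⟨1, 0, 1, -2, -1, 0, 1, 0⟩, ⟨-1, 1, 0, 1, 0, 0, -1, 0⟩, ⟨-2, 0, -1, 0, 1, -1, 0, 1⟩),
   (⟨1, 0, 1, -2, 1, 0, -1, 0⟩, ⟨-1, 1, 0, 1, 0, 0, 1, 0⟩, ⟨-2, 0, -1, 0, -1, 1, 0, -1⟩),
   (⟨1, 0, 1, -2, 1, 0, 1, 0⟩, ⟨-1, 1, 0, 1, 0, 0, -1, 0⟩, ⟨-2, 0, -2, 0, 0, 0, 0, 0⟩),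
   (⟨1, 0, 1, -1, -2, 0, 0, -1⟩, ⟨-1, 1, 0, 0, 1, 0, 0, 1⟩, ⟨-2, 0, -1, 0, 1, -1, 0, -1⟩),
   (⟨1, 0, 1, -1, -2, 0, 0, 1⟩, ⟨0, 0, 0, 1, 1, 0, 1, -1⟩, ⟨-2, 0, -1, 0, -1, 1, 0, 1⟩),
   (⟨1, 0, 1, -1, 2, 0, 0, -1⟩, ⟨0, 0, 0, 1, -1, 0, -1, 1⟩, ⟨-2, 0, -1, 0, 1, -1, 0, -1⟩),
   (⟨1, 0, 1, -1, 2, 0, 0, 1⟩, ⟨-1, 1, 0, 0, -1, 0, 0, -1⟩, ⟨-2, 0, -1, 0, -1, 1, 0, 1⟩),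
   (⟨1, 0, 1, 0, -1, 0, -1, 2⟩, ⟨-1, 0, 0, 0, 0, 1, 1, -1⟩, ⟨-2, 0, -2, 0, 0, 0, 0, 0⟩),
   (⟨1, 0, 1, 0, -1, 0, 1, -2⟩, ⟨0, 0, -1, 0, 1, -1, 0, 1⟩, ⟨-2, 0, -1, 0, -1, 1, 0, -1⟩),
   (⟨1, 0, 1, 0, -1, 2, -1, 0⟩, ⟨-1, 0, 0, 0, 0, -1, 1, -1⟩, ⟨-2, 0, -2, 0, 0, 0, 0, 0⟩),
   (⟨1, 0, 1, 0, -1, 2, 1, 0⟩, ⟨0, 0, -1, 0, 1, -1, 0, -1⟩, ⟨-2, 0, -1, 0, -1, 1, 0, 1⟩),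
   (⟨1, 0, 1, 0, 1, -2, -1, 0⟩, ⟨0, 0, -1, 0, -1, 1, 0, 1⟩, ⟨-2, 0, -1, 0, 1, -1, 0, -1⟩),
   (⟨1, 0, 1, 0, 1, -2, 1, 0⟩, ⟨-1, 0, 0, 0, 0, 1, -1, 1⟩, ⟨-2, 0, -2, 0, 0, 0, 0, 0⟩),
   (⟨1, 0, 1, 0, 1, 0, -1, 2⟩, ⟨0, 0, -1, 0, -1, 1, 0, -1⟩, ⟨-2, 0, -1, 0, 1, -1, 0, 1⟩),
   (⟨1, 0, 1, 0, 1, 0, 1, -2⟩, ⟨-1, 0, 0, 0, 0, -1, -1, 1⟩, ⟨-2, 0, -2, 0, 0, 0, 0, 0⟩),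
   (⟨1, 0, 1, 1, 0, 0, -2, 1⟩, ⟨-1, 0, -1, 0, -1, 0, 1, 0⟩, ⟨-2, 0, -1, 0, 1, -1, 0, -1⟩),
   (⟨1, 0, 1, 1, 0, 0, 2, -1⟩, ⟨-1, 0, -1, 0, 1, 0, -1, 0⟩, ⟨-2, 0, -1, 0, -1, 1, 0, 1⟩),
   (⟨1, 0, 2, -1, -1, -1, 0, 0⟩, ⟨-1, 0, -1, 0, 1, 0, 1, 0⟩, ⟨-2, 0, -1, 0, -1, 1, 0, -1⟩),
   (⟨1, 0, 2, -1, 1, 1, 0, 0⟩, ⟨-1, 0, -1, 0, -1, 0, -1, 0⟩, ⟨-2, 0, -1, 0, 1, -1, 0, 1⟩),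
   (⟨1, 0, 2, 0, 0, -1, -1, 1⟩, ⟨-1, 0, 0, 0, 0, 1, 1, -1⟩, ⟨-2, 0, -1, 0, -1, 1, 0, 1⟩),
   (⟨1, 0, 2, 0, 0, -1, 1, -1⟩, ⟨-1, 0, 0, 0, 0, 1, -1, 1⟩, ⟨-2, 0, -1, 0, 1, -1, 0, 1⟩),
   (⟨1, 0, 2, 0, 0, 1, -1, 1⟩, ⟨-1, 0, 0, 0, 0, -1, 1, -1⟩, ⟨-2, 0, -1, 0, -1, 1, 0, -1⟩),
   (⟨1, 0, 2, 0, 0, 1, 1, -1⟩, ⟨-1, 0, 0, 0, 0, -1, -1, 1⟩, ⟨-2, 0, -1, 0, 1, -1, 0, -1⟩),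
   (⟨1, 1, -2, 1, 0, 0, -1, 0⟩, ⟨0, -1, 1, 0, 0, 0, 1, -1⟩, ⟨-2, 0, -1, 0, 1, -1, 0, 1⟩),
   (⟨1, 1, -2, 1, 0, 0, 1, 0⟩, ⟨0, -1, 1, 0, 0, 0, -1, 1⟩, ⟨-2, 0, -1, 0, -1, 1, 0, -1⟩),
   (⟨1, 1, -1, 0, -2, 1, 0, 0⟩, ⟨-1, 0, 1, 0, 1, 0, 1, 0⟩, ⟨-2, 0, -1, 0, 1, -1, 0, -1⟩),
   (⟨1, 1, -1, 0, 2, -1, 0, 0⟩, ⟨-1, 0, 1, 0, -1, 0, -1, 0⟩, ⟨-2, 0, -1, 0, -1, 1, 0, 1⟩),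
   (⟨1, 1, -1, 1, -1, 1, -1, 1⟩, ⟨0, -1, 1, 0, 0, 0, 1, -1⟩, ⟨-2, 0, -2, 0, 0, 0, 0, 0⟩),
   (⟨1, 1, -1, 1, -1, 1, 1, -1⟩, ⟨0, -1, 0, 0, 1, -1, -1, 0⟩, ⟨-2, 0, -1, 0, -1, 1, 0, 1⟩),
   (⟨1, 1, -1, 1, 1, -1, -1, 1⟩, ⟨0, -1, 0, 0, -1, 1, 1, 0⟩, ⟨-2, 0, -1, 0, 1, -1, 0, -1⟩),
   (⟨1, 1, -1, 1, 1, -1, 1, -1⟩, ⟨0, -1, 1, 0, 0, 0, -1, 1⟩, ⟨-2, 0, -2, 0, 0, 0, 0, 0⟩),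
   (⟨1, 1, 0, 0, -1, 0, -2, 1⟩, ⟨0, -1, 1, 0, 0, 0, 1, -1⟩, ⟨-2, 0, -1, 0, -1, 1, 0, 1⟩),
   (⟨1, 1, 0, 0, -1, 0, 2, -1⟩, ⟨-1, 0, 1, 0, 1, 0, -1, 0⟩, ⟨-2, 0, -1, 0, 1, -1, 0, 1⟩),
   (⟨1, 1, 0, 0, 1, 0, -2, 1⟩, ⟨-1, 0, 1, 0, -1, 0, 1, 0⟩, ⟨-2, 0, -1, 0, -1, 1, 0, -1⟩),
   (⟨1, 1, 0, 0, 1, 0, 2, -1⟩, ⟨0, -1, 1, 0, 0, 0, -1, 1⟩, ⟨-2, 0, -1, 0, 1, -1, 0, -1⟩),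
   (⟨1, 1, 1, -1, -1, 1, -1, 1⟩, ⟨-1, 0, -1, 1, 0, 0, 0, -1⟩, ⟨-2, 0, -1, 0, 1, -1, 0, 1⟩),
   (⟨1, 1, 1, -1, -1, 1, 1, -1⟩, ⟨-1, 0, 0, 1, 1, -1, 0, 0⟩, ⟨-2, 0, -2, 0, 0, 0, 0, 0⟩),
   (⟨1, 1, 1, -1, 1, -1, -1, 1⟩, ⟨-1, 0, 0, 1, -1, 1, 0, 0⟩, ⟨-2, 0, -2, 0, 0, 0, 0, 0⟩),
   (⟨1, 1, 1, -1, 1, -1, 1, -1⟩, ⟨-1, 0, -1, 1, 0, 0, 0, 1⟩, ⟨-2, 0, -1, 0, -1, 1, 0, -1⟩),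
   (⟨1, 1, 1, 0, -2, 1, 0, 0⟩, ⟨0, -1, 0, 0, 1, -1, 1, 0⟩, ⟨-2, 0, -1, 0, -1, 1, 0, -1⟩),
   (⟨1, 1, 1, 0, 2, -1, 0, 0⟩, ⟨0, -1, 0, 0, -1, 1, -1, 0⟩, ⟨-2, 0, -1, 0, 1, -1, 0, 1⟩),
   (⟨1, 1, 2, -1, 0, 0, -1, 0⟩, ⟨-1, 0, -1, 1, 0, 0, 0, 1⟩, ⟨-2, 0, -1, 0, 1, -1, 0, -1⟩),
   (⟨1, 1, 2, -1, 0, 0, 1, 0⟩, ⟨-1, 0, -1, 1, 0, 0, 0, -1⟩, ⟨-2, 0, -1, 0, -1, 1, 0, 1⟩),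
   (⟨2, -1, -1, -1, -1, 0, 0, 0⟩, ⟨-1, 1, 1, 0, 0, 1, 0, 0⟩, ⟨-2, 0, -1, 0, 1, -1, 0, -1⟩),
   (⟨2, -1, -1, -1, 1, 0, 0, 0⟩, ⟨-1, 1, 1, 0, 0, -1, 0, 0⟩, ⟨-2, 0, -1, 0, -1, 1, 0, 1⟩),
   (⟨2, -1, -1, 0, 0, 0, -1, -1⟩, ⟨-1, 0, 1, 0, -1, 0, 1, 0⟩, ⟨-2, 0, -1, 0, 1, -1, 0, 1⟩),
   (⟨2, -1, -1, 0, 0, 0, 1, 1⟩, ⟨-1, 0, 1, 0, 1, 0, -1, 0⟩, ⟨-2, 0, -1, 0, -1, 1, 0, -1⟩),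
   (⟨2, -1, 0, -1, 0, -1, 0, -1⟩, ⟨-1, 1, 0, 0, 1, 0, 0, 1⟩, ⟨-2, 0, -1, 0, -1, 1, 0, -1⟩),
   (⟨2, -1, 0, -1, 0, -1, 0, 1⟩, ⟨-1, 1, 1, 0, 0, 1, 0, 0⟩, ⟨-2, 0, -2, 0, 0, 0, 0, 0⟩),
   (⟨2, -1, 0, -1, 0, 1, 0, -1⟩, ⟨-1, 1, 1, 0, 0, -1, 0, 0⟩, ⟨-2, 0, -2, 0, 0, 0, 0, 0⟩),
   (⟨2, -1, 0, -1, 0, 1, 0, 1⟩, ⟨-1, 1, 0, 0, -1, 0, 0, -1⟩, ⟨-2, 0, -1, 0, 1, -1, 0, 1⟩),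
   (⟨2, -1, 0, 0, -1, -1, -1, 0⟩, ⟨-1, 0, 1, 0, 1, 0, 1, 0⟩, ⟨-2, 0, -1, 0, -1, 1, 0, 1⟩),
   (⟨2, -1, 0, 0, -1, -1, 1, 0⟩, ⟨-1, 1, 1, 0, 0, 1, 0, 0⟩, ⟨-2, 0, -1, 0, 1, -1, 0, 1⟩),
   (⟨2, -1, 0, 0, 1, 1, -1, 0⟩, ⟨-1, 1, 1, 0, 0, -1, 0, 0⟩, ⟨-2, 0, -1, 0, -1, 1, 0, -1⟩),
   (⟨2, -1, 0, 0, 1, 1, 1, 0⟩, ⟨-1, 0, 1, 0, -1, 0, -1, 0⟩, ⟨-2, 0, -1, 0, 1, -1, 0, -1⟩),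
   (⟨2, -1, 0, 1, 0, -1, 0, -1⟩, ⟨-1, 0, 1, -1, 0, 0, 0, 1⟩, ⟨-2, 0, -2, 0, 0, 0, 0, 0⟩),
   (⟨2, -1, 0, 1, 0, -1, 0, 1⟩, ⟨-1, 0, 0, -1, -1, 1, 0, 0⟩, ⟨-2, 0, -1, 0, 1, -1, 0, -1⟩),
   (⟨2, -1, 0, 1, 0, 1, 0, -1⟩, ⟨-1, 0, 0, -1, 1, -1, 0, 0⟩, ⟨-2, 0, -1, 0, -1, 1, 0, 1⟩),
   (⟨2, -1, 0, 1, 0, 1, 0, 1⟩, ⟨-1, 0, 1, -1, 0, 0, 0, -1⟩, ⟨-2, 0, -2, 0, 0, 0, 0, 0⟩),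
   (⟨2, -1, 1, 0, 0, 0, -1, -1⟩, ⟨-1, 1, 0, 0, -1, 0, 0, 1⟩, ⟨-2, 0, -1, 0, 1, -1, 0, -1⟩),
   (⟨2, -1, 1, 0, 0, 0, 1, 1⟩, ⟨-1, 1, 0, 0, 1, 0, 0, -1⟩, ⟨-2, 0, -1, 0, -1, 1, 0, 1⟩),
   (⟨2, -1, 1, 1, -1, 0, 0, 0⟩, ⟨-1, 0, 0, -1, 1, -1, 0, 0⟩, ⟨-2, 0, -1, 0, -1, 1, 0, -1⟩),
   (⟨2, -1, 1, 1, 1, 0, 0, 0⟩, ⟨-1, 0, 0, -1, -1, 1, 0, 0⟩, ⟨-2, 0, -1, 0, 1, -1, 0, 1⟩),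
   (⟨2, 0, -2, 0, 0, 0, 0, 0⟩, ⟨0, 0, 2, 0, 0, 0, 0, 0⟩, ⟨-2, 0, -2, 0, 0, 0, 0, 0⟩),
   (⟨2, 0, -1, 0, -1, 1, 0, -1⟩, ⟨0, 0, 1, 0, 1, -1, 0, 1⟩, ⟨-2, 0, -1, 0, -1, 1, 0, -1⟩),
   (⟨2, 0, -1, 0, -1, 1, 0, 1⟩, ⟨0, 0, 1, 0, 1, -1, 0, -1⟩, ⟨-2, 0, -1, 0, -1, 1, 0, 1⟩),
   (⟨2, 0, -1, 0, 1, -1, 0, -1⟩, ⟨0, 0, 1, 0, -1, 1, 0, 1⟩, ⟨-2, 0, -1, 0, 1, -1, 0, -1⟩),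
   (⟨2, 0, -1, 0, 1, -1, 0, 1⟩, ⟨0, 0, 1, 0, -1, 1, 0, -1⟩, ⟨-2, 0, -1, 0, 1, -1, 0, 1⟩),
   (⟨2, 0, -1, 1, 0, -1, -1, 0⟩, ⟨-1, 0, 1, -1, 0, 0, 0, 1⟩, ⟨-2, 0, -1, 0, -1, 1, 0, -1⟩),
   (⟨2, 0, -1, 1, 0, -1, 1, 0⟩, ⟨-1, 0, 1, 0, 1, 0, -1, 0⟩, ⟨-2, 0, -1, 0, -1, 1, 0, 1⟩),
   (⟨2, 0, -1, 1, 0, 1, -1, 0⟩, ⟨-1, 0, 1, 0, -1, 0, 1, 0⟩, ⟨-2, 0, -1, 0, 1, -1, 0, -1⟩),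
   (⟨2, 0, -1, 1, 0, 1, 1, 0⟩, ⟨-1, 0, 1, -1, 0, 0, 0, -1⟩, ⟨-2, 0, -1, 0, 1, -1, 0, 1⟩),
   (⟨2, 0, 0, -1, -1, 0, -1, 1⟩, ⟨-1, 0, 1, 0, 1, 0, 1, 0⟩, ⟨-2, 0, -1, 0, -1, 1, 0, -1⟩),
   (⟨2, 0, 0, -1, -1, 0, 1, -1⟩, ⟨-1, 0, 0, 1, 1, -1, 0, 0⟩, ⟨-2, 0, -1, 0, -1, 1, 0, 1⟩),
   (⟨2, 0, 0, -1, 1, 0, -1, 1⟩, ⟨-1, 0, 0, 1, -1, 1, 0, 0⟩, ⟨-2, 0, -1, 0, 1, -1, 0, -1⟩),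
   (⟨2, 0, 0, -1, 1, 0, 1, -1⟩, ⟨-1, 0, 1, 0, -1, 0, -1, 0⟩, ⟨-2, 0, -1, 0, 1, -1, 0, 1⟩),
   (⟨2, 0, 0, 0, -2, 0, 0, 0⟩, ⟨-1, 0, 1, 0, 1, 0, 1, 0⟩, ⟨-2, 0, -2, 0, 0, 0, 0, 0⟩),
   (⟨2, 0, 0, 0, 0, 0, -2, 0⟩, ⟨-1, 0, 1, 0, -1, 0, 1, 0⟩, ⟨-2, 0, -2, 0, 0, 0, 0, 0⟩),
   (⟨2, 0, 0, 0, 0, 0, 2, 0⟩, ⟨-1, 0, 1, 0, 1, 0, -1, 0⟩, ⟨-2, 0, -2, 0, 0, 0, 0, 0⟩),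
   (⟨2, 0, 0, 0, 2, 0, 0, 0⟩, ⟨-1, 0, 1, 0, -1, 0, -1, 0⟩, ⟨-2, 0, -2, 0, 0, 0, 0, 0⟩),
   (⟨2, 0, 0, 1, -1, 0, -1, 1⟩, ⟨-1, 0, 0, 0, 0, 1, 1, -1⟩, ⟨-2, 0, -1, 0, 1, -1, 0, 1⟩),
   (⟨2, 0, 0, 1, -1, 0, 1, -1⟩, ⟨-1, 0, 1, -1, 0, 0, 0, 1⟩, ⟨-2, 0, -1, 0, 1, -1, 0, -1⟩),
   (⟨2, 0, 0, 1, 1, 0, -1, 1⟩, ⟨-1, 0, 1, -1, 0, 0, 0, -1⟩, ⟨-2, 0, -1, 0, -1, 1, 0, 1⟩),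
   (⟨2, 0, 0, 1, 1, 0, 1, -1⟩, ⟨-1, 0, 0, 0, 0, -1, -1, 1⟩, ⟨-2, 0, -1, 0, -1, 1, 0, -1⟩),
   (⟨2, 0, 1, -1, 0, -1, -1, 0⟩, ⟨-1, 0, 0, 1, -1, 1, 0, 0⟩, ⟨-2, 0, -1, 0, 1, -1, 0, 1⟩),
   (⟨2, 0, 1, -1, 0, -1, 1, 0⟩, ⟨-1, 0, 0, 0, 0, 1, -1, 1⟩, ⟨-2, 0, -1, 0, 1, -1, 0, -1⟩),
   (⟨2, 0, 1, -1, 0, 1, -1, 0⟩, ⟨-1, 0, 0, 0, 0, -1, 1, -1⟩, ⟨-2, 0, -1, 0, -1, 1, 0, 1⟩),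
   (⟨2, 0, 1, -1, 0, 1, 1, 0⟩, ⟨-1, 0, 0, 1, 1, -1, 0, 0⟩, ⟨-2, 0, -1, 0, -1, 1, 0, -1⟩),
   (⟨2, 0, 1, 0, -1, 1, 0, -1⟩, ⟨-2, 0, 0, 0, 0, 0, 0, 0⟩, ⟨-2, 0, -1, 0, 1, -1, 0, 1⟩),
   (⟨2, 0, 1, 0, -1, 1, 0, 1⟩, ⟨-2, 0, 0, 0, 0, 0, 0, 0⟩, ⟨-2, 0, -1, 0, 1, -1, 0, -1⟩),
   (⟨2, 0, 1, 0, 1, -1, 0, -1⟩, ⟨-2, 0, 0, 0, 0, 0, 0, 0⟩, ⟨-2, 0, -1, 0, -1, 1, 0, 1⟩),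
   (⟨2, 0, 1, 0, 1, -1, 0, 1⟩, ⟨-2, 0, 0, 0, 0, 0, 0, 0⟩, ⟨-2, 0, -1, 0, -1, 1, 0, -1⟩),
   (⟨2, 0, 2, 0, 0, 0, 0, 0⟩, ⟨-2, 0, 0, 0, 0, 0, 0, 0⟩, ⟨-2, 0, -2, 0, 0, 0, 0, 0⟩)]

/-! ### The kernel evaluations -/

def tauQ : Q8 := ⟨0, 2, 0, 0, 0, 0, 0, 0⟩
def sigQ : Q8 := ⟨2, -2, 0, 0, 0, 0, 0, 0⟩

/-- the five representatives of norm 2 (the last five entries of `Reps`) -/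
def H5 : List Q8 :=
  [⟨-2, 0, -2, 0, 0, 0, 0, 0⟩, ⟨-2, 0, -1, 0, -1, 1, 0, -1⟩, ⟨-2, 0, -1, 0, -1, 1, 0, 1⟩,
   ⟨-2, 0, -1, 0, 1, -1, 0, -1⟩, ⟨-2, 0, -1, 0, 1, -1, 0, 1⟩]

theorem Reps_eq : Reps = ⟨4, 0, 0, 0, 0, 0, 0, 0⟩ :: Q8.one :: tauQ :: sigQ :: H5 := by decide

theorem H5_sub_Reps {h : Q8} (hh : h ∈ H5) : h ∈ Reps := by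
  rw [Reps_eq]
  simp [hh]

theorem H5_nrm : ∀ h ∈ H5, nrm h = (8, 0) := by decide

theorem tauQ_mem_Reps : tauQ ∈ Reps := by rw [Reps_eq]; simp
theorem sigQ_mem_Reps : sigQ ∈ Reps := by rw [Reps_eq]; simp

def isUnitB (u : Q8) : Bool := decide ((nrm u).1 = 4) && decide ((nrm u).2 = 0) && inI u

theorem filt_4_0 :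
    (enumA 4).filter (fun y => decide ((nrm y).2 = 0) && inI y) = U := by decide +kernel

theorem filt_4_4 :
    (enumA 4).filter (fun y => decide ((nrm y).2 = 4) && inI y) = C44.map Prod.fst := by
  decide +kernel

theorem filt_8_m4 :
    (enumA 8).filter (fun y => decide ((nrm y).2 = -4) && inI y) = C8m.map Prod.fst := by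
  decide +kernel

theorem filt_8_0 :
    (enumA 8).filter (fun y => decide ((nrm y).2 = 0) && inI y) = C80.map Prod.fst := by
  decide +kernel

theorem cert_4_4 : C44.all (fun t => decide (t.1 = Q8.mul t.2 tauQ) && isUnitB t.2) = true := by
  decide +kernel

theorem cert_8_m4 : C8m.all (fun t => decide (t.1 = Q8.mul t.2 sigQ) && isUnitB t.2) = true := by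
  decide +kernel

theorem cert_8_0 :
    C80.all (fun t => decide (t.1 = Q8.mul t.2.1 t.2.2) && isUnitB t.2.1 && decide (t.2.2 ∈ H5))
      = true := by
  decide +kernel

/-! ### The enumeration theorems -/

theorem mem_filter_of {x : Q8} {n : ℕ} {B : ℤ} (hn : n ≤ 8) (hI : inI x = true)
    (h : nrm x = ((n : ℤ), B)) :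
    x ∈ (enumA n).filter (fun y => decide ((nrm y).2 = B) && inI y) := by
  refine List.mem_filter.mpr ⟨mem_enumA_of_nrm x n hn (by rw [h]), ?_⟩
  simp [h, hI]

/-- **the icosians of norm 1 are the 120 units `U`** -/
theorem enum_4_0 {x : Q8} (hI : inI x = true) (h : nrm x = (4, 0)) : x ∈ U := by
  have := mem_filter_of (n := 4) (B := 0) (by norm_num) hI (by simpa using h)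
  rwa [filt_4_0] at this

theorem mem_U_of_isUnitB {u : Q8} (h : isUnitB u = true) : u ∈ U := by
  simp only [isUnitB, Bool.and_eq_true, decide_eq_true_eq] at h
  exact enum_4_0 h.2 (Prod.ext h.1.1 h.1.2)

/-- **the icosians of norm `τ²` are `u τ`, `u ∈ U`** -/
theorem enum_4_4 {x : Q8} (hI : inI x = true) (h : nrm x = (4, 4)) :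
    ∃ u ∈ U, x = Q8.mul u tauQ := by
  have hx := mem_filter_of (n := 4) (B := 4) (by norm_num) hI (by simpa using h)
  rw [filt_4_4, List.mem_map] at hx
  obtain ⟨t, ht, rfl⟩ := hx
  have hc := List.all_eq_true.mp cert_4_4 t ht
  simp only [Bool.and_eq_true, decide_eq_true_eq] at hc
  exact ⟨t.2, mem_U_of_isUnitB hc.2, hc.1⟩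

/-- **the icosians of norm `σ²` are `u σ`, `u ∈ U`** -/
theorem enum_8_m4 {x : Q8} (hI : inI x = true) (h : nrm x = (8, -4)) :
    ∃ u ∈ U, x = Q8.mul u sigQ := by
  have hx := mem_filter_of (n := 8) (B := -4) (by norm_num) hI (by simpa using h)
  rw [filt_8_m4, List.mem_map] at hx
  obtain ⟨t, ht, rfl⟩ := hx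
  have hc := List.all_eq_true.mp cert_8_m4 t ht
  simp only [Bool.and_eq_true, decide_eq_true_eq] at hc
  exact ⟨t.2, mem_U_of_isUnitB hc.2, hc.1⟩

/-- **the icosians of norm 2 are `u h`, `u ∈ U`, `h` one of the five representatives `H5`** -/
theorem enum_8_0 {x : Q8} (hI : inI x = true) (h : nrm x = (8, 0)) :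
    ∃ u ∈ U, ∃ h ∈ H5, x = Q8.mul u h := by
  have hx := mem_filter_of (n := 8) (B := 0) (by norm_num) hI (by simpa using h)
  rw [filt_8_0, List.mem_map] at hx
  obtain ⟨t, ht, rfl⟩ := hx
  have hc := List.all_eq_true.mp cert_8_0 t ht
  simp only [Bool.and_eq_true, decide_eq_true_eq] at hc
  exact ⟨t.2.1, mem_U_of_isUnitB hc.1.2, t.2.2, hc.2, hc.1.1⟩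

/-- the same with `h ∈ Reps` -/
theorem enum_8_0' {x : Q8} (hI : inI x = true) (h : nrm x = (8, 0)) :
    ∃ u ∈ U, ∃ h ∈ Reps, nrm h = (8, 0) ∧ x = Q8.mul u h := by
  obtain ⟨u, hu, h', hh', rfl⟩ := enum_8_0 hI h
  exact ⟨u, hu, h', H5_sub_Reps hh', H5_nrm h' hh', rfl⟩

end Cfsg.Agent.Lib.Helper29.IcoEnum
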