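import Cfsg.Agent.Lib.Helper14.StCC.Defs

set_option autoImplicit false

/-! Steinberg Thm 10 farm (S2398/S2100), piece [A4] = [A-H]: commutators of elements of the torus `H0`
of a `StRep` are central: their images in `GL` are diagonal, hence commute, and `ker θ ≤ centre`. -/

namespace Cfsg.Agent.Lib.Helper29.StCC

open Cfsg.Lie Cfsg.Agent.Lib.Helper8.Chev
open scoped commutatorElement

variable {D : ChevalleyDatum} {K : Type*} [Field K] {Γ : Type*} [Group Γ]

theorem H0_comm_mem_center (S : StRep D K Γ) {g g' : Γ} (hg : g ∈ S.H0) (hg' : g' ∈ S.H0) :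
    ⁅g, g'⁆ ∈ Subgroup.center Γ := by
  apply S.ker_le_center
  rw [MonoidHom.mem_ker, map_commutatorElement, commutatorElement_eq_one_iff_mul_comm]
  exact diagonal_comm (validJ_of_mem S.hD) (valid1_of_mem S.hD) (validH_of_mem S.hD) _
    (S.map_mem_diagonal hg) _ (S.map_mem_diagonal hg')

end Cfsg.Agent.Lib.Helper29.StCC
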