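import Mathlib

/-!
# S2425 piece Q11 (helper29): KC-1 `charpoly_eq_pow_of_irreducible`
-/

set_option autoImplicit false

namespace Cfsg.Agent.Lib.Helper29.S2425Q11

open Polynomial UniqueFactorizationMonoid TensorProduct

variable {F : Type*} [Field F] {V : Type*} [AddCommGroup V] [Module F V] (A : Module.End F V)

/-- a root (in any extension field) of the characteristic polynomial is a root of every polynomial
killing the endomorphism. -/
theorem isRoot_of_isRoot_charpoly [FiniteDimensional F V] (f : F[X])
    (h : Polynomial.aeval A f = 0) (K : Type*) [Field K] [Algebra F K] (μ : K)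
    (hμ : (A.charpoly.map (algebraMap F K)).IsRoot μ) : Polynomial.aeval μ f = 0 := by
  let A' : Module.End K (K ⊗[F] V) := A.baseChange K
  have h1 : A'.charpoly = A.charpoly.map (algebraMap F K) := LinearMap.charpoly_baseChange A K
  have h2 : A'.HasEigenvalue μ := by
    rw [Module.End.hasEigenvalue_iff_isRoot_charpoly, h1]; exact hμ
  obtain ⟨v, hv⟩ := h2.exists_hasEigenvector
  have h3 : Polynomial.aeval A' (f.map (algebraMap F K)) = 0 := by
    rw [Polynomial.aeval_map_algebraMap]
    have hA' : A' = Module.End.baseChangeHom F K V A := rfl
    rw [hA', Polynomial.aeval_algHom_apply, h, map_zero]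
  have h4 := Module.End.aeval_apply_of_hasEigenvector hv (p := f.map (algebraMap F K))
  rw [h3, LinearMap.zero_apply] at h4
  have h5 : (f.map (algebraMap F K)).eval μ = 0 := by
    rcases smul_eq_zero.1 h4.symm with h | h
    · exact h
    · exact absurd h hv.2
  rwa [Polynomial.eval_map_algebraMap] at h5

/-- KC-1: the characteristic polynomial of an endomorphism killed by an irreducible polynomial. -/
theorem charpoly_eq_pow_of_irreducible [FiniteDimensional F V] (f : F[X]) (hf : Irreducible f)
    (hm : f.Monic) (h : Polynomial.aeval A f = 0) :
    A.charpoly = f ^ (Module.finrank F V / f.natDegree) := by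
  classical
  have key : ∀ g ∈ normalizedFactors A.charpoly, g = f := by
    intro g hg
    have hgi : Irreducible g := irreducible_of_normalized_factor g hg
    have hgd : g ∣ A.charpoly := dvd_of_mem_normalizedFactors hg
    have hgm : g.Monic := by
      have hn := normalize_normalized_factor g hg
      rw [← hn]; exact Polynomial.monic_normalize hgi.ne_zero
    obtain ⟨μ, hμ⟩ := IsAlgClosed.exists_aeval_eq_zero (AlgebraicClosure F) g
      (Polynomial.degree_pos_of_irreducible hgi).ne'
    have hroot : (A.charpoly.map (algebraMap F (AlgebraicClosure F))).IsRoot μ := by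
      obtain ⟨c, hc⟩ := hgd
      rw [Polynomial.IsRoot.def, Polynomial.eval_map_algebraMap, hc, map_mul, hμ, zero_mul]
    have hfμ := isRoot_of_isRoot_charpoly A f h (AlgebraicClosure F) μ hroot
    rw [minpoly.eq_of_irreducible_of_monic hgi hμ hgm,
      minpoly.eq_of_irreducible_of_monic hf hfμ hm]
  have hne : A.charpoly ≠ 0 := (LinearMap.charpoly_monic A).ne_zero
  have hrep : normalizedFactors A.charpoly =
      Multiset.replicate (Multiset.card (normalizedFactors A.charpoly)) f :=
    Multiset.eq_replicate.2 ⟨rfl, key⟩
  have hassoc := prod_normalizedFactors hne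
  rw [hrep, Multiset.prod_replicate] at hassoc
  set k := Multiset.card (normalizedFactors A.charpoly) with hk
  have heq : A.charpoly = f ^ k :=
    (Polynomial.eq_of_monic_of_associated (hm.pow k) (LinearMap.charpoly_monic A) hassoc).symm
  have hdeg : Module.finrank F V = k * f.natDegree := by
    have := congrArg Polynomial.natDegree heq
    rwa [LinearMap.charpoly_natDegree, Polynomial.natDegree_pow] at this
  have hfd : 0 < f.natDegree := hf.natDegree_pos
  rw [heq, hdeg, Nat.mul_div_cancel _ hfd]

end Cfsg.Agent.Lib.Helper29.S2425Q11
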