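import Mathlib
import Cfsg.Agent.Lib.Helper29.S2425Q11

/-!
# S2425 piece Q12 (helper29): KCHAR `charpoly_eq_prod_pow`
-/

set_option autoImplicit false

namespace Cfsg.Agent.Lib.Helper29.S2425Q12

open Polynomial

section

variable {F : Type*} [Field F] {V : Type*} [AddCommGroup V] [Module F V] (A : Module.End F V)

/-- the characteristic polynomial is multiplicative over a pair of complementary invariant
subspaces. -/
theorem charpoly_of_isCompl [FiniteDimensional F V] (Z W : Submodule F V) (hZW : IsCompl Z W)
    (hZ : ∀ x ∈ Z, A x ∈ Z) (hW : ∀ x ∈ W, A x ∈ W) :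
    A.charpoly = (A.restrict hZ).charpoly * (A.restrict hW).charpoly := by
  let e := Submodule.prodEquivOfIsCompl Z W hZW
  have hψ : (A.restrict hZ).prodMap (A.restrict hW) = e.symm.conj A := by
    apply LinearMap.ext
    rintro ⟨z, w⟩
    apply e.injective
    rw [LinearEquiv.conj_apply]
    simp only [LinearMap.comp_apply, LinearEquiv.coe_coe, LinearEquiv.symm_symm,
      LinearEquiv.apply_symm_apply, LinearMap.prodMap_apply]
    simp only [e, Submodule.coe_prodEquivOfIsCompl', LinearMap.coe_restrict_apply, map_add]
  rw [← e.symm.charpoly_conj A, ← hψ, LinearMap.charpoly_prodMap]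

/-- polynomials in a restriction. -/
theorem aeval_restrict_apply (W : Submodule F V) (hW : ∀ x ∈ W, A x ∈ W) (p : F[X]) (w : W) :
    ((Polynomial.aeval (A.restrict hW) p w : W) : V) = Polynomial.aeval A p (w : V) := by
  induction p using Polynomial.induction_on' with
  | add p q hp hq => simp [map_add, hp, hq]
  | monomial n a =>
    rw [Polynomial.aeval_monomial, Polynomial.aeval_monomial, Module.End.pow_restrict n hW]
    simp [Algebra.algebraMap_eq_smul_one]

theorem isCoprime_of_ne {f g : F[X]} (hf : Irreducible f) (hfm : f.Monic) (hg : Irreducible g)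
    (hgm : g.Monic) (hne : f ≠ g) : IsCoprime f g := by
  rcases EuclideanDomain.dvd_or_coprime f g hf with h | h
  · exfalso
    exact hne (Polynomial.eq_of_monic_of_associated hfm hgm (hf.associated_of_dvd hg h))
  · exact h

theorem ker_le_ker_of_dvd {p q : F[X]} (h : p ∣ q) :
    LinearMap.ker (Polynomial.aeval A p) ≤ LinearMap.ker (Polynomial.aeval A q) := by
  obtain ⟨c, rfl⟩ := h
  intro v hv
  rw [LinearMap.mem_ker] at hv ⊢
  rw [mul_comm, map_mul, Module.End.mul_apply, hv, map_zero]

end

/-- KCHAR: the characteristic polynomial of a semisimple endomorphism. -/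
theorem charpoly_eq_prod_pow {F : Type*} [Field F] {V : Type*} [AddCommGroup V] [Module F V]
    (A : Module.End F V) [FiniteDimensional F V] (S : Finset F[X])
    (hS : ∀ f ∈ S, Irreducible f ∧ f.Monic) (h0 : Polynomial.aeval A (∏ f ∈ S, f) = 0) :
    A.charpoly = ∏ f ∈ S,
      f ^ (Module.finrank F (LinearMap.ker (Polynomial.aeval A f)) / f.natDegree) := by
  classical
  induction S using Finset.induction_on generalizing V with
  | empty =>
    simp only [Finset.prod_empty, map_one] at h0 ⊢
    have hsub : Subsingleton V := by
      constructor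
      intro a b
      have h1 : (1 : Module.End F V) a = (1 : Module.End F V) b := by rw [h0]; simp
      simpa using h1
    have hfr : Module.finrank F V = 0 := Module.finrank_zero_of_subsingleton
    have hmon := LinearMap.charpoly_monic A
    have hdeg : A.charpoly.natDegree = 0 := by rw [LinearMap.charpoly_natDegree, hfr]
    exact Polynomial.eq_one_of_monic_natDegree_zero hmon hdeg
  | insert f S' hfS ih =>
    have hf := hS f (Finset.mem_insert_self f S')
    have hS' : ∀ g ∈ S', Irreducible g ∧ g.Monic := fun g hg => hS g (Finset.mem_insert_of_mem hg)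
    set P' : F[X] := ∏ g ∈ S', g with hP'
    rw [Finset.prod_insert hfS] at h0
    have hcop : IsCoprime f P' := by
      apply IsCoprime.prod_right
      intro g hg
      exact isCoprime_of_ne hf.1 hf.2 (hS' g hg).1 (hS' g hg).2
        (fun h => hfS (h ▸ hg))
    set Z := LinearMap.ker (Polynomial.aeval A f) with hZdef
    set W := LinearMap.ker (Polynomial.aeval A P') with hWdef
    have hcomm : ∀ p : F[X], ∀ x, Polynomial.aeval A p (A x) = A (Polynomial.aeval A p x) := by
      intro p x
      have h1 : Polynomial.aeval A (p * X) = Polynomial.aeval A (X * p) := by rw [mul_comm]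
      rw [map_mul, map_mul, Polynomial.aeval_X] at h1
      have := congrArg (fun T : Module.End F V => T x) h1
      simpa [Module.End.mul_apply] using this
    have hZ : ∀ x ∈ Z, A x ∈ Z := by
      intro x hx
      rw [hZdef, LinearMap.mem_ker] at hx ⊢
      rw [hcomm, hx, map_zero]
    have hW : ∀ x ∈ W, A x ∈ W := by
      intro x hx
      rw [hWdef, LinearMap.mem_ker] at hx ⊢
      rw [hcomm, hx, map_zero]
    have hZW : IsCompl Z W := by
      refine ⟨Polynomial.disjoint_ker_aeval_of_isCoprime A hcop, ?_⟩
      rw [codisjoint_iff, hZdef, hWdef, Polynomial.sup_ker_aeval_eq_ker_aeval_mul_of_coprime A hcop,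
        h0, LinearMap.ker_zero]
    rw [charpoly_of_isCompl A Z W hZW hZ hW, Finset.prod_insert hfS]
    congr 1
    · -- the `f`-part
      have hkill : Polynomial.aeval (A.restrict hZ) f = 0 := by
        apply LinearMap.ext
        intro z
        apply Subtype.ext
        rw [aeval_restrict_apply A Z hZ f z]
        have : (z : V) ∈ LinearMap.ker (Polynomial.aeval A f) := z.2
        rw [LinearMap.mem_ker] at this
        rw [this]; rfl
      exact Cfsg.Agent.Lib.Helper29.S2425Q11.charpoly_eq_pow_of_irreducible (A.restrict hZ) f
        hf.1 hf.2 hkill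
    · -- the rest, by induction
      have hkill : Polynomial.aeval (A.restrict hW) (∏ g ∈ S', g) = 0 := by
        apply LinearMap.ext
        intro w
        apply Subtype.ext
        rw [aeval_restrict_apply A W hW _ w]
        have : (w : V) ∈ LinearMap.ker (Polynomial.aeval A P') := w.2
        rw [LinearMap.mem_ker] at this
        rw [this]; rfl
      rw [ih (A.restrict hW) hS' hkill]
      apply Finset.prod_congr rfl
      intro g hg
      congr 2
      -- the kernels of `g(A|W)` and `g(A)` have the same dimension
      have hle : LinearMap.ker (Polynomial.aeval A g) ≤ W :=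
        ker_le_ker_of_dvd A (Finset.dvd_prod_of_mem _ hg)
      have hmap : (LinearMap.ker (Polynomial.aeval (A.restrict hW) g)).map W.subtype =
          LinearMap.ker (Polynomial.aeval A g) := by
        ext v
        constructor
        · rintro ⟨w, hw, rfl⟩
          rw [SetLike.mem_coe, LinearMap.mem_ker] at hw
          rw [LinearMap.mem_ker, Submodule.subtype_apply, ← aeval_restrict_apply A W hW g w, hw]
          rfl
        · intro hv
          refine ⟨⟨v, hle hv⟩, ?_, rfl⟩
          rw [SetLike.mem_coe, LinearMap.mem_ker]
          apply Subtype.ext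
          rw [aeval_restrict_apply A W hW g]
          rw [LinearMap.mem_ker] at hv
          simpa using hv
      rw [← hmap, Submodule.finrank_map_subtype_eq]

end Cfsg.Agent.Lib.Helper29.S2425Q12
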