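import Mathlib
import Cfsg.Agent.Lib.Helper14.StGLDefs

/-!
# S2425 piece Q13 (helper29): UFD `normalizedFactors_prod_pow` and KRAD `aeval_prod_factors_eq_zero`
-/

set_option autoImplicit false

namespace Cfsg.Agent.Lib.Helper29.S2425Q13

open Polynomial UniqueFactorizationMonoid

section UFD

variable {F : Type*} [Field F] [DecidableEq F]

theorem normalizedFactors_prod_pow_aux (S : Finset F[X]) (hS : ∀ f ∈ S, Irreducible f ∧ f.Monic)
    (e : F[X] → ℕ) :
    normalizedFactors (∏ g ∈ S, g ^ e g) = ∑ g ∈ S, Multiset.replicate (e g) g := by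
  classical
  induction S using Finset.induction_on with
  | empty => simp
  | insert a S ha ih =>
    have hS' : ∀ f ∈ S, Irreducible f ∧ f.Monic := fun f hf => hS f (Finset.mem_insert_of_mem hf)
    have ha' := hS a (Finset.mem_insert_self a S)
    rw [Finset.prod_insert ha, Finset.sum_insert ha]
    have h1 : a ^ e a ≠ 0 := pow_ne_zero _ ha'.1.ne_zero
    have h2 : (∏ g ∈ S, g ^ e g) ≠ 0 :=
      Finset.prod_ne_zero_iff.2 fun g hg => pow_ne_zero _ (hS' g hg).1.ne_zero
    rw [normalizedFactors_mul h1 h2, ih hS', normalizedFactors_pow,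
      normalizedFactors_irreducible ha'.1, ha'.2.normalize_eq_self, Multiset.nsmul_singleton]

/-- UFD: the factorisation of a product of powers of distinct monic irreducible polynomials. -/
theorem normalizedFactors_prod_pow (S : Finset F[X]) (hS : ∀ f ∈ S, Irreducible f ∧ f.Monic)
    (e : F[X] → ℕ) :
    (∀ f ∈ S, (UniqueFactorizationMonoid.normalizedFactors (∏ g ∈ S, g ^ e g)).count f = e f) ∧
    (UniqueFactorizationMonoid.normalizedFactors (∏ g ∈ S, g ^ e g)).toFinset =
      S.filter (fun f => e f ≠ 0) := by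
  have hcount : ∀ f : F[X], (normalizedFactors (∏ g ∈ S, g ^ e g)).count f =
      if f ∈ S then e f else 0 := by
    intro f
    rw [normalizedFactors_prod_pow_aux S hS e, Multiset.count_sum']
    simp only [Multiset.count_replicate]
    rw [Finset.sum_ite_eq' S f]
  refine ⟨fun f hf => by rw [hcount f, if_pos hf], ?_⟩
  ext f
  rw [Multiset.mem_toFinset, ← Multiset.count_pos, hcount f, Finset.mem_filter]
  by_cases hf : f ∈ S
  · simp [hf, Nat.pos_iff_ne_zero]
  · simp [hf]

/-- KRAD: a `p'`-element is killed by the radical of its characteristic polynomial. -/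
theorem aeval_prod_factors_eq_zero (p : ℕ) [Fact p.Prime] [CharP F p] {n : ℕ}
    (x : GL (Fin n) F) (hx : (orderOf x).Coprime p) :
    Polynomial.aeval (Matrix.toLin' (x : Matrix (Fin n) (Fin n) F))
      (∏ f ∈ (UniqueFactorizationMonoid.normalizedFactors
        (x : Matrix (Fin n) (Fin n) F).charpoly).toFinset, f) = 0 := by
  classical
  set M : Matrix (Fin n) (Fin n) F := (x : Matrix (Fin n) (Fin n) F) with hM
  set N := orderOf x with hN
  have hp : p.Prime := Fact.out
  have hN0 : N ≠ 0 := by
    intro h0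
    rw [h0, Nat.coprime_zero_left] at hx
    exact hp.one_lt.ne' hx
  have hNF : (N : F) ≠ 0 := by
    intro h0
    have hdvd : p ∣ N := (CharP.cast_eq_zero_iff F p N).1 h0
    have : p ∣ Nat.gcd N p := Nat.dvd_gcd hdvd dvd_rfl
    rw [Nat.Coprime] at hx
    rw [hx] at this
    exact hp.one_lt.ne' (Nat.dvd_one.1 this)
  have hMN : M ^ N = 1 := by
    have h1 : x ^ N = 1 := pow_orderOf_eq_one x
    have h2 := congrArg (fun y : GL (Fin n) F => (y : Matrix (Fin n) (Fin n) F)) h1
    simpa using h2
  -- the minimal polynomial divides `X^N - 1`, hence is squarefree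
  have hroot : Polynomial.aeval M (X ^ N - 1 : F[X]) = 0 := by
    simp [hMN]
  have hdvd1 : minpoly F M ∣ (X ^ N - 1 : F[X]) := minpoly.dvd F M hroot
  have hsep : (X ^ N - 1 : F[X]).Separable := X_pow_sub_one_separable_iff.2 hNF
  have hsq : Squarefree (minpoly F M) := hsep.squarefree.squarefree_of_dvd hdvd1
  have hdvd2 : minpoly F M ∣ M.charpoly := Matrix.minpoly_dvd_charpoly M
  have hm0 : minpoly F M ≠ 0 := minpoly.ne_zero (Matrix.isIntegral M)
  have hc0 : M.charpoly ≠ 0 := (Matrix.charpoly_monic M).ne_zero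
  have hle : normalizedFactors (minpoly F M) ≤ normalizedFactors M.charpoly :=
    (dvd_iff_normalizedFactors_le_normalizedFactors hm0 hc0).1 hdvd2
  have hnd : (normalizedFactors (minpoly F M)).Nodup :=
    (squarefree_iff_nodup_normalizedFactors hm0).1 hsq
  have hle' : normalizedFactors (minpoly F M) ≤ (normalizedFactors M.charpoly).dedup :=
    Multiset.le_dedup.2 ⟨hle, hnd⟩
  have hprod : (∏ f ∈ (normalizedFactors M.charpoly).toFinset, f) =
      ((normalizedFactors M.charpoly).dedup).prod := by
    rw [Finset.prod_eq_multiset_prod, Multiset.toFinset_val, Multiset.map_id']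
  have hdvd3 : minpoly F M ∣ ∏ f ∈ (normalizedFactors M.charpoly).toFinset, f := by
    rw [hprod]
    exact (prod_normalizedFactors hm0).symm.dvd.trans (Multiset.prod_dvd_prod_of_le hle')
  have hzero : Polynomial.aeval M (∏ f ∈ (normalizedFactors M.charpoly).toFinset, f) = 0 :=
    (minpoly.dvd_iff).1 hdvd3
  have htl : Matrix.toLin' M = (Matrix.toLinAlgEquiv' : Matrix (Fin n) (Fin n) F ≃ₐ[F] _) M := rfl
  rw [htl, Polynomial.aeval_algEquiv, AlgHom.comp_apply, hzero]
  simp

end UFD

end Cfsg.Agent.Lib.Helper29.S2425Q13
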