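import Mathlib
import Cfsg.Agent.Lib.Helper28.TensUDefs
import Cfsg.Agent.Lib.Helper26.S5670T3cDefs
import Cfsg.Agent.Lib.Helper28.S5670FOHS

/-!
S5670 FO-T3c (sub-architect helper26), piece F-API: the field with four elements and hermitian matrices over it.
-/

set_option autoImplicit false
set_option linter.unusedSectionVars false
set_option linter.unusedVariables false

namespace Cfsg.Agent.Lib.Helper29.S5670T3cFAPI

open Matrix Module
open Cfsg.Agent.Lib.Helper16.Tens Cfsg.Agent.Lib.Helper10.TensFund Cfsg.Agent.Lib.Helper28.TensU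
  Cfsg.Agent.Lib.Helper26.T3c
open scoped Kronecker

variable {F : Type*} [Field F] [Fintype F] {a b : ℕ} {q : ℕ}

/-- F-API (a) -/
theorem f4_two (hF : Fintype.card F = 2 ^ 2) : (2 : F) = 0 := by
  obtain ⟨p, hp⟩ := CharP.exists F
  haveI := hp
  haveI hpp : Fact p.Prime := ⟨CharP.char_is_prime F p⟩
  obtain ⟨k, hk⟩ := FiniteField.card F p
  have hk1 : p ^ (k : ℕ) = 2 ^ 2 := by rw [← hk.2, hF]
  have hdvd : p ∣ 2 ^ 2 := by
    rw [← hk1]
    exact dvd_pow_self p k.pos.ne'
  have hp2 : p = 2 := (Nat.prime_dvd_prime_iff_eq hpp.out Nat.prime_two).mp (hpp.out.dvd_of_dvd_pow hdvd)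
  subst hp2
  exact_mod_cast CharP.cast_eq_zero F 2

/-- F-API (b) -/
theorem f4_pow_four (hF : Fintype.card F = 2 ^ 2) (x : F) : x ^ 4 = x := by
  have h := FiniteField.pow_card x
  rw [hF] at h
  exact h

/-- F-API (c) -/
theorem f4_pow_three (hF : Fintype.card F = 2 ^ 2) {x : F} (hx : x ≠ 0) : x ^ 3 = 1 := by
  have h := f4_pow_four hF x
  have h2 : x * x ^ 3 = x * 1 := by
    rw [mul_one, ← pow_succ']
    exact h
  exact mul_left_cancel₀ hx h2

/-- F-API (d) -/
theorem f4_exists_omega (hF : Fintype.card F = 2 ^ 2) : ∃ ω : F, ω ≠ 0 ∧ ω ≠ 1 ∧ ω ^ 2 = ω + 1 := by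
  classical
  have h2 := f4_two hF
  have hex : ∃ ω : F, ω ≠ 0 ∧ ω ≠ 1 := by
    by_contra hcon
    push Not at hcon
    have hsub : (Finset.univ : Finset F) ⊆ {0, 1} := by
      intro x _
      by_cases hx : x = 0
      · simp [hx]
      · simp [hcon x hx]
    have hc := Finset.card_le_card hsub
    rw [Finset.card_univ, hF] at hc
    have : ({0, 1} : Finset F).card ≤ 2 := Finset.card_le_two
    omega
  obtain ⟨ω, h0, h1⟩ := hex
  refine ⟨ω, h0, h1, ?_⟩
  have h3 := f4_pow_three hF h0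
  have hfac : (ω - 1) * (ω ^ 2 + ω + 1) = 0 := by
    linear_combination h3
  rcases mul_eq_zero.mp hfac with h | h
  · exact absurd (sub_eq_zero.mp h) h1
  · linear_combination h - (ω + 1) * h2

/-- F-API (e) -/
theorem f4_cases (hF : Fintype.card F = 2 ^ 2) {ω : F} (hω : ω ^ 2 = ω + 1) (x : F) :
    x = 0 ∨ x = 1 ∨ x = ω ∨ x = ω + 1 := by
  have h2 := f4_two hF
  have h4 := f4_pow_four hF x
  have hP : x * (x - 1) * (x - ω) * (x - (ω + 1)) = 0 := by
    linear_combination h4 + (x ^ 2 - x ^ 3 + ω * (1 - x) * (x ^ 2 - x)) * h2 + (x ^ 2 - x) * hω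
  rcases mul_eq_zero.mp hP with h | h
  · rcases mul_eq_zero.mp h with h | h
    · rcases mul_eq_zero.mp h with h | h
      · exact Or.inl h
      · exact Or.inr (Or.inl (sub_eq_zero.mp h))
    · exact Or.inr (Or.inr (Or.inl (sub_eq_zero.mp h)))
  · exact Or.inr (Or.inr (Or.inr (sub_eq_zero.mp h)))

/-- `-x = x` in characteristic two -/
theorem f4_neg (hF : Fintype.card F = 2 ^ 2) (x : F) : -x = x := by
  have h2 := f4_two hF
  linear_combination (-x) * h2

/-- `x + x = 0` in characteristic two -/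
theorem f4_add_self (hF : Fintype.card F = 2 ^ 2) (x : F) : x + x = 0 := by
  have h2 := f4_two hF
  linear_combination x * h2

/-- F-API (f) : the entries of a skew-hermitian matrix (`q = 2`: hermitian) -/
theorem skewM_entry (hF : Fintype.card F = 2 ^ 2) {S : Matrix (Fin a) (Fin a) F} (hS : SkewM 2 S)
    (i j : Fin a) : S j i = S i j ^ 2 := by
  have h := hS (Pi.single i 1) (Pi.single j 1)
  rw [Cfsg.Agent.Lib.Helper28.S5670HS.hs_single_right (by norm_num), Matrix.mulVec_single_one,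
    Matrix.mulVec_single_one] at h
  have h' : hs 2 (Pi.single i (1 : F)) (S.col j) = S i j ^ 2 := by
    simp only [hs]
    rw [Finset.sum_eq_single i]
    · simp [Matrix.col_apply]
    · intro k _ hk
      simp [Pi.single_eq_of_ne hk]
    · intro h; exact absurd (Finset.mem_univ i) h
  rw [h'] at h
  have h3 : S.col i j = S j i := rfl
  rw [h3] at h
  have := f4_neg hF (S i j ^ 2)
  linear_combination h + this

/-- F-API (g) : conversely -/
theorem skewM_of_entry (hF : Fintype.card F = 2 ^ 2) {S : Matrix (Fin a) (Fin a) F}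
    (h : ∀ i j : Fin a, S j i = S i j ^ 2) : SkewM 2 S := by
  intro x y
  have e1 : hs 2 (S *ᵥ x) y = ∑ k, ∑ l, S k l * x l * y k ^ 2 := by
    simp only [hs, Matrix.mulVec, dotProduct]
    apply Finset.sum_congr rfl
    intro k _
    rw [Finset.sum_mul]
  have e2 : hs 2 x (S *ᵥ y) = ∑ k, ∑ l, S k l * x l * y k ^ 2 := by
    simp only [hs, Matrix.mulVec, dotProduct]
    rw [Finset.sum_comm]
    apply Finset.sum_congr rfl
    intro l _
    rw [Cfsg.Agent.Lib.Helper28.S5670HS.sum_pow_q hF, Finset.mul_sum]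
    apply Finset.sum_congr rfl
    intro k _
    rw [mul_pow, ← h l k]
    ring
  rw [e1, e2]
  exact f4_add_self hF _

end Cfsg.Agent.Lib.Helper29.S5670T3cFAPI
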