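import Mathlib
import Cfsg.Agent.Lib.Helper17.FpfDefs

/-! S2863 FO-4 (helper29, for helper17): transport of `TwoRootProp` along an isomorphism. -/

set_option autoImplicit false

namespace Cfsg.Agent.Lib.Helper29.S2863

open Cfsg.Agent.Lib.Helper17.Fpf

theorem FO4_twoRootProp_of_map {p : ℕ} {X X' : Type*} [Group X] [Group X'] (e : X ≃* X')
    {Y : Subgroup X} (h : TwoRootProp p (Y.map e.toMonoidHom)) : TwoRootProp p Y := by
  intro x hx
  have hx' : ¬ ∃ k : ℕ, orderOf (e x) = p ^ k := by
    rw [MulEquiv.orderOf_eq]; exact hx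
  obtain ⟨n, y₀, s, g, y, y', hy₀, hc, hy, hy1, hy', hy'1, hg, heq⟩ := h (e x) hx'
  have memY : ∀ z : X', z ∈ Y.map e.toMonoidHom → e.symm z ∈ Y := by
    rintro _ ⟨w, hw, rfl⟩
    simpa using hw
  refine ⟨n, e.symm y₀, e.symm s, e.symm g, e.symm y, e.symm y', memY _ hy₀, ?_, memY _ hy, ?_,
    memY _ hy', ?_, ?_, ?_⟩
  · rcases hc with hc | hc
    · left; rw [hc]; simp
    · right
      rw [Subgroup.mem_center_iff] at hc ⊢
      intro z
      apply e.injective
      have := hc (e z)
      simpa using this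
  · intro h1; apply hy1
    have := congrArg e h1
    simpa using this
  · intro h1; apply hy'1
    have := congrArg e h1
    simpa using this
  · intro hn
    apply hg
    rw [Subgroup.mem_normalizer_iff] at hn ⊢
    intro z
    constructor
    · rintro ⟨w, hw, rfl⟩
      have h2 := (hn w).mp hw
      refine ⟨e.symm g * w * (e.symm g)⁻¹, h2, ?_⟩
      simp
    · rintro ⟨w, hw, hwe⟩
      have hz : z = g⁻¹ * e w * g := by
        have : e w = g * z * g⁻¹ := hwe
        rw [this]; group
      have h2 : (e.symm g)⁻¹ * w * (e.symm g) ∈ Y := by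
        have h3 := (hn ((e.symm g)⁻¹ * w * (e.symm g)))
        apply h3.mpr
        have : e.symm g * ((e.symm g)⁻¹ * w * e.symm g) * (e.symm g)⁻¹ = w := by group
        rw [this]; exact hw
      refine ⟨(e.symm g)⁻¹ * w * (e.symm g), h2, ?_⟩
      rw [hz]
      simp
  · apply e.injective
    have : e (x ^ n * e.symm y₀) = e x ^ n * y₀ := by simp
    rw [this, heq]
    simp

end Cfsg.Agent.Lib.Helper29.S2863
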