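import Mathlib
import Cfsg.Agent.Lib.Helper28.TensUDefs
import Cfsg.Agent.Lib.Helper26.S5670T3cDefs
import Cfsg.Agent.Lib.Helper29.S5670T3cFAPI

/-!
S5670 FO-T3c (sub-architect helper26), piece F-MASK: `S + dSd⁻¹ + d²Sd⁻² = maskM d S`.
-/

set_option autoImplicit false
set_option linter.unusedSectionVars false
set_option linter.unusedVariables false

namespace Cfsg.Agent.Lib.Helper29.S5670T3cFMASK

open Matrix Module
open Cfsg.Agent.Lib.Helper16.Tens Cfsg.Agent.Lib.Helper10.TensFund Cfsg.Agent.Lib.Helper28.TensU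
  Cfsg.Agent.Lib.Helper26.T3c
open Cfsg.Agent.Lib.Helper29.S5670T3cFAPI
open scoped Kronecker

variable {F : Type*} [Field F] [Fintype F] {a b : ℕ} {q : ℕ}

theorem ct_diagonal (d : Fin a → F) : ct 2 (Matrix.diagonal d) = Matrix.diagonal fun i => d i ^ 2 := by
  ext i j
  simp only [ct_apply, Matrix.diagonal_apply]
  by_cases h : i = j
  · subst h; simp
  · have h' : j ≠ i := fun e => h e.symm
    simp [h, h']

theorem diag_mul_ct (hF : Fintype.card F = 2 ^ 2) (d : Fin a → F) (hd : ∀ i, d i ≠ 0) :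
    Matrix.diagonal d * ct 2 (Matrix.diagonal d) = 1 := by
  rw [ct_diagonal, Matrix.diagonal_mul_diagonal, ← Matrix.diagonal_one]
  congr 1
  funext i
  have := f4_pow_three hF (hd i)
  rw [← this]
  ring

theorem diag_conj (d : Fin a → F) (S : Matrix (Fin a) (Fin a) F) (x y : Fin a) :
    (Matrix.diagonal d * S * ct 2 (Matrix.diagonal d)) x y = d x * d y ^ 2 * S x y := by
  rw [ct_diagonal, Matrix.mul_diagonal, Matrix.diagonal_mul]
  ring

/-- F-MASK : conjugating with the diagonal torus element `d` of order 3 and averaging -/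
theorem mask_mem (hF : Fintype.card F = 2 ^ 2) {X : AddSubgroup (Matrix (Fin a) (Fin a) F)}
    (hX : InvX 2 X) (d : Fin a → F) (hd : ∀ i, d i ≠ 0) (hdet : ∏ i, d i = 1)
    {S : Matrix (Fin a) (Fin a) F} (hS : S ∈ X) : maskM d S ∈ X := by
  classical
  have h2 := f4_two hF
  have hd2 : ∀ i, d i ^ 2 ≠ 0 := fun i => pow_ne_zero 2 (hd i)
  have hdet2 : ∏ i, d i ^ 2 = 1 := by
    rw [Finset.prod_pow, hdet, one_pow]
  have m1 : Matrix.diagonal d * S * ct 2 (Matrix.diagonal d) ∈ X :=
    hX.conj _ (diag_mul_ct hF d hd) (by rw [Matrix.det_diagonal, hdet]) S hS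
  have m2 : Matrix.diagonal (fun i => d i ^ 2) * S * ct 2 (Matrix.diagonal fun i => d i ^ 2) ∈ X :=
    hX.conj _ (diag_mul_ct hF _ hd2) (by rw [Matrix.det_diagonal, hdet2]) S hS
  have hsum : maskM d S = S + Matrix.diagonal d * S * ct 2 (Matrix.diagonal d) +
      Matrix.diagonal (fun i => d i ^ 2) * S * ct 2 (Matrix.diagonal fun i => d i ^ 2) := by
    ext x y
    rw [Matrix.add_apply, Matrix.add_apply, diag_conj, diag_conj, maskM_apply]
    have hx3 := f4_pow_three hF (hd x)
    have hy3 := f4_pow_three hF (hd y)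
    by_cases hxy : d x = d y
    · rw [if_pos hxy, hxy]
      have e1 : d y * d y ^ 2 = 1 := by rw [← hy3]; ring
      have e2 : d y ^ 2 * (d y ^ 2) ^ 2 = 1 := by
        have : d y ^ 2 * (d y ^ 2) ^ 2 = (d y ^ 3) ^ 2 := by ring
        rw [this, hy3, one_pow]
      rw [e1, e2]
      linear_combination (-(S x y)) * h2
    · rw [if_neg hxy]
      set r : F := d x * d y ^ 2 with hr
      have hr3 : r ^ 3 = 1 := by
        rw [hr, mul_pow, hx3, ← pow_mul]
        have : d y ^ (2 * 3) = (d y ^ 3) ^ 2 := by ring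
        rw [this, hy3]
        ring
      have hr1 : r ≠ 1 := by
        intro h1
        apply hxy
        have : d x * (d y ^ 2 * d y) = d y := by
          rw [← mul_assoc, ← hr, h1, one_mul]
        have h3 : d y ^ 2 * d y = 1 := by rw [← hy3]; ring
        rwa [h3, mul_one] at this
      have hfac : (r - 1) * (r ^ 2 + r + 1) = 0 := by linear_combination hr3
      have hz : r ^ 2 + r + 1 = 0 := by
        rcases mul_eq_zero.mp hfac with h | h
        · exact absurd (sub_eq_zero.mp h) hr1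
        · exact h
      have e2 : d x ^ 2 * (d y ^ 2) ^ 2 = r ^ 2 := by rw [hr]; ring
      rw [e2]
      linear_combination (-(S x y)) * hz
  rw [hsum]
  exact X.add_mem (X.add_mem hS m1) m2

end Cfsg.Agent.Lib.Helper29.S5670T3cFMASK
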