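import Mathlib
import Cfsg.Agent.Lib.Helper28.TensUDefs
import Cfsg.Agent.Lib.Helper26.S5670T3cDefs
import Cfsg.Agent.Lib.Helper29.S5670T3cFAPI

/-!
S5670 FO-T3c (sub-architect helper26), piece F-PERM: conjugation by permutation matrices.
-/

set_option autoImplicit false
set_option linter.unusedSectionVars false
set_option linter.unusedVariables false

namespace Cfsg.Agent.Lib.Helper29.S5670T3cFPERM

open Matrix Module
open Cfsg.Agent.Lib.Helper16.Tens Cfsg.Agent.Lib.Helper10.TensFund Cfsg.Agent.Lib.Helper28.TensU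
  Cfsg.Agent.Lib.Helper26.T3c
open Cfsg.Agent.Lib.Helper29.S5670T3cFAPI
open scoped Kronecker

variable {F : Type*} [Field F] [Fintype F] {a b : ℕ} {q : ℕ}

/-- the permutation matrix with `1` at `(i, σ i)` -/
def pM (σ : Equiv.Perm (Fin a)) : Matrix (Fin a) (Fin a) F :=
  Matrix.of fun i j => if σ i = j then 1 else 0

theorem pM_eq (σ : Equiv.Perm (Fin a)) : (pM σ : Matrix (Fin a) (Fin a) F) = σ.permMatrix F := by
  ext i j
  simp [pM, Equiv.Perm.permMatrix, PEquiv.toMatrix_apply, Equiv.toPEquiv_apply, eq_comm]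

theorem ct_pM (σ : Equiv.Perm (Fin a)) :
    ct 2 (pM σ : Matrix (Fin a) (Fin a) F) = Matrix.of fun i j => if σ j = i then 1 else 0 := by
  ext i j
  simp only [ct_apply, pM, Matrix.of_apply]
  split_ifs <;> simp

theorem pM_mul_ct (σ : Equiv.Perm (Fin a)) :
    (pM σ : Matrix (Fin a) (Fin a) F) * ct 2 (pM σ) = 1 := by
  rw [ct_pM]
  ext i j
  simp only [Matrix.mul_apply, pM, Matrix.of_apply, Matrix.one_apply]
  rw [Finset.sum_eq_single (σ i)]
  · simp only [if_true, one_mul]
    by_cases h : i = j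
    · simp [h]
    · have : σ j ≠ σ i := fun e => h (σ.injective e).symm
      simp [h, this]
  · intro k _ hk
    simp [Ne.symm hk]
  · intro h; exact absurd (Finset.mem_univ _) h

theorem pM_conj (σ : Equiv.Perm (Fin a)) (S : Matrix (Fin a) (Fin a) F) :
    (pM σ : Matrix (Fin a) (Fin a) F) * S * ct 2 (pM σ) = S.submatrix σ σ := by
  rw [ct_pM]
  ext i j
  simp only [Matrix.mul_apply, pM, Matrix.of_apply, Matrix.submatrix_apply]
  rw [Finset.sum_eq_single (σ j)]
  · rw [Finset.sum_eq_single (σ i)]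
    · simp
    · intro k _ hk
      simp [Ne.symm hk]
    · intro h; exact absurd (Finset.mem_univ _) h
  · intro k _ hk
    simp [Ne.symm hk]
  · intro h; exact absurd (Finset.mem_univ _) h

theorem det_pM (hF : Fintype.card F = 2 ^ 2) (σ : Equiv.Perm (Fin a)) :
    (pM σ : Matrix (Fin a) (Fin a) F).det = 1 := by
  rw [pM_eq, Matrix.det_permutation]
  rcases Int.units_eq_one_or (Equiv.Perm.sign σ) with h | h
  · rw [h]; simp
  · rw [h]
    simp only [Units.val_neg, Units.val_one, Int.cast_neg, Int.cast_one]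
    exact f4_neg hF 1

/-- F-PERM : permutation matrices have determinant `±1 = 1` -/
theorem perm_mem (hF : Fintype.card F = 2 ^ 2) {X : AddSubgroup (Matrix (Fin a) (Fin a) F)}
    (hX : InvX 2 X) (σ : Equiv.Perm (Fin a)) {S : Matrix (Fin a) (Fin a) F} (hS : S ∈ X) :
    S.submatrix σ σ ∈ X := by
  rw [← pM_conj σ S]
  exact hX.conj _ (pM_mul_ct σ) (det_pM hF σ) S hS

end Cfsg.Agent.Lib.Helper29.S5670T3cFPERM
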