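import Cfsg.Agent.Lib.Helper19.AutOrb.Defs

/-!
# S4068 farm, piece [B4a]: in `SL₂(F) × A` (`char F = 2`, `A` abelian of odd order) with all
non-identity elements of prime order, the factor `A` is trivial.
-/

set_option autoImplicit false

namespace Cfsg.Agent.Lib.Helper19.AutOrb

open Matrix

namespace Helper29

/-- The transvection `[[1,1],[0,1]]`. -/
noncomputable def transv (F : Type*) [Field F] : SpecialLinearGroup (Fin 2) F :=
  ⟨!![1, 1; 0, 1], by rw [Matrix.det_fin_two_of]; simp⟩

theorem transv_coe (F : Type*) [Field F] :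
    ((transv F : SpecialLinearGroup (Fin 2) F) : Matrix (Fin 2) (Fin 2) F) = !![1, 1; 0, 1] := rfl

theorem transv_ne_one (F : Type*) [Field F] : transv F ≠ 1 := by
  intro h
  have h1 : ((transv F : SpecialLinearGroup (Fin 2) F) : Matrix (Fin 2) (Fin 2) F) 0 1
      = ((1 : SpecialLinearGroup (Fin 2) F) : Matrix (Fin 2) (Fin 2) F) 0 1 := by rw [h]
  rw [transv_coe, Matrix.SpecialLinearGroup.coe_one] at h1
  simp at h1

theorem transv_sq (F : Type*) [Field F] [CharP F 2] : transv F ^ 2 = 1 := by
  apply Matrix.SpecialLinearGroup.ext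
  intro i j
  rw [Matrix.SpecialLinearGroup.coe_pow, transv_coe, Matrix.SpecialLinearGroup.coe_one, pow_two]
  have h2 : (1 : F) + 1 = 0 := CharTwo.add_self_eq_zero 1
  fin_cases i <;> fin_cases j <;> simp [Matrix.mul_apply, Fin.sum_univ_two, h2]

theorem orderOf_transv (F : Type*) [Field F] [CharP F 2] : orderOf (transv F) = 2 :=
  haveI : Fact (Nat.Prime 2) := ⟨Nat.prime_two⟩
  orderOf_eq_prime (transv_sq F) (transv_ne_one F)

end Helper29

/-- [B4a] the abelian factor is trivial (else an element of order `2k`). -/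
theorem card_right_eq_one {F : Type*} [Field F] [Fintype F] [CharP F 2] {A : Type*} [CommGroup A]
    [Finite A] (hA : Odd (Nat.card A))
    (hpo : PrimeOrders (SpecialLinearGroup (Fin 2) F × A)) : Nat.card A = 1 := by
  by_contra hne
  have hpos : 0 < Nat.card A := Nat.card_pos
  have hnt : Nontrivial A := by
    rw [← Finite.one_lt_card_iff_nontrivial]
    omega
  obtain ⟨b, hb⟩ := exists_ne (1 : A)
  have hk1 : orderOf b ≠ 1 := by
    rw [Ne, orderOf_eq_one_iff]; exact hb
  have hkodd : Odd (orderOf b) := Odd.of_dvd_nat hA (orderOf_dvd_natCard b)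
  have hne1 : ((Helper29.transv F, b) : SpecialLinearGroup (Fin 2) F × A) ≠ 1 := by
    intro h
    exact Helper29.transv_ne_one F (congrArg Prod.fst h)
  have hprime := hpo _ hne1
  rw [Prod.orderOf_mk, Helper29.orderOf_transv] at hprime
  have h2 : Nat.lcm 2 (orderOf b) = 2 :=
    ((Nat.prime_dvd_prime_iff_eq Nat.prime_two hprime).mp (Nat.dvd_lcm_left 2 _)).symm
  have hkdvd : orderOf b ∣ 2 := by
    have := Nat.dvd_lcm_right 2 (orderOf b)
    rwa [h2] at this
  rcases (Nat.dvd_prime Nat.prime_two).mp hkdvd with h | h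
  · exact hk1 h
  · rw [h] at hkodd
    exact absurd hkodd (by decide)

end Cfsg.Agent.Lib.Helper19.AutOrb
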