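import Cfsg.Agent.Lib.Helper19.AutOrb.Defs

/-!
# S4068 farm, piece [B4b]: the split torus of `SL₂(F)` contains an element of order `q - 1`.
-/

set_option autoImplicit false

namespace Cfsg.Agent.Lib.Helper19.AutOrb

open Matrix

namespace Helper29

/-- `diag(u, u⁻¹)`. -/
noncomputable def torusElt (F : Type*) [Field F] (u : Fˣ) : SpecialLinearGroup (Fin 2) F :=
  ⟨!![(u : F), 0; 0, ((u⁻¹ : Fˣ) : F)], by rw [Matrix.det_fin_two_of]; simp⟩

theorem torusElt_coe (F : Type*) [Field F] (u : Fˣ) :
    ((torusElt F u : SpecialLinearGroup (Fin 2) F) : Matrix (Fin 2) (Fin 2) F)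
      = !![(u : F), 0; 0, ((u⁻¹ : Fˣ) : F)] := rfl

theorem torusElt_mul (F : Type*) [Field F] (u v : Fˣ) :
    torusElt F (u * v) = torusElt F u * torusElt F v := by
  apply Matrix.SpecialLinearGroup.ext
  intro i j
  rw [Matrix.SpecialLinearGroup.coe_mul, torusElt_coe, torusElt_coe, torusElt_coe]
  fin_cases i <;> fin_cases j <;>
    simp [Matrix.mul_apply, Fin.sum_univ_two, mul_comm]

/-- The split torus `u ↦ diag(u, u⁻¹)`. -/
noncomputable def torusHom (F : Type*) [Field F] : Fˣ →* SpecialLinearGroup (Fin 2) F :=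
  MonoidHom.mk' (torusElt F) (torusElt_mul F)

theorem torusHom_injective (F : Type*) [Field F] : Function.Injective (torusHom F) := by
  intro u v h
  have h0 : torusElt F u = torusElt F v := h
  have h1 : ((torusElt F u : SpecialLinearGroup (Fin 2) F) : Matrix (Fin 2) (Fin 2) F) 0 0
      = ((torusElt F v : SpecialLinearGroup (Fin 2) F) : Matrix (Fin 2) (Fin 2) F) 0 0 := by
    rw [h0]
  apply Units.ext
  rw [torusElt_coe, torusElt_coe] at h1
  simpa using h1

end Helper29

/-- [B4b] the split torus: an element of order `q - 1`. -/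
theorem exists_orderOf_eq_card_sub_one (F : Type*) [Field F] [Fintype F] :
    ∃ g : SpecialLinearGroup (Fin 2) F, orderOf g = Fintype.card F - 1 := by
  classical
  obtain ⟨u, hu⟩ := IsCyclic.exists_generator (α := Fˣ)
  refine ⟨Helper29.torusHom F u, ?_⟩
  rw [orderOf_injective (Helper29.torusHom F) (Helper29.torusHom_injective F) u,
    orderOf_eq_card_of_forall_mem_zpowers hu, Nat.card_eq_fintype_card, Fintype.card_units]

end Cfsg.Agent.Lib.Helper19.AutOrb
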