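import Mathlib
import Cfsg.Agent.Lib.Helper1.RUChain

/-!
# S3174, blueprint step I.5 (helper29): the fixed-point chain bound
-/

set_option autoImplicit false

namespace Cfsg.Agent.Lib.Helper29.RU15

open Subgroup
open scoped commutatorElement

variable {T : Type*} [Group T] [Finite T]

/-- One step: `x` acts on `Y/P` (elementary abelian) as an involution, `Y'` contains the fixed points:
`|Y : P| ≤ |Y' : P|²`. -/
theorem one_step (P Y Y' : Subgroup T) (x : T) (hPY' : P ≤ Y') (hY'Y : Y' ≤ Y)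
    (hPn : ∀ v ∈ Y, ∀ f ∈ P, v * f * v⁻¹ ∈ P)
    (hab : ∀ u ∈ Y, ∀ v ∈ Y, u * v * u⁻¹ * v⁻¹ ∈ P) (hsq : ∀ v ∈ Y, v * v ∈ P)
    (hxY : ∀ v ∈ Y, x * v * x⁻¹ ∈ Y) (hxP : ∀ f ∈ P, x * f * x⁻¹ ∈ P)
    (hx2 : ∀ v ∈ Y, v⁻¹ * (x * (x * v * x⁻¹) * x⁻¹) ∈ P)
    (hY' : ∀ v ∈ Y, v⁻¹ * (x * v * x⁻¹) ∈ P → v ∈ Y') :
    P.relIndex Y ≤ (P.relIndex Y') ^ 2 := by
  classical
  have hPY : P ≤ Y := hPY'.trans hY'Y
  -- the normal subgroup `N = P ∩ Y` of `Y`
  haveI hN : (P.subgroupOf Y).Normal := by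
    constructor
    intro n hn g
    rw [mem_subgroupOf] at hn ⊢
    exact hPn g g.2 n hn
  -- commutative group structure on `M = Y / N`
  letI : CommGroup (↥Y ⧸ P.subgroupOf Y) :=
    { (inferInstance : Group (↥Y ⧸ P.subgroupOf Y)) with
      mul_comm := by
        intro a b
        induction a using QuotientGroup.induction_on with
        | H u =>
        induction b using QuotientGroup.induction_on with
        | H v =>
        rw [← QuotientGroup.mk_mul, ← QuotientGroup.mk_mul]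
        apply QuotientGroup.eq.mpr
        rw [mem_subgroupOf]
        have h := hab (v : T)⁻¹ (Y.inv_mem v.2) (u : T)⁻¹ (Y.inv_mem u.2)
        have e : ((u * v)⁻¹ * (v * u) : ↥Y) = ⟨(v : T)⁻¹ * (u : T)⁻¹ * (v : T)⁻¹⁻¹ * (u : T)⁻¹⁻¹, by
            simpa using Y.mul_mem (Y.mul_mem (Y.mul_mem (Y.inv_mem v.2) (Y.inv_mem u.2)) v.2) u.2⟩ := by
          apply Subtype.ext
          simp only [Subgroup.coe_mul, Subgroup.coe_inv]
          group
        rw [e]
        exact h }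
  have hexp : ∀ m : ↥Y ⧸ P.subgroupOf Y, m * m = 1 := by
    intro m
    induction m using QuotientGroup.induction_on with
    | H v =>
    rw [← QuotientGroup.mk_mul, QuotientGroup.eq_one_iff, mem_subgroupOf]
    exact hsq v v.2
  -- conjugation by `x` on `Y`
  let φ : ↥Y →* ↥Y := MonoidHom.mk' (fun v => ⟨x * (v : T) * x⁻¹, hxY v v.2⟩) (by
    intro a b
    apply Subtype.ext
    simp only [Subgroup.coe_mul]
    group)
  have hφ : ∀ v : ↥Y, ((φ v : ↥Y) : T) = x * (v : T) * x⁻¹ := fun _ => rfl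
  have hle : P.subgroupOf Y ≤ (P.subgroupOf Y).comap φ := by
    intro n hn
    rw [mem_comap, mem_subgroupOf, hφ]
    exact hxP _ (mem_subgroupOf.mp hn)
  let σ : (↥Y ⧸ P.subgroupOf Y) →* (↥Y ⧸ P.subgroupOf Y) :=
    QuotientGroup.map (P.subgroupOf Y) (P.subgroupOf Y) φ hle
  have hσmk : ∀ v : ↥Y, σ (v : ↥Y ⧸ P.subgroupOf Y) = ((φ v : ↥Y) : ↥Y ⧸ P.subgroupOf Y) :=
    fun v => QuotientGroup.map_mk _ _ _ _ v
  have hσσ : ∀ m, σ (σ m) = m := by
    intro m
    induction m using QuotientGroup.induction_on with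
    | H v =>
    rw [hσmk, hσmk]
    symm
    apply QuotientGroup.eq.mpr
    rw [mem_subgroupOf]
    exact hx2 v v.2
  obtain ⟨K, hK, hcard, -⟩ := Cfsg.Agent.Lib.Helper1.RUChain.abs_step hexp σ hσσ
  have hNH : P.subgroupOf Y ≤ Y'.subgroupOf Y := by
    intro n hn
    rw [mem_subgroupOf] at hn ⊢
    exact hPY' hn
  have hKle : K ≤ (Y'.subgroupOf Y).map (QuotientGroup.mk' (P.subgroupOf Y)) := by
    intro m hm
    have hfix := (hK m).mp hm
    induction m using QuotientGroup.induction_on with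
    | H v =>
    rw [hσmk] at hfix
    have h1 := QuotientGroup.eq.mp hfix
    rw [mem_subgroupOf] at h1
    have h2 : (v : T)⁻¹ * (x * (v : T) * x⁻¹) ∈ P := by
      have h3 := P.inv_mem h1
      have e : ((((φ v)⁻¹ * v : ↥Y) : T))⁻¹ = (v : T)⁻¹ * (x * (v : T) * x⁻¹) := by
        simp only [Subgroup.coe_mul, Subgroup.coe_inv, hφ]
        group
      rw [e] at h3
      exact h3
    have hv' : (v : T) ∈ Y' := hY' v v.2 h2
    exact ⟨v, mem_subgroupOf.mpr hv', rfl⟩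
  have hcardK : Nat.card K ≤
      Nat.card ((Y'.subgroupOf Y).map (QuotientGroup.mk' (P.subgroupOf Y))) :=
    Subgroup.card_le_of_le hKle
  have h1 : ((Y'.subgroupOf Y).map (QuotientGroup.mk' (P.subgroupOf Y))).index
      = (Y'.subgroupOf Y).index :=
    index_map_eq (Y'.subgroupOf Y) (QuotientGroup.mk'_surjective _)
      (by rw [QuotientGroup.ker_mk']; exact hNH)
  have h2 := Subgroup.card_mul_index ((Y'.subgroupOf Y).map (QuotientGroup.mk' (P.subgroupOf Y)))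
  have h3 := relIndex_mul_index hNH
  have h5 : (P.subgroupOf Y).relIndex (Y'.subgroupOf Y) = P.relIndex Y' := relIndex_subgroupOf hY'Y
  have h6 : (Y'.subgroupOf Y).index ≠ 0 := Subgroup.index_ne_zero_of_finite
  have h7 : Nat.card ((Y'.subgroupOf Y).map (QuotientGroup.mk' (P.subgroupOf Y))) = P.relIndex Y' := by
    rw [h1] at h2
    rw [h5] at h3
    have h8 : Nat.card (↥Y ⧸ P.subgroupOf Y) = (P.subgroupOf Y).index := rfl
    rw [h8, ← h3] at h2
    exact Nat.eq_of_mul_eq_mul_right (Nat.pos_of_ne_zero h6) h2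
  have h9 : P.relIndex Y = Nat.card (↥Y ⧸ P.subgroupOf Y) := rfl
  rw [h9]
  calc Nat.card (↥Y ⧸ P.subgroupOf Y) ≤ Nat.card K ^ 2 := hcard
    _ ≤ (P.relIndex Y') ^ 2 := by
        rw [← h7]
        exact Nat.pow_le_pow_left hcardK 2

/-- `Y_A = {w ∈ W : [w, A] ⊆ P}`. -/
def YA (W P : Subgroup T) (hPn : P.Normal) (A : Subgroup T) : Subgroup T where
  carrier := {w | w ∈ W ∧ ∀ a ∈ A, w * a * w⁻¹ * a⁻¹ ∈ P}
  one_mem' := ⟨one_mem _, fun a _ => by simp [one_mem]⟩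
  mul_mem' := by
    rintro w w' ⟨hw, h1⟩ ⟨hw', h1'⟩
    refine ⟨mul_mem hw hw', fun a ha => ?_⟩
    have e : w * w' * a * (w * w')⁻¹ * a⁻¹ =
        (w * (w' * a * w'⁻¹ * a⁻¹) * w⁻¹) * (w * a * w⁻¹ * a⁻¹) := by group
    rw [e]; exact mul_mem (hPn.conj_mem _ (h1' a ha) w) (h1 a ha)
  inv_mem' := by
    rintro w ⟨hw, h1⟩
    refine ⟨inv_mem hw, fun a ha => ?_⟩
    have e : w⁻¹ * a * w⁻¹⁻¹ * a⁻¹ = w⁻¹ * (w * a * w⁻¹ * a⁻¹)⁻¹ * w⁻¹⁻¹ := by group
    rw [e]; exact hPn.conj_mem _ (inv_mem (h1 a ha)) w⁻¹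

omit [Finite T] in
theorem mem_YA {W P : Subgroup T} {hPn : P.Normal} {A : Subgroup T} {w : T} :
    w ∈ YA W P hPn A ↔ w ∈ W ∧ ∀ a ∈ A, w * a * w⁻¹ * a⁻¹ ∈ P := Iff.rfl

omit [Finite T] in
theorem YA_le_W {W P : Subgroup T} {hPn : P.Normal} (A : Subgroup T) : YA W P hPn A ≤ W :=
  fun _ h => h.1

omit [Finite T] in
theorem P_le_YA {W P : Subgroup T} {hPn : P.Normal} (hPW : P ≤ W) (A : Subgroup T) :
    P ≤ YA W P hPn A := by
  intro f hf
  refine ⟨hPW hf, fun a _ => ?_⟩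
  have e : f * a * f⁻¹ * a⁻¹ = f * (a * f⁻¹ * a⁻¹) := by group
  rw [e]; exact mul_mem hf (hPn.conj_mem _ (inv_mem hf) a)

omit [Finite T] in
theorem YA_anti {W P : Subgroup T} {hPn : P.Normal} {A B : Subgroup T} (hAB : A ≤ B) :
    YA W P hPn B ≤ YA W P hPn A :=
  fun _ h => ⟨h.1, fun a ha => h.2 a (hAB ha)⟩

omit [Finite T] in
/-- adjoining `x` to `A`. -/
theorem mem_YA_sup {W P : Subgroup T} {hPn : P.Normal} {A : Subgroup T} {v x : T}
    (hv : v ∈ YA W P hPn A) (hx : v * x * v⁻¹ * x⁻¹ ∈ P) : v ∈ YA W P hPn (A ⊔ zpowers x) := by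
  let S : Subgroup T :=
    { carrier := {b | v * b * v⁻¹ * b⁻¹ ∈ P}
      one_mem' := by simp [one_mem]
      mul_mem' := by
        intro b b' hb hb'
        have e : v * (b * b') * v⁻¹ * (b * b')⁻¹ =
            (v * b * v⁻¹ * b⁻¹) * (b * (v * b' * v⁻¹ * b'⁻¹) * b⁻¹) := by group
        change v * (b * b') * v⁻¹ * (b * b')⁻¹ ∈ P
        rw [e]; exact mul_mem hb (hPn.conj_mem _ hb' b)
      inv_mem' := by
        intro b hb
        have e : v * b⁻¹ * v⁻¹ * b⁻¹⁻¹ = b⁻¹ * (v * b * v⁻¹ * b⁻¹)⁻¹ * b⁻¹⁻¹ := by group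
        change v * b⁻¹ * v⁻¹ * b⁻¹⁻¹ ∈ P
        rw [e]; exact hPn.conj_mem _ (inv_mem hb) b⁻¹ }
  have hAS : A ≤ S := fun a ha => hv.2 a ha
  have hxS : zpowers x ≤ S := by
    rw [zpowers_le]; exact hx
  have hle : A ⊔ zpowers x ≤ S := sup_le hAS hxS
  exact ⟨hv.1, fun b hb => hle hb⟩

/-- the one-step inequality for `Y_A`. -/
theorem YA_step {W P : Subgroup T} (hWn : W.Normal) (hPn : P.Normal) (hPW : P ≤ W)
    (hcomm : ∀ u ∈ W, ∀ v ∈ W, u * v * u⁻¹ * v⁻¹ ∈ P) (hsq : ∀ w ∈ W, w * w ∈ P)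
    (A : Subgroup T) (x : T) (hxA : x ∈ normalizer (A : Set T)) (hx2 : x * x ∈ A) :
    P.relIndex (YA W P hPn A) ≤ (P.relIndex (YA W P hPn (A ⊔ zpowers x))) ^ 2 := by
  apply one_step P (YA W P hPn A) (YA W P hPn (A ⊔ zpowers x)) x (P_le_YA hPW _)
    (YA_anti le_sup_left)
  · intro v _ f hf
    exact hPn.conj_mem f hf v
  · intro u hu v hv
    exact hcomm u hu.1 v hv.1
  · intro v hv
    exact hsq v hv.1
  · intro v hv
    refine ⟨hWn.conj_mem v hv.1 x, fun a ha => ?_⟩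
    have ha' : x⁻¹ * a * x ∈ A := by
      have h1 := (mem_normalizer_iff.mp hxA (x⁻¹ * a * x))
      apply h1.mpr
      have e : x * (x⁻¹ * a * x) * x⁻¹ = a := by group
      rw [e]; exact ha
    have e : x * v * x⁻¹ * a * (x * v * x⁻¹)⁻¹ * a⁻¹ =
        x * (v * (x⁻¹ * a * x) * v⁻¹ * (x⁻¹ * a * x)⁻¹) * x⁻¹ := by group
    rw [e]
    exact hPn.conj_mem _ (hv.2 _ ha') x
  · intro f hf
    exact hPn.conj_mem f hf x
  · intro v hv
    have hv' : v⁻¹ ∈ YA W P hPn A := inv_mem hv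
    have h1 := hv'.2 (x * x) hx2
    have e : v⁻¹ * (x * (x * v * x⁻¹) * x⁻¹) = v⁻¹ * (x * x) * v⁻¹⁻¹ * (x * x)⁻¹ := by group
    rw [e]; exact h1
  · intro v hv h1
    apply mem_YA_sup hv
    have e : v * x * v⁻¹ * x⁻¹ = v * (v⁻¹ * (x * v * x⁻¹))⁻¹ * v⁻¹ := by group
    rw [e]
    exact hPn.conj_mem _ (inv_mem h1) v

/-- growing a proper subgroup of a finite 2-group by an index-two step. -/
theorem exists_step (hT : IsPGroup 2 T) (A : Subgroup T) (hA : A ≠ ⊤) :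
    ∃ x : T, x ∈ normalizer (A : Set T) ∧ x ∉ A ∧ x * x ∈ A := by
  classical
  haveI : Fact (Nat.Prime 2) := ⟨Nat.prime_two⟩
  haveI : Group.IsNilpotent T := hT.isNilpotent
  have hnc : NormalizerCondition T := Group.normalizerCondition_of_isNilpotent
  have hlt : A < normalizer (A : Set T) := hnc A (lt_top_iff_ne_top.mpr hA)
  obtain ⟨y, hyN, hyA⟩ := SetLike.exists_of_lt hlt
  have hex : ∃ j : ℕ, y ^ 2 ^ j ∈ A := by
    obtain ⟨k, hk⟩ := hT y
    exact ⟨k, by rw [hk]; exact one_mem _⟩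
  have hj0 : Nat.find hex ≠ 0 := by
    intro h0
    have := Nat.find_spec hex
    rw [h0, pow_zero, pow_one] at this
    exact hyA this
  obtain ⟨j, hj⟩ := Nat.exists_eq_succ_of_ne_zero hj0
  refine ⟨y ^ 2 ^ j, pow_mem hyN _, ?_, ?_⟩
  · intro hc
    have := Nat.find_min hex (m := j) (by omega)
    exact this hc
  · have := Nat.find_spec hex
    rw [hj, pow_succ, pow_mul] at this
    rw [← pow_two]
    exact this

theorem relIndex_pos (H K : Subgroup T) : 0 < H.relIndex K := by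
  apply Nat.pos_of_ne_zero
  intro h0
  have hdvd := Subgroup.relIndex_dvd_card H K
  rw [h0, zero_dvd_iff] at hdvd
  exact (Nat.card_pos (α := K)).ne' hdvd

/-- climbing from `A ⊇ W` up to `T`. -/
theorem reach (hT : IsPGroup 2 T) {W P : Subgroup T} (hWn : W.Normal) (hPn : P.Normal) (hPW : P ≤ W)
    (hcomm : ∀ u ∈ W, ∀ v ∈ W, u * v * u⁻¹ * v⁻¹ ∈ P) (hsq : ∀ w ∈ W, w * w ∈ P) :
    ∀ n : ℕ, ∀ A : Subgroup T, W ≤ A → Nat.card T - Nat.card A = n →
      P.relIndex W ≤ (P.relIndex (YA W P hPn A)) ^ (W.relIndex A) →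
      P.relIndex W ≤ (P.relIndex (YA W P hPn ⊤)) ^ W.index := by
  intro n
  induction n using Nat.strong_induction_on with
  | _ n ih =>
  intro A hWA hn hS
  by_cases hA : A = ⊤
  · subst hA
    rwa [relIndex_top_right] at hS
  · obtain ⟨x, hxN, hxA, hx2⟩ := exists_step hT A hA
    have hAB : A ≤ A ⊔ zpowers x := le_sup_left
    have hxB : x ∈ A ⊔ zpowers x := (le_sup_right : zpowers x ≤ A ⊔ zpowers x) (mem_zpowers x)
    have hstep := YA_step hWn hPn hPW hcomm hsq A x hxN hx2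
    have hr := relIndex_mul_relIndex W A (A ⊔ zpowers x) hWA hAB
    have h2 : 2 ≤ A.relIndex (A ⊔ zpowers x) := by
      have h0 := relIndex_pos A (A ⊔ zpowers x)
      have h1 : A.relIndex (A ⊔ zpowers x) ≠ 1 := fun h1 => hxA (relIndex_eq_one.mp h1 hxB)
      omega
    have hcardlt : Nat.card A < Nat.card ↥(A ⊔ zpowers x) := by
      have h3 := Subgroup.card_le_of_le hAB
      rcases Nat.lt_or_ge (Nat.card A) (Nat.card ↥(A ⊔ zpowers x)) with h | h
      · exact h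
      · exfalso
        have : A = A ⊔ zpowers x := Subgroup.eq_of_le_of_card_ge hAB h
        rw [← this] at hxB
        exact hxA hxB
    have hcardle : Nat.card ↥(A ⊔ zpowers x) ≤ Nat.card T := Subgroup.card_le_card_group _
    have hSB : P.relIndex W ≤
        (P.relIndex (YA W P hPn (A ⊔ zpowers x))) ^ (W.relIndex (A ⊔ zpowers x)) := by
      have hpos := relIndex_pos P (YA W P hPn (A ⊔ zpowers x))
      calc P.relIndex W ≤ (P.relIndex (YA W P hPn A)) ^ (W.relIndex A) := hS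
        _ ≤ ((P.relIndex (YA W P hPn (A ⊔ zpowers x))) ^ 2) ^ (W.relIndex A) :=
            Nat.pow_le_pow_left hstep _
        _ = (P.relIndex (YA W P hPn (A ⊔ zpowers x))) ^ (2 * W.relIndex A) := by rw [← pow_mul]
        _ ≤ (P.relIndex (YA W P hPn (A ⊔ zpowers x))) ^ (W.relIndex (A ⊔ zpowers x)) := by
            apply Nat.pow_le_pow_right hpos
            rw [← hr]
            calc 2 * W.relIndex A = W.relIndex A * 2 := by ring
              _ ≤ W.relIndex A * A.relIndex (A ⊔ zpowers x) := Nat.mul_le_mul_left _ h2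
    exact ih (Nat.card T - Nat.card ↥(A ⊔ zpowers x)) (by omega) (A ⊔ zpowers x) (hWA.trans hAB) rfl hSB

/-- **Blueprint I.5**: `|W : P| ≤ |Y : P| ^ |T : W|`. -/
theorem chain_bound (hT : IsPGroup 2 T) (W P Y : Subgroup T) (hWn : W.Normal) (hPn : P.Normal)
    (hPW : P ≤ W) (hcomm : ∀ u ∈ W, ∀ v ∈ W, ⁅u, v⁆ ∈ P) (hsq : ∀ w ∈ W, w ^ 2 ∈ P)
    (hY : ∀ w ∈ W, (∀ t : T, ⁅w, t⁆ ∈ P) → w ∈ Y) :
    P.relIndex W ≤ (P.relIndex Y) ^ W.index := by
  have hcomm' : ∀ u ∈ W, ∀ v ∈ W, u * v * u⁻¹ * v⁻¹ ∈ P := by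
    intro u hu v hv
    have := hcomm u hu v hv
    rwa [commutatorElement_def] at this
  have hsq' : ∀ w ∈ W, w * w ∈ P := by
    intro w hw
    have := hsq w hw
    rwa [pow_two] at this
  have hbase : P.relIndex W ≤ (P.relIndex (YA W P hPn W)) ^ (W.relIndex W) := by
    have hYW : YA W P hPn W = W := le_antisymm (YA_le_W W) (fun w hw => ⟨hw, fun a ha => hcomm' w hw a ha⟩)
    rw [hYW, relIndex_self, pow_one]
  have hmain := reach hT hWn hPn hPW hcomm' hsq' _ W le_rfl rfl hbase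
  have hYtop : YA W P hPn ⊤ ≤ Y := by
    intro w hw
    apply hY w hw.1
    intro t
    rw [commutatorElement_def]
    exact hw.2 t (mem_top t)
  have hle : P.relIndex (YA W P hPn ⊤) ≤ P.relIndex Y := by
    have h1 := relIndex_mul_relIndex P (YA W P hPn ⊤) Y (P_le_YA hPW ⊤) hYtop
    rw [← h1]
    exact Nat.le_mul_of_pos_right _ (relIndex_pos _ _)
  exact hmain.trans (Nat.pow_le_pow_left hle _)

end Cfsg.Agent.Lib.Helper29.RU15
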