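import Mathlib

/-!
# S2222 (odd-index subgroups of `A_n` are pronormal): basic definitions (helper29)

`Edge S` = the transpositions lying in a subgroup `S` of `Perm α`; the normalizer of `S` acts on
them by conjugation.  In a 2-group two distinct transpositions are disjoint (`partner_unique`).
-/

set_option autoImplicit false

namespace Cfsg.Agent.Lib.Helper29.S2222

open Equiv

universe u

section Defs

variable {α : Type u} [DecidableEq α]

/-- the transpositions lying in `S` (the "edges" of the matching of a Sylow 2-subgroup). -/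
abbrev Edge (S : Subgroup (Perm α)) : Type u := {τ : Perm α // τ ∈ S ∧ τ.IsSwap}

theorem isSwap_conj {τ : Perm α} (g : Perm α) (h : τ.IsSwap) : (g * τ * g⁻¹).IsSwap := by
  obtain ⟨x, y, hxy, rfl⟩ := h
  exact ⟨g x, g y, fun h => hxy (g.injective h), (swap_apply_apply g x y).symm⟩

/-- the normalizer of `S` acts on the edges of `S` by conjugation. -/
instance edgeAction (S : Subgroup (Perm α)) :
    MulAction ↥(Subgroup.normalizer (S : Set (Perm α))) (Edge S) where
  smul g τ := ⟨g.1 * τ.1 * g.1⁻¹, (Subgroup.mem_normalizer_iff.mp g.2 _).mp τ.2.1,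
    isSwap_conj g.1 τ.2.2⟩
  one_smul τ := by
    apply Subtype.ext
    show (1 : Perm α) * τ.1 * (1 : Perm α)⁻¹ = τ.1
    simp
  mul_smul g h τ := by
    apply Subtype.ext
    show (g.1 * h.1) * τ.1 * (g.1 * h.1)⁻¹ = g.1 * (h.1 * τ.1 * h.1⁻¹) * g.1⁻¹
    simp [mul_assoc]

theorem edgeAction_coe (S : Subgroup (Perm α))
    (g : ↥(Subgroup.normalizer (S : Set (Perm α)))) (τ : Edge S) :
    ((g • τ : Edge S) : Perm α) = g.1 * τ.1 * g.1⁻¹ := rfl

/-- in a 2-group of permutations a point has at most one partner. -/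
theorem partner_unique [Finite α] {S : Subgroup (Perm α)} (hS : IsPGroup 2 S) {a b c : α}
    (hb : b ≠ a) (hc : c ≠ a) (h1 : swap a b ∈ S) (h2 : swap a c ∈ S) : b = c := by
  have := Fintype.ofFinite α
  by_contra hbc
  have hmem : swap a b * swap a c ∈ S := S.mul_mem h1 h2
  have h3 : (swap a b * swap a c).IsThreeCycle :=
    Equiv.Perm.isThreeCycle_swap_mul_swap_same (a := a) (b := b) (c := c)
      (Ne.symm hb) (Ne.symm hc) hbc
  have ho : orderOf (swap a b * swap a c) = 3 := h3.orderOf
  obtain ⟨k, hk⟩ := hS ⟨_, hmem⟩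
  have h4 : (swap a b * swap a c) ^ 2 ^ k = 1 := by
    have := congrArg Subtype.val hk
    simpa using this
  have h5 : 3 ∣ 2 ^ k := by
    rw [← ho]; exact orderOf_dvd_of_pow_eq_one h4
  have h6 : 3 ∣ 2 := Nat.Prime.dvd_of_dvd_pow Nat.prime_three h5
  omega

end Defs

/-- Legendre for `p = 2`. -/
theorem factorization_two_factorial (n : ℕ) :
    (n.factorial).factorization 2 = n / 2 + ((n / 2).factorial).factorization 2 := by
  rw [Nat.factorization_def _ Nat.prime_two, Nat.factorization_def _ Nat.prime_two]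
  have h : n = 2 * (n / 2) + n % 2 := (Nat.div_add_mod n 2).symm
  conv_lhs => rw [h]
  rw [padicValNat_factorial_mul_add (n / 2) (Nat.mod_lt n (by norm_num)),
    padicValNat_factorial_mul, add_comm]

end Cfsg.Agent.Lib.Helper29.S2222
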