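import Mathlib
import Cfsg.Agent.Lib.Helper19.S3701Defs

/-!
# S3701 FO-E2 (helper29): `orbit_values`

The values of `∑ x, M x * ev x y` for an `E4`-invariant integer function `M` on `𝔽₃³`.
-/

set_option autoImplicit false
set_option maxHeartbeats 1600000
set_option maxRecDepth 4000

namespace Cfsg.Agent.Lib.Helper29.S3701FOE2

open Cfsg.Agent.Lib.Helper19.S3701
open scoped ComplexConjugate

theorem sum_zmod3 {α : Type*} [AddCommMonoid α] (f : ZMod 3 → α) :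
    ∑ x : ZMod 3, f x = f 0 + f 1 + f 2 := Fin.sum_univ_three f

theorem sum_V3 {α : Type*} [AddCommMonoid α] (f : V3 → α) :
    ∑ x : V3, f x = f (0, 0, 0) + f (0, 0, 1) + f (0, 0, 2) + f (0, 1, 0) + f (0, 1, 1) + f (0, 1, 2) + f (0, 2, 0) + f (0, 2, 1) + f (0, 2, 2) + f (1, 0, 0) + f (1, 0, 1) + f (1, 0, 2) + f (1, 1, 0) + f (1, 1, 1) + f (1, 1, 2) + f (1, 2, 0) + f (1, 2, 1) + f (1, 2, 2) + f (2, 0, 0) + f (2, 0, 1) + f (2, 0, 2) + f (2, 1, 0) + f (2, 1, 1) + f (2, 1, 2) + f (2, 2, 0) + f (2, 2, 1) + f (2, 2, 2) := by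
  rw [Fintype.sum_prod_type]
  simp only [Fintype.sum_prod_type, sum_zmod3]
  abel

theorem ev_val (x y : V3) (k : ℕ) (h : (dot3 x y).val = k) : ev x y = zeta3 ^ k := by
  unfold ev; rw [h]

theorem zeta3_sq : zeta3 ^ 2 = -1 - zeta3 := by linear_combination zeta3_sq_add


theorem orbit_values (M : V3 → ℤ) (hM : ∀ ε ∈ E4, ∀ x : V3, M (ε * x) = M x) :
    (∑ x : V3, (M x : ℂ) * ev x (1, 0, 0)
      = ((M 0 - M (1, 0, 0) + 2 * M (0, 1, 0) + 2 * M (0, 0, 1) + 4 * M (0, 1, 1)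
          - 2 * M (1, 0, 1) - 2 * M (1, 1, 0) - 2 * M (1, 1, 1) - 2 * M (2, 2, 2) : ℤ) : ℂ)) ∧
    (∑ x : V3, (M x : ℂ) * ev x (0, 1, 0)
      = ((M 0 + 2 * M (1, 0, 0) - M (0, 1, 0) + 2 * M (0, 0, 1) - 2 * M (0, 1, 1)
          + 4 * M (1, 0, 1) - 2 * M (1, 1, 0) - 2 * M (1, 1, 1) - 2 * M (2, 2, 2) : ℤ) : ℂ)) ∧
    (∑ x : V3, (M x : ℂ) * ev x (0, 0, 1)
      = ((M 0 + 2 * M (1, 0, 0) + 2 * M (0, 1, 0) - M (0, 0, 1) - 2 * M (0, 1, 1)
          - 2 * M (1, 0, 1) + 4 * M (1, 1, 0) - 2 * M (1, 1, 1) - 2 * M (2, 2, 2) : ℤ) : ℂ)) ∧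
    (∑ x : V3, (M x : ℂ) * ev x (0, 1, 1)
      = ((M 0 + 2 * M (1, 0, 0) - M (0, 1, 0) - M (0, 0, 1) + M (0, 1, 1)
          - 2 * M (1, 0, 1) - 2 * M (1, 1, 0) + M (1, 1, 1) + M (2, 2, 2) : ℤ) : ℂ)) ∧
    (∑ x : V3, (M x : ℂ) * ev x (1, 0, 1)
      = ((M 0 - M (1, 0, 0) + 2 * M (0, 1, 0) - M (0, 0, 1) - 2 * M (0, 1, 1)
          + M (1, 0, 1) - 2 * M (1, 1, 0) + M (1, 1, 1) + M (2, 2, 2) : ℤ) : ℂ)) ∧
    (∑ x : V3, M x
      = M 0 + 2 * (M (1, 0, 0) + M (0, 1, 0) + M (0, 0, 1))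
        + 4 * (M (0, 1, 1) + M (1, 0, 1) + M (1, 1, 0) + M (1, 1, 1) + M (2, 2, 2))) ∧
    (∑ x : V3, M x ^ 2
      = M 0 ^ 2 + 2 * (M (1, 0, 0) ^ 2 + M (0, 1, 0) ^ 2 + M (0, 0, 1) ^ 2)
        + 4 * (M (0, 1, 1) ^ 2 + M (1, 0, 1) ^ 2 + M (1, 1, 0) ^ 2 + M (1, 1, 1) ^ 2
          + M (2, 2, 2) ^ 2)) := by
  have h0 : M 0 = M (0, 0, 0) := rfl
  have h002 : M (0, 0, 2) = M (0, 0, 1) := by
    have := hM (2, 1, 2) (by decide) (0, 0, 1)
    rwa [show (((2, 1, 2) : V3) * ((0, 0, 1) : V3)) = ((0, 0, 2) : V3) from by decide] at this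
  have h012 : M (0, 1, 2) = M (0, 1, 1) := by
    have := hM (2, 1, 2) (by decide) (0, 1, 1)
    rwa [show (((2, 1, 2) : V3) * ((0, 1, 1) : V3)) = ((0, 1, 2) : V3) from by decide] at this
  have h020 : M (0, 2, 0) = M (0, 1, 0) := by
    have := hM (2, 2, 1) (by decide) (0, 1, 0)
    rwa [show (((2, 2, 1) : V3) * ((0, 1, 0) : V3)) = ((0, 2, 0) : V3) from by decide] at this
  have h021 : M (0, 2, 1) = M (0, 1, 1) := by
    have := hM (2, 2, 1) (by decide) (0, 1, 1)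
    rwa [show (((2, 2, 1) : V3) * ((0, 1, 1) : V3)) = ((0, 2, 1) : V3) from by decide] at this
  have h022 : M (0, 2, 2) = M (0, 1, 1) := by
    have := hM (1, 2, 2) (by decide) (0, 1, 1)
    rwa [show (((1, 2, 2) : V3) * ((0, 1, 1) : V3)) = ((0, 2, 2) : V3) from by decide] at this
  have h102 : M (1, 0, 2) = M (1, 0, 1) := by
    have := hM (1, 2, 2) (by decide) (1, 0, 1)
    rwa [show (((1, 2, 2) : V3) * ((1, 0, 1) : V3)) = ((1, 0, 2) : V3) from by decide] at this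
  have h112 : M (1, 1, 2) = M (2, 2, 2) := by
    have := hM (2, 2, 1) (by decide) (2, 2, 2)
    rwa [show (((2, 2, 1) : V3) * ((2, 2, 2) : V3)) = ((1, 1, 2) : V3) from by decide] at this
  have h120 : M (1, 2, 0) = M (1, 1, 0) := by
    have := hM (1, 2, 2) (by decide) (1, 1, 0)
    rwa [show (((1, 2, 2) : V3) * ((1, 1, 0) : V3)) = ((1, 2, 0) : V3) from by decide] at this
  have h121 : M (1, 2, 1) = M (2, 2, 2) := by
    have := hM (2, 1, 2) (by decide) (2, 2, 2)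
    rwa [show (((2, 1, 2) : V3) * ((2, 2, 2) : V3)) = ((1, 2, 1) : V3) from by decide] at this
  have h122 : M (1, 2, 2) = M (1, 1, 1) := by
    have := hM (1, 2, 2) (by decide) (1, 1, 1)
    rwa [show (((1, 2, 2) : V3) * ((1, 1, 1) : V3)) = ((1, 2, 2) : V3) from by decide] at this
  have h200 : M (2, 0, 0) = M (1, 0, 0) := by
    have := hM (2, 2, 1) (by decide) (1, 0, 0)
    rwa [show (((2, 2, 1) : V3) * ((1, 0, 0) : V3)) = ((2, 0, 0) : V3) from by decide] at this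
  have h201 : M (2, 0, 1) = M (1, 0, 1) := by
    have := hM (2, 2, 1) (by decide) (1, 0, 1)
    rwa [show (((2, 2, 1) : V3) * ((1, 0, 1) : V3)) = ((2, 0, 1) : V3) from by decide] at this
  have h202 : M (2, 0, 2) = M (1, 0, 1) := by
    have := hM (2, 1, 2) (by decide) (1, 0, 1)
    rwa [show (((2, 1, 2) : V3) * ((1, 0, 1) : V3)) = ((2, 0, 2) : V3) from by decide] at this
  have h210 : M (2, 1, 0) = M (1, 1, 0) := by
    have := hM (2, 1, 2) (by decide) (1, 1, 0)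
    rwa [show (((2, 1, 2) : V3) * ((1, 1, 0) : V3)) = ((2, 1, 0) : V3) from by decide] at this
  have h211 : M (2, 1, 1) = M (2, 2, 2) := by
    have := hM (1, 2, 2) (by decide) (2, 2, 2)
    rwa [show (((1, 2, 2) : V3) * ((2, 2, 2) : V3)) = ((2, 1, 1) : V3) from by decide] at this
  have h212 : M (2, 1, 2) = M (1, 1, 1) := by
    have := hM (2, 1, 2) (by decide) (1, 1, 1)
    rwa [show (((2, 1, 2) : V3) * ((1, 1, 1) : V3)) = ((2, 1, 2) : V3) from by decide] at this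
  have h220 : M (2, 2, 0) = M (1, 1, 0) := by
    have := hM (2, 2, 1) (by decide) (1, 1, 0)
    rwa [show (((2, 2, 1) : V3) * ((1, 1, 0) : V3)) = ((2, 2, 0) : V3) from by decide] at this
  have h221 : M (2, 2, 1) = M (1, 1, 1) := by
    have := hM (2, 2, 1) (by decide) (1, 1, 1)
    rwa [show (((2, 2, 1) : V3) * ((1, 1, 1) : V3)) = ((2, 2, 1) : V3) from by decide] at this
  refine ⟨?_, ?_⟩
  · rw [sum_V3, h0]
    simp only [ev_val (0, 0, 0) (1, 0, 0) 0 (by decide), ev_val (0, 0, 1) (1, 0, 0) 0 (by decide), ev_val (0, 0, 2) (1, 0, 0) 0 (by decide), ev_val (0, 1, 0) (1, 0, 0) 0 (by decide), ev_val (0, 1, 1) (1, 0, 0) 0 (by decide), ev_val (0, 1, 2) (1, 0, 0) 0 (by decide), ev_val (0, 2, 0) (1, 0, 0) 0 (by decide), ev_val (0, 2, 1) (1, 0, 0) 0 (by decide), ev_val (0, 2, 2) (1, 0, 0) 0 (by decide), ev_val (1, 0, 0) (1, 0, 0) 1 (by decide), ev_val (1, 0, 1) (1, 0, 0) 1 (by decide),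 ev_val (1, 0, 2) (1, 0, 0) 1 (by decide), ev_val (1, 1, 0) (1, 0, 0) 1 (by decide), ev_val (1, 1, 1) (1, 0, 0) 1 (by decide), ev_val (1, 1, 2) (1, 0, 0) 1 (by decide), ev_val (1, 2, 0) (1, 0, 0) 1 (by decide), ev_val (1, 2, 1) (1, 0, 0) 1 (by decide), ev_val (1, 2, 2) (1, 0, 0) 1 (by decide), ev_val (2, 0, 0) (1, 0, 0) 2 (by decide), ev_val (2, 0, 1) (1, 0, 0) 2 (by decide), ev_val (2, 0, 2) (1, 0, 0) 2 (by decide), ev_val (2, 1, 0) (1, 0, 0) 2 (by decide), ev_val (2, 1, 1) (1, 0, 0) 2 (by decide), ev_val (2, 1, 2) (1, 0, 0) 2 (by decide), ev_val (2, 2, 0) (1, 0, 0) 2 (by decide), ev_val (2, 2, 1) (1, 0, 0) 2 (by decide), ev_val (2, 2, 2) (1, 0, 0) 2 (by decide)]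
    simp only [h002, h012, h020, h021, h022, h102, h112, h120, h121, h122, h200, h201, h202, h210, h211, h212, h220, h221]
    push_cast
    simp only [zeta3_sq, pow_zero, pow_one]
    ring
  refine ⟨?_, ?_⟩
  · rw [sum_V3, h0]
    simp only [ev_val (0, 0, 0) (0, 1, 0) 0 (by decide), ev_val (0, 0, 1) (0, 1, 0) 0 (by decide), ev_val (0, 0, 2) (0, 1, 0) 0 (by decide), ev_val (0, 1, 0) (0, 1, 0) 1 (by decide), ev_val (0, 1, 1) (0, 1, 0) 1 (by decide), ev_val (0, 1, 2) (0, 1, 0) 1 (by decide), ev_val (0, 2, 0) (0, 1, 0) 2 (by decide), ev_val (0, 2, 1) (0, 1, 0) 2 (by decide), ev_val (0, 2, 2) (0, 1, 0) 2 (by decide), ev_val (1, 0, 0) (0, 1, 0) 0 (by decide), ev_val (1, 0, 1) (0, 1, 0) 0 (by decide), ev_val (1, 0, 2) (0, 1, 0) 0 (by decide), ev_val (1, 1, 0) (0, 1, 0) 1 (by decide), ev_val (1, 1, 1) (0, 1, 0) 1 (by decide), ev_val (1, 1, 2) (0, 1, 0) 1 (by decide), ev_val (1, 2,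 0) (0, 1, 0) 2 (by decide), ev_val (1, 2, 1) (0, 1, 0) 2 (by decide), ev_val (1, 2, 2) (0, 1, 0) 2 (by decide), ev_val (2, 0, 0) (0, 1, 0) 0 (by decide), ev_val (2, 0, 1) (0, 1, 0) 0 (by decide), ev_val (2, 0, 2) (0, 1, 0) 0 (by decide), ev_val (2, 1, 0) (0, 1, 0) 1 (by decide), ev_val (2, 1, 1) (0, 1, 0) 1 (by decide), ev_val (2, 1, 2) (0, 1, 0) 1 (by decide), ev_val (2, 2, 0) (0, 1, 0) 2 (by decide), ev_val (2, 2, 1) (0, 1, 0) 2 (by decide), ev_val (2, 2, 2) (0, 1, 0) 2 (by decide)]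
    simp only [h002, h012, h020, h021, h022, h102, h112, h120, h121, h122, h200, h201, h202, h210, h211, h212, h220, h221]
    push_cast
    simp only [zeta3_sq, pow_zero, pow_one]
    ring
  refine ⟨?_, ?_⟩
  · rw [sum_V3, h0]
    simp only [ev_val (0, 0, 0) (0, 0, 1) 0 (by decide), ev_val (0, 0, 1) (0, 0, 1) 1 (by decide), ev_val (0, 0, 2) (0, 0, 1) 2 (by decide), ev_val (0, 1, 0) (0, 0, 1) 0 (by decide), ev_val (0, 1, 1) (0, 0, 1) 1 (by decide), ev_val (0, 1, 2) (0, 0, 1) 2 (by decide), ev_val (0, 2, 0) (0, 0, 1) 0 (by decide), ev_val (0, 2, 1) (0, 0, 1) 1 (by decide), ev_val (0, 2, 2) (0, 0, 1) 2 (by decide), ev_val (1, 0, 0) (0, 0, 1) 0 (by decide), ev_val (1, 0, 1) (0, 0, 1) 1 (by decide), ev_val (1, 0, 2) (0, 0, 1) 2 (by decide), ev_val (1, 1, 0) (0, 0, 1) 0 (by decide), ev_val (1, 1, 1) (0, 0, 1) 1 (by decide), ev_val (1, 1, 2) (0, 0, 1) 2 (by decide), ev_val (1, 2,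 0) (0, 0, 1) 0 (by decide), ev_val (1, 2, 1) (0, 0, 1) 1 (by decide), ev_val (1, 2, 2) (0, 0, 1) 2 (by decide), ev_val (2, 0, 0) (0, 0, 1) 0 (by decide), ev_val (2, 0, 1) (0, 0, 1) 1 (by decide), ev_val (2, 0, 2) (0, 0, 1) 2 (by decide), ev_val (2, 1, 0) (0, 0, 1) 0 (by decide), ev_val (2, 1, 1) (0, 0, 1) 1 (by decide), ev_val (2, 1, 2) (0, 0, 1) 2 (by decide), ev_val (2, 2, 0) (0, 0, 1) 0 (by decide), ev_val (2, 2, 1) (0, 0, 1) 1 (by decide), ev_val (2, 2, 2) (0, 0, 1) 2 (by decide)]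
    simp only [h002, h012, h020, h021, h022, h102, h112, h120, h121, h122, h200, h201, h202, h210, h211, h212, h220, h221]
    push_cast
    simp only [zeta3_sq, pow_zero, pow_one]
    ring
  refine ⟨?_, ?_⟩
  · rw [sum_V3, h0]
    simp only [ev_val (0, 0, 0) (0, 1, 1) 0 (by decide), ev_val (0, 0, 1) (0, 1, 1) 1 (by decide), ev_val (0, 0, 2) (0, 1, 1) 2 (by decide), ev_val (0, 1, 0) (0, 1, 1) 1 (by decide), ev_val (0, 1, 1) (0, 1, 1) 2 (by decide), ev_val (0, 1, 2) (0, 1, 1) 0 (by decide), ev_val (0, 2, 0) (0, 1, 1) 2 (by decide), ev_val (0, 2, 1) (0, 1, 1) 0 (by decide), ev_val (0, 2, 2) (0, 1, 1) 1 (by decide), ev_val (1, 0, 0) (0, 1, 1) 0 (by decide), ev_val (1, 0, 1) (0, 1, 1) 1 (by decide), ev_val (1, 0, 2) (0, 1, 1) 2 (by decide), ev_val (1, 1, 0) (0, 1, 1) 1 (by decide), ev_val (1, 1, 1) (0, 1, 1) 2 (by decide), ev_val (1, 1, 2) (0, 1, 1) 0 (by decide), ev_val (1, 2,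 0) (0, 1, 1) 2 (by decide), ev_val (1, 2, 1) (0, 1, 1) 0 (by decide), ev_val (1, 2, 2) (0, 1, 1) 1 (by decide), ev_val (2, 0, 0) (0, 1, 1) 0 (by decide), ev_val (2, 0, 1) (0, 1, 1) 1 (by decide), ev_val (2, 0, 2) (0, 1, 1) 2 (by decide), ev_val (2, 1, 0) (0, 1, 1) 1 (by decide), ev_val (2, 1, 1) (0, 1, 1) 2 (by decide), ev_val (2, 1, 2) (0, 1, 1) 0 (by decide), ev_val (2, 2, 0) (0, 1, 1) 2 (by decide), ev_val (2, 2, 1) (0, 1, 1) 0 (by decide), ev_val (2, 2, 2) (0, 1, 1) 1 (by decide)]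
    simp only [h002, h012, h020, h021, h022, h102, h112, h120, h121, h122, h200, h201, h202, h210, h211, h212, h220, h221]
    push_cast
    simp only [zeta3_sq, pow_zero, pow_one]
    ring
  refine ⟨?_, ?_⟩
  · rw [sum_V3, h0]
    simp only [ev_val (0, 0, 0) (1, 0, 1) 0 (by decide), ev_val (0, 0, 1) (1, 0, 1) 1 (by decide), ev_val (0, 0, 2) (1, 0, 1) 2 (by decide), ev_val (0, 1, 0) (1, 0, 1) 0 (by decide), ev_val (0, 1, 1) (1, 0, 1) 1 (by decide), ev_val (0, 1, 2) (1, 0, 1) 2 (by decide), ev_val (0, 2, 0) (1, 0, 1) 0 (by decide), ev_val (0, 2, 1) (1, 0, 1) 1 (by decide), ev_val (0, 2, 2) (1, 0, 1) 2 (by decide), ev_val (1, 0, 0) (1, 0, 1) 1 (by decide), ev_val (1, 0, 1) (1, 0, 1) 2 (by decide), ev_val (1, 0, 2) (1, 0, 1) 0 (by decide), ev_val (1, 1, 0) (1, 0, 1) 1 (by decide), ev_val (1, 1, 1) (1, 0, 1) 2 (by decide), ev_val (1, 1, 2) (1, 0, 1) 0 (by decide), ev_val (1, 2,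 0) (1, 0, 1) 1 (by decide), ev_val (1, 2, 1) (1, 0, 1) 2 (by decide), ev_val (1, 2, 2) (1, 0, 1) 0 (by decide), ev_val (2, 0, 0) (1, 0, 1) 2 (by decide), ev_val (2, 0, 1) (1, 0, 1) 0 (by decide), ev_val (2, 0, 2) (1, 0, 1) 1 (by decide), ev_val (2, 1, 0) (1, 0, 1) 2 (by decide), ev_val (2, 1, 1) (1, 0, 1) 0 (by decide), ev_val (2, 1, 2) (1, 0, 1) 1 (by decide), ev_val (2, 2, 0) (1, 0, 1) 2 (by decide), ev_val (2, 2, 1) (1, 0, 1) 0 (by decide), ev_val (2, 2, 2) (1, 0, 1) 1 (by decide)]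
    simp only [h002, h012, h020, h021, h022, h102, h112, h120, h121, h122, h200, h201, h202, h210, h211, h212, h220, h221]
    push_cast
    simp only [zeta3_sq, pow_zero, pow_one]
    ring
  refine ⟨?_, ?_⟩
  · rw [sum_V3, h0]
    simp only [h002, h012, h020, h021, h022, h102, h112, h120, h121, h122, h200, h201, h202, h210, h211, h212, h220, h221]
    ring
  · rw [sum_V3, h0]
    simp only [h002, h012, h020, h021, h022, h102, h112, h120, h121, h122, h200, h201, h202, h210, h211, h212, h220, h221]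
    ring

end Cfsg.Agent.Lib.Helper29.S3701FOE2
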