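import Mathlib

/-!
# S3701 FO-F (helper29): `final_arith`

Finite-sum arithmetic: `∑ κ² = 2`, four sign patterns, two rational equations and the degree
bound force `g ≤ 108`.
-/

set_option autoImplicit false

namespace Cfsg.Agent.Lib.Helper29.S3701FOF

theorem fin_of (g da : ℕ) (hda : 0 < da) (hu : (g : ℚ) / da = 27)
    (hb : 108 * da ^ 2 ≤ 16 * g) : g ≤ 108 := by
  have hda' : (da : ℚ) ≠ 0 := by positivity
  have h1 : (g : ℚ) = 27 * da := by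
    field_simp at hu
    linarith
  have h2 : g = 27 * da := by exact_mod_cast h1
  subst h2
  have : da ≤ 4 := by nlinarith
  omega

theorem final_arith {ι : Type*} [Fintype ι] (X₁ X₂ X₃ κ : ι → ℤ) (d : ι → ℕ) (g : ℕ)
    (hd : ∀ i, 0 < d i) (hg : 0 < g)
    (hκ : ∑ i, κ i ^ 2 = 2)
    (hpat : ∀ i, κ i ≠ 0 →
      (κ i = 1 ∧ X₁ i = 4 ∧ X₂ i = -2 ∧ X₃ i = -2) ∨ (κ i = -1 ∧ X₁ i = -4 ∧ X₂ i = 2 ∧ X₃ i = 2) ∨
      (κ i = -1 ∧ X₁ i = -2 ∧ X₂ i = 4 ∧ X₃ i = -2) ∨ (κ i = 1 ∧ X₁ i = 2 ∧ X₂ i = -4 ∧ X₃ i = 2))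
    (hE1 : (g : ℚ) * ∑ i, ((X₁ i : ℚ) * X₃ i * (9 * κ i)) / d i = -2916)
    (hE2 : (g : ℚ) * ∑ i, ((X₂ i : ℚ) * X₃ i * (9 * κ i)) / d i = 2916)
    (hbound : ∀ i, κ i ≠ 0 → 108 * (d i) ^ 2 ≤ 16 * g) : g ≤ 108 := by
  classical
  set S : Finset ι := Finset.univ.filter (fun i => κ i ≠ 0) with hS
  have hk1 : ∀ i ∈ S, κ i ^ 2 = 1 := by
    intro i hi
    have hi' : κ i ≠ 0 := (Finset.mem_filter.mp hi).2
    rcases hpat i hi' with h | h | h | h <;> rw [h.1] <;> norm_num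
  have hcard : S.card = 2 := by
    have h1 : ∑ i, κ i ^ 2 = ∑ i ∈ S, κ i ^ 2 := by
      rw [hS, Finset.sum_filter]
      apply Finset.sum_congr rfl
      intro i _
      by_cases h : κ i = 0
      · simp [h]
      · simp [h]
    rw [h1, Finset.sum_congr rfl hk1] at hκ
    simp at hκ
    exact_mod_cast hκ
  obtain ⟨a, b, hab, hSab⟩ := Finset.card_eq_two.mp hcard
  have hsum : ∀ f : ι → ℚ, (∀ i, κ i = 0 → f i = 0) → ∑ i, f i = f a + f b := by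
    intro f hf
    have : ∑ i, f i = ∑ i ∈ S, f i := by
      rw [hS, Finset.sum_filter]
      apply Finset.sum_congr rfl
      intro i _
      by_cases h : κ i = 0
      · simp [h, hf i h]
      · simp [h]
    rw [this, hSab, Finset.sum_pair hab]
  have ha : κ a ≠ 0 := by
    have : a ∈ S := by rw [hSab]; simp
    exact (Finset.mem_filter.mp this).2
  have hb : κ b ≠ 0 := by
    have : b ∈ S := by rw [hSab]; simp
    exact (Finset.mem_filter.mp this).2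
  rw [hsum _ (by intro i hi; simp [hi])] at hE1 hE2
  have hda : (0 : ℚ) < d a := by exact_mod_cast hd a
  have hdb : (0 : ℚ) < d b := by exact_mod_cast hd b
  have hgq : (0 : ℚ) < g := by exact_mod_cast hg
  set u : ℚ := (g : ℚ) / d a with hu
  set v : ℚ := (g : ℚ) / d b with hv
  have hupos : 0 < u := div_pos hgq hda
  have hvpos : 0 < v := div_pos hgq hdb
  have e1 : ((X₁ a : ℚ) * X₃ a * (9 * κ a)) * u + ((X₁ b : ℚ) * X₃ b * (9 * κ b)) * v = -2916 := by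
    rw [← hE1, hu, hv]; ring
  have e2 : ((X₂ a : ℚ) * X₃ a * (9 * κ a)) * u + ((X₂ b : ℚ) * X₃ b * (9 * κ b)) * v = 2916 := by
    rw [← hE2, hu, hv]; ring
  rcases hpat a ha with ⟨k1, x1, x2, x3⟩ | ⟨k1, x1, x2, x3⟩ | ⟨k1, x1, x2, x3⟩ | ⟨k1, x1, x2, x3⟩ <;>
  rcases hpat b hb with ⟨l1, y1, y2, y3⟩ | ⟨l1, y1, y2, y3⟩ | ⟨l1, y1, y2, y3⟩ | ⟨l1, y1, y2, y3⟩ <;>
  rw [k1, x1, x3, l1, y1, y3] at e1 <;> rw [k1, x2, x3, l1, y2, y3] at e2 <;>
  push_cast at e1 e2 <;>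
  first
  | (exfalso; linarith)
  | (have hu27 : u = 27 := by linarith
     exact fin_of g (d a) (hd a) hu27 (hbound a ha))

end Cfsg.Agent.Lib.Helper29.S3701FOF
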