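import Cfsg.Agent.Lib.Helper29.SpecPerm

/-!
# Decomposition along a stabilizer chain with three levels

Every element of a permutation group with a verified stabilizer chain of three levels is a product
of three transversal elements.
-/

set_option autoImplicit false

namespace Cfsg.Agent.Lib.Helper2.O73Cls

open Cfsg.Agent.Lib.Helper28.BSGS MulAction Cfsg.Agent.Lib.Helper29.SpecPerm

/-- every element is a product of three transversal elements -/
theorem three_level_decomp (n w : ℕ) [NeZero n] (gens : List (ℕ × ℕ)) (b1 : ℕ) (T1 : List Entry)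
    (b2 : ℕ) (T2 : List Entry) (b3 : ℕ) (T3 : List Entry) (hg : gensOK n w gens = true)
    (hc : checkChain n w gens [(b1, T1), (b2, T2), (b3, T3)] = true)
    (z : Equiv.Perm (Fin n)) (hz : z ∈ genGroup n w gens) :
    ∃ e1 ∈ T1, ∃ e2 ∈ T2, ∃ e3 ∈ T3, pairOK n w e1.2.1 e1.2.2 = true ∧
      pairOK n w e2.2.1 e2.2.2 = true ∧ pairOK n w e3.2.1 e3.2.2 = true ∧
      z = permOf n w e1.2.1 e1.2.2 * permOf n w e2.2.1 e2.2.2 * permOf n w e3.2.1 e3.2.2 := by
  have hs := perm_complete n w gens _ hg hc z hz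
  have hc' := hc
  unfold checkChain at hc'
  rw [Bool.and_eq_true] at hc'
  obtain ⟨hl1, hc2⟩ := hc'
  unfold checkChain at hc2
  rw [Bool.and_eq_true] at hc2
  obtain ⟨hl2, hc3⟩ := hc2
  unfold checkChain at hc3
  rw [Bool.and_eq_true] at hc3
  obtain ⟨hl3, _⟩ := hc3
  obtain ⟨_, _, k3, _⟩ := levelOK_spec n w hl1
  obtain ⟨_, _, k3', _⟩ := levelOK_spec n w hl2
  obtain ⟨_, _, k3'', _⟩ := levelOK_spec n w hl3
  obtain ⟨h1, h2, h3, h4⟩ : z • pt n b1 ∈ (T1.map fun e => pt n e.1) ∧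
      ((semU n w T1 (z • pt n b1))⁻¹ * z) • pt n b2 ∈ (T2.map fun e => pt n e.1) ∧
      ((semU n w T2 (((semU n w T1 (z • pt n b1))⁻¹ * z) • pt n b2))⁻¹ *
        ((semU n w T1 (z • pt n b1))⁻¹ * z)) • pt n b3 ∈ (T3.map fun e => pt n e.1) ∧
      (semU n w T3 (((semU n w T2 (((semU n w T1 (z • pt n b1))⁻¹ * z) • pt n b2))⁻¹ *
        ((semU n w T1 (z • pt n b1))⁻¹ * z)) • pt n b3))⁻¹ *
        ((semU n w T2 (((semU n w T1 (z • pt n b1))⁻¹ * z) • pt n b2))⁻¹ *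
          ((semU n w T1 (z • pt n b1))⁻¹ * z)) = 1 := hs
  rw [List.mem_map] at h1
  obtain ⟨e, he, hez⟩ := h1
  obtain ⟨e1, he1, _, m3⟩ := semU_spec n w k3 e he
  rw [← hez, m3] at h2 h3 h4
  rw [List.mem_map] at h2
  obtain ⟨e', he', hez'⟩ := h2
  obtain ⟨e2, he2, _, m3'⟩ := semU_spec n w k3' e' he'
  rw [← hez', m3'] at h3 h4
  rw [List.mem_map] at h3
  obtain ⟨e'', he'', hez''⟩ := h3
  obtain ⟨e3, he3, _, m3''⟩ := semU_spec n w k3'' e'' he''
  rw [← hez'', m3''] at h4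
  refine ⟨e1, he1, e2, he2, e3, he3, (entryOK_spec n w (k3 e1 he1)).2.1,
    (entryOK_spec n w (k3' e2 he2)).2.1, (entryOK_spec n w (k3'' e3 he3)).2.1, ?_⟩
  have hz' : z = permOf n w e1.2.1 e1.2.2 * permOf n w e2.2.1 e2.2.2 *
      (permOf n w e3.2.1 e3.2.2 * ((permOf n w e3.2.1 e3.2.2)⁻¹ *
        ((permOf n w e2.2.1 e2.2.2)⁻¹ * ((permOf n w e1.2.1 e1.2.2)⁻¹ * z)))) := by group
  rw [hz', h4, mul_one]

end Cfsg.Agent.Lib.Helper2.O73Cls
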