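import Mathlib
import Cfsg.Agent.Lib.Helper6.FFour

/-!
# S5796 (SU_5), the clause `q = 2`: the concrete certificate for `11:5 < L_2(11) < SU_5(2)`  (helper29)

Everything here is a computation over helper6's concrete field `K4` with four elements, in the coordinates
`ζ^i v` (`i < 5`) of a degree-5 field `F_4[ζ]`, `ζ` of order 11 with minimal polynomial
`x^5 + ωx^4 + x^3 + x^2 + ω²x + 1`, and `v` normalised so that `h(ζ^d v, v) = Tr(ζ^d) = g1 d`.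
-/

set_option autoImplicit false
set_option maxRecDepth 100000

namespace Cfsg.Agent.Lib.Helper29.S5796C

open Cfsg.Agent.Lib.Helper6.FFour

/-- the Frobenius `x ↦ x²` of `K4` -/
def cj (x : K4) : K4 := x * x

/-- `∀` over `K4` as a Boolean -/
def all4 (p : K4 → Bool) : Bool := p K4.o && p K4.i && p K4.w && p K4.v

theorem all4_spec (p : K4 → Bool) (h : all4 p = true) (x : K4) : p x = true := by
  unfold all4 at h
  simp only [Bool.and_eq_true] at h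
  cases x
  · exact h.1.1.1
  · exact h.1.1.2
  · exact h.1.2
  · exact h.2

/-- `∀` over `K4^5` as a Boolean -/
def all5 (p : K4 → K4 → K4 → K4 → K4 → Bool) : Bool :=
  all4 fun a => all4 fun b => all4 fun c => all4 fun d => all4 fun e => p a b c d e

theorem all5_spec (p : K4 → K4 → K4 → K4 → K4 → Bool) (h : all5 p = true) (a b c d e : K4) :
    p a b c d e = true :=
  all4_spec _ (all4_spec _ (all4_spec _ (all4_spec _ (all4_spec _ h a) b) c) d) e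

/-- the trace signature `d ↦ Tr(ζ^d)` on residues mod 11 -/
def g1 : ℕ → K4
  | 0 => K4.i
  | 1 => K4.w
  | 2 => K4.v
  | 3 => K4.w
  | 4 => K4.w
  | 5 => K4.w
  | 6 => K4.v
  | 7 => K4.v
  | 8 => K4.v
  | 9 => K4.w
  | 10 => K4.v
  | _ => K4.o

/-- the signature of the vector `(a0, …, a4)` for the Gram sequence `γ`, at `d`:
`Σ_{i,j} a_i a_j² γ(d + i + 10 j mod 11)` -/
def sg (γ : ℕ → K4) (a0 a1 a2 a3 a4 : K4) (d : ℕ) : K4 :=
  a0 * cj a0 * γ ((d) % 11) +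
  a0 * cj a1 * γ ((d + 10) % 11) +
  a0 * cj a2 * γ ((d + 20) % 11) +
  a0 * cj a3 * γ ((d + 30) % 11) +
  a0 * cj a4 * γ ((d + 40) % 11) +
  a1 * cj a0 * γ ((d + 1) % 11) +
  a1 * cj a1 * γ ((d + 1 + 10) % 11) +
  a1 * cj a2 * γ ((d + 1 + 20) % 11) +
  a1 * cj a3 * γ ((d + 1 + 30) % 11) +
  a1 * cj a4 * γ ((d + 1 + 40) % 11) +
  a2 * cj a0 * γ ((d + 2) % 11) +
  a2 * cj a1 * γ ((d + 2 + 10) % 11) +
  a2 * cj a2 * γ ((d + 2 + 20) % 11) +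
  a2 * cj a3 * γ ((d + 2 + 30) % 11) +
  a2 * cj a4 * γ ((d + 2 + 40) % 11) +
  a3 * cj a0 * γ ((d + 3) % 11) +
  a3 * cj a1 * γ ((d + 3 + 10) % 11) +
  a3 * cj a2 * γ ((d + 3 + 20) % 11) +
  a3 * cj a3 * γ ((d + 3 + 30) % 11) +
  a3 * cj a4 * γ ((d + 3 + 40) % 11) +
  a4 * cj a0 * γ ((d + 4) % 11) +
  a4 * cj a1 * γ ((d + 4 + 10) % 11) +
  a4 * cj a2 * γ ((d + 4 + 20) % 11) +
  a4 * cj a3 * γ ((d + 4 + 30) % 11) +
  a4 * cj a4 * γ ((d + 4 + 40) % 11)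

/-- the first eleven values of a signature, as a list -/
def sigl (s : ℕ → K4) : List K4 := (List.range 11).map s

/-- the signatures of the invariant 55-point set -/
def T0 : List (List K4) :=
  [[K4.i, K4.o, K4.v, K4.w, K4.v, K4.i, K4.i, K4.w, K4.v, K4.w, K4.o],
   [K4.i, K4.i, K4.o, K4.v, K4.w, K4.w, K4.v, K4.v, K4.w, K4.o, K4.i],
   [K4.i, K4.w, K4.i, K4.w, K4.o, K4.v, K4.w, K4.o, K4.v, K4.i, K4.v],
   [K4.i, K4.w, K4.w, K4.i, K4.w, K4.o, K4.o, K4.v, K4.i, K4.v, K4.v],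
   [K4.i, K4.v, K4.v, K4.o, K4.i, K4.w, K4.v, K4.i, K4.o, K4.w, K4.w]]

/-- membership of a signature in `T0` -/
def memT (s : ℕ → K4) : Bool := T0.contains (sigl s)

/-- the rows of the extra involution `t0` of `L_2(11)` -/
def t0r0 (a0 a1 a2 a3 a4 : K4) : K4 := K4.w * a4
def t0r1 (a0 a1 a2 a3 a4 : K4) : K4 := K4.w * a0 + a3 + K4.v * a4
def t0r2 (a0 a1 a2 a3 a4 : K4) : K4 := K4.w * a0 + a1 + a2 + a3 + K4.v * a4
def t0r3 (a0 a1 a2 a3 a4 : K4) : K4 := K4.w * a0 + a1 + K4.v * a4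
def t0r4 (a0 a1 a2 a3 a4 : K4) : K4 := K4.v * a0
/-- the rows of a unitary transvection `τ0` outside `L_2(11)` -/
def tau0r0 (a0 a1 a2 a3 a4 : K4) : K4 := a0
def tau0r1 (a0 a1 a2 a3 a4 : K4) : K4 := a1
def tau0r2 (a0 a1 a2 a3 a4 : K4) : K4 := a2
def tau0r3 (a0 a1 a2 a3 a4 : K4) : K4 := K4.w * a0 + K4.v * a1 + a3
def tau0r4 (a0 a1 a2 a3 a4 : K4) : K4 := a0 + K4.w * a1 + a4

/-- `t0` as a matrix -/
def t0 : Matrix (Fin 5) (Fin 5) K4 := !![K4.o, K4.o, K4.o, K4.o, K4.w; K4.w, K4.o, K4.o, K4.i, K4.v; K4.w, K4.i, K4.i, K4.i, K4.v; K4.w, K4.i, K4.o, K4.o, K4.v; K4.v, K4.o, K4.o, K4.o, K4.o]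

/-- `τ0` as a matrix -/
def tau0 : Matrix (Fin 5) (Fin 5) K4 := !![K4.i, K4.o, K4.o, K4.o, K4.o; K4.o, K4.i, K4.o, K4.o, K4.o; K4.o, K4.o, K4.i, K4.o, K4.o; K4.w, K4.v, K4.o, K4.i, K4.o; K4.i, K4.w, K4.o, K4.o, K4.i]

/-- the Gram matrix `(g1 (i + 10 j))` -/
def G1 : Matrix (Fin 5) (Fin 5) K4 := !![K4.i, K4.v, K4.w, K4.v, K4.v; K4.w, K4.i, K4.v, K4.w, K4.v; K4.v, K4.w, K4.i, K4.v, K4.w; K4.w, K4.v, K4.w, K4.i, K4.v; K4.w, K4.w, K4.v, K4.w, K4.i]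


end Cfsg.Agent.Lib.Helper29.S5796C
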