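import Mathlib
import Cfsg.Agent.Lib.Helper21.GL23Defs

/-!
# S0197, package D: lattice coherence (helper29 library, for helper21's S0197)

Pure `ℤ`-combinatorics: five integer vectors with prescribed Gram matrix, prescribed
coordinates at a base point and orthogonal to a positive vector are, up to signs, the
"expected" combinations of eight coordinate vectors.
-/

set_option autoImplicit false

namespace Cfsg.Agent.Lib.Helper29.S0197D

open Cfsg.Agent.Lib.Helper21.GL23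

section aux

variable {I : Type*} [Fintype I] [DecidableEq I]

lemma one_le_sq {x : ℤ} (hx : x ≠ 0) : 1 ≤ x * x := by
  have := mul_self_pos.mpr hx
  omega

lemma sq_le_sum (f : I → ℤ) (a : I) : f a * f a ≤ ∑ i, f i * f i :=
  Finset.single_le_sum (f := fun i => f i * f i) (fun i _ => mul_self_nonneg _)
    (Finset.mem_univ a)

lemma two_le (f : I → ℤ) {a b : I} (hab : a ≠ b) :
    f a * f a + f b * f b ≤ ∑ i, f i * f i := by
  have h : ∑ i ∈ ({a, b} : Finset I), f i * f i ≤ ∑ i, f i * f i :=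
    Finset.sum_le_univ_sum_of_nonneg (fun i => mul_self_nonneg _)
  rwa [Finset.sum_pair hab] at h

lemma three_le (f : I → ℤ) {a b c : I} (hab : a ≠ b) (hac : a ≠ c) (hbc : b ≠ c) :
    f a * f a + f b * f b + f c * f c ≤ ∑ i, f i * f i := by
  have h : ∑ i ∈ ({a, b, c} : Finset I), f i * f i ≤ ∑ i, f i * f i :=
    Finset.sum_le_univ_sum_of_nonneg (fun i => mul_self_nonneg _)
  rw [Finset.sum_insert (by simp [hab, hac]), Finset.sum_pair hbc] at h
  omega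

lemma four_le (f : I → ℤ) {a b c d : I} (hab : a ≠ b) (hac : a ≠ c) (had : a ≠ d)
    (hbc : b ≠ c) (hbd : b ≠ d) (hcd : c ≠ d) :
    f a * f a + f b * f b + f c * f c + f d * f d ≤ ∑ i, f i * f i := by
  have h : ∑ i ∈ ({a, b, c, d} : Finset I), f i * f i ≤ ∑ i, f i * f i :=
    Finset.sum_le_univ_sum_of_nonneg (fun i => mul_self_nonneg _)
  rw [Finset.sum_insert (by simp [hab, hac, had]), Finset.sum_insert (by simp [hbc, hbd]),
    Finset.sum_pair hcd] at h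
  omega

lemma sum_two (f g : I → ℤ) {a b : I} (hab : a ≠ b) (h0 : ∀ i, i ≠ a → i ≠ b → f i = 0) :
    ∑ i, f i * g i = f a * g a + f b * g b := by
  rw [← Finset.sum_pair hab (f := fun i => f i * g i)]
  symm
  apply Finset.sum_subset (Finset.subset_univ _)
  intro i _ hi
  simp only [Finset.mem_insert, Finset.mem_singleton, not_or] at hi
  rw [h0 i hi.1 hi.2, zero_mul]

lemma sum_three (f g : I → ℤ) {a b c : I} (hab : a ≠ b) (hac : a ≠ c) (hbc : b ≠ c)
    (h0 : ∀ i, i ≠ a → i ≠ b → i ≠ c → f i = 0) :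
    ∑ i, f i * g i = f a * g a + f b * g b + f c * g c := by
  have h : ∑ i ∈ ({a, b, c} : Finset I), f i * g i = f a * g a + f b * g b + f c * g c := by
    rw [Finset.sum_insert (by simp [hab, hac]), Finset.sum_pair hbc]; ring
  rw [← h]
  symm
  apply Finset.sum_subset (Finset.subset_univ _)
  intro i _ hi
  simp only [Finset.mem_insert, Finset.mem_singleton, not_or] at hi
  rw [h0 i hi.1 hi.2.1 hi.2.2, zero_mul]

lemma exists_second (f : I → ℤ) {a : I} (hs : 2 ≤ ∑ i, f i * f i) (hva : f a * f a ≤ 1) :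
    ∃ b, b ≠ a ∧ f b ≠ 0 := by
  by_contra hcon
  push Not at hcon
  have h : ∑ i, f i * f i = f a * f a := by
    rw [Finset.sum_eq_single a]
    · intro b _ hb; rw [hcon b hb]; ring
    · intro h; exact absurd (Finset.mem_univ a) h
  omega

lemma exists_third (f : I → ℤ) {a b : I} (hab : a ≠ b) (hs : 3 ≤ ∑ i, f i * f i)
    (hva : f a * f a ≤ 1) (hvb : f b * f b ≤ 1) :
    ∃ c, c ≠ a ∧ c ≠ b ∧ f c ≠ 0 := by
  by_contra hcon
  push Not at hcon
  have h := sum_two f f hab hcon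
  omega

lemma full_two (f : I → ℤ) {a b : I} (hab : a ≠ b) (hs : ∑ i, f i * f i = 2)
    (ha : f a ≠ 0) (hb : f b ≠ 0) : ∀ i, i ≠ a → i ≠ b → f i = 0 := by
  intro i hia hib
  have h := three_le f hab (Ne.symm hia) (Ne.symm hib)
  have h1 := one_le_sq ha
  have h2 := one_le_sq hb
  have h3 : f i * f i ≤ 0 := by omega
  exact mul_self_eq_zero.mp (le_antisymm h3 (mul_self_nonneg _))

lemma full_three (f : I → ℤ) {a b c : I} (hab : a ≠ b) (hac : a ≠ c) (hbc : b ≠ c)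
    (hs : ∑ i, f i * f i = 3) (ha : f a ≠ 0) (hb : f b ≠ 0) (hc : f c ≠ 0) :
    ∀ i, i ≠ a → i ≠ b → i ≠ c → f i = 0 := by
  intro i hia hib hic
  have h := four_le f hab hac (Ne.symm hia) hbc (Ne.symm hib) (Ne.symm hic)
  have h1 := one_le_sq ha
  have h2 := one_le_sq hb
  have h3 := one_le_sq hc
  have h4 : f i * f i ≤ 0 := by omega
  exact mul_self_eq_zero.mp (le_antisymm h4 (mul_self_nonneg _))

lemma inj8 {I : Type*} (a0 a1 a2 a3 a4 a5 a6 a7 : I)
    (h01 : a0 ≠ a1) (h02 : a0 ≠ a2) (h03 : a0 ≠ a3) (h04 : a0 ≠ a4) (h05 : a0 ≠ a5)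
    (h06 : a0 ≠ a6) (h07 : a0 ≠ a7) (h12 : a1 ≠ a2) (h13 : a1 ≠ a3) (h14 : a1 ≠ a4)
    (h15 : a1 ≠ a5) (h16 : a1 ≠ a6) (h17 : a1 ≠ a7) (h23 : a2 ≠ a3) (h24 : a2 ≠ a4)
    (h25 : a2 ≠ a5) (h26 : a2 ≠ a6) (h27 : a2 ≠ a7) (h34 : a3 ≠ a4) (h35 : a3 ≠ a5)
    (h36 : a3 ≠ a6) (h37 : a3 ≠ a7) (h45 : a4 ≠ a5) (h46 : a4 ≠ a6) (h47 : a4 ≠ a7)
    (h56 : a5 ≠ a6) (h57 : a5 ≠ a7) (h67 : a6 ≠ a7) :
    Function.Injective ![a0, a1, a2, a3, a4, a5, a6, a7] := by
  intro i j h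
  fin_cases i <;> fin_cases j <;>
    first
      | rfl
      | (exfalso; simp at h; first | exact absurd h ‹_› | exact absurd h.symm ‹_›)

end aux

theorem lattice_coherence {I : Type*} [Fintype I] [DecidableEq I] (o : I) (n : Fin 5 → I → ℤ)
    (D : I → ℤ) (hD : ∀ i, 0 < D i) (hDo : D o = 1)
    (hgram : ∀ k l : Fin 5, ∑ i : I, n k i * n l i = gram k l)
    (ho : ∀ k : Fin 5, n k o = wt 0 k)
    (hdeg : ∀ k : Fin 5, ∑ i : I, n k i * D i = 0) :
    ∃ (ι : Fin 8 → I) (ε : Fin 8 → ℤ), Function.Injective ι ∧ ι 0 = o ∧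
      (∀ j, ε j = 1 ∨ ε j = -1) ∧ ε 0 = 1 ∧ ε 2 = ε 1 ∧ ε 3 = ε 1 ∧
      (∀ (k : Fin 5) (j : Fin 8), n k (ι j) = ε j * wt j k) ∧
      (∀ i : I, i ∉ Set.range ι → ∀ k : Fin 5, n k i = 0) := by
  classical
  -- Gram entries
  have g00 : ∑ i, n 0 i * n 0 i = 2 := hgram 0 0
  have g11 : ∑ i, n 1 i * n 1 i = 2 := hgram 1 1
  have g22 : ∑ i, n 2 i * n 2 i = 3 := hgram 2 2
  have g33 : ∑ i, n 3 i * n 3 i = 3 := hgram 3 3
  have g44 : ∑ i, n 4 i * n 4 i = 3 := hgram 4 4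
  have g01 : ∑ i, n 0 i * n 1 i = 1 := hgram 0 1
  have g02 : ∑ i, n 0 i * n 2 i = -1 := hgram 0 2
  have g03 : ∑ i, n 0 i * n 3 i = -1 := hgram 0 3
  have g04 : ∑ i, n 0 i * n 4 i = 0 := hgram 0 4
  have g12 : ∑ i, n 1 i * n 2 i = -1 := hgram 1 2
  have g13 : ∑ i, n 1 i * n 3 i = -1 := hgram 1 3
  have g14 : ∑ i, n 1 i * n 4 i = 0 := hgram 1 4
  have g23 : ∑ i, n 2 i * n 3 i = 1 := hgram 2 3
  have g24 : ∑ i, n 2 i * n 4 i = 1 := hgram 2 4
  have g34 : ∑ i, n 3 i * n 4 i = -1 := hgram 3 4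
  -- values at `o`
  have o0 : n 0 o = 0 := ho 0
  have o1 : n 1 o = 0 := ho 1
  have o2 : n 2 o = 1 := ho 2
  have o3 : n 3 o = 0 := ho 3
  have o4 : n 4 o = 1 := ho 4
  -- all values are in {-1, 0, 1}
  have hv : ∀ k i, n k i = 0 ∨ n k i = 1 ∨ n k i = -1 := by
    intro k i
    have h1 := sq_le_sum (n k) i
    have h2 : ∑ i, n k i * n k i ≤ 3 := by
      rw [hgram k k]; fin_cases k <;> simp [gram]
    have h3 : n k i * n k i ≤ 3 := h1.trans h2
    have h4 : -1 ≤ n k i := by nlinarith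
    have h5 : n k i ≤ 1 := by nlinarith
    omega
  have hsq : ∀ k i, n k i * n k i ≤ 1 := by
    intro k i
    rcases hv k i with h | h | h <;> rw [h] <;> norm_num
  -- Step 1: the common point `r` of `n 0` and `n 1`
  obtain ⟨r, hr⟩ : ∃ r, 0 < n 0 r * n 1 r := by
    by_contra hcon
    push Not at hcon
    have h1 : ∑ i, n 0 i * n 1 i ≤ 0 := Finset.sum_nonpos (fun i _ => hcon i)
    omega
  obtain ⟨ε, hε, h0r, h1r⟩ : ∃ ε : ℤ, (ε = 1 ∨ ε = -1) ∧ n 0 r = -ε ∧ n 1 r = -ε := by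
    rcases hv 0 r with h | h | h <;> rcases hv 1 r with h' | h' | h' <;>
      rw [h, h'] at hr <;> norm_num at hr
    · exact ⟨-1, Or.inr rfl, by rw [h]; norm_num, by rw [h']; norm_num⟩
    · exact ⟨1, Or.inl rfl, by rw [h], by rw [h']⟩
  have h0r' : n 0 r ≠ 0 := by rcases hε with h | h <;> rw [h0r, h] <;> norm_num
  have h1r' : n 1 r ≠ 0 := by rcases hε with h | h <;> rw [h1r, h] <;> norm_num
  have hro : r ≠ o := by rintro rfl; exact h0r' o0
  -- the second point `p` of `n 0`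
  obtain ⟨p, hpr, h0p'⟩ := exists_second (n 0) (a := r) (by omega) (hsq 0 r)
  have f0 := full_two (n 0) (Ne.symm hpr) g00 h0r' h0p'
  have hpo : p ≠ o := by rintro rfl; exact h0p' o0
  have d0 := sum_two (n 0) D (Ne.symm hpr) f0
  rw [hdeg 0] at d0
  have hDr := hD r
  have hDp := hD p
  have h0p : n 0 p = ε ∧ D p = D r := by
    rcases hε with h | h <;> rcases hv 0 p with h' | h' | h' <;>
      rw [h0r, h, h'] at d0 <;>
      first
        | exact absurd h' h0p'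
        | (rw [h, h']; constructor <;> omega)
        | (exfalso; omega)
  -- the second point `p'` of `n 1`
  obtain ⟨p', hp'r, h1p''⟩ := exists_second (n 1) (a := r) (by omega) (hsq 1 r)
  have f1 := full_two (n 1) (Ne.symm hp'r) g11 h1r' h1p''
  have hp'o : p' ≠ o := by rintro rfl; exact h1p'' o1
  have d1 := sum_two (n 1) D (Ne.symm hp'r) f1
  rw [hdeg 1] at d1
  have hDp' := hD p'
  have h1p' : n 1 p' = ε ∧ D p' = D r := by
    rcases hε with h | h <;> rcases hv 1 p' with h' | h' | h' <;>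
      rw [h1r, h, h'] at d1 <;>
      first
        | exact absurd h' h1p''
        | (rw [h, h']; constructor <;> omega)
        | (exfalso; omega)
  have e01 := sum_two (n 0) (n 1) (Ne.symm hpr) f0
  rw [g01, h0r, h1r, h0p.1] at e01
  have hpp' : p ≠ p' := by
    rintro rfl
    rw [h1p'.1] at e01
    rcases hε with h | h <;> rw [h] at e01 <;> norm_num at e01
  have h1p : n 1 p = 0 := f1 p hpr hpp'
  have h0p'0 : n 0 p' = 0 := f0 p' hp'r (Ne.symm hpp')
  -- Step 2: `n 2`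
  have e02 := sum_two (n 0) (n 2) (Ne.symm hpr) f0
  rw [g02, h0r, h0p.1] at e02
  have e12 := sum_two (n 1) (n 2) (Ne.symm hp'r) f1
  rw [g12, h1r, h1p'.1] at e12
  have c2 : (n 2 r = ε ∧ n 2 p = 0 ∧ n 2 p' = 0) ∨
      (n 2 r = 0 ∧ n 2 p = -ε ∧ n 2 p' = -ε) := by
    have a1 := hv 2 r
    have a2 := hv 2 p
    have a3 := hv 2 p'
    rcases hε with h | h <;> rw [h] at e02 e12 ⊢ <;> omega
  have c2' : n 2 r = ε ∧ n 2 p = 0 ∧ n 2 p' = 0 := by
    rcases c2 with h | ⟨_, h2, h3⟩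
    · exact h
    · exfalso
      have hp0 : n 2 p ≠ 0 := by rcases hε with h | h <;> rw [h2, h] <;> norm_num
      have hp'0 : n 2 p' ≠ 0 := by rcases hε with h | h <;> rw [h3, h] <;> norm_num
      have ho0 : n 2 o ≠ 0 := by rw [o2]; norm_num
      have f := full_three (n 2) (Ne.symm hpo) (Ne.symm hp'o) hpp' g22 ho0 hp0 hp'0
      have d := sum_three (n 2) D (Ne.symm hpo) (Ne.symm hp'o) hpp' f
      rw [hdeg 2, o2, hDo, h2, h3] at d
      rcases hε with h | h <;> rw [h] at d <;> omega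
  obtain ⟨h2r, h2p, h2p'⟩ := c2'
  have h2r' : n 2 r ≠ 0 := by rcases hε with h | h <;> rw [h2r, h] <;> norm_num
  have h2o' : n 2 o ≠ 0 := by rw [o2]; norm_num
  obtain ⟨r2, hr2o, hr2r, h2r2'⟩ :=
    exists_third (n 2) (Ne.symm hro) (by omega) (hsq 2 o) (hsq 2 r)
  have f2 := full_three (n 2) (Ne.symm hro) (Ne.symm hr2o) (Ne.symm hr2r) g22 h2o' h2r' h2r2'
  have hr2p : r2 ≠ p := by rintro rfl; exact h2r2' h2p
  have hr2p' : r2 ≠ p' := by rintro rfl; exact h2r2' h2p'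
  have hεε : ε * ε = 1 := by rcases hε with h | h <;> rw [h] <;> norm_num
  -- Step 3: `n 3`
  have e03 := sum_two (n 0) (n 3) (Ne.symm hpr) f0
  rw [g03, h0r, h0p.1] at e03
  have e13 := sum_two (n 1) (n 3) (Ne.symm hp'r) f1
  rw [g13, h1r, h1p'.1] at e13
  have c3 : (n 3 r = ε ∧ n 3 p = 0 ∧ n 3 p' = 0) ∨
      (n 3 r = 0 ∧ n 3 p = -ε ∧ n 3 p' = -ε) := by
    have a1 := hv 3 r
    have a2 := hv 3 p
    have a3 := hv 3 p'
    rcases hε with h | h <;> rw [h] at e03 e13 ⊢ <;> omega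
  have e23 := sum_three (n 2) (n 3) (Ne.symm hro) (Ne.symm hr2o) (Ne.symm hr2r) f2
  rw [g23, o2, o3, h2r] at e23
  have d2 := sum_three (n 2) D (Ne.symm hro) (Ne.symm hr2o) (Ne.symm hr2r) f2
  rw [hdeg 2, o2, hDo, h2r] at d2
  have c3' : n 3 r = ε ∧ n 3 p = 0 ∧ n 3 p' = 0 := by
    rcases c3 with h | ⟨h1, h2, h3⟩
    · exact h
    · exfalso
      rw [h1] at e23
      have hp0 : n 3 p ≠ 0 := by rcases hε with h | h <;> rw [h2, h] <;> norm_num
      have hp'0 : n 3 p' ≠ 0 := by rcases hε with h | h <;> rw [h3, h] <;> norm_num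
      have h3r2 : n 3 r2 = n 2 r2 := by
        rcases hv 2 r2 with h | h | h <;> rcases hv 3 r2 with h' | h' | h' <;>
          rw [h, h'] at e23 <;> norm_num at e23 <;> rw [h, h']
      have hr20 : n 3 r2 ≠ 0 := by rw [h3r2]; exact h2r2'
      have f := full_three (n 3) hpp' (Ne.symm hr2p) (Ne.symm hr2p') g33 hp0 hp'0 hr20
      have d := sum_three (n 3) D hpp' (Ne.symm hr2p) (Ne.symm hr2p') f
      rw [hdeg 3, h2, h3, h3r2, h0p.2, h1p'.2] at d
      rcases hε with h | h <;> rw [h] at d d2 <;> omega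
  obtain ⟨h3r, h3p, h3p'⟩ := c3'
  rw [h3r, hεε] at e23
  have h3r2 : n 3 r2 = 0 := by
    have h : n 2 r2 * n 3 r2 = 0 := by omega
    rcases mul_eq_zero.mp h with h | h
    · exact absurd h h2r2'
    · exact h
  have h3r' : n 3 r ≠ 0 := by rcases hε with h | h <;> rw [h3r, h] <;> norm_num
  obtain ⟨s, hsr, h3s'⟩ := exists_second (n 3) (a := r) (by omega) (hsq 3 r)
  obtain ⟨s', hs'r, hs's, h3s''⟩ :=
    exists_third (n 3) (Ne.symm hsr) (by omega) (hsq 3 r) (hsq 3 s)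
  have f3 := full_three (n 3) (Ne.symm hsr) (Ne.symm hs'r) (Ne.symm hs's) g33 h3r' h3s' h3s''
  -- Step 4: `n 4`
  have e04 := sum_two (n 0) (n 4) (Ne.symm hpr) f0
  rw [g04, h0r, h0p.1] at e04
  have e14 := sum_two (n 1) (n 4) (Ne.symm hp'r) f1
  rw [g14, h1r, h1p'.1] at e14
  have c4 : n 4 p = n 4 r ∧ n 4 p' = n 4 r := by
    rcases hε with h | h <;> rw [h] at e04 e14 <;> omega
  have h4o' : n 4 o ≠ 0 := by rw [o4]; norm_num
  have h4r : n 4 r = 0 := by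
    by_contra hne
    have hp : n 4 p ≠ 0 := by rw [c4.1]; exact hne
    have hp' : n 4 p' ≠ 0 := by rw [c4.2]; exact hne
    have h := four_le (n 4) (Ne.symm hro) (Ne.symm hpo) (Ne.symm hp'o) (Ne.symm hpr)
      (Ne.symm hp'r) hpp'
    have h1 := one_le_sq hne
    have h2 := one_le_sq hp
    have h3 := one_le_sq hp'
    have h4 := one_le_sq h4o'
    omega
  have h4p : n 4 p = 0 := by rw [c4.1, h4r]
  have h4p' : n 4 p' = 0 := by rw [c4.2, h4r]
  have e24 := sum_three (n 2) (n 4) (Ne.symm hro) (Ne.symm hr2o) (Ne.symm hr2r) f2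
  rw [g24, o2, o4, h2r, h4r] at e24
  have h4r2 : n 4 r2 = 0 := by
    have h : n 2 r2 * n 4 r2 = 0 := by omega
    rcases mul_eq_zero.mp h with h | h
    · exact absurd h h2r2'
    · exact h
  have e34 := sum_three (n 3) (n 4) (Ne.symm hsr) (Ne.symm hs'r) (Ne.symm hs's) f3
  rw [g34, h4r] at e34
  obtain ⟨x6, x5, h65, h6r, h5r, h36', h35', h364, h45, f3'⟩ : ∃ x6 x5 : I, x6 ≠ x5 ∧
      x6 ≠ r ∧ x5 ≠ r ∧ n 3 x6 ≠ 0 ∧ n 3 x5 ≠ 0 ∧ n 4 x6 = -(n 3 x6) ∧ n 4 x5 = 0 ∧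
      (∀ i, i ≠ r → i ≠ x5 → i ≠ x6 → n 3 i = 0) := by
    have hcases : (n 4 s = -(n 3 s) ∧ n 4 s' = 0) ∨ (n 4 s' = -(n 3 s') ∧ n 4 s = 0) := by
      have a1 := hv 4 s
      have a2 := hv 4 s'
      rcases hv 3 s with h | h | h <;> rcases hv 3 s' with h' | h' | h' <;>
        first
          | exact absurd h h3s'
          | exact absurd h' h3s''
          | (rw [h, h'] at e34 ⊢; omega)
    rcases hcases with ⟨h1, h2⟩ | ⟨h1, h2⟩
    · exact ⟨s, s', Ne.symm hs's, hsr, hs'r, h3s', h3s'', h1, h2,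
        fun i h1 h2 h3 => f3 i h1 h3 h2⟩
    · exact ⟨s', s, hs's, hs'r, hsr, h3s'', h3s', h1, h2, fun i h1 h2 h3 => f3 i h1 h2 h3⟩
  have h46' : n 4 x6 ≠ 0 := by rw [h364]; exact neg_ne_zero.mpr h36'
  have h6o : x6 ≠ o := by rintro rfl; exact h36' o3
  obtain ⟨x7, h7o, h76, h47'⟩ :=
    exists_third (n 4) (Ne.symm h6o) (by omega) (hsq 4 o) (hsq 4 x6)
  have f4 := full_three (n 4) (Ne.symm h6o) (Ne.symm h7o) (Ne.symm h76) g44 h4o' h46' h47'
  -- distinctness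
  have h5o : x5 ≠ o := by rintro rfl; exact h35' o3
  have h7r : x7 ≠ r := by rintro rfl; exact h47' h4r
  have h5p : x5 ≠ p := by rintro rfl; exact h35' h3p
  have h6p : x6 ≠ p := by rintro rfl; exact h36' h3p
  have h7p : x7 ≠ p := by rintro rfl; exact h47' h4p
  have h5p' : x5 ≠ p' := by rintro rfl; exact h35' h3p'
  have h6p' : x6 ≠ p' := by rintro rfl; exact h36' h3p'
  have h7p' : x7 ≠ p' := by rintro rfl; exact h47' h4p'
  have h5r2 : x5 ≠ r2 := by rintro rfl; exact h35' h3r2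
  have h6r2 : x6 ≠ r2 := by rintro rfl; exact h36' h3r2
  have h7r2 : x7 ≠ r2 := by rintro rfl; exact h47' h4r2
  have h75 : x7 ≠ x5 := by rintro rfl; exact h47' h45
  -- the zero entries
  have z04 : n 0 r2 = 0 := f0 r2 hr2r hr2p
  have z05 : n 0 x5 = 0 := f0 x5 h5r h5p
  have z06 : n 0 x6 = 0 := f0 x6 h6r h6p
  have z07 : n 0 x7 = 0 := f0 x7 h7r h7p
  have z14 : n 1 r2 = 0 := f1 r2 hr2r hr2p'
  have z15 : n 1 x5 = 0 := f1 x5 h5r h5p'
  have z16 : n 1 x6 = 0 := f1 x6 h6r h6p'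
  have z17 : n 1 x7 = 0 := f1 x7 h7r h7p'
  have z25 : n 2 x5 = 0 := f2 x5 h5o h5r h5r2
  have z26 : n 2 x6 = 0 := f2 x6 h6o h6r h6r2
  have z27 : n 2 x7 = 0 := f2 x7 h7o h7r h7r2
  have z37 : n 3 x7 = 0 := f3' x7 h7r h75 h76
  have h363 : n 3 x6 = -(n 4 x6) := by rw [h364]; ring
  refine ⟨![o, r, p, p', r2, x5, x6, x7],
    ![1, ε, ε, ε, -(n 2 r2), n 3 x5, n 4 x6, -(n 4 x7)], ?_, rfl, ?_, rfl, rfl, rfl, ?_, ?_⟩
  · exact inj8 o r p p' r2 x5 x6 x7 (Ne.symm hro) (Ne.symm hpo) (Ne.symm hp'o) (Ne.symm hr2o)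
      (Ne.symm h5o) (Ne.symm h6o) (Ne.symm h7o) (Ne.symm hpr) (Ne.symm hp'r) (Ne.symm hr2r)
      (Ne.symm h5r) (Ne.symm h6r) (Ne.symm h7r) hpp' (Ne.symm hr2p) (Ne.symm h5p) (Ne.symm h6p)
      (Ne.symm h7p) (Ne.symm hr2p') (Ne.symm h5p') (Ne.symm h6p') (Ne.symm h7p') (Ne.symm h5r2)
      (Ne.symm h6r2) (Ne.symm h7r2) (Ne.symm h65) (Ne.symm h75) (Ne.symm h76)
  · intro j
    fin_cases j
    · simp
    · simpa using hε
    · simpa using hε
    · simpa using hε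
    · rcases hv 2 r2 with h | h | h
      · exact absurd h h2r2'
      · simp [h]
      · simp [h]
    · rcases hv 3 x5 with h | h | h
      · exact absurd h h35'
      · simp [h]
      · simp [h]
    · rcases hv 4 x6 with h | h | h
      · exact absurd h h46'
      · simp [h]
      · simp [h]
    · rcases hv 4 x7 with h | h | h
      · exact absurd h h47'
      · simp [h]
      · simp [h]
  · intro k j
    fin_cases j
    · fin_cases k <;> simp [wt, o0, o1, o2, o3, o4]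
    · fin_cases k <;> simp [wt, h0r, h1r, h2r, h3r, h4r]
    · fin_cases k <;> simp [wt, h0p.1, h1p, h2p, h3p, h4p]
    · fin_cases k <;> simp [wt, h0p'0, h1p'.1, h2p', h3p', h4p']
    · fin_cases k <;> simp [wt, z04, z14, h3r2, h4r2]
    · fin_cases k <;> simp [wt, z05, z15, z25, h45]
    · fin_cases k <;> simp [wt, z06, z16, z26, h363]
    · fin_cases k <;> simp [wt, z07, z17, z27, z37]
  · intro i hi k
    have hne : ∀ j : Fin 8, i ≠ ![o, r, p, p', r2, x5, x6, x7] j := by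
      intro j hj
      exact hi ⟨j, hj.symm⟩
    have i0 : i ≠ o := hne 0
    have i1 : i ≠ r := hne 1
    have i2 : i ≠ p := hne 2
    have i3 : i ≠ p' := hne 3
    have i4 : i ≠ r2 := hne 4
    have i5 : i ≠ x5 := hne 5
    have i6 : i ≠ x6 := hne 6
    have i7 : i ≠ x7 := hne 7
    fin_cases k
    · exact f0 i i1 i2
    · exact f1 i i1 i3
    · exact f2 i i0 i1 i4
    · exact f3' i i1 i5 i6
    · exact f4 i i0 i6 i7

end Cfsg.Agent.Lib.Helper29.S0197D
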