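import Mathlib
import Cfsg.Agent.Lib.Helper28.TensUDefs
import Cfsg.Agent.Lib.Helper26.S5670T3cDefs
import Cfsg.Agent.Lib.Helper29.S5670T3cFAPI

/-!
S5670 FO-T3c (sub-architect helper26), piece F-TV: conjugation by the unitary transvection `1 + v v^†`.
-/

set_option autoImplicit false
set_option linter.unusedSectionVars false
set_option linter.unusedVariables false

namespace Cfsg.Agent.Lib.Helper29.S5670T3cFTV

open Matrix Module
open Cfsg.Agent.Lib.Helper16.Tens Cfsg.Agent.Lib.Helper10.TensFund Cfsg.Agent.Lib.Helper28.TensU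
  Cfsg.Agent.Lib.Helper26.T3c
open Cfsg.Agent.Lib.Helper29.S5670T3cFAPI
open scoped Kronecker

variable {F : Type*} [Field F] [Fintype F] {a b : ℕ} {q : ℕ}

theorem cj_dot (v w : Fin a → F) : cj 2 v ⬝ᵥ w = hs 2 w v := by
  simp only [hs, dotProduct, cj_apply]
  apply Finset.sum_congr rfl
  intro i _
  ring

theorem ct_rk1 (hF : Fintype.card F = 2 ^ 2) (v : Fin a → F) : ct 2 (rk1 2 v) = rk1 2 v := by
  ext i j
  rw [ct_apply, rk1_apply, rk1_apply, mul_pow, ← pow_mul]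
  have := f4_pow_four hF (v i)
  rw [show 2 * 2 = 4 from rfl, this]
  ring

theorem ct_one_add (hF : Fintype.card F = 2 ^ 2) (v : Fin a → F) :
    ct 2 (1 + rk1 2 v) = 1 + rk1 2 v := by
  have h1 : ct 2 (1 : Matrix (Fin a) (Fin a) F) = 1 := by
    ext i j
    rw [ct_apply, Matrix.one_apply, Matrix.one_apply]
    by_cases h : i = j
    · subst h; simp
    · have h' : j ≠ i := fun e => h e.symm
      simp [h, h']
  have hadd : ∀ A B : Matrix (Fin a) (Fin a) F, ct 2 (A + B) = ct 2 A + ct 2 B := by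
    intro A B
    ext i j
    simp only [ct_apply, Matrix.add_apply]
    exact Cfsg.Agent.Lib.Helper28.S5670HS.add_pow_q hF _ _
  rw [hadd, h1, ct_rk1 hF]

theorem rk1_mul_rk1 (v : Fin a → F) : rk1 2 v * rk1 2 v = hs 2 v v • rk1 2 v := by
  unfold rk1
  rw [Matrix.vecMulVec_mul_vecMulVec, cj_dot, Matrix.vecMulVec_smul]

theorem tv_mul_ct (hF : Fintype.card F = 2 ^ 2) (v : Fin a → F) (hv : hs 2 v v = 0) :
    (1 + rk1 2 v) * ct 2 (1 + rk1 2 v) = 1 := by
  rw [ct_one_add hF, add_mul, mul_add, mul_add, one_mul, mul_one, one_mul, rk1_mul_rk1, hv, zero_smul, add_zero]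
  ext i j
  rw [Matrix.add_apply, Matrix.add_apply]
  have := f4_add_self hF (rk1 2 v i j)
  linear_combination this

theorem det_tv (v : Fin a → F) (hv : hs 2 v v = 0) : (1 + rk1 2 v).det = 1 := by
  unfold rk1
  exact det_one_add_vecMulVec v (cj 2 v) (by rw [cj_dot, hv])

/-- `v v^† S = v (S v)^†` for hermitian `S` -/
theorem rk1_mul (hF : Fintype.card F = 2 ^ 2) {S : Matrix (Fin a) (Fin a) F} (hS : SkewM 2 S) (v : Fin a → F) :
    rk1 2 v * S = vecMulVec v (cj 2 (S *ᵥ v)) := by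
  ext i j
  simp only [Matrix.mul_apply, rk1_apply, Matrix.vecMulVec_apply, cj_apply, Matrix.mulVec, dotProduct]
  rw [Cfsg.Agent.Lib.Helper28.S5670HS.sum_pow_q hF, Finset.mul_sum]
  apply Finset.sum_congr rfl
  intro k _
  rw [mul_pow, ← skewM_entry hF hS j k]
  ring

theorem mul_rk1 (S : Matrix (Fin a) (Fin a) F) (v : Fin a → F) :
    S * rk1 2 v = vecMulVec (S *ᵥ v) (cj 2 v) := by
  unfold rk1
  rw [Matrix.mul_vecMulVec]

/-- F-TV : conjugating with the unitary transvection `1 + v v^†`, `v` isotropic -/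
theorem tv_mem (hF : Fintype.card F = 2 ^ 2) {X : AddSubgroup (Matrix (Fin a) (Fin a) F)}
    (hX : InvX 2 X) (v : Fin a → F) (hv : hs 2 v v = 0) {S : Matrix (Fin a) (Fin a) F} (hS : S ∈ X) :
    S + vecMulVec (S *ᵥ v) (cj 2 v) + vecMulVec v (cj 2 (S *ᵥ v)) + hs 2 (S *ᵥ v) v • rk1 2 v ∈ X := by
  have hsk := hX.skew S hS
  have hm := hX.conj _ (tv_mul_ct hF v hv) (det_tv v hv) S hS
  have heq : (1 + rk1 2 v) * S * ct 2 (1 + rk1 2 v) =
      S + vecMulVec (S *ᵥ v) (cj 2 v) + vecMulVec v (cj 2 (S *ᵥ v)) + hs 2 (S *ᵥ v) v • rk1 2 v := by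
    rw [ct_one_add hF, add_mul, one_mul, mul_add, mul_one, add_mul, rk1_mul hF hsk, mul_rk1]
    have h3 : vecMulVec v (cj 2 (S *ᵥ v)) * rk1 2 v = hs 2 (S *ᵥ v) v • rk1 2 v := by
      unfold rk1
      rw [Matrix.vecMulVec_mul_vecMulVec, cj_dot, Matrix.vecMulVec_smul]
      have h4 : hs 2 v (S *ᵥ v) = hs 2 (S *ᵥ v) v := by
        have h5 := hsk v v
        have h6 := f4_neg hF (hs 2 (S *ᵥ v) v)
        linear_combination h5 + h6
      rw [h4]
    rw [h3]
    abel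
  rw [← heq]
  exact hm

end Cfsg.Agent.Lib.Helper29.S5670T3cFTV
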