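import Cfsg.Agent.Lib.Helper28.BSGSPerm
import Cfsg.Agent.Lib.Helper28.BSGSCore2

/-!
# Element orders in a permutation group from a stabilizer chain with two levels

Every element of the group is a product of two transversal elements; for these products some power
with exponent in a given list is checked to fix both base points, hence to be the identity.
-/

set_option autoImplicit false

namespace Cfsg.Agent.Lib.Helper29.SpecPerm

open Cfsg.Agent.Lib.Helper28.BSGS MulAction

variable (n w : ℕ) [NeZero n]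

theorem perm_complete (gens : List (ℕ × ℕ)) (levels : List CLevel)
    (hg : gensOK n w gens = true) (hc : checkChain n w gens levels = true) :
    ∀ z ∈ genGroup n w gens, Sifts (semLevels n w gens levels) z :=
  chain_complete _ _ (checkChain_sound n w levels gens (gensOK_spec n w hg) hc)

theorem semU_spec {b : ℕ} {tr : List Entry} (k3 : ∀ e ∈ tr, entryOK n w b e = true)
    (e : Entry) (he : e ∈ tr) :
    ∃ e' ∈ tr, e'.1 = e.1 ∧ semU n w tr (pt n e.1) = permOf n w e'.2.1 e'.2.2 := by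
  obtain ⟨e', he'⟩ := findE_of_mem he
  obtain ⟨m1, m2⟩ := findE_some he'
  refine ⟨e', m1, m2, ?_⟩
  unfold semU
  rw [pt_val n (entryOK_spec n w (k3 e he)).1, he']

/-- every element is a product of two transversal elements -/
theorem two_level_decomp (gens : List (ℕ × ℕ)) (b1 : ℕ) (T1 : List Entry) (b2 : ℕ)
    (T2 : List Entry) (hg : gensOK n w gens = true)
    (hc : checkChain n w gens [(b1, T1), (b2, T2)] = true)
    (z : Equiv.Perm (Fin n)) (hz : z ∈ genGroup n w gens) :
    ∃ e1 ∈ T1, ∃ e2 ∈ T2, pairOK n w e1.2.1 e1.2.2 = true ∧ pairOK n w e2.2.1 e2.2.2 = true ∧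
      z = permOf n w e1.2.1 e1.2.2 * permOf n w e2.2.1 e2.2.2 := by
  have hs := perm_complete n w gens _ hg hc z hz
  have hc' := hc
  unfold checkChain at hc'
  rw [Bool.and_eq_true] at hc'
  obtain ⟨hl1, hc2⟩ := hc'
  unfold checkChain at hc2
  rw [Bool.and_eq_true] at hc2
  obtain ⟨hl2, _⟩ := hc2
  obtain ⟨_, _, k3, _⟩ := levelOK_spec n w hl1
  obtain ⟨_, _, k3', _⟩ := levelOK_spec n w hl2
  obtain ⟨h1, h2, h3⟩ : z • pt n b1 ∈ (T1.map fun e => pt n e.1) ∧
      ((semU n w T1 (z • pt n b1))⁻¹ * z) • pt n b2 ∈ (T2.map fun e => pt n e.1) ∧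
      (semU n w T2 (((semU n w T1 (z • pt n b1))⁻¹ * z) • pt n b2))⁻¹ *
        ((semU n w T1 (z • pt n b1))⁻¹ * z) = 1 := hs
  rw [List.mem_map] at h1
  obtain ⟨e, he, hez⟩ := h1
  obtain ⟨e1, he1, _, m3⟩ := semU_spec n w k3 e he
  rw [← hez, m3] at h2 h3
  rw [List.mem_map] at h2
  obtain ⟨e', he', hez'⟩ := h2
  obtain ⟨e2, he2, _, m3'⟩ := semU_spec n w k3' e' he'
  rw [← hez', m3'] at h3
  refine ⟨e1, he1, e2, he2, (entryOK_spec n w (k3 e1 he1)).2.1,
    (entryOK_spec n w (k3' e2 he2)).2.1, ?_⟩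
  have hz' : z = permOf n w e1.2.1 e1.2.2 * (permOf n w e2.2.1 e2.2.2 *
      ((permOf n w e2.2.1 e2.2.2)⁻¹ * ((permOf n w e1.2.1 e1.2.2)⁻¹ * z))) := by group
  rw [hz', h3, mul_one]

/-- an element of the group fixing both base points is the identity -/
theorem eq_one_of_fix (gens : List (ℕ × ℕ)) (b1 : ℕ) (T1 : List Entry) (b2 : ℕ)
    (T2 : List Entry) (hg : gensOK n w gens = true)
    (hc : checkChain n w gens [(b1, T1), (b2, T2)] = true)
    (z : Equiv.Perm (Fin n)) (hz : z ∈ genGroup n w gens)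
    (h1 : z (pt n b1) = pt n b1) (h2 : z (pt n b2) = pt n b2) : z = 1 := by
  have hgood := checkChain_sound n w _ gens (gensOK_spec n w hg) hc
  have hs := perm_complete n w gens _ hg hc z hz
  obtain ⟨_, _, _, hu1, _, _, _, hrest⟩ := hgood
  obtain ⟨_, _, _, hu2, _⟩ := hrest
  have hu1' : semU n w T1 (pt n b1) = 1 := hu1
  have hu2' : semU n w T2 (pt n b2) = 1 := hu2
  obtain ⟨_, _, hs3⟩ : z • pt n b1 ∈ (T1.map fun e => pt n e.1) ∧
      ((semU n w T1 (z • pt n b1))⁻¹ * z) • pt n b2 ∈ (T2.map fun e => pt n e.1) ∧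
      (semU n w T2 (((semU n w T1 (z • pt n b1))⁻¹ * z) • pt n b2))⁻¹ *
        ((semU n w T1 (z • pt n b1))⁻¹ * z) = 1 := hs
  have h1' : z • pt n b1 = pt n b1 := h1
  have h2' : z • pt n b2 = pt n b2 := h2
  rw [h1', hu1', inv_one, one_mul, h2', hu2', inv_one, one_mul] at hs3
  exact hs3

/-- image of `b` under the `k`-th power of the product of the two tables -/
def powPt (t1 t2 : ℕ) : ℕ → ℕ → ℕ
  | 0, b => b
  | k + 1, b => look w t1 (look w t2 (powPt t1 t2 k b))

theorem powPt_spec {t1 v1 t2 v2 : ℕ} (h1 : pairOK n w t1 v1 = true) (h2 : pairOK n w t2 v2 = true)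
    (k : ℕ) (a : Fin n) :
    (((permOf n w t1 v1 * permOf n w t2 v2) ^ k) a).val = powPt w t1 t2 k a.val := by
  induction k with
  | zero => rfl
  | succ k ih =>
    rw [pow_succ', Equiv.Perm.mul_apply, Equiv.Perm.mul_apply, permOf_apply h1, permOf_apply h2, ih]
    rfl

/-- some power of the product of the two tables, with exponent in the list, fixes both points -/
def ordOK (expos : List ℕ) (b1 b2 t1 t2 : ℕ) : Bool :=
  expos.any fun k => Nat.beq (powPt w t1 t2 k b1) b1 && Nat.beq (powPt w t1 t2 k b2) b2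

/-- all products of transversal elements have good orders -/
def mainOK (expos : List ℕ) (b1 b2 : ℕ) (es1 es2 : List Entry) : Bool :=
  es1.all fun e1 => es2.all fun e2 => ordOK w expos b1 b2 e1.2.1 e2.2.1

theorem mainOK_append {expos : List ℕ} {b1 b2 : ℕ} {A B es2 : List Entry}
    (h1 : mainOK w expos b1 b2 A es2 = true) (h2 : mainOK w expos b1 b2 B es2 = true) :
    mainOK w expos b1 b2 (A ++ B) es2 = true := by
  unfold mainOK at h1 h2 ⊢
  rw [List.all_append, h1, h2]
  rfl

/-- every element of the group has a power, with exponent in the list, equal to the identity -/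
theorem pow_eq_one_of_certs (gens : List (ℕ × ℕ)) (b1 : ℕ) (T1 : List Entry) (b2 : ℕ)
    (T2 : List Entry) (hg : gensOK n w gens = true)
    (hc : checkChain n w gens [(b1, T1), (b2, T2)] = true) (expos : List ℕ)
    (hm : mainOK w expos b1 b2 T1 T2 = true)
    (z : Equiv.Perm (Fin n)) (hz : z ∈ genGroup n w gens) : ∃ k ∈ expos, z ^ k = 1 := by
  obtain ⟨e1, he1, e2, he2, q1, q2, hzz⟩ := two_level_decomp n w gens b1 T1 b2 T2 hg hc z hz
  have hwf := checkChain_wf n w _ _ hc
  obtain ⟨hb1, _⟩ := hwf (b1, T1) List.mem_cons_self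
  obtain ⟨hb2, _⟩ := hwf (b2, T2) (List.mem_cons_of_mem _ List.mem_cons_self)
  unfold mainOK at hm
  rw [List.all_eq_true] at hm
  have h1 := hm e1 he1
  rw [List.all_eq_true] at h1
  have h2 := h1 e2 he2
  unfold ordOK at h2
  rw [List.any_eq_true] at h2
  obtain ⟨k, hk, hid⟩ := h2
  rw [Bool.and_eq_true] at hid
  obtain ⟨hid1, hid2⟩ := hid
  refine ⟨k, hk, ?_⟩
  apply eq_one_of_fix n w gens b1 T1 b2 T2 hg hc _ (Subgroup.pow_mem _ hz k)
  · apply Fin.ext
    rw [hzz, powPt_spec n w q1 q2, pt_val n hb1]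
    exact Nat.eq_of_beq_eq_true hid1
  · apply Fin.ext
    rw [hzz, powPt_spec n w q1 q2, pt_val n hb2]
    exact Nat.eq_of_beq_eq_true hid2

theorem ne_one_of_wordId_false {g : Equiv.Perm (Fin n)} {ws : List ℕ} (hg : ActsByW n w g ws)
    (h : wordId n w ws = false) : g ≠ 1 := by
  intro h1
  have : wordId n w ws = true := by
    unfold wordId
    rw [List.all_eq_true]
    intro a ha
    rw [List.mem_range] at ha
    have := hg ⟨a, ha⟩
    rw [h1] at this
    exact beq_iff_eq.mpr this.symm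
  rw [this] at h
  exact Bool.noConfusion h

/-- the table pair is valid, belongs to the group and has order exactly `m`, where `ps` lists the
prime divisors of `m` -/
def exactOrdOK (levels : List CLevel) (m : ℕ) (ps : List ℕ) (t : ℕ × ℕ) : Bool :=
  pairOK n w t.1 t.2 && siftB n w levels [t.1] && wordId n w (List.replicate m t.1) &&
  ps.all fun p => !(wordId n w (List.replicate (m / p) t.1))

theorem exactOrd_spec (gens : List (ℕ × ℕ)) (levels : List CLevel) (hg : gensOK n w gens = true)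
    (hc : checkChain n w gens levels = true) (m : ℕ) (ps : List ℕ) (t : ℕ × ℕ) (hm : 0 < m)
    (hps : ∀ p : ℕ, p.Prime → p ∣ m → p ∈ ps) (h : exactOrdOK n w levels m ps t = true) :
    pairOK n w t.1 t.2 = true ∧ permOf n w t.1 t.2 ∈ genGroup n w gens ∧
      orderOf (permOf n w t.1 t.2) = m := by
  unfold exactOrdOK at h
  simp only [Bool.and_eq_true, List.all_eq_true, Bool.not_eq_true'] at h
  obtain ⟨⟨⟨k1, k2⟩, k3⟩, k4⟩ := h
  refine ⟨k1, (perm_main n w gens levels hg hc).2 _ _ (actsByW_single (permOf_apply k1)) k2, ?_⟩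
  apply orderOf_eq_of_pow_and_pow_div_prime hm
  · exact eq_one_of_wordId n w (actsByW_pow n w (permOf_apply k1) m) k3
  · intro p hp hpm
    exact ne_one_of_wordId_false n w (actsByW_pow n w (permOf_apply k1) (m / p)) (k4 p (hps p hp hpm))

end Cfsg.Agent.Lib.Helper29.SpecPerm
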