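import Mathlib
import Cfsg.Agent.Lib.Helper13.SubfPairs

/-!
# S5650 FO-HYP (helper29): `points_all`, `hyp_pairs_all`

Transitivity of the symplectic transvections `altT` on nonzero vectors and on hyperbolic pairs,
in the abstract setting of helper13's `AltF`.
-/

set_option autoImplicit false

namespace Cfsg.Agent.Lib.Helper29.S5650FOHYP

open Cfsg.Agent.Lib.Helper13

variable {K V : Type*} [Field K] [AddCommGroup V] [Module K V] {f : V → V → K}

theorem altT_move (h : AltF f) {a a' : V} (hne : f a a' ≠ 0) :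
    altT f (a - a') (f a a')⁻¹ a = a' := by
  unfold altT
  rw [h.sub_right, h.self, zero_sub, mul_neg, inv_mul_cancel₀ hne, neg_smul, one_smul]
  abel

theorem points_all (h : AltF f) {P : V → Prop}
    (hcl : ∀ u c a, P a → P (altT f u c a)) {a : V} (hP : P a) (ha : a ≠ 0) {a' : V}
    (ha' : a' ≠ 0) : P a' := by
  have step : ∀ {x y : V}, P x → f x y ≠ 0 → P y := by
    intro x y hx hne
    have := hcl (x - y) (f x y)⁻¹ x hx
    rwa [altT_move h hne] at this
  by_cases hne : f a a' = 0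
  · obtain ⟨z, hz1, hz2⟩ := h.exists_link ha ha'
    exact step (step hP hz1) hz2
  · exact step hP hne

theorem hyp_moveB (h : AltF f) {PP : V → V → Prop}
    (hcl : ∀ u c a b, PP a b → PP (altT f u c a) (altT f u c b)) {a b₁ b₂ : V}
    (hP : PP a b₁) (h1 : f a b₁ = 1) (h2 : f a b₂ = 1) (hne : f b₁ b₂ ≠ 0) : PP a b₂ := by
  have := hcl (b₁ - b₂) (f b₁ b₂)⁻¹ a b₁ hP
  have e1 : altT f (b₁ - b₂) (f b₁ b₂)⁻¹ a = a := by
    unfold altT
    rw [h.sub_right, h1, h2, sub_self, mul_zero, zero_smul, add_zero]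
  rwa [e1, altT_move h hne] at this

theorem hyp_pairs_all (h : AltF f) {PP : V → V → Prop}
    (hcl : ∀ u c a b, PP a b → PP (altT f u c a) (altT f u c b)) {a b : V} (hP : PP a b)
    (hab : f a b = 1) {a' b' : V} (hab' : f a' b' = 1) : PP a' b' := by
  have ha : a ≠ 0 := by
    intro h0
    rw [h0, h.zero_left] at hab
    exact zero_ne_one hab
  have ha' : a' ≠ 0 := by
    intro h0
    rw [h0, h.zero_left] at hab'
    exact zero_ne_one hab'
  have hQ : ∃ b₁, PP a' b₁ ∧ f a' b₁ = 1 := by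
    refine points_all h (P := fun x => ∃ b₁, PP x b₁ ∧ f x b₁ = 1) ?_ ⟨b, hP, hab⟩ ha ha'
    rintro u c x ⟨b₁, hb₁, hf⟩
    exact ⟨altT f u c b₁, hcl u c x b₁ hb₁, by rw [h.altT_form]; exact hf⟩
  obtain ⟨b₁, hb₁, hf₁⟩ := hQ
  by_cases hne : f b₁ b' = 0
  · have h2 : f a' (b' + a') = 1 := by rw [h.add_right, h.self, hab', add_zero]
    have h3 : f b₁ (b' + a') ≠ 0 := by
      rw [h.add_right, hne, zero_add, h.swap, hf₁]
      exact neg_ne_zero.mpr one_ne_zero
    have h4 : f (b' + a') b' ≠ 0 := by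
      rw [h.add_left, h.self, zero_add, hab']
      exact one_ne_zero
    exact hyp_moveB h hcl (hyp_moveB h hcl hb₁ hf₁ h2 h3) h2 hab' h4
  · exact hyp_moveB h hcl hb₁ hf₁ hab' hne

end Cfsg.Agent.Lib.Helper29.S5650FOHYP
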