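import Mathlib
import Cfsg.Agent.Lib.Helper28.SpSubfDefs

/-!
# S5650 FO-IIID (helper29): `forall_of_rat`

A property `X` of vectors of `F^(2m)` that is closed under scalar multiples and under
`a ↦ a + l • b` for `X b`, `f(a,b) ≠ 0`, and holds for all rational vectors, holds everywhere.
-/

set_option autoImplicit false

namespace Cfsg.Agent.Lib.Helper29.S5650FOIIID

open Matrix Cfsg.Agent.Lib.Helper6 Cfsg.Agent.Lib.Helper13 Cfsg.Agent.Lib.Helper28.SpSubf

variable {F : Type*} [Field F] {m : ℕ}

theorem ff_single_inl (a : Fin m ⊕ Fin m → F) (i : Fin m) :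
    Cfsg.sympForm m F a (Pi.single (Sum.inl i) 1) = a (Sum.inr i) := by
  rw [sympForm_eq_sum, Finset.sum_eq_single i]
  · simp
  · intro b _ hb
    simp [hb]
  · simp

theorem ff_single_inr (a : Fin m ⊕ Fin m → F) (i : Fin m) :
    Cfsg.sympForm m F a (Pi.single (Sum.inr i) 1) = - a (Sum.inl i) := by
  rw [sympForm_eq_sum, Finset.sum_eq_single i]
  · simp
  · intro b _ hb
    simp [hb]
  · simp

theorem ff_single (a : Fin m ⊕ Fin m → F) (k : Fin m ⊕ Fin m) :
    Cfsg.sympForm m F a (Pi.single k 1) ≠ 0 ↔ a (Sum.swap k) ≠ 0 := by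
  rcases k with i | i
  · rw [ff_single_inl]; rfl
  · rw [ff_single_inr, neg_ne_zero]; rfl

theorem forall_of_rat (K : Subfield F) (X : (Fin m ⊕ Fin m → F) → Prop)
    (hsmul : ∀ a (l : F), X a → X (l • a))
    (hrule : ∀ a b (l : F), X a → X b → Cfsg.sympForm m F a b ≠ 0 → X (a + l • b))
    (hrat : ∀ v : Fin m ⊕ Fin m → K, X (rv K v)) : ∀ x, X x := by
  classical
  have hX1 : ∀ k, X (Pi.single k (1 : F)) := by
    intro k
    have := hrat (Pi.single k 1)
    rwa [rv_single, Subfield.coe_one] at this
  have hX0 : X 0 := by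
    have := hrat 0
    rwa [rv_zero] at this
  intro x
  by_cases hx : x = 0
  · rw [hx]; exact hX0
  obtain ⟨j, hj⟩ : ∃ j, x j ≠ 0 := by
    by_contra hcon
    push Not at hcon
    exact hx (funext hcon)
  have hsj : Sum.swap j ≠ j := by cases j <;> simp
  have adjust : ∀ (a : Fin m ⊕ Fin m → F) (k : Fin m ⊕ Fin m) (l : F), X a → a j ≠ 0 → k ≠ j →
      X (a + l • Pi.single k 1) := by
    intro a k l ha haj hkj
    by_cases h0 : Cfsg.sympForm m F a (Pi.single k 1) = 0
    · have hne' : Cfsg.sympForm m F a (Pi.single (Sum.swap j) 1) ≠ 0 := by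
        rw [ff_single, Sum.swap_swap]; exact haj
      have hb : X (Pi.single (Sum.swap j) 1 + Pi.single k 1) := by
        have := hrat (Pi.single (Sum.swap j) 1 + Pi.single k 1)
        rwa [rv_add, rv_single, rv_single, Subfield.coe_one] at this
      have hab : Cfsg.sympForm m F a (Pi.single (Sum.swap j) 1 + Pi.single k 1) ≠ 0 := by
        rw [sympForm_add_right, h0, add_zero]; exact hne'
      have h1 := hrule a _ l ha hb hab
      have h2 : Cfsg.sympForm m F (a + l • (Pi.single (Sum.swap j) 1 + Pi.single k 1))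
          (Pi.single (Sum.swap j) 1) ≠ 0 := by
        rw [ff_single, Sum.swap_swap]
        have e1 : (Pi.single (Sum.swap j) (1 : F) : Fin m ⊕ Fin m → F) j = 0 :=
          Pi.single_eq_of_ne hsj.symm _
        have e2 : (Pi.single k (1 : F) : Fin m ⊕ Fin m → F) j = 0 :=
          Pi.single_eq_of_ne hkj.symm _
        simp only [Pi.add_apply, Pi.smul_apply, e1, e2, add_zero, smul_zero]
        exact haj
      have h3 := hrule _ _ (-l) h1 (hX1 (Sum.swap j)) h2
      have e : a + l • (Pi.single (Sum.swap j) 1 + Pi.single k 1)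
          + (-l) • Pi.single (Sum.swap j) 1 = a + l • Pi.single k 1 := by
        module
      rwa [e] at h3
    · exact hrule a _ l ha (hX1 k) h0
  have key : ∀ S : Finset (Fin m ⊕ Fin m), j ∉ S →
      X (x j • Pi.single j 1 + ∑ k ∈ S, x k • Pi.single k 1) := by
    intro S
    induction S using Finset.induction_on with
    | empty =>
      intro _
      rw [Finset.sum_empty, add_zero]
      exact hsmul _ _ (hX1 j)
    | insert k S hkS ih =>
      intro hjS
      have hkj : k ≠ j := by
        rintro rfl
        exact hjS (Finset.mem_insert_self _ _)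
      have hjS' : j ∉ S := fun h => hjS (Finset.mem_insert_of_mem h)
      rw [Finset.sum_insert hkS]
      have hcoord : (x j • Pi.single j 1 + ∑ k ∈ S, x k • Pi.single k 1 :
          Fin m ⊕ Fin m → F) j ≠ 0 := by
        have : (∑ k ∈ S, x k • (Pi.single k 1 : Fin m ⊕ Fin m → F)) j = 0 := by
          rw [Finset.sum_apply]
          apply Finset.sum_eq_zero
          intro k hk
          have hkj' : j ≠ k := by
            rintro rfl
            exact hjS' hk
          simp [Pi.single_eq_of_ne hkj']
        rw [Pi.add_apply, this, add_zero]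
        simpa using hj
      have := adjust _ k (x k) (ih hjS') hcoord hkj
      have e : x j • Pi.single j 1 + (x k • Pi.single k 1 + ∑ k ∈ S, x k • Pi.single k 1)
          = x j • Pi.single j 1 + ∑ k ∈ S, x k • Pi.single k 1
            + x k • (Pi.single k 1 : Fin m ⊕ Fin m → F) := by
        abel
      rw [e]
      exact this
  have hfin := key (Finset.univ.erase j) (Finset.notMem_erase j _)
  have e : x = x j • Pi.single j 1 + ∑ k ∈ Finset.univ.erase j, x k • Pi.single k 1 := by
    have h1 : x = ∑ k, x k • (Pi.single k 1 : Fin m ⊕ Fin m → F) := by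
      funext i
      rw [Finset.sum_apply]
      simp [Pi.single_apply]
    rw [← Finset.add_sum_erase Finset.univ _ (Finset.mem_univ j)] at h1
    exact h1
  rw [e]
  exact hfin

end Cfsg.Agent.Lib.Helper29.S5650FOIIID
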