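import Mathlib
import Cfsg.Agent.Lib.Helper28.SpSubfDefs
import Cfsg.Agent.Lib.Helper22.S5650FOSTD
import Cfsg.Agent.Lib.Helper29.S5650FOHYP
import Cfsg.Agent.Lib.Helper29.S5650FOIIID

/-!
# S5650 FO-II (helper29): `good_of_rank2`

A transvection of `K`-rank two in `M` gives a transvection with rational centre and parameter
outside `K`: move the pair of rational vectors to a standard pair by rational transvections.
-/

set_option autoImplicit false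

namespace Cfsg.Agent.Lib.Helper29.S5650FOII

open Matrix Cfsg.Agent.Lib.Helper6 Cfsg.Agent.Lib.Helper13 Cfsg.Agent.Lib.Helper28.SpSubf
open Cfsg.Agent.Lib.Helper29.S5650FOIIID

variable {F : Type*} [Field F] {m : ℕ}

local notation "ff" => Cfsg.sympForm m F

/-- the property of pairs of rational vectors that is moved around -/
def PP2 (K : Subfield F) (M : Subgroup (GL (Fin m ⊕ Fin m) F)) (a b : Fin m ⊕ Fin m → K) : Prop :=
  ∀ ω₁ ω₂ : F, (∀ k₁ k₂ : K, (k₁ : F) * ω₁ + (k₂ : F) * ω₂ = 0 → k₁ = 0 ∧ k₂ = 0) →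
    sympTransvGL (ω₁ • rv K a + ω₂ • rv K b) 1 ∈ M → Good K M

theorem PP2_altT (K : Subfield F) (M : Subgroup (GL (Fin m ⊕ Fin m) F)) (hHM : H1 K m ≤ M)
    (hMS : M ≤ Cfsg.spGL m F) (u : Fin m ⊕ Fin m → K) (c : K) (a b : Fin m ⊕ Fin m → K)
    (h : PP2 K M a b) :
    PP2 K M (altT (Cfsg.sympForm m K) u c a) (altT (Cfsg.sympForm m K) u c b) := by
  intro ω₁ ω₂ hω hT
  apply h ω₁ ω₂ hω
  have ht : sympTransvGL (rv K u) (c : F) ∈ H1 K m := rat_transv_mem K u c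
  have htM := hHM ht
  have htS := hMS htM
  rw [rv_altT, rv_altT, ← mulVec_smul, ← mulVec_smul, ← mulVec_add,
    ← conj_sympTransvGL _ htS] at hT
  have := M.mul_mem (M.mul_mem (M.inv_mem htM) hT) htM
  have e : (sympTransvGL (rv K u) (c : F))⁻¹ *
      (sympTransvGL (rv K u) (c : F) * sympTransvGL (ω₁ • rv K a + ω₂ • rv K b) 1 *
        (sympTransvGL (rv K u) (c : F))⁻¹) * sympTransvGL (rv K u) (c : F) =
      sympTransvGL (ω₁ • rv K a + ω₂ • rv K b) 1 := by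
    group
  rwa [e] at this

theorem good_of_rank2 [Finite F] (hm : 4 ≤ m) (K : Subfield F)
    (M : Subgroup (GL (Fin m ⊕ Fin m) F)) (hHM : H1 K m ≤ M) (hMS : M ≤ Cfsg.spGL m F)
    (h : Rank2 K M) : Good K M := by
  classical
  obtain ⟨a, b, ω₁, ω₂, hab, hω, hT⟩ := h
  obtain ⟨i0, i1, i2, i3, h01, h02, h03, h12, h13, h23⟩ : ∃ i0 i1 i2 i3 : Fin m,
      i0 ≠ i1 ∧ i0 ≠ i2 ∧ i0 ≠ i3 ∧ i1 ≠ i2 ∧ i1 ≠ i3 ∧ i2 ≠ i3 :=
    ⟨⟨0, by omega⟩, ⟨1, by omega⟩, ⟨2, by omega⟩, ⟨3, by omega⟩, by simp [Fin.ext_iff],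
      by simp [Fin.ext_iff], by simp [Fin.ext_iff], by simp [Fin.ext_iff], by simp [Fin.ext_iff],
      by simp [Fin.ext_iff]⟩
  have hcl : ∀ (u : Fin m ⊕ Fin m → K) (c : K) (p q : Fin m ⊕ Fin m → K), PP2 K M p q →
      PP2 K M (altT (Cfsg.sympForm m K) u c p) (altT (Cfsg.sympForm m K) u c q) :=
    fun u c p q hpq => PP2_altT K M hHM hMS u c p q hpq
  have ha0 : a ≠ 0 := by
    intro h0
    have := (hab 1 0 (by rw [h0]; simp)).1
    exact one_ne_zero this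
  have hba : ∀ k : K, b ≠ k • a := by
    intro k hk
    have := (hab (-k) 1 (by rw [hk]; simp)).2
    exact one_ne_zero this
  by_cases hγ : Cfsg.sympForm m K a b = 0
  · -- the isotropic case
    obtain ⟨u₀, hu₀⟩ : ∃ u₀ : Fin m ⊕ Fin m → K, u₀ = Pi.single (Sum.inl i0) 1 := ⟨_, rfl⟩
    obtain ⟨v₀, hv₀⟩ : ∃ v₀ : Fin m ⊕ Fin m → K, v₀ = Pi.single (Sum.inl i1) 1 := ⟨_, rfl⟩
    have hbase : PP2 K M u₀ v₀ := by
      intro ω₁' ω₂' hω' hT'
      rw [hu₀, hv₀] at hT'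
      exact Cfsg.Agent.Lib.Helper22.S5650.good_of_std_iso K M hHM hMS i0 i1 i2 i3 h01 h02 h03
        h12 h13 h23 ω₁' ω₂' hω' hT'
    have k12 : Cfsg.sympForm m K u₀ v₀ = 0 := by
      rw [hv₀, ff_single_inl, hu₀]; simp
    have u₀ne : u₀ ≠ 0 := by
      intro h
      have := congrFun h (Sum.inl i0)
      rw [hu₀] at this
      simp at this
    have hvu : ∀ k : K, v₀ ≠ k • u₀ := by
      intro k h
      have := congrFun h (Sum.inl i1)
      rw [hv₀, hu₀] at this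
      simp [h01.symm] at this
    have := pairs_all (altF_symp K m) (PP := PP2 K M) hcl hbase u₀ne hvu k12 ha0 hba hγ
    exact this ω₁ ω₂ hω hT
  · -- the hyperbolic case
    obtain ⟨γ, hγdef⟩ : ∃ γ : K, γ = Cfsg.sympForm m K a b := ⟨_, rfl⟩
    have hγ0 : γ ≠ 0 := by rw [hγdef]; exact hγ
    obtain ⟨u₀, hu₀⟩ : ∃ u₀ : Fin m ⊕ Fin m → K, u₀ = Pi.single (Sum.inr i0) 1 := ⟨_, rfl⟩
    obtain ⟨v₀, hv₀⟩ : ∃ v₀ : Fin m ⊕ Fin m → K, v₀ = Pi.single (Sum.inl i0) 1 := ⟨_, rfl⟩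
    have hbase : PP2 K M u₀ v₀ := by
      intro ω₁' ω₂' hω' hT'
      rw [hu₀, hv₀] at hT'
      exact Cfsg.Agent.Lib.Helper22.S5650.good_of_std_hyp K M hHM hMS i0 i1 i2 h01 h02 h12
        ω₁' ω₂' hω' hT'
    have k12 : Cfsg.sympForm m K u₀ v₀ = 1 := by
      rw [hv₀, ff_single_inl, hu₀]; simp
    have hab1 : Cfsg.sympForm m K a (γ⁻¹ • b) = 1 := by
      rw [sympForm_smul_right, ← hγdef, inv_mul_cancel₀ hγ0]
    have := Cfsg.Agent.Lib.Helper29.S5650FOHYP.hyp_pairs_all (altF_symp K m) (PP := PP2 K M)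
      hcl hbase k12 hab1
    apply this ω₁ ((γ : F) * ω₂)
    · intro k₁ k₂ hk
      have h1 := hω k₁ (k₂ * γ) (by push_cast; linear_combination hk)
      refine ⟨h1.1, ?_⟩
      rcases mul_eq_zero.mp h1.2 with h2 | h2
      · exact h2
      · exact absurd h2 hγ0
    · have e : ω₁ • rv K a + ((γ : F) * ω₂) • rv K (γ⁻¹ • b) = ω₁ • rv K a + ω₂ • rv K b := by
        rw [rv_smul, smul_smul]
        congr 2
        push_cast
        have : (γ : F) ≠ 0 := by exact_mod_cast hγ0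
        field_simp
      rw [e]
      exact hT

end Cfsg.Agent.Lib.Helper29.S5650FOII
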