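import Mathlib
import Cfsg.Agent.Lib.Helper28.SpSubfDefs
import Cfsg.Agent.Lib.Helper29.S5650FOIIID

/-!
# S5650 FO-IIIB (helper29): `short_mul`

The set of short-root parameters of `M` is closed under multiplication: the commutator of two
Siegel elements.
-/

set_option autoImplicit false

namespace Cfsg.Agent.Lib.Helper29.S5650FOIIIB

open Matrix Cfsg.Agent.Lib.Helper6 Cfsg.Agent.Lib.Helper13 Cfsg.Agent.Lib.Helper28.SpSubf
open Cfsg.Agent.Lib.Helper29.S5650FOIIID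

variable {F : Type*} [Field F] {m : ℕ}

local notation "ff" => Cfsg.sympForm m F

theorem sieg_inv (w v : Fin m ⊕ Fin m → F) (hwv : ff w v = 0) : (sieg w v)⁻¹ = sieg (-w) v := by
  apply inv_eq_of_mul_eq_one_right
  apply gl_ext
  intro x
  have hvw : ff v w = 0 := by rw [sympForm_swap, hwv, neg_zero]
  have h' : ff (-w) v = 0 := by rw [sympForm_neg_left, hwv, neg_zero]
  rw [Units.val_mul, ← mulVec_mulVec, sieg_mulVec _ _ h', sieg_mulVec _ _ hwv, Units.val_one,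
    one_mulVec]
  simp only [sympForm_add_left, sympForm_smul_left, sympForm_neg_left, sympForm_neg_right,
    sympForm_self, hwv, hvw]
  module

theorem sieg_comm (e₁ e₂ e₃ f₃ : Fin m ⊕ Fin m → F) (a b : F)
    (h12 : ff e₁ e₂ = 0) (h13 : ff e₁ e₃ = 0) (h1f : ff e₁ f₃ = 0) (h23 : ff e₂ e₃ = 0)
    (h2f : ff e₂ f₃ = 0) (hf3 : ff f₃ e₃ = 1) :
    sieg (a • e₁) f₃ * sieg (b • e₃) e₂ =
      sieg ((-(a * b)) • e₁) e₂ * (sieg (b • e₃) e₂ * sieg (a • e₁) f₃) := by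
  have h21 : ff e₂ e₁ = 0 := by rw [sympForm_swap, h12, neg_zero]
  have h31 : ff e₃ e₁ = 0 := by rw [sympForm_swap, h13, neg_zero]
  have hf1 : ff f₃ e₁ = 0 := by rw [sympForm_swap, h1f, neg_zero]
  have h32 : ff e₃ e₂ = 0 := by rw [sympForm_swap, h23, neg_zero]
  have hf2 : ff f₃ e₂ = 0 := by rw [sympForm_swap, h2f, neg_zero]
  have h3f : ff e₃ f₃ = -1 := by rw [sympForm_swap, hf3]
  have o1 : ff (a • e₁) f₃ = 0 := by rw [sympForm_smul_left, h1f, mul_zero]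
  have o2 : ff (b • e₃) e₂ = 0 := by rw [sympForm_smul_left, h32, mul_zero]
  have o3 : ff ((-(a * b)) • e₁) e₂ = 0 := by rw [sympForm_smul_left, h12, mul_zero]
  apply gl_ext
  intro x
  simp only [Units.val_mul, ← mulVec_mulVec]
  simp only [sieg_mulVec _ _ o1, sieg_mulVec _ _ o2, sieg_mulVec _ _ o3]
  simp only [sympForm_add_left, sympForm_smul_left, sympForm_smul_right, sympForm_self,
    h12, h13, h2f, hf3, h21, h31, hf1, h32, hf2, h3f]
  module

theorem short_mul (hm : 3 ≤ m) (K : Subfield F) (M : Subgroup (GL (Fin m ⊕ Fin m) F))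
    (hHM : H1 K m ≤ M) (hMS : M ≤ Cfsg.spGL m F) (a b : F) (ha : Short K M a)
    (hb : Short K M b) : Short K M (a * b) := by
  classical
  obtain ⟨i0, i1, i2, h01, h02, h12⟩ : ∃ i0 i1 i2 : Fin m, i0 ≠ i1 ∧ i0 ≠ i2 ∧ i1 ≠ i2 :=
    ⟨⟨0, by omega⟩, ⟨1, by omega⟩, ⟨2, by omega⟩, by simp [Fin.ext_iff], by simp [Fin.ext_iff],
      by simp [Fin.ext_iff]⟩
  obtain ⟨u₀, hu₀⟩ : ∃ u₀ : Fin m ⊕ Fin m → K, u₀ = Pi.single (Sum.inl i0) 1 := ⟨_, rfl⟩
  obtain ⟨v₀, hv₀⟩ : ∃ v₀ : Fin m ⊕ Fin m → K, v₀ = Pi.single (Sum.inl i1) 1 := ⟨_, rfl⟩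
  obtain ⟨x, hx⟩ : ∃ x : Fin m ⊕ Fin m → K, x = Pi.single (Sum.inr i2) 1 := ⟨_, rfl⟩
  obtain ⟨y, hy⟩ : ∃ y : Fin m ⊕ Fin m → K, y = Pi.single (Sum.inl i2) 1 := ⟨_, rfl⟩
  -- K-level form values
  have k12 : Cfsg.sympForm m K u₀ v₀ = 0 := by
    rw [hv₀, ff_single_inl, hu₀]; simp
  have k13 : Cfsg.sympForm m K u₀ y = 0 := by
    rw [hy, ff_single_inl, hu₀]; simp
  have k1f : Cfsg.sympForm m K u₀ x = 0 := by
    rw [hx, ff_single_inr, hu₀]; simp [h02.symm]
  have k23 : Cfsg.sympForm m K v₀ y = 0 := by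
    rw [hy, ff_single_inl, hv₀]; simp
  have k2f : Cfsg.sympForm m K v₀ x = 0 := by
    rw [hx, ff_single_inr, hv₀]; simp [h12.symm]
  have kf3 : Cfsg.sympForm m K x y = 1 := by
    rw [hy, ff_single_inl, hx]; simp
  have k32 : Cfsg.sympForm m K y v₀ = 0 := by
    rw [hv₀, ff_single_inl, hy]; simp
  -- nonvanishing / independence
  have u₀ne : u₀ ≠ 0 := by
    intro h
    have := congrFun h (Sum.inl i0)
    rw [hu₀] at this
    simp at this
  have yne : y ≠ 0 := by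
    intro h
    have := congrFun h (Sum.inl i2)
    rw [hy] at this
    simp at this
  have hxu : ∀ k : K, x ≠ k • u₀ := by
    intro k h
    have := congrFun h (Sum.inr i2)
    rw [hx, hu₀] at this
    simp at this
  have hvy : ∀ k : K, v₀ ≠ k • y := by
    intro k h
    have := congrFun h (Sum.inl i1)
    rw [hv₀, hy] at this
    simp [h12] at this
  have hvu : ∀ k : K, v₀ ≠ k • u₀ := by
    intro k h
    have := congrFun h (Sum.inl i1)
    rw [hv₀, hu₀] at this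
    simp [h01.symm] at this
  -- the two Siegel elements
  have hs₁ : sieg (a • rv K u₀) (rv K x) ∈ M := ha u₀ x u₀ne hxu k1f
  have hs₂ : sieg (b • rv K y) (rv K v₀) ∈ M := hb y v₀ yne hvy k32
  have F12 : ff (rv K u₀) (rv K v₀) = 0 := by rw [sympForm_rv, k12]; rfl
  have F13 : ff (rv K u₀) (rv K y) = 0 := by rw [sympForm_rv, k13]; rfl
  have F1f : ff (rv K u₀) (rv K x) = 0 := by rw [sympForm_rv, k1f]; rfl
  have F23 : ff (rv K v₀) (rv K y) = 0 := by rw [sympForm_rv, k23]; rfl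
  have F2f : ff (rv K v₀) (rv K x) = 0 := by rw [sympForm_rv, k2f]; rfl
  have Ff3 : ff (rv K x) (rv K y) = 1 := by rw [sympForm_rv, kf3]; rfl
  have hcomm := sieg_comm (rv K u₀) (rv K v₀) (rv K y) (rv K x) a b F12 F13 F1f F23 F2f Ff3
  have hbase0 : sieg ((-(a * b)) • rv K u₀) (rv K v₀) ∈ M := by
    have e : sieg ((-(a * b)) • rv K u₀) (rv K v₀) =
        sieg (a • rv K u₀) (rv K x) * sieg (b • rv K y) (rv K v₀) *
          (sieg (b • rv K y) (rv K v₀) * sieg (a • rv K u₀) (rv K x))⁻¹ := by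
      rw [hcomm, mul_inv_cancel_right]
    rw [e]
    exact M.mul_mem (M.mul_mem hs₁ hs₂) (M.inv_mem (M.mul_mem hs₂ hs₁))
  have hbase : sieg ((a * b) • rv K u₀) (rv K v₀) ∈ M := by
    have h1 := M.inv_mem hbase0
    rw [sieg_inv _ _ (by rw [sympForm_smul_left, F12, mul_zero]), ← neg_smul, neg_neg] at h1
    exact h1
  -- spread by `pairs_all`
  intro u v hu hv huv
  have hcl : ∀ (u' : Fin m ⊕ Fin m → K) (c : K) (p q : Fin m ⊕ Fin m → K),
      sieg ((a * b) • rv K p) (rv K q) ∈ M →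
      sieg ((a * b) • rv K (altT (Cfsg.sympForm m K) u' c p))
        (rv K (altT (Cfsg.sympForm m K) u' c q)) ∈ M := by
    intro u' c p q h
    have ht : sympTransvGL (rv K u') (c : F) ∈ H1 K m := rat_transv_mem K u' c
    have htM := hHM ht
    have htS := hMS htM
    have := M.mul_mem (M.mul_mem htM h) (M.inv_mem htM)
    rw [conj_sieg _ htS, mulVec_smul, ← rv_altT, ← rv_altT] at this
    exact this
  exact pairs_all (altF_symp K m)
    (PP := fun p q => sieg ((a * b) • rv K p) (rv K q) ∈ M) hcl hbase u₀ne hvu k12 hu hv huv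

end Cfsg.Agent.Lib.Helper29.S5650FOIIIB
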