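import Mathlib
set_option autoImplicit false

/-!
# `SL(V)` is transitive on ordered pairs of independent vectors when `dim V ≥ 3`
-/

namespace Cfsg.Agent.Lib.Helper29.AH

open Module

variable {K : Type*} [Field K] {V : Type*} [AddCommGroup V] [Module K V] [FiniteDimensional K V]

theorem exists_linearEquiv_pair (x x' u y : V) (hx : LinearIndependent K ![x, x'])
    (hu : LinearIndependent K ![u, y]) :
    ∃ g : V ≃ₗ[K] V, g x = u ∧ g x' = y := by
  have q0 : ∀ {a b : V} (h : LinearIndependent K ![a, b]),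
      (h.linearCombinationEquiv (Finsupp.single 0 1) : V) = a := by
    intro a b h
    simp
  have q1 : ∀ {a b : V} (h : LinearIndependent K ![a, b]),
      (h.linearCombinationEquiv (Finsupp.single 1 1) : V) = b := by
    intro a b h
    simp
  let f := hx.linearCombinationEquiv.symm ≪≫ₗ hu.linearCombinationEquiv
  have : FiniteDimensional K (Submodule.span K (Set.range ![x, x'])) :=
    FiniteDimensional.span_of_finite K (Set.finite_range _)
  obtain ⟨g, hg⟩ := Submodule.exists_linearEquiv_restrict_eq f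
  refine ⟨g, ?_, ?_⟩
  · have h1 := hg (hx.linearCombinationEquiv (Finsupp.single 0 1))
    rw [q0 hx] at h1
    rw [← h1]
    simp only [f, LinearEquiv.trans_apply, LinearEquiv.symm_apply_apply]
    exact q0 hu
  · have h1 := hg (hx.linearCombinationEquiv (Finsupp.single 1 1))
    rw [q1 hx] at h1
    rw [← h1]
    simp only [f, LinearEquiv.trans_apply, LinearEquiv.symm_apply_apply]
    exact q1 hu

theorem exists_fix_pair_det (h3 : 3 ≤ finrank K V) (u y : V) (c : K) (hc : c ≠ 0) :
    ∃ δ : V ≃ₗ[K] V, LinearMap.det δ.toLinearMap = c ∧ δ u = u ∧ δ y = y := by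
  classical
  set p : Submodule K V := Submodule.span K {u, y} with hp
  have hlt : p ≠ ⊤ := by
    intro htop
    have h1 : finrank K p ≤ 2 := by
      rw [hp]
      have := finrank_span_le_card (R := K) ({u, y} : Set V)
      have h2 : ({u, y} : Set V).toFinset.card ≤ 2 := by
        have : ({u, y} : Set V).toFinset = {u, y} := by ext; simp
        rw [this]
        exact Finset.card_le_two
      omega
    rw [htop, finrank_top] at h1
    omega
  obtain ⟨w, hw⟩ : ∃ w : V, w ∉ p := by
    by_contra hall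
    push Not at hall
    exact hlt (Submodule.eq_top_iff'.mpr hall)
  obtain ⟨ψ, hψw, hψp⟩ := Submodule.exists_le_ker_of_notMem hw
  have hψu : ψ u = 0 := hψp (Submodule.subset_span (by simp))
  have hψy : ψ y = 0 := hψp (Submodule.subset_span (by simp))
  set v : V := ((c - 1) / ψ w) • w with hv
  have hfv : ψ v = c - 1 := by
    rw [hv, map_smul, smul_eq_mul, div_mul_cancel₀ _ hψw]
  have hunit : IsUnit (1 + ψ v) := by
    rw [hfv]
    simpa using hc
  refine ⟨LinearEquiv.dilatransvection hunit, ?_, ?_, ?_⟩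
  · rw [LinearEquiv.dilatransvection.coe_toLinearMap, LinearMap.transvection.det, hfv]
    ring
  · rw [← LinearEquiv.coe_coe, LinearEquiv.dilatransvection.coe_toLinearMap,
      LinearMap.transvection.apply, hψu, zero_smul, add_zero]
  · rw [← LinearEquiv.coe_coe, LinearEquiv.dilatransvection.coe_toLinearMap,
      LinearMap.transvection.apply, hψy, zero_smul, add_zero]

theorem exists_linearEquiv_pair_det (h3 : 3 ≤ finrank K V) (x x' u y : V)
    (hx : LinearIndependent K ![x, x']) (hu : LinearIndependent K ![u, y]) :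
    ∃ g : V ≃ₗ[K] V, LinearMap.det g.toLinearMap = 1 ∧ g x = u ∧ g x' = y := by
  obtain ⟨g₀, h1, h2⟩ := exists_linearEquiv_pair x x' u y hx hu
  have hdet : LinearMap.det g₀.toLinearMap ≠ 0 := by
    have := LinearEquiv.isUnit_det' g₀
    exact this.ne_zero
  obtain ⟨δ, hδ, hδu, hδy⟩ := exists_fix_pair_det h3 u y (LinearMap.det g₀.toLinearMap)⁻¹
    (inv_ne_zero hdet)
  refine ⟨g₀ ≪≫ₗ δ, ?_, ?_, ?_⟩
  · have : (g₀ ≪≫ₗ δ).toLinearMap = δ.toLinearMap ∘ₗ g₀.toLinearMap := rfl
    rw [this, LinearMap.det_comp, hδ, inv_mul_cancel₀ hdet]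
  · rw [LinearEquiv.trans_apply, h1, hδu]
  · rw [LinearEquiv.trans_apply, h2, hδy]

/-- matrix form. -/
theorem exists_sl_pair {F : Type*} [Field F] (d : ℕ) (h3 : 3 ≤ d) (x x' u y : Fin d → F)
    (hx : LinearIndependent F ![x, x']) (hu : LinearIndependent F ![u, y]) :
    ∃ M : Matrix.SpecialLinearGroup (Fin d) F,
      (M : Matrix (Fin d) (Fin d) F).mulVec x = u ∧ (M : Matrix (Fin d) (Fin d) F).mulVec x' = y := by
  have hfr : 3 ≤ finrank F (Fin d → F) := by
    rw [Module.finrank_fin_fun]
    exact h3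
  obtain ⟨g, hdet, h1, h2⟩ := exists_linearEquiv_pair_det hfr x x' u y hx hu
  refine ⟨⟨LinearMap.toMatrix' g.toLinearMap, ?_⟩, ?_, ?_⟩
  · rw [LinearMap.det_toMatrix']
    exact hdet
  · show (LinearMap.toMatrix' g.toLinearMap).mulVec x = u
    rw [LinearMap.toMatrix'_mulVec]
    exact h1
  · show (LinearMap.toMatrix' g.toLinearMap).mulVec x' = y
    rw [LinearMap.toMatrix'_mulVec]
    exact h2

end Cfsg.Agent.Lib.Helper29.AH
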