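import Mathlib
set_option autoImplicit false

/-!
# Conjugating by a transvection: the trace formula
-/

namespace Cfsg.Agent.Lib.Helper29.AH

open Matrix

variable {F : Type*} [Field F] {d : ℕ}

/-- the transvection matrix `1 + s • u φᵀ`. -/
def tv (u φ : Fin d → F) (s : F) : Matrix (Fin d) (Fin d) F := 1 + s • Matrix.vecMulVec u φ

theorem vecMulVec_sq (u φ : Fin d → F) (h : φ ⬝ᵥ u = 0) :
    Matrix.vecMulVec u φ * Matrix.vecMulVec u φ = 0 := by
  rw [Matrix.vecMulVec_mul_vecMulVec, h, zero_smul]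
  ext i j
  simp [Matrix.vecMulVec_apply]

theorem tv_mul_tv (u φ : Fin d → F) (h : φ ⬝ᵥ u = 0) (s t : F) :
    tv u φ s * tv u φ t = tv u φ (s + t) := by
  unfold tv
  rw [Matrix.add_mul, Matrix.mul_add, Matrix.mul_add, Matrix.one_mul, Matrix.mul_one,
    Matrix.one_mul, Matrix.smul_mul, Matrix.mul_smul, vecMulVec_sq u φ h, smul_zero, smul_zero,
    add_zero, add_smul, add_assoc]
  congr 1
  rw [add_comm]

theorem tv_zero (u φ : Fin d → F) : tv u φ 0 = 1 := by
  unfold tv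
  rw [zero_smul, add_zero]

theorem det_tv (u φ : Fin d → F) (h : φ ⬝ᵥ u = 0) (s : F) : (tv u φ s).det = 1 := by
  unfold tv
  have h1 : s • Matrix.vecMulVec u φ = Matrix.replicateCol Unit (s • u) * Matrix.replicateRow Unit φ := by
    rw [← Matrix.vecMulVec_eq Unit]
    ext i j
    simp [Matrix.vecMulVec_apply, mul_assoc]
  rw [h1, Matrix.det_one_add_replicateCol_mul_replicateRow, dotProduct_smul, h, smul_zero, add_zero]

/-- the transvection as an element of `SL`. -/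
def tvSL (u φ : Fin d → F) (h : φ ⬝ᵥ u = 0) (s : F) : Matrix.SpecialLinearGroup (Fin d) F :=
  ⟨tv u φ s, det_tv u φ h s⟩

theorem tvSL_inv (u φ : Fin d → F) (h : φ ⬝ᵥ u = 0) (s : F) :
    (tvSL u φ h s)⁻¹ = tvSL u φ h (-s) := by
  apply inv_eq_of_mul_eq_one_right
  apply Subtype.ext
  show tv u φ s * tv u φ (-s) = 1
  rw [tv_mul_tv u φ h, add_neg_cancel, tv_zero]

theorem trace_mul_vecMulVec (X : Matrix (Fin d) (Fin d) F) (u φ : Fin d → F) :
    Matrix.trace (X * Matrix.vecMulVec u φ) = φ ⬝ᵥ (X.mulVec u) := by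
  rw [Matrix.mul_vecMulVec, Matrix.trace_vecMulVec, dotProduct_comm]

theorem trace_conj_tv (A B : Matrix (Fin d) (Fin d) F) (u φ : Fin d → F) (s : F) :
    Matrix.trace (A * (tv u φ s * B * tv u φ (-s)))
      = Matrix.trace (A * B)
        + s * (φ ⬝ᵥ (B.mulVec (A.mulVec u)) - φ ⬝ᵥ (A.mulVec (B.mulVec u)))
        - s ^ 2 * ((φ ⬝ᵥ (A.mulVec u)) * (φ ⬝ᵥ (B.mulVec u))) := by
  set N := Matrix.vecMulVec u φ with hN
  have e1 : Matrix.trace (A * (N * B)) = φ ⬝ᵥ (B.mulVec (A.mulVec u)) := by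
    rw [← Matrix.mul_assoc, Matrix.trace_mul_comm, ← Matrix.mul_assoc, hN, trace_mul_vecMulVec,
      Matrix.mulVec_mulVec]
  have e2 : Matrix.trace (A * (B * N)) = φ ⬝ᵥ (A.mulVec (B.mulVec u)) := by
    rw [← Matrix.mul_assoc, hN, trace_mul_vecMulVec, Matrix.mulVec_mulVec]
  have e3 : N * B * N = (φ ⬝ᵥ (B.mulVec u)) • N := by
    rw [hN, Matrix.vecMulVec_mul, Matrix.vecMulVec_mul_vecMulVec, ← Matrix.dotProduct_mulVec]
    ext i j
    simp only [Matrix.vecMulVec_apply, Matrix.smul_apply, Pi.smul_apply, smul_eq_mul]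
    ring
  have e4 : Matrix.trace (A * (N * B * N)) = (φ ⬝ᵥ (A.mulVec u)) * (φ ⬝ᵥ (B.mulVec u)) := by
    rw [e3, Matrix.mul_smul, Matrix.trace_smul, hN, trace_mul_vecMulVec, smul_eq_mul, mul_comm]
  have expand : tv u φ s * B * tv u φ (-s)
      = B + s • (N * B) - s • (B * N) - s ^ 2 • (N * B * N) := by
    unfold tv
    rw [← hN]
    have h1 : (1 + s • N) * B = B + s • (N * B) := by
      rw [Matrix.add_mul, Matrix.one_mul, Matrix.smul_mul]
    have h2 : (B + s • (N * B)) * (1 + (-s) • N)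
        = B + s • (N * B) + (-s) • (B * N) + (s * (-s)) • (N * B * N) := by
      rw [Matrix.mul_add, Matrix.mul_one, Matrix.add_mul, Matrix.mul_smul, Matrix.mul_smul,
        Matrix.smul_mul, smul_smul, mul_comm (-s) s]
      abel
    rw [h1, h2]
    module
  rw [expand]
  simp only [Matrix.mul_add, Matrix.mul_sub, Matrix.mul_smul, Matrix.trace_add, Matrix.trace_sub,
    Matrix.trace_smul, smul_eq_mul, e1, e2, e4]
  ring

end Cfsg.Agent.Lib.Helper29.AH
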