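import Cfsg.Agent.Lib.Helper29.RU3

/-!
# RU4: general facts about an endomorphism used in the selection of `(b, φ)`
-/

set_option autoImplicit false

namespace Cfsg.Agent.Lib.Helper29.RU

open Module

variable {K : Type*} [Field K] {V : Type*} [AddCommGroup V] [Module K V]

/-- A vector outside the `c`-eigenspace and outside the range of `S - c` is not an eigenvector. -/
theorem not_eigen_of_notMem (S : End K V) (c : K) (b : V) (h1 : S b ≠ c • b)
    (h2 : b ∉ LinearMap.range (S - c • (1 : End K V))) (l : K) : S b ≠ l • b := by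
  intro h
  by_cases hl : l = c
  · exact h1 (hl ▸ h)
  · apply h2
    refine ⟨(l - c)⁻¹ • b, ?_⟩
    rw [map_smul]
    simp only [LinearMap.sub_apply, LinearMap.smul_apply, Module.End.one_apply]
    rw [h, ← sub_smul, smul_smul, inv_mul_cancel₀ (sub_ne_zero.mpr hl), one_smul]

theorem not_eigen_of_notMem_one (S : End K V) (b : V) (h1 : S b ≠ b)
    (h2 : b ∉ LinearMap.range (S - 1)) (l : K) : S b ≠ l • b := by
  apply not_eigen_of_notMem S 1 b (by simpa using h1)
  simpa using h2

theorem notMem_span_of_not_eigen (S : End K V) (b : V) (h : ∀ l : K, S b ≠ l • b) :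
    b ∉ Submodule.span K {S b - b} := by
  intro hb
  obtain ⟨t, ht⟩ := Submodule.mem_span_singleton.mp hb
  have ht0 : t ≠ 0 := by
    rintro rfl
    rw [zero_smul] at ht
    apply h 0
    rw [← ht]; simp
  apply h (1 + t⁻¹)
  have : t⁻¹ • b = S b - b := by
    rw [inv_smul_eq_iff₀ ht0]; exact ht.symm
  rw [add_smul, one_smul, this]; abel

theorem notMem_span_of_notMem_span (u y : V) (hy : y ≠ 0) (h : u ∉ Submodule.span K {y}) :
    y ∉ Submodule.span K {u} := by
  intro hy'
  obtain ⟨t, ht⟩ := Submodule.mem_span_singleton.mp hy'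
  have ht0 : t ≠ 0 := by
    rintro rfl
    rw [zero_smul] at ht
    exact hy ht.symm
  apply h
  rw [Submodule.mem_span_singleton]
  exact ⟨t⁻¹, by rw [← ht, smul_smul, inv_mul_cancel₀ ht0, one_smul]⟩

theorem finrank_span_singleton_le_one (u : V) : finrank K (Submodule.span K {u}) ≤ 1 := by
  classical
  have h3 : finrank K (Submodule.span K ((({u} : Finset V)) : Set V)) ≤ _ :=
    finrank_span_finset_le_card (R := K) ({u} : Finset V)
  rw [Finset.coe_singleton, Finset.card_singleton] at h3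
  exact h3

/-- A subspace of dimension at least two is not contained in a line. -/
theorem exists_mem_notMem_span [FiniteDimensional K V] (W : Submodule K V)
    (hW : 2 ≤ finrank K W) (u : V) : ∃ g ∈ W, g ∉ Submodule.span K {u} := by
  by_contra hcon
  push Not at hcon
  have hle : W ≤ Submodule.span K {u} := hcon
  have h1 := Submodule.finrank_mono hle
  have h2 : finrank K (Submodule.span K {u}) ≤ 1 := finrank_span_singleton_le_one u
  omega

theorem ker_ne_top_of_ne_smul (S : End K V) (c : K) (hns : S ≠ c • (1 : End K V)) :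
    LinearMap.ker (S - c • (1 : End K V)) ≠ ⊤ := by
  intro h
  apply hns
  have := LinearMap.ker_eq_top.mp h
  exact sub_eq_zero.mp this

theorem range_ne_top_of_eigen [FiniteDimensional K V] (S : End K V) (c : K) (g : V)
    (hg0 : g ≠ 0) (hg : S g = c • g) : LinearMap.range (S - c • (1 : End K V)) ≠ ⊤ := by
  intro h
  have hsurj : Function.Surjective (S - c • (1 : End K V)) := LinearMap.range_eq_top.mp h
  have hinj := (LinearMap.injective_iff_surjective).mpr hsurj
  apply hg0
  apply hinj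
  simp [hg]

theorem range_sub_one_ne_top_of_fix [FiniteDimensional K V] (S : End K V) (f : V)
    (hf0 : f ≠ 0) (hf : S f = f) : LinearMap.range (S - 1) ≠ ⊤ := by
  have := range_ne_top_of_eigen S 1 f hf0 (by simpa using hf)
  simpa using this

theorem comap_span_ne_top [FiniteDimensional K V] (S : End K V) (y : V)
    (hr : 2 ≤ finrank K (LinearMap.range (S - 1))) :
    (Submodule.span K {y}).comap (S - 1) ≠ ⊤ := by
  intro h
  have hle : LinearMap.range (S - 1) ≤ Submodule.span K {y} := by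
    rintro _ ⟨v, rfl⟩
    have : v ∈ (Submodule.span K {y}).comap (S - 1) := by rw [h]; trivial
    exact this
  have h1 := Submodule.finrank_mono hle
  have h2 : finrank K (Submodule.span K {y}) ≤ 1 := finrank_span_singleton_le_one y
  omega

theorem ker_dual_ne_top (x : Dual K V) (hx : x ≠ 0) : LinearMap.ker x ≠ ⊤ := by
  intro h
  exact hx (LinearMap.ker_eq_top.mp h)

/-- Three distinct eigenvalues, two of them with eigenspaces of codimension at most two, cannot
occur in dimension at least four. -/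
theorem three_eigen_false [FiniteDimensional K V] (S : End K V) (hn : 4 ≤ finrank K V)
    (c1 c2 c3 : K) (h12 : c1 ≠ c2) (h13 : c1 ≠ c3) (h23 : c2 ≠ c3)
    (h1 : finrank K (LinearMap.range (S - c1 • (1 : End K V))) ≤ 2)
    (h2 : finrank K (LinearMap.range (S - c2 • (1 : End K V))) ≤ 2)
    (g : V) (hg0 : g ≠ 0) (hg : S g = c3 • g) : False := by
  have e1 := LinearMap.finrank_range_add_finrank_ker (S - c1 • (1 : End K V))
  have e2 := LinearMap.finrank_range_add_finrank_ker (S - c2 • (1 : End K V))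
  have hmem : ∀ (c : K) (v : V), v ∈ LinearMap.ker (S - c • (1 : End K V)) ↔ S v = c • v := by
    intro c v
    rw [LinearMap.mem_ker]
    simp only [LinearMap.sub_apply, LinearMap.smul_apply, Module.End.one_apply]
    exact sub_eq_zero
  set G1 := LinearMap.ker (S - c1 • (1 : End K V)) with hG1
  set G2 := LinearMap.ker (S - c2 • (1 : End K V)) with hG2
  have hinf : G1 ⊓ G2 = ⊥ := by
    rw [eq_bot_iff]
    intro v hv
    obtain ⟨hv1, hv2⟩ := Submodule.mem_inf.mp hv
    rw [hmem] at hv1 hv2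
    rw [hv1] at hv2
    have : (c1 - c2) • v = 0 := by rw [sub_smul, hv2, sub_self]
    rcases smul_eq_zero.mp this with h | h
    · exact absurd (sub_eq_zero.mp h) h12
    · exact h
  have e3 := Submodule.finrank_sup_add_finrank_inf_eq G1 G2
  rw [hinf, finrank_bot, add_zero] at e3
  have htop : G1 ⊔ G2 = ⊤ := by
    apply Submodule.eq_top_of_finrank_eq
    have := Submodule.finrank_le (G1 ⊔ G2)
    omega
  have hg' : g ∈ G1 ⊔ G2 := by rw [htop]; trivial
  obtain ⟨g1, hg1, g2, hg2, rfl⟩ := Submodule.mem_sup.mp hg'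
  rw [hmem] at hg1 hg2
  rw [map_add, hg1, hg2, smul_add] at hg
  have hw : (c1 - c3) • g1 = (c3 - c2) • g2 := by
    rw [sub_smul, sub_smul]
    have := hg
    -- c1 g1 + c2 g2 = c3 g1 + c3 g2
    have h' : c1 • g1 - c3 • g1 = c3 • g2 - c2 • g2 := by
      rw [sub_eq_sub_iff_add_eq_add]
      rw [this]; abel
    exact h'
  have hw1 : (c1 - c3) • g1 ∈ G1 ⊓ G2 := by
    refine Submodule.mem_inf.mpr ⟨Submodule.smul_mem _ _ ((hmem _ _).mpr hg1), ?_⟩
    rw [hw]
    exact Submodule.smul_mem _ _ ((hmem _ _).mpr hg2)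
  rw [hinf, Submodule.mem_bot] at hw1
  have hg1z : g1 = 0 := (smul_eq_zero.mp hw1).resolve_left (sub_ne_zero.mpr h13)
  rw [hw1] at hw
  have hg2z : g2 = 0 := (smul_eq_zero.mp hw.symm).resolve_left (sub_ne_zero.mpr h23.symm)
  apply hg0
  rw [hg1z, hg2z, add_zero]

/-- In characteristic not two, `ker (S - 1)^2 ≤ range (S + 1)`. -/
theorem mem_range_of_sq (S : End K V) (h2 : (2 : K) ≠ 0) (v : V)
    (hv : S (S v - v) - (S v - v) = 0) :
    v ∈ LinearMap.range (S - (-1 : K) • (1 : End K V)) := by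
  have hSS : S (S v) = (2 : K) • S v - v := by
    have : S (S v) - S v - (S v - v) = 0 := by rw [← hv, map_sub]
    have h3 : S (S v) = S v + S v - v := by
      rw [sub_eq_zero] at this
      rw [sub_eq_iff_eq_add] at this
      rw [this]; abel
    rw [h3, two_smul]
  have h4 : (4 : K) ≠ 0 := by
    have : (4 : K) = 2 * 2 := by norm_num
    rw [this]; exact mul_ne_zero h2 h2
  refine ⟨(2 : K)⁻¹ • v - (4 : K)⁻¹ • (S v - v), ?_⟩
  have hop : ∀ w : V, (S - (-1 : K) • (1 : End K V)) w = S w + w := by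
    intro w
    simp
  rw [hop, map_sub, map_smul, map_smul, map_sub, hSS]
  have e1 : (4 : K)⁻¹ * 2 = (2 : K)⁻¹ := by
    field_simp; norm_num
  have c1 : (2 : K)⁻¹ - (4 : K)⁻¹ * 2 + (4 : K)⁻¹ - (4 : K)⁻¹ = 0 := by rw [e1]; ring
  have c2 : (4 : K)⁻¹ + (2 : K)⁻¹ + (4 : K)⁻¹ = 1 := by
    rw [← e1]; field_simp; norm_num
  have : (2 : K)⁻¹ • S v - (4 : K)⁻¹ • ((2 : K) • S v - v - S v)
      + ((2 : K)⁻¹ • v - (4 : K)⁻¹ • (S v - v))
      = ((2 : K)⁻¹ - (4 : K)⁻¹ * 2 + (4 : K)⁻¹ - (4 : K)⁻¹) • S v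
        + ((4 : K)⁻¹ + (2 : K)⁻¹ + (4 : K)⁻¹) • v := by
    module
  rw [this, c1, c2, zero_smul, zero_add, one_smul]

end Cfsg.Agent.Lib.Helper29.RU
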