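import Mathlib
import Cfsg.Agent.Lib.Helper29.RU4
import Cfsg.Agent.Lib.Helper29.AH1
import Cfsg.Agent.Lib.Helper29.AH2
set_option autoImplicit false

/-!
# All traces occur among the products `A * B^h` when `A` has an eigenvector
-/

namespace Cfsg.Agent.Lib.Helper29.AH

open Matrix Module

section abstract

variable {K : Type*} [Field K] {V : Type*} [AddCommGroup V] [Module K V] [FiniteDimensional K V]

theorem exists_ker_notMem (h3 : 3 ≤ finrank K V) (L : Module.End K V) (hL : L ≠ 0)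
    (u₀ : V) (hu₀ : u₀ ≠ 0) (hLu : L u₀ = 0) :
    ∃ u y : V, u ≠ 0 ∧ L u = 0 ∧ L y ∉ Submodule.span K {u} := by
  by_contra hall
  push Not at hall
  have hrange : LinearMap.range L ≤ Submodule.span K {u₀} := by
    rintro _ ⟨y, rfl⟩
    exact hall u₀ y hu₀ hLu
  have h1 : finrank K (LinearMap.range L) ≤ 1 :=
    (Submodule.finrank_mono hrange).trans (Cfsg.Agent.Lib.Helper29.RU.finrank_span_singleton_le_one u₀)
  have h2 := LinearMap.finrank_range_add_finrank_ker L
  have h4 : 2 ≤ finrank K (LinearMap.ker L) := by omega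
  obtain ⟨u₁, hu₁k, hu₁⟩ := Cfsg.Agent.Lib.Helper29.RU.exists_mem_notMem_span (LinearMap.ker L) h4 u₀
  have hu₁0 : u₁ ≠ 0 := by
    rintro rfl
    exact hu₁ (Submodule.zero_mem _)
  obtain ⟨y₀, hy₀⟩ : ∃ y₀, L y₀ ≠ 0 := by
    by_contra h
    push Not at h
    exact hL (LinearMap.ext h)
  have m0 := hall u₀ y₀ hu₀ hLu
  have m1 := hall u₁ y₀ hu₁0 (LinearMap.mem_ker.mp hu₁k)
  rw [Submodule.mem_span_singleton] at m0 m1
  obtain ⟨c, hc⟩ := m0
  obtain ⟨c', hc'⟩ := m1
  have hc'0 : c' ≠ 0 := by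
    rintro rfl
    rw [zero_smul] at hc'
    exact hy₀ hc'.symm
  apply hu₁
  rw [Submodule.mem_span_singleton]
  refine ⟨c'⁻¹ * c, ?_⟩
  rw [mul_smul, hc, ← hc', smul_smul, inv_mul_cancel₀ hc'0, one_smul]

end abstract

variable {F : Type*} [Field F] {d : ℕ}

theorem exists_dot_zero_ne (u z : Fin d → F) (hu : u ≠ 0) (hz : ¬ ∃ c : F, z = c • u) :
    ∃ φ : Fin d → F, φ ⬝ᵥ u = 0 ∧ φ ⬝ᵥ z ≠ 0 := by
  classical
  by_contra hall
  push Not at hall
  obtain ⟨i₀, hi₀⟩ : ∃ i, u i ≠ 0 := by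
    by_contra h
    push Not at h
    exact hu (funext h)
  apply hz
  refine ⟨z i₀ / u i₀, ?_⟩
  funext j
  have h1 := hall (u i₀ • Pi.single j 1 - u j • Pi.single i₀ 1) (by
    simp [sub_dotProduct, smul_dotProduct, mul_comm])
  simp only [sub_dotProduct, smul_dotProduct, single_dotProduct, one_mul, smul_eq_mul] at h1
  simp only [Pi.smul_apply, smul_eq_mul]
  field_simp
  linear_combination h1

theorem linearIndependent_pair_of_notMem (u y : Fin d → F) (hu : u ≠ 0)
    (hy : ¬ ∃ c : F, y = c • u) : LinearIndependent F ![u, y] := by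
  rw [LinearIndependent.pair_iff' hu]
  intro a ha
  exact hy ⟨a, ha.symm⟩

theorem exists_mulVec_indep (B : Matrix (Fin d) (Fin d) F)
    (hB : ∀ c : F, B ≠ Matrix.scalar (Fin d) c) :
    ∃ x : Fin d → F, LinearIndependent F ![x, B.mulVec x] := by
  by_contra hall
  push Not at hall
  obtain ⟨a, ha⟩ := LinearMap.exists_eq_smul_id_of_forall_notLinearIndependent
    (f := Matrix.toLin' B) (fun v => by
      have := hall v
      rwa [← Matrix.toLin'_apply] at this)
  apply hB a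
  have h1 : Matrix.toLin' B = Matrix.toLin' (Matrix.scalar (Fin d) a) := by
    rw [ha]
    apply LinearMap.ext
    intro v
    rw [Matrix.toLin'_apply]
    simp [Matrix.scalar_apply, Matrix.smul_mulVec]
  exact Matrix.toLin'.injective h1

/-- the main lemma of the eigenvector case. -/
theorem exists_trace_eq (h3 : 3 ≤ d) (A B : Matrix (Fin d) (Fin d) F)
    (u₀ : Fin d → F) (hu₀ : u₀ ≠ 0) (α : F) (hAu : A.mulVec u₀ = α • u₀)
    (hA : A ≠ Matrix.scalar (Fin d) α) (hB : ∀ c : F, B ≠ Matrix.scalar (Fin d) c) (t : F) :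
    ∃ H : Matrix.SpecialLinearGroup (Fin d) F,
      Matrix.trace (A * ((H : Matrix (Fin d) (Fin d) F) * B *
        ((H⁻¹ : Matrix.SpecialLinearGroup (Fin d) F) : Matrix (Fin d) (Fin d) F))) = t := by
  classical
  -- step 1
  have hfr : 3 ≤ finrank F (Fin d → F) := by
    rw [Module.finrank_fin_fun]; exact h3
  set L : Module.End F (Fin d → F) := Matrix.toLin' (A - Matrix.scalar (Fin d) α) with hLdef
  have hLapp : ∀ v, L v = A.mulVec v - α • v := by
    intro v
    rw [hLdef, Matrix.toLin'_apply, Matrix.sub_mulVec]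
    congr 1
    simp [Matrix.scalar_apply, Matrix.smul_mulVec]
  have hL0 : L ≠ 0 := by
    intro h
    apply hA
    have : A - Matrix.scalar (Fin d) α = 0 := by
      apply Matrix.toLin'.injective
      rw [← hLdef, h, map_zero]
    exact sub_eq_zero.mp this
  have hLu₀ : L u₀ = 0 := by rw [hLapp, hAu, sub_self]
  obtain ⟨u, y, hu, hLu, hLy⟩ := exists_ker_notMem hfr L hL0 u₀ hu₀ hLu₀
  have hAu' : A.mulVec u = α • u := by
    have := hLu
    rw [hLapp] at this
    exact sub_eq_zero.mp this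
  set z := A.mulVec y - α • y with hz
  have hzmem : ¬ ∃ c : F, z = c • u := by
    rintro ⟨c, hc⟩
    apply hLy
    rw [hLapp, ← hz, hc]
    exact Submodule.smul_mem _ _ (Submodule.mem_span_singleton_self u)
  have hyu : ¬ ∃ c : F, y = c • u := by
    rintro ⟨c, hc⟩
    apply hzmem
    refine ⟨0, ?_⟩
    rw [hz, hc, Matrix.mulVec_smul, hAu', zero_smul, smul_comm, sub_self]
  have huy : LinearIndependent F ![u, y] := linearIndependent_pair_of_notMem u y hu hyu
  -- step 2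
  obtain ⟨x, hx⟩ := exists_mulVec_indep B hB
  -- step 3
  obtain ⟨M, hMx, hMBx⟩ := exists_sl_pair d h3 x (B.mulVec x) u y hx huy
  -- step 4
  obtain ⟨φ, hφu, hφz⟩ := exists_dot_zero_ne u z hu hzmem
  -- B'
  set B' : Matrix (Fin d) (Fin d) F := (M : Matrix (Fin d) (Fin d) F) * B *
    ((M⁻¹ : Matrix.SpecialLinearGroup (Fin d) F) : Matrix (Fin d) (Fin d) F) with hB'
  have hMinv : ((M⁻¹ : Matrix.SpecialLinearGroup (Fin d) F) : Matrix (Fin d) (Fin d) F).mulVec u = x := by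
    rw [← hMx, Matrix.mulVec_mulVec, ← Matrix.SpecialLinearGroup.coe_mul, inv_mul_cancel,
      Matrix.SpecialLinearGroup.coe_one, Matrix.one_mulVec]
  have hB'u : B'.mulVec u = y := by
    rw [hB', ← Matrix.mulVec_mulVec, hMinv, ← Matrix.mulVec_mulVec, hMBx]
  -- the slope
  set c : F := φ ⬝ᵥ (B'.mulVec (A.mulVec u)) - φ ⬝ᵥ (A.mulVec (B'.mulVec u)) with hc
  have hcval : c = - (φ ⬝ᵥ z) := by
    rw [hc, hAu', Matrix.mulVec_smul, hB'u, hz, dotProduct_sub, dotProduct_smul]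
    simp only [smul_eq_mul]
    ring
  have hc0 : c ≠ 0 := by
    rw [hcval]
    exact neg_ne_zero.mpr hφz
  have hquad : (φ ⬝ᵥ (A.mulVec u)) * (φ ⬝ᵥ (B'.mulVec u)) = 0 := by
    rw [hAu', dotProduct_smul, hφu, smul_zero, zero_mul]
  set s : F := (t - Matrix.trace (A * B')) / c with hs
  refine ⟨tvSL u φ hφu s * M, ?_⟩
  have hcoe : ((tvSL u φ hφu s * M : Matrix.SpecialLinearGroup (Fin d) F) : Matrix (Fin d) (Fin d) F)
      = tv u φ s * (M : Matrix (Fin d) (Fin d) F) := rfl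
  have hcoeinv : (((tvSL u φ hφu s * M)⁻¹ : Matrix.SpecialLinearGroup (Fin d) F) : Matrix (Fin d) (Fin d) F)
      = ((M⁻¹ : Matrix.SpecialLinearGroup (Fin d) F) : Matrix (Fin d) (Fin d) F) * tv u φ (-s) := by
    rw [_root_.mul_inv_rev, tvSL_inv]
    rfl
  rw [hcoe, hcoeinv]
  have hre : tv u φ s * (M : Matrix (Fin d) (Fin d) F) * B *
      (((M⁻¹ : Matrix.SpecialLinearGroup (Fin d) F) : Matrix (Fin d) (Fin d) F) * tv u φ (-s))
      = tv u φ s * B' * tv u φ (-s) := by
    rw [hB']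
    simp only [Matrix.mul_assoc]
  rw [hre, trace_conj_tv, ← hc, hquad, mul_zero, sub_zero, hs, div_mul_cancel₀ _ hc0]
  ring

end Cfsg.Agent.Lib.Helper29.AH
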