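import Mathlib
set_option autoImplicit false

/-!
# Averaging fixed points over a 2-transitive action

If `a`, `b` are fixed-point-free elements of a group acting 2-transitively on a finite set with
at least three points, then the number of fixed points of `a * h b h⁻¹` is not constant in `h`.
-/

namespace Cfsg.Agent.Lib.Helper29.AH

variable {G X : Type*} [Group G] [Fintype G] [MulAction G X] [Fintype X] [DecidableEq X]

theorem two_trans_key
    (h2 : ∀ x y x' y' : X, x ≠ y → x' ≠ y' → ∃ g : G, g • x = x' ∧ g • y = y')
    (b : G) (hb : ∀ x : X, b • x ≠ x) (y z : X) (hyz : y ≠ z) :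
    (Fintype.card X - 1) * (Finset.univ.filter (fun h : G => (h * b * h⁻¹) • y = z)).card
      = Fintype.card G := by
  classical
  set n := Fintype.card X with hn
  let C : X → X → ℕ := fun s t => (Finset.univ.filter (fun k : G => k • y = s ∧ k • z = t)).card
  have hC : ∀ s t s' t' : X, s ≠ t → s' ≠ t' → C s t = C s' t' := by
    intro s t s' t' hst hst'
    obtain ⟨k₂, hk1, hk2⟩ := h2 s t s' t' hst hst'
    apply Finset.card_bij (fun k _ => k₂ * k)
    · intro k hk
      simp only [Finset.mem_filter, Finset.mem_univ, true_and] at hk ⊢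
      rw [mul_smul, mul_smul, hk.1, hk.2]
      exact ⟨hk1, hk2⟩
    · intro k _ k' _ h
      exact mul_left_cancel h
    · intro k' hk'
      simp only [Finset.mem_filter, Finset.mem_univ, true_and] at hk'
      refine ⟨k₂⁻¹ * k', ?_, by group⟩
      simp only [Finset.mem_filter, Finset.mem_univ, true_and]
      rw [mul_smul, mul_smul, hk'.1, hk'.2, ← hk1, ← hk2, inv_smul_smul, inv_smul_smul]
      exact ⟨rfl, rfl⟩
  set c₀ := C y z with hc₀
  -- (b)
  have hG : Fintype.card G = (n * n - n) * c₀ := by
    have h1 : (Finset.univ : Finset G).card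
        = ∑ p ∈ (Finset.univ : Finset X).offDiag,
            ((Finset.univ : Finset G).filter (fun k => (k • y, k • z) = p)).card := by
      apply Finset.card_eq_sum_card_fiberwise
      intro k _
      simp only [Finset.coe_offDiag, Finset.coe_univ, Set.mem_offDiag, Set.mem_univ, true_and]
      intro h
      exact hyz (smul_left_cancel k h)
    rw [← Finset.card_univ (α := G), h1]
    have h3 : ∀ p ∈ (Finset.univ : Finset X).offDiag,
        ((Finset.univ : Finset G).filter (fun k => (k • y, k • z) = p)).card = c₀ := by
      intro p hp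
      rw [Finset.mem_offDiag] at hp
      have : ((Finset.univ : Finset G).filter (fun k => (k • y, k • z) = p)) =
          (Finset.univ.filter (fun k : G => k • y = p.1 ∧ k • z = p.2)) := by
        ext k
        simp only [Finset.mem_filter, Finset.mem_univ, true_and, Prod.ext_iff]
      rw [this]
      exact hC p.1 p.2 y z hp.2.2 hyz
    rw [Finset.sum_congr rfl h3, Finset.sum_const, Finset.offDiag_card, Finset.card_univ,
      smul_eq_mul]
  -- (c)
  have hN : (Finset.univ.filter (fun h : G => (h * b * h⁻¹) • y = z)).card = n * c₀ := by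
    have e1 : (Finset.univ.filter (fun h : G => (h * b * h⁻¹) • y = z)).card
        = (Finset.univ.filter (fun k : G => b • (k • y) = k • z)).card := by
      apply Finset.card_bij (fun h _ => h⁻¹)
      · intro h hh
        simp only [Finset.mem_filter, Finset.mem_univ, true_and] at hh ⊢
        rw [← hh, mul_smul, mul_smul, inv_smul_smul]
      · intro h _ h' _ e
        exact inv_injective e
      · intro k hk
        simp only [Finset.mem_filter, Finset.mem_univ, true_and] at hk
        refine ⟨k⁻¹, ?_, inv_inv k⟩
        simp only [Finset.mem_filter, Finset.mem_univ, true_and]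
        rw [inv_inv, mul_smul, mul_smul, hk, inv_smul_smul]
    rw [e1]
    have h1 : (Finset.univ.filter (fun k : G => b • (k • y) = k • z)).card
        = ∑ s ∈ (Finset.univ : Finset X),
            ((Finset.univ.filter (fun k : G => b • (k • y) = k • z)).filter
              (fun k => k • y = s)).card := by
      apply Finset.card_eq_sum_card_fiberwise
      intro k _
      exact Finset.mem_coe.mpr (Finset.mem_univ _)
    rw [h1]
    have h3 : ∀ s ∈ (Finset.univ : Finset X),
        ((Finset.univ.filter (fun k : G => b • (k • y) = k • z)).filter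
              (fun k => k • y = s)).card = c₀ := by
      intro s _
      have : ((Finset.univ.filter (fun k : G => b • (k • y) = k • z)).filter
              (fun k => k • y = s)) =
          (Finset.univ.filter (fun k : G => k • y = s ∧ k • z = b • s)) := by
        ext k
        simp only [Finset.mem_filter, Finset.mem_univ, true_and]
        constructor
        · rintro ⟨h4, h5⟩
          exact ⟨h5, by rw [← h4, h5]⟩
        · rintro ⟨h4, h5⟩
          exact ⟨by rw [h4, h5], h4⟩
      rw [this]
      exact hC s (b • s) y z (fun h => hb s h.symm) hyz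
    rw [Finset.sum_congr rfl h3, Finset.sum_const, Finset.card_univ, smul_eq_mul]
  rw [hN, hG]
  have hn1 : 1 ≤ n := Fintype.card_pos_iff.mpr ⟨y⟩
  have : (n - 1) * n = n * n - n := by
    rw [Nat.sub_mul, one_mul]
  rw [← mul_assoc, this]

theorem exists_card_fixed_ne
    (h2 : ∀ x y x' y' : X, x ≠ y → x' ≠ y' → ∃ g : G, g • x = x' ∧ g • y = y')
    (hX : 3 ≤ Fintype.card X) (a b : G) (ha : ∀ x : X, a • x ≠ x) (hb : ∀ x : X, b • x ≠ x) :
    ∃ h₁ h₂ : G, (Finset.univ.filter (fun x : X => (a * (h₁ * b * h₁⁻¹)) • x = x)).card
      ≠ (Finset.univ.filter (fun x : X => (a * (h₂ * b * h₂⁻¹)) • x = x)).card := by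
  classical
  by_contra hall
  push Not at hall
  set n := Fintype.card X with hn
  set f := (Finset.univ.filter (fun x : X => (a * ((1 : G) * b * (1 : G)⁻¹)) • x = x)).card with hf
  have hconst : ∀ h : G, (Finset.univ.filter (fun x : X => (a * (h * b * h⁻¹)) • x = x)).card = f :=
    fun h => hall h 1
  -- double counting
  have hsum1 : ∑ h : G, (Finset.univ.filter (fun x : X => (a * (h * b * h⁻¹)) • x = x)).card
      = Fintype.card G * f := by
    rw [Finset.sum_congr rfl (fun h _ => hconst h), Finset.sum_const, Finset.card_univ, smul_eq_mul]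
  have hsum2 : ∑ h : G, (Finset.univ.filter (fun x : X => (a * (h * b * h⁻¹)) • x = x)).card
      = ∑ x : X, (Finset.univ.filter (fun h : G => (h * b * h⁻¹) • x = a⁻¹ • x)).card := by
    simp only [Finset.card_filter]
    rw [Finset.sum_comm]
    apply Finset.sum_congr rfl
    intro x _
    apply Finset.sum_congr rfl
    intro h _
    have : (a * (h * b * h⁻¹)) • x = x ↔ (h * b * h⁻¹) • x = a⁻¹ • x := by
      rw [mul_smul]
      exact eq_inv_smul_iff.symm
    simp only [this]
  have hkey : ∀ x : X, (n - 1) * (Finset.univ.filter (fun h : G => (h * b * h⁻¹) • x = a⁻¹ • x)).card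
      = Fintype.card G := by
    intro x
    apply two_trans_key h2 b hb x (a⁻¹ • x)
    intro e
    apply ha x
    conv_lhs => rw [e]
    exact smul_inv_smul a x
  have hfinal : (n - 1) * (Fintype.card G * f) = n * Fintype.card G := by
    rw [← hsum1, hsum2, Finset.mul_sum, Finset.sum_congr rfl (fun x _ => hkey x), Finset.sum_const,
      Finset.card_univ, smul_eq_mul]
  have hGpos : 0 < Fintype.card G := Fintype.card_pos
  have h5 : (n - 1) * f = n := by
    have : Fintype.card G * ((n - 1) * f) = Fintype.card G * n := by
      rw [mul_comm n] at hfinal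
      rw [← hfinal]
      ring
    exact Nat.eq_of_mul_eq_mul_left hGpos this
  rcases Nat.lt_or_ge f 2 with hlt | hge
  · interval_cases f
    · omega
    · omega
  · have : (n - 1) * 2 ≤ (n - 1) * f := Nat.mul_le_mul_left _ hge
    omega

end Cfsg.Agent.Lib.Helper29.AH
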