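import Mathlib
import Cfsg.Agent.Lib.Helper29.AH3
import Cfsg.Agent.Lib.Helper29.AH4
set_option autoImplicit false

/-!
# The Arad–Herzog property for `PSL_d(F)`, `d ≥ 3`
-/

namespace Cfsg.Agent.Lib.Helper29.AH

open Matrix
open scoped LinearAlgebra.Projectivization

variable {F : Type*} [Field F] {d : ℕ}

local notation "SLd" => Matrix.SpecialLinearGroup (Fin d) F
local notation "PSLd" => Matrix.ProjectiveSpecialLinearGroup (Fin d) F

/-- conjugate elements of `PSL` have lifts whose traces vanish simultaneously. -/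
theorem trace_eq_zero_iff_of_isConj (hd : 1 ≤ d) (M₁ M₂ : SLd)
    (h : IsConj (M₁ : PSLd) (M₂ : PSLd)) :
    Matrix.trace (M₁ : Matrix (Fin d) (Fin d) F) = 0 ↔ Matrix.trace (M₂ : Matrix (Fin d) (Fin d) F) = 0 := by
  rw [isConj_iff] at h
  obtain ⟨c, hc⟩ := h
  obtain ⟨C, rfl⟩ := QuotientGroup.mk_surjective c
  have h1 : ((C * M₁ * C⁻¹ : SLd) : PSLd) = (M₂ : PSLd) := hc
  rw [QuotientGroup.eq] at h1
  obtain ⟨r, hr1, hr2⟩ := Matrix.SpecialLinearGroup.mem_center_iff.mp h1
  have hr0 : r ≠ 0 := by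
    rintro rfl
    rw [Fintype.card_fin, zero_pow (by omega)] at hr1
    exact zero_ne_one hr1
  have h2 : M₂ = (C * M₁ * C⁻¹) * ((C * M₁ * C⁻¹)⁻¹ * M₂) := by group
  have h3 : (M₂ : Matrix (Fin d) (Fin d) F)
      = (C : Matrix (Fin d) (Fin d) F) * (M₁ : Matrix (Fin d) (Fin d) F)
        * ((C⁻¹ : SLd) : Matrix (Fin d) (Fin d) F) * Matrix.scalar (Fin d) r := by
    conv_lhs => rw [h2]
    rw [Matrix.SpecialLinearGroup.coe_mul, ← hr2, Matrix.SpecialLinearGroup.coe_mul,
      Matrix.SpecialLinearGroup.coe_mul]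
  have h4 : Matrix.trace (M₂ : Matrix (Fin d) (Fin d) F)
      = r * Matrix.trace (M₁ : Matrix (Fin d) (Fin d) F) := by
    rw [h3]
    have e1 : (C : Matrix (Fin d) (Fin d) F) * (M₁ : Matrix (Fin d) (Fin d) F)
        * ((C⁻¹ : SLd) : Matrix (Fin d) (Fin d) F) * Matrix.scalar (Fin d) r
        = r • ((C : Matrix (Fin d) (Fin d) F) * (M₁ : Matrix (Fin d) (Fin d) F)
        * ((C⁻¹ : SLd) : Matrix (Fin d) (Fin d) F)) := by
      ext i j
      simp [Matrix.mul_apply, Matrix.scalar_apply, Matrix.diagonal_apply, mul_comm]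
    rw [e1, Matrix.trace_smul, smul_eq_mul]
    congr 1
    rw [Matrix.trace_mul_comm, ← Matrix.mul_assoc, ← Matrix.SpecialLinearGroup.coe_mul,
      inv_mul_cancel, Matrix.SpecialLinearGroup.coe_one, Matrix.one_mul]
  rw [h4]
  constructor
  · intro h
    rw [h, mul_zero]
  · intro h
    exact (mul_eq_zero.mp h).resolve_left hr0

/-- a non-central element of `SL` is not a scalar matrix. -/
theorem ne_scalar_of_notMem_center (A : SLd) (hA : A ∉ Subgroup.center SLd) (c : F) :
    (A : Matrix (Fin d) (Fin d) F) ≠ Matrix.scalar (Fin d) c := by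
  intro h
  apply hA
  rw [Matrix.SpecialLinearGroup.mem_center_iff]
  refine ⟨c, ?_, h.symm⟩
  have h1 := A.2
  rw [h] at h1
  simpa using h1

/-- a fixed point on the projective space gives an eigenvector. -/
theorem exists_eigen_of_fixed (A : SLd) (D : ℙ F (Fin d → F)) (hD : A • D = D) :
    ∃ (v : Fin d → F) (α : F), v ≠ 0 ∧ (A : Matrix (Fin d) (Fin d) F).mulVec v = α • v := by
  induction D using Projectivization.ind with
  | _ v hv =>
    rw [Projectivization.smul_mk, Projectivization.mk_eq_mk_iff'] at hD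
    obtain ⟨a, ha⟩ := hD
    refine ⟨v, a, hv, ?_⟩
    rw [ha]
    rfl

section finite

variable [Fintype F]

theorem card_fixed_eq_of_isConj {G X : Type*} [Group G] [MulAction G X] [Fintype X] [DecidableEq X]
    (p q : G) (h : IsConj p q) :
    (Finset.univ.filter (fun x : X => p • x = x)).card
      = (Finset.univ.filter (fun x : X => q • x = x)).card := by
  rw [isConj_iff] at h
  obtain ⟨c, rfl⟩ := h
  apply Finset.card_bij (fun x _ => c • x)
  · intro x hx
    simp only [Finset.mem_filter, Finset.mem_univ, true_and] at hx ⊢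
    rw [mul_smul, mul_smul, inv_smul_smul, hx]
  · intro x _ x' _ e
    exact smul_left_cancel c e
  · intro x hx
    simp only [Finset.mem_filter, Finset.mem_univ, true_and] at hx
    refine ⟨c⁻¹ • x, ?_, smul_inv_smul c x⟩
    simp only [Finset.mem_filter, Finset.mem_univ, true_and]
    rw [mul_smul, mul_smul] at hx
    rw [← hx, inv_smul_smul]
    conv_rhs => rw [← hx]
    rw [inv_smul_smul]

theorem three_le_card_proj (hd : 3 ≤ d) [Fintype (ℙ F (Fin d → F))] :
    3 ≤ Fintype.card (ℙ F (Fin d → F)) := by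
  classical
  have hne : ∀ i : Fin d, (Pi.single i (1 : F) : Fin d → F) ≠ 0 := by
    intro i h
    have := congrFun h i
    simp at this
  let f : Fin 3 → ℙ F (Fin d → F) := fun i =>
    Projectivization.mk F (Pi.single (Fin.castLE hd i) (1 : F)) (hne _)
  have hf : Function.Injective f := by
    intro i j h
    simp only [f] at h
    rw [Projectivization.mk_eq_mk_iff'] at h
    obtain ⟨a, ha⟩ := h
    by_contra hij
    have hij' : Fin.castLE hd i ≠ Fin.castLE hd j := fun e => hij (Fin.castLE_injective hd e)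
    have := congrFun ha (Fin.castLE hd i)
    simp [hij'] at this
  have := Fintype.card_le_of_injective f hf
  simpa using this

/-- The Arad–Herzog property for `PSL_d(F)`. -/
theorem arad_herzog (hd : 3 ≤ d) (a b : PSLd) (ha : a ≠ 1) (hb : b ≠ 1) :
    ∃ g h : PSLd, ¬ IsConj (a * b) (g * a * g⁻¹ * (h * b * h⁻¹)) := by
  classical
  by_contra H
  push Not at H
  obtain ⟨A, rfl⟩ := QuotientGroup.mk_surjective a
  obtain ⟨B, rfl⟩ := QuotientGroup.mk_surjective b
  have hA : A ∉ Subgroup.center SLd := fun h => ha ((QuotientGroup.eq_one_iff A).mpr h)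
  have hB : B ∉ Subgroup.center SLd := fun h => hb ((QuotientGroup.eq_one_iff B).mpr h)
  have hAs := ne_scalar_of_notMem_center A hA
  have hBs := ne_scalar_of_notMem_center B hB
  by_cases hfixA : ∃ D : ℙ F (Fin d → F), (A : PSLd) • D = D
  · -- `A` has an eigenvector
    obtain ⟨D, hD⟩ := hfixA
    obtain ⟨v, α, hv, hAv⟩ := exists_eigen_of_fixed A D hD
    obtain ⟨H₀, hH₀⟩ := exists_trace_eq hd (A : Matrix (Fin d) (Fin d) F)
      (B : Matrix (Fin d) (Fin d) F) v hv α hAv (hAs α) hBs 0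
    obtain ⟨H₁, hH₁⟩ := exists_trace_eq hd (A : Matrix (Fin d) (Fin d) F)
      (B : Matrix (Fin d) (Fin d) F) v hv α hAv (hAs α) hBs 1
    have c0 := H 1 (H₀ : PSLd)
    have c1 := H 1 (H₁ : PSLd)
    have e0 : (1 : PSLd) * (A : PSLd) * (1 : PSLd)⁻¹ * ((H₀ : PSLd) * (B : PSLd) * (H₀ : PSLd)⁻¹)
        = ((A * (H₀ * B * H₀⁻¹) : SLd) : PSLd) := by
      simp
    have e1 : (1 : PSLd) * (A : PSLd) * (1 : PSLd)⁻¹ * ((H₁ : PSLd) * (B : PSLd) * (H₁ : PSLd)⁻¹)
        = ((A * (H₁ * B * H₁⁻¹) : SLd) : PSLd) := by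
      simp
    have eAB : (A : PSLd) * (B : PSLd) = ((A * B : SLd) : PSLd) := rfl
    rw [e0, eAB] at c0
    rw [e1, eAB] at c1
    have t0 := trace_eq_zero_iff_of_isConj (by omega) _ _ c0
    have t1 := trace_eq_zero_iff_of_isConj (by omega) _ _ c1
    have z0 : Matrix.trace ((A * B : SLd) : Matrix (Fin d) (Fin d) F) = 0 := t0.mpr hH₀
    have z1 := t1.mp z0
    have : Matrix.trace ((A * (H₁ * B * H₁⁻¹) : SLd) : Matrix (Fin d) (Fin d) F) = 1 := hH₁
    rw [this] at z1
    exact one_ne_zero z1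
  by_cases hfixB : ∃ D : ℙ F (Fin d → F), (B : PSLd) • D = D
  · -- `B` has an eigenvector
    obtain ⟨D, hD⟩ := hfixB
    obtain ⟨v, α, hv, hBv⟩ := exists_eigen_of_fixed B D hD
    obtain ⟨H₀, hH₀⟩ := exists_trace_eq hd (B : Matrix (Fin d) (Fin d) F)
      (A : Matrix (Fin d) (Fin d) F) v hv α hBv (hBs α) hAs 0
    obtain ⟨H₁, hH₁⟩ := exists_trace_eq hd (B : Matrix (Fin d) (Fin d) F)
      (A : Matrix (Fin d) (Fin d) F) v hv α hBv (hBs α) hAs 1
    have c0 := H (H₀ : PSLd) 1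
    have c1 := H (H₁ : PSLd) 1
    have e0 : (H₀ : PSLd) * (A : PSLd) * (H₀ : PSLd)⁻¹ * ((1 : PSLd) * (B : PSLd) * (1 : PSLd)⁻¹)
        = ((H₀ * A * H₀⁻¹ * B : SLd) : PSLd) := by
      simp
    have e1 : (H₁ : PSLd) * (A : PSLd) * (H₁ : PSLd)⁻¹ * ((1 : PSLd) * (B : PSLd) * (1 : PSLd)⁻¹)
        = ((H₁ * A * H₁⁻¹ * B : SLd) : PSLd) := by
      simp
    have eAB : (A : PSLd) * (B : PSLd) = ((A * B : SLd) : PSLd) := rfl
    rw [e0, eAB] at c0
    rw [e1, eAB] at c1
    have t0 := trace_eq_zero_iff_of_isConj (by omega) _ _ c0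
    have t1 := trace_eq_zero_iff_of_isConj (by omega) _ _ c1
    have s0 : Matrix.trace ((H₀ * A * H₀⁻¹ * B : SLd) : Matrix (Fin d) (Fin d) F) = 0 := by
      rw [Matrix.SpecialLinearGroup.coe_mul, Matrix.trace_mul_comm]
      exact hH₀
    have s1 : Matrix.trace ((H₁ * A * H₁⁻¹ * B : SLd) : Matrix (Fin d) (Fin d) F) = 1 := by
      rw [Matrix.SpecialLinearGroup.coe_mul, Matrix.trace_mul_comm]
      exact hH₁
    have z0 := t0.mpr s0
    have z1 := t1.mp z0
    rw [s1] at z1
    exact one_ne_zero z1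
  · -- neither has an eigenvector: averaging
    push Not at hfixA hfixB
    haveI : Fintype PSLd := Fintype.ofFinite _
    haveI : Fintype (ℙ F (Fin d → F)) := Fintype.ofFinite _
    have h2 : ∀ x y x' y' : ℙ F (Fin d → F), x ≠ y → x' ≠ y' →
        ∃ g : PSLd, g • x = x' ∧ g • y = y' := by
      intro x y x' y' hxy hxy'
      have h2SL : MulAction.IsMultiplyPretransitive SLd (ℙ F (Fin d → F)) 2 := inferInstance
      rw [MulAction.is_two_pretransitive_iff] at h2SL
      obtain ⟨g, hg1, hg2⟩ := h2SL hxy hxy'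
      exact ⟨(g : PSLd), hg1, hg2⟩
    obtain ⟨h₁, h₂, hne⟩ := exists_card_fixed_ne h2 (three_le_card_proj hd) (A : PSLd) (B : PSLd)
      hfixA hfixB
    apply hne
    have c1 := H 1 h₁
    have c2 := H 1 h₂
    rw [one_mul, inv_one, mul_one] at c1 c2
    have k1 := card_fixed_eq_of_isConj (X := ℙ F (Fin d → F)) _ _ c1
    have k2 := card_fixed_eq_of_isConj (X := ℙ F (Fin d → F)) _ _ c2
    convert k1.symm.trans k2

end finite

end Cfsg.Agent.Lib.Helper29.AH
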