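import Mathlib
import Cfsg.Agent.Lib.Helper29.BG1212b
import Cfsg.Agent.Lib.Helper29.BGExcPG2
import Cfsg.Agent.S1419

/-!
B & G, Theorem 12.12 (statement S1421), part 4: conclusion (a) in the nonabelian case.
-/

set_option autoImplicit false
set_option linter.unusedVariables false
set_option linter.unusedSectionVars false
set_option linter.style.longLine false
set_option linter.unusedSimpArgs false

open Cfsg
open scoped commutatorElement
open Cfsg.Agent.Lib.Helper10.BG
open Cfsg.Agent.Lib.Helper10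
open Cfsg.Agent.Lib.Helper9.BGExc
open Cfsg.Agent.Lib.Helper19.BG12
open Cfsg.Agent.Lib.Helper19.BGCompl

namespace Cfsg.Agent.Lib.Helper29.BG1212

variable {G : Type*} [Group G] [Finite G] {M E : Subgroup G}

/-- In the nonabelian case no element `c` of order `p ^ 2` of `E` has `c ^ p` singular. -/
theorem no_sq_of_nonabelian (hG : IsMinSimpleOddOrder G) (hM : IsCoatom M)
    (hE : IsComplIn E (sigmaCore M) M) {p : ℕ} [Fact p.Prime] (hp : p ∈ tau2 M)
    (hS : ∀ S : Sylow p G, ¬ IsMulCommutative ↥(S : Subgroup G)) {A : Subgroup G}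
    (hA : A ≤ E ∧ IsElementaryAbelian p A ∧ Nat.card A = p ^ 2) {c : G} (hcE : c ∈ E)
    (hcpp : (c ^ p) ^ p = 1) (hcp1 : c ^ p ≠ 1) :
    sigmaCore M ⊓ Subgroup.centralizer ({c ^ p} : Set G) = ⊥ := by
  have hpp : p.Prime := Fact.out
  obtain ⟨hAE, hAe, hAc⟩ := hA
  have hAM : A ≤ M := hAE.trans hE.1
  have hAp : IsPGroup p A := isPGroup_of_elem hAe
  obtain ⟨⟨hEA, hXA⟩, ⟨hCA, hMA, hnot⟩, -⟩ :=
    Cfsg.Agent.S1418.result hG M hM E hE p hp A ⟨hAE, hAe, hAc⟩
  by_contra hs
  -- `c` is a `p`-element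
  have hco : orderOf c ∣ p ^ 2 := by
    apply orderOf_dvd_of_pow_eq_one
    rw [pow_two, pow_mul]
    exact hcpp
  obtain ⟨j, -, hj⟩ := (Nat.dvd_prime_pow hpp).mp hco
  have hcq : IsPGroup p (Subgroup.zpowers c) := isPGroup_zpowers_of_orderOf hj
  obtain ⟨P', hP', hcP'⟩ := exists_isSylowIn_ge (Subgroup.zpowers_le.mpr hcE) hcq
  have hAP' : A ≤ P' := hP'.normal_le hAE hAp hEA
  have hP'M : P' ≤ M := hP'.le.trans hE.1
  have hP'c := tau2_pgroup_comm hG hM hp hP'.isPGroup hP'M
  have hcP : c ∈ P' := hcP' (Subgroup.mem_zpowers c)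
  have hcCA : c ∈ Subgroup.centralizer (A : Set G) := by
    rw [Subgroup.mem_centralizer_iff]
    intro a ha
    exact hP'c a (hAP' ha) c hcP
  obtain ⟨S₀, hS₀, hP'S₀⟩ := exists_isSylowIn_ge (le_top : P' ≤ ⊤) hP'.isPGroup
  have hna : ¬ (∀ u ∈ S₀, ∀ v ∈ S₀, u * v = v * u) := by
    intro hcomm
    apply hS hS₀.toSylowTop
    rw [hS₀.coe_toSylowTop]
    exact ⟨⟨fun a b => Subtype.ext (hcomm a a.2 b b.2)⟩⟩
  have hcS₀ : c ∈ S₀ ⊓ Subgroup.centralizer (A : Set G) := ⟨hP'S₀ hcP, hcCA⟩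
  have hz := Cfsg.Agent.Lib.Helper29.BGExc.PG2' hG hS₀ (tau2_maxEA hG hM hp hAM hAe hAc) hAc
    (hAP'.trans hP'S₀) hna c hcS₀ hcpp
  rw [mem_omegaZ] at hz
  obtain ⟨-, hzc, -⟩ := hz
  -- `S₀ ≤ C(c ^ p) ≤ M`
  have hcpA : c ^ p ∈ A := by
    apply tau2_omega hG hM hp hAM hAe hAc hP'.isPGroup hP'M hAP' (P'.pow_mem hcP p) hcpp
  have hXA' : Subgroup.zpowers (c ^ p) ≤ A := Subgroup.zpowers_le.mpr hcpA
  have hX1 : Subgroup.zpowers (c ^ p) ≠ ⊥ := by
    intro h
    apply hcp1
    have := Subgroup.mem_zpowers (c ^ p)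
    rwa [h, Subgroup.mem_bot] at this
  have hcent : Subgroup.centralizer ({c ^ p} : Set G) ≤
      Subgroup.centralizer ((Subgroup.zpowers (c ^ p) : Subgroup G) : Set G) :=
    centralizer_singleton_le_of_eq_zpowers rfl
  have hs' : sigmaCore M ⊓ Subgroup.centralizer ((Subgroup.zpowers (c ^ p) : Subgroup G) : Set G)
      ≠ ⊥ := by
    intro hb
    apply hs
    rw [eq_bot_iff, ← hb]
    exact inf_le_inf_left _ hcent
  obtain ⟨hC, -⟩ := tau2_singular hG hM hp hAM hAe hAc hXA' hX1 hs'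
  have hS₀M : S₀ ≤ M := by
    intro s hs₀
    apply hC
    apply hcent
    rw [Subgroup.mem_centralizer_singleton_iff]
    exact (Subgroup.mem_centralizer_iff.mp hzc s hs₀)
  exact hna (tau2_pgroup_comm hG hM hp hS₀.isPGroup hS₀M)

/-- **Theorem 12.12 (a), nonabelian case.** -/
theorem exists_abelian_normal_of_nonabelian (hG : IsMinSimpleOddOrder G) (hM : IsCoatom M)
    (hE : IsComplIn E (sigmaCore M) M) (hH : HypReg M E) {p : ℕ} [Fact p.Prime]
    (hp : p ∈ tau2 M) (hS : ∀ S : Sylow p G, ¬ IsMulCommutative ↥(S : Subgroup G)) :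
    ∃ A₀ : Subgroup G, A₀ ≤ E ∧ E ≤ Subgroup.normalizer (A₀ : Set G) ∧ IsMulCommutative ↥A₀ ∧
      ∀ x ∈ sigmaCore M, x ≠ 1 → E ⊓ Subgroup.centralizer ({x} : Set G) ≤ A₀ := by
  have hpp : p.Prime := Fact.out
  obtain ⟨A, hAE, hAe, hAc⟩ := tau2_elem_sq_compl hG hM hE hp
  have hAM : A ≤ M := hAE.trans hE.1
  obtain ⟨⟨hEA, hXA⟩, ⟨hCA, hMA, hnot⟩, -⟩ :=
    Cfsg.Agent.S1418.result hG M hM E hE p hp A ⟨hAE, hAe, hAc⟩
  obtain ⟨hτ, ⟨hX₀c, -⟩, hreg⟩ :=
    Cfsg.Agent.S1419.result hG M hM E hE p hp hS A ⟨hAE, hAe, hAc⟩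
  refine ⟨A ⊓ Subgroup.centralizer (sigmaCore M : Set G), inf_le_left.trans hAE, ?_, ?_, ?_⟩
  · apply le_normalizer_inf hEA
    exact le_normalizer_centralizer (hE.1.trans (le_normalizer_sigmaCore M))
  · exact ⟨⟨fun a b => Subtype.ext (comm_of_elem hAe a.2.1 b.2.1)⟩⟩
  · intro x hx hx1
    -- elements of `E ∩ C(x)` of order dividing `p` lie in `X₀`
    have hkey : ∀ z ∈ E, z * x = x * z → z ^ p = 1 →
        z ∈ A ⊓ Subgroup.centralizer (sigmaCore M : Set G) := by
      intro z hzE hzx hzp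
      by_cases hz1 : z = 1
      · rw [hz1]
        exact Subgroup.one_mem _
      have hzo : orderOf z = p := orderOf_eq_prime hzp hz1
      have hzc : Nat.card (Subgroup.zpowers z) = p := by rw [Nat.card_zpowers, hzo]
      by_contra hzX
      have hne : Subgroup.zpowers z ≠ A ⊓ Subgroup.centralizer (sigmaCore M : Set G) := by
        intro h
        apply hzX
        rw [← h]
        exact Subgroup.mem_zpowers z
      obtain ⟨hr, -⟩ := hreg _ (Subgroup.zpowers_le.mpr hzE) hzc hne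
      have hmem : x ∈ sigmaCore M ⊓
          Subgroup.centralizer ((Subgroup.zpowers z : Subgroup G) : Set G) := by
        refine ⟨hx, ?_⟩
        apply centralizer_singleton_le_of_eq_zpowers rfl
        rw [Subgroup.mem_centralizer_singleton_iff]
        exact hzx.symm
      rw [hr, Subgroup.mem_bot] at hmem
      exact hx1 hmem
    rintro y ⟨hyE, hyx⟩
    have hyx' : y * x = x * y := by
      have := Subgroup.mem_centralizer_singleton_iff.mp hyx
      exact this
    -- the order of `y` is a power of `p`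
    have hyo : ∃ j : ℕ, orderOf y = p ^ j := by
      refine ⟨(orderOf y).primeFactorsList.length,
        Nat.eq_prime_pow_of_unique_prime_dvd (orderOf_pos y).ne' ?_⟩
      intro r hr hrd
      obtain ⟨m, hm⟩ := hrd
      have hm0 : m ≠ 0 := by
        rintro rfl
        rw [mul_zero] at hm
        exact (orderOf_pos y).ne' hm
      have hto : orderOf (y ^ m) = r := by
        rw [orderOf_pow_of_dvd hm0 ⟨r, by rw [hm, mul_comm]⟩, hm]
        exact Nat.mul_div_cancel _ (Nat.pos_of_ne_zero hm0)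
      have htE : y ^ m ∈ E := E.pow_mem hyE m
      have hrE : r ∣ Nat.card E := by
        rw [← hto]
        exact Subgroup.orderOf_dvd_natCard E htE
      have htx : Commute (y ^ m) x := (show Commute y x from hyx').pow_left m
      rcases mem_tau_of_dvd_card hG hM hE hr hrE with h13 | h2
      · exfalso
        have hb := reg_of_orderOf hH htE h13 hto
        have hxc : x ∈ Subgroup.centralizer ({y ^ m} : Set G) := by
          rw [Subgroup.mem_centralizer_singleton_iff]
          exact htx.symm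
        have hmem : x ∈ sigmaCore M ⊓ Subgroup.centralizer ({y ^ m} : Set G) := ⟨hx, hxc⟩
        rw [hb, Subgroup.mem_bot] at hmem
        exact hx1 hmem
      · rw [hτ] at h2
        exact h2
    obtain ⟨j, hj⟩ := hyo
    apply hkey y hyE hyx'
    by_contra hyp
    -- then `j ≥ 2`
    have hj2 : 2 ≤ j := by
      by_contra hlt
      push Not at hlt
      apply hyp
      rw [← orderOf_dvd_iff_pow_eq_one, hj]
      calc p ^ j ∣ p ^ 1 := pow_dvd_pow p (by omega)
        _ = p := pow_one p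
    -- `c := y ^ (p ^ (j - 2))` has order `p ^ 2`
    have hco : orderOf (y ^ p ^ (j - 2)) = p ^ 2 := by
      rw [orderOf_pow_of_dvd (pow_pos hpp.pos _).ne' (by rw [hj]; exact pow_dvd_pow p (by omega)), hj]
      rw [Nat.pow_div (by omega) hpp.pos]
      congr 1
      omega
    have hcE : y ^ p ^ (j - 2) ∈ E := E.pow_mem hyE _
    have hcpp : ((y ^ p ^ (j - 2)) ^ p) ^ p = 1 := by
      rw [← pow_mul, ← pow_two, ← hco]
      exact pow_orderOf_eq_one _
    have hcp1 : (y ^ p ^ (j - 2)) ^ p ≠ 1 := by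
      intro h
      have h1 : orderOf (y ^ p ^ (j - 2)) ∣ p := orderOf_dvd_of_pow_eq_one h
      rw [hco] at h1
      have h2 : p ^ 2 ≤ p := Nat.le_of_dvd hpp.pos h1
      have h3 : p * 2 ≤ p ^ 2 := by
        rw [pow_two]
        exact Nat.mul_le_mul_left p hpp.two_le
      have := hpp.pos
      omega
    have hb := no_sq_of_nonabelian hG hM hE hp hS ⟨hAE, hAe, hAc⟩ hcE hcpp hcp1
    have hxc : x ∈ Subgroup.centralizer ({(y ^ p ^ (j - 2)) ^ p} : Set G) := by
      rw [Subgroup.mem_centralizer_singleton_iff]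
      exact (((show Commute y x from hyx').pow_left _).pow_left _).symm
    have hmem : x ∈ sigmaCore M ⊓ Subgroup.centralizer ({(y ^ p ^ (j - 2)) ^ p} : Set G) :=
      ⟨hx, hxc⟩
    rw [hb, Subgroup.mem_bot] at hmem
    exact hx1 hmem

end Cfsg.Agent.Lib.Helper29.BG1212
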