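import Mathlib
import Cfsg.Prelude
import Cfsg.Agent.S1408
import Cfsg.Agent.S1409
import Cfsg.Agent.S1410
import Cfsg.Agent.S1462
import Cfsg.Agent.Lib.Helper10.BGTen3
import Cfsg.Agent.Lib.Helper1.CoprimeSylow
import Cfsg.Agent.Lib.Lead.BGTransHyp
import Cfsg.Agent.Lib.Lead.BGTrans5

/-!
# Exceptional maximal subgroups (Bender--Glauberman sec. 10/11), part 1

`MaxEA`, the structure `Exc`, and the two general tools (T1) and (TT) of
`notes/BG_exceptional_sketch.md`.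
-/

set_option autoImplicit false
open Cfsg

namespace Cfsg.Agent.Lib.Helper29.BGExc

open Cfsg.Agent.Lib.Helper10.BG
open Cfsg.Agent.Lib.Lead.Trans (Inv MaxInv)

variable {G : Type*} [Group G]

/-- `A` is a maximal elementary abelian `p`-subgroup of `G`. -/
def MaxEA (p : ℕ) (A : Subgroup G) : Prop :=
  IsElementaryAbelian p A ∧ ∀ B : Subgroup G, IsElementaryAbelian p B → A ≤ B → B = A

/-- The "exceptional" configuration: `M` maximal, `p ∉ σ(M)`, `A₀ ≤ A ≤ M`, `|A₀| = p`,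
`A` elementary abelian of order `p ^ 2`, `N_G(A₀) ≤ M`. -/
structure Exc (M : Subgroup G) (p : ℕ) (A₀ A : Subgroup G) : Prop where
  coatom : IsCoatom M
  not_sigma : p ∉ sigma M
  le : A₀ ≤ A
  leM : A ≤ M
  card₀ : Nat.card A₀ = p
  elem : IsElementaryAbelian p A
  card : Nat.card A = p ^ 2
  norm : Subgroup.normalizer (A₀ : Set G) ≤ M

theorem isPGroup_of_isElementaryAbelian {p : ℕ} {A : Subgroup G} (hA : IsElementaryAbelian p A) :
    IsPGroup p A := by
  rintro ⟨a, ha⟩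
  refine ⟨1, ?_⟩
  apply Subtype.ext
  simp only [pow_one, Subgroup.coe_pow, Subgroup.coe_one]
  exact hA.2 a ha

theorem MaxEA.isPGroup {p : ℕ} {A : Subgroup G} (hA : MaxEA p A) : IsPGroup p A :=
  isPGroup_of_isElementaryAbelian hA.1

theorem MaxEA.le_centralizer {p : ℕ} {A : Subgroup G} (hA : MaxEA p A) :
    A ≤ Subgroup.centralizer (A : Set G) := by
  intro a ha
  rw [Subgroup.mem_centralizer_iff]
  intro b hb
  have h := hA.1.1.is_comm.comm (⟨b, hb⟩ : A) ⟨a, ha⟩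
  exact congrArg Subtype.val h

/-- elements of order dividing `p` centralizing a maximal elementary abelian subgroup lie in it. -/
theorem MaxEA.mem_of_pow_eq_one {p : ℕ} {A : Subgroup G} (hA : MaxEA p A) {y : G}
    (hy : y ∈ Subgroup.centralizer (A : Set G)) (hyp : y ^ p = 1) : y ∈ A := by
  have h1 : IsElementaryAbelian p (A ⊔ Subgroup.zpowers y) :=
    isElementaryAbelian_sup_zpowers hA.1 hyp (fun b hb => Subgroup.mem_centralizer_iff.mp hy b hb)
  have h2 := hA.2 _ h1 le_sup_left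
  rw [← h2]
  exact Subgroup.mem_sup_right (Subgroup.mem_zpowers y)

variable [Finite G]

theorem MaxEA.dvd_card {p : ℕ} [Fact p.Prime] {A : Subgroup G} (hA : MaxEA p A) (hA1 : A ≠ ⊥) :
    p ∣ Nat.card G := by
  obtain ⟨n, hn⟩ := hA.isPGroup.exists_card_eq
  have hn0 : n ≠ 0 := by
    rintro rfl
    rw [pow_zero] at hn
    exact hA1 (Subgroup.card_eq_one.mp hn)
  have h1 : p ∣ Nat.card A := by rw [hn]; exact dvd_pow_self p hn0
  exact h1.trans (Subgroup.card_subgroup_dvd_card A)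

/-- a nontrivial maximal elementary abelian subgroup satisfies the transitivity hypothesis. -/
theorem MaxEA.transitivityHypothesis (hG : IsMinSimpleOddOrder G) {p : ℕ} [Fact p.Prime]
    {A : Subgroup G} (hA : MaxEA p A) (hA1 : A ≠ ⊥) : TransitivityHypothesis A := by
  apply Cfsg.Agent.Lib.Lead.BGTransHyp.transitivityHypothesis_of_omega hG p (hA.dvd_card hA1) A
    hA.isPGroup hA1
  intro y hy hyo
  apply hA.mem_of_pow_eq_one hy
  rw [← hyo]
  exact pow_orderOf_eq_one y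

/-- (T1): an `A`-invariant `p'`-subgroup of a proper subgroup `H ≥ A` lies in `O_{p'}(H)`. -/
theorem T1 (hG : IsMinSimpleOddOrder G) {p : ℕ} [Fact p.Prime] (hp2 : p ≠ 2) {A H L : Subgroup G}
    (hA : MaxEA p A) (hH : H ≠ ⊤) (hAH : A ≤ H) (hLH : L ≤ H) (hL : (Nat.card L).Coprime p)
    (hAL : A ≤ Subgroup.normalizer (L : Set G)) : L ≤ ppCoreOf p H := by
  have hsolv : Group.IsSolvable H := isSolvable_of_ne_top hG hH
  have hpl : PLengthLE p 1 H := Cfsg.Agent.S1410.result hG p H hH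
  have hE : IsElementaryAbelian p (A.subgroupOf H) := by
    refine ⟨?_, ?_⟩
    · refine ⟨⟨fun a b => ?_⟩⟩
      apply Subtype.ext
      apply Subtype.ext
      have h := hA.1.1.is_comm.comm (⟨((a : H) : G), a.2⟩ : A) ⟨((b : H) : G), b.2⟩
      have h2 : ((a : H) : G) * ((b : H) : G) = ((b : H) : G) * ((a : H) : G) :=
        congrArg Subtype.val h
      simpa using h2
    · intro a ha
      apply Subtype.ext
      simp only [Subgroup.coe_pow, Subgroup.coe_one]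
      exact hA.1.2 _ (Subgroup.mem_subgroupOf.mp ha)
  have hEmax : ∀ B : Subgroup H, IsElementaryAbelian p B → A.subgroupOf H ≤ B →
      B = A.subgroupOf H := by
    intro B hB hle
    have hB' : IsElementaryAbelian p (B.map H.subtype) := by
      refine ⟨?_, ?_⟩
      · refine ⟨⟨?_⟩⟩
        rintro ⟨a, ha⟩ ⟨b, hb⟩
        obtain ⟨a', ha', rfl⟩ := Subgroup.mem_map.mp ha
        obtain ⟨b', hb', rfl⟩ := Subgroup.mem_map.mp hb
        apply Subtype.ext
        have h := hB.1.is_comm.comm (⟨a', ha'⟩ : B) ⟨b', hb'⟩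
        have h2 : a' * b' = b' * a' := congrArg Subtype.val h
        show H.subtype a' * H.subtype b' = H.subtype b' * H.subtype a'
        rw [← map_mul, ← map_mul, h2]
      · intro a ha
        obtain ⟨a', ha', rfl⟩ := Subgroup.mem_map.mp ha
        rw [← map_pow, hB.2 a' ha', map_one]
    have hle' : A ≤ B.map H.subtype := by
      intro a ha
      exact Subgroup.mem_map.mpr ⟨⟨a, hAH ha⟩, hle (Subgroup.mem_subgroupOf.mpr ha), rfl⟩
    have h3 := hA.2 _ hB' hle'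
    apply le_antisymm _ hle
    intro b hb
    rw [Subgroup.mem_subgroupOf, ← h3]
    exact Subgroup.mem_map.mpr ⟨b, hb, rfl⟩
  have hLc : (Nat.card (L.subgroupOf H)).Coprime p := by
    have : Nat.card (L.subgroupOf H) = Nat.card L :=
      Nat.card_congr (Subgroup.subgroupOfEquivOfLe hLH).toEquiv
    rw [this]; exact hL
  have hEL : A.subgroupOf H ≤ Subgroup.normalizer ((L.subgroupOf H : Subgroup H) : Set H) := by
    intro a ha
    rw [Subgroup.mem_normalizer_iff]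
    intro x
    rw [Subgroup.mem_subgroupOf, Subgroup.mem_subgroupOf]
    have h1 := Subgroup.mem_normalizer_iff.mp (hAL (Subgroup.mem_subgroupOf.mp ha)) (x : G)
    simpa using h1
  have key := Cfsg.Agent.S1462.result (G := H) p hp2 hpl (A.subgroupOf H) (L.subgroupOf H) hE hEmax
    hLc hEL
  intro l hl
  exact Subgroup.mem_map.mpr ⟨⟨l, hLH hl⟩, key (Subgroup.mem_subgroupOf.mpr hl), rfl⟩

/-- the group `K_A = O_{π(A)'}(C_G(A))`. -/
abbrev KA (A : Subgroup G) : Subgroup G :=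
  piCoreOf (primesNotDvd (Nat.card A)) (Subgroup.centralizer (A : Set G))

theorem KA_le_centralizer (A : Subgroup G) : KA A ≤ Subgroup.centralizer (A : Set G) :=
  Cfsg.Agent.Lib.Lead.BGTrans.piCoreOf_le _ _

/-- (TT), `MaxInv` form: two maximal `A`-invariant `q`-subgroups meeting nontrivially are
conjugate under `K_A`. -/
theorem TT_maxInv (hG : IsMinSimpleOddOrder G) {p q : ℕ} [Fact p.Prime] [Fact q.Prime]
    (hqp : q ≠ p) {A Q₁ Q₂ : Subgroup G} (hA : MaxEA p A) (hA1 : A ≠ ⊥)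
    (h₁ : MaxInv A q Q₁) (h₂ : MaxInv A q Q₂) (hne : Q₁ ⊓ Q₂ ≠ ⊥) :
    ∃ k ∈ KA A, Q₂ = Q₁.map (MulAut.conj k).toMonoidHom := by
  have hq : q.Prime := Fact.out
  have hp : p.Prime := Fact.out
  have hTH := hA.transitivityHypothesis hG hA1
  have hqA : ¬ q ∣ Nat.card A := by
    obtain ⟨n, hn⟩ := hA.isPGroup.exists_card_eq
    rw [hn]
    intro h
    exact hqp ((Nat.prime_dvd_prime_iff_eq hq hp).mp (hq.dvd_of_dvd_pow h))
  have hD : IsPGroup q (Q₁ ⊓ Q₂ : Subgroup G) := h₁.1.1.to_le inf_le_left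
  have hDtop : (Q₁ ⊓ Q₂ : Subgroup G) ≠ ⊤ := Cfsg.Agent.Lib.Lead.BGTrans.pgroup_ne_top hG.2 hD
  have hN : Subgroup.normalizer ((Q₁ ⊓ Q₂ : Subgroup G) : Set G) ≠ ⊤ :=
    Cfsg.Agent.Lib.Lead.BGTrans.normalizer_ne_top hG.2 hne hDtop
  have hAN : A ≤ Subgroup.normalizer ((Q₁ ⊓ Q₂ : Subgroup G) : Set G) :=
    Cfsg.Agent.Lib.Lead.Trans.le_normalizer_inf h₁.1.2 h₂.1.2
  have hH₁ : Subgroup.normalizer ((Q₁ ⊓ Q₂ : Subgroup G) : Set G) ⊓ Q₁ ≠ ⊥ := by
    intro h
    apply hne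
    rw [eq_bot_iff, ← h]
    exact le_inf Subgroup.le_normalizer inf_le_left
  have hH₂ : Subgroup.normalizer ((Q₁ ⊓ Q₂ : Subgroup G) : Set G) ⊓ Q₂ ≠ ⊥ := by
    intro h
    apply hne
    rw [eq_bot_iff, ← h]
    exact le_inf Subgroup.le_normalizer inf_le_right
  obtain ⟨k, hk, hkQ⟩ := Cfsg.Agent.Lib.Lead.BGTrans.bg72 hG A hTH q hqA h₁ h₂ _ hN hAN hH₁ hH₂
  exact ⟨k, hk, hkQ⟩

/-- (TT): an `A`-invariant `q`-subgroup `Y` meeting a maximal `A`-invariant `q`-subgroup `Q`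
nontrivially lies in a `K_A`-conjugate of `Q`. -/
theorem TT (hG : IsMinSimpleOddOrder G) {p q : ℕ} [Fact p.Prime] [Fact q.Prime]
    (hqp : q ≠ p) {A Q Y : Subgroup G} (hA : MaxEA p A) (hA1 : A ≠ ⊥)
    (hQ : MaxInv A q Q) (hY : Inv A q Y) (hne : Y ⊓ Q ≠ ⊥) :
    ∃ k ∈ KA A, Y ≤ Q.map (MulAut.conj k).toMonoidHom := by
  obtain ⟨Q₂, hYQ₂, hQ₂⟩ := Cfsg.Agent.Lib.Lead.BGTrans5.exists_maxInv A q hY
  have hne' : Q ⊓ Q₂ ≠ ⊥ := by
    intro h
    apply hne
    rw [eq_bot_iff, ← h]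
    exact le_inf inf_le_right (inf_le_left.trans hYQ₂)
  obtain ⟨k, hk, hkQ⟩ := TT_maxInv hG hqp hA hA1 hQ hQ₂ hne'
  exact ⟨k, hk, hkQ ▸ hYQ₂⟩

end Cfsg.Agent.Lib.Helper29.BGExc
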