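import Mathlib
import Cfsg.Prelude
import Cfsg.Agent.Lib.Helper29.BGExc1
import Cfsg.Agent.S1350
import Cfsg.Agent.Lib.Helper10.BGNine2
import Cfsg.Agent.Lib.Helper10.BGTwelve

/-!
# Exceptional maximal subgroups, part 2: basic consequences of `Exc` and the TI property (E1)
-/

set_option autoImplicit false
open Cfsg

namespace Cfsg.Agent.Lib.Helper29.BGExc

open Cfsg.Agent.Lib.Helper10.BG
open Cfsg.Agent.Lib.Helper1 (CoprimeAct)
open Cfsg.Agent.Lib.Lead.Trans (Inv MaxInv)

variable {G : Type*} [Group G] [Finite G]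

/-- a `q`-subgroup of full `q`-part order is a maximal `q`-subgroup of every overgroup. -/
theorem isSylowIn_of_card_eq {q : ℕ} [Fact q.Prime] {T X : Subgroup G} (hTX : T ≤ X)
    (hc : Nat.card T = q ^ (Nat.card G).factorization q) : IsSylowIn q T X := by
  have hq : q.Prime := Fact.out
  apply isSylowIn_of_card_ge hTX (IsPGroup.of_card hc)
  intro Q _ hQ _
  obtain ⟨k, hk⟩ := hQ.exists_card_eq
  rw [hk, hc]
  apply Nat.pow_le_pow_right hq.pos
  have h1 : q ^ k ∣ Nat.card G := hk ▸ Subgroup.card_subgroup_dvd_card Q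
  exact (hq.pow_dvd_iff_le_factorization Nat.card_pos.ne').mp h1

omit [Finite G] in
theorem sigmaCore_le (M : Subgroup G) : sigmaCore M ≤ M := by
  unfold sigmaCore
  exact Subgroup.map_subtype_le _

theorem mem_sigma_of_dvd_card_sigmaCore (hG : IsMinSimpleOddOrder G) {M : Subgroup G}
    (hM : IsCoatom M) {q : ℕ} (hq : q.Prime) (hd : q ∣ Nat.card (sigmaCore M)) : q ∈ sigma M :=
  (Cfsg.Agent.S1350.result hG M hM).2.1.1 q hq hd

theorem factorization_sigmaCore (hG : IsMinSimpleOddOrder G) {M : Subgroup G} (hM : IsCoatom M)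
    {q : ℕ} (hq : q ∈ sigma M) :
    (Nat.card (sigmaCore M)).factorization q = (Nat.card G).factorization q := by
  have h1 := (Cfsg.Agent.S1350.result hG M hM).2.1.2 q hq.1 hq
  have h2 : Nat.card G = Nat.card (sigmaCore M) * (sigmaCore M).index :=
    (Subgroup.card_mul_index _).symm
  have hidx : (sigmaCore M).index ≠ 0 := Subgroup.index_ne_zero_of_finite
  rw [h2, Nat.factorization_mul Nat.card_pos.ne' hidx, Finsupp.add_apply,
    Nat.factorization_eq_zero_of_not_dvd h1, add_zero]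

theorem coprime_card_sigmaCore (hG : IsMinSimpleOddOrder G) {M : Subgroup G} (hM : IsCoatom M)
    {p : ℕ} [Fact p.Prime] (hp : p ∉ sigma M) : (Nat.card (sigmaCore M)).Coprime p := by
  have hp' : p.Prime := Fact.out
  rw [Nat.coprime_comm, hp'.coprime_iff_not_dvd]
  intro h
  exact hp (mem_sigma_of_dvd_card_sigmaCore hG hM hp' h)

omit [Finite G] in
theorem map_conj_le_of_mem {M X : Subgroup G} {m : G} (hm : m ∈ M) (hX : X ≤ M) :
    X.map (MulAut.conj m).toMonoidHom ≤ M := by
  rintro _ ⟨x, hx, rfl⟩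
  exact mul_mem (mul_mem hm (hX hx)) (inv_mem hm)

omit [Finite G] in
theorem card_map_conj (g : G) (X : Subgroup G) :
    Nat.card (X.map (MulAut.conj g).toMonoidHom) = Nat.card X :=
  Subgroup.card_map_of_injective (MulAut.conj g).injective

namespace Exc

variable {M A₀ A : Subgroup G} {p : ℕ} [Fact p.Prime]

theorem pRank (hG : IsMinSimpleOddOrder G) (h : Exc M p A₀ A) :
    PRankLE p 2 M ∧ ¬ PRankLE p 1 M :=
  (Cfsg.Agent.S1409.result hG M h.coatom p h.not_sigma A₀ h.card₀ h.norm).1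

theorem not_ideal (hG : IsMinSimpleOddOrder G) (h : Exc M p A₀ A) : ¬ IsIdealPrime p G :=
  (Cfsg.Agent.S1409.result hG M h.coatom p h.not_sigma A₀ h.card₀ h.norm).2.1

theorem maxEA (hG : IsMinSimpleOddOrder G) (h : Exc M p A₀ A) : MaxEA p A :=
  ⟨h.elem, (Cfsg.Agent.S1408.result hG M h.coatom p h.not_sigma (h.pRank hG).1 (h.pRank hG).2).2
    A h.leM h.elem h.card⟩

theorem mem_tau2 (hG : IsMinSimpleOddOrder G) (h : Exc M p A₀ A) : p ∈ tau2 M :=
  ⟨Fact.out, h.not_sigma, (h.pRank hG).1, (h.pRank hG).2⟩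

omit [Finite G] in
theorem ne_bot (h : Exc M p A₀ A) : A ≠ ⊥ := by
  have hp : p.Prime := Fact.out
  intro hA
  have h1 := h.card
  rw [hA, Subgroup.card_bot] at h1
  have : 1 < p ^ 2 := Nat.one_lt_pow (by norm_num) hp.one_lt
  omega

omit [Finite G] in
theorem isPGroup (h : Exc M p A₀ A) : IsPGroup p A := IsPGroup.of_card h.card

theorem dvd_card (h : Exc M p A₀ A) : p ∣ Nat.card G := by
  have h1 : p ∣ Nat.card A := by rw [h.card]; exact dvd_pow_self p (by norm_num)
  exact h1.trans (Subgroup.card_subgroup_dvd_card A)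

theorem ne_two (hG : IsMinSimpleOddOrder G) (h : Exc M p A₀ A) : p ≠ 2 :=
  prime_ne_two hG h.dvd_card

omit [Finite G] [Fact p.Prime] in
theorem centralizer_le (h : Exc M p A₀ A) : Subgroup.centralizer (A : Set G) ≤ M := by
  refine le_trans ?_ h.norm
  intro x hx
  have hx0 : x ∈ Subgroup.centralizer (A₀ : Set G) :=
    Subgroup.centralizer_le (fun a ha => h.le ha) hx
  exact Subgroup.centralizer_le_normalizer _ hx0

omit [Finite G] [Fact p.Prime] in
theorem centralizer₀_le (h : Exc M p A₀ A) : Subgroup.centralizer (A₀ : Set G) ≤ M :=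
  (Subgroup.centralizer_le_normalizer _).trans h.norm

omit [Fact p.Prime] in
theorem KA_le (h : Exc M p A₀ A) : KA A ≤ M := (KA_le_centralizer A).trans h.centralizer_le

theorem coprime_sigmaCore (hG : IsMinSimpleOddOrder G) (h : Exc M p A₀ A) :
    (Nat.card (sigmaCore M)).Coprime p :=
  coprime_card_sigmaCore hG h.coatom h.not_sigma

/-- coprime action of `A` on any `A`-invariant `p'`-subgroup of a proper subgroup. -/
theorem coprimeAct_of (hG : IsMinSimpleOddOrder G) (h : Exc M p A₀ A) {D : Subgroup G}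
    (hD : D ≠ ⊤) (hAD : A ≤ Subgroup.normalizer (D : Set G)) (hc : (Nat.card D).Coprime p) :
    CoprimeAct A D :=
  ⟨hAD, by rw [h.card]; exact (Nat.Coprime.pow_right 2 hc).symm,
    Or.inr (isSolvable_of_ne_top hG hD)⟩

theorem coprimeAct_sigmaCore (hG : IsMinSimpleOddOrder G) (h : Exc M p A₀ A) :
    CoprimeAct A (sigmaCore M) :=
  h.coprimeAct_of hG (ne_top_of_le_isCoatom h.coatom (sigmaCore_le M))
    (h.leM.trans (le_normalizer_sigmaCore M)) (h.coprime_sigmaCore hG)

end Exc

/-- a Sylow `q`-subgroup of `M_σ` (for `q ∈ σ(M)`) has the full `q`-part order. -/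
theorem card_sylow_sigmaCore (hG : IsMinSimpleOddOrder G) {M : Subgroup G} (hM : IsCoatom M)
    {q : ℕ} [Fact q.Prime] (hq : q ∈ sigma M) (P : Sylow q (sigmaCore M)) :
    Nat.card ((P : Subgroup (sigmaCore M)).map (sigmaCore M).subtype) =
      q ^ (Nat.card G).factorization q := by
  rw [Subgroup.card_map_of_injective (Subgroup.subtype_injective _), P.card_eq_multiplicity,
    factorization_sigmaCore hG hM hq]

/-- (E1), the TI property: `M_σ ∩ M^g = 1` for `g ∉ M` with `A ≤ M^g`. -/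
theorem E1 (hG : IsMinSimpleOddOrder G) {M A₀ A : Subgroup G} {p : ℕ} [Fact p.Prime]
    (h : Exc M p A₀ A) {g : G} (hg : g ∉ M) (hAg : A ≤ M.map (MulAut.conj g).toMonoidHom) :
    sigmaCore M ⊓ M.map (MulAut.conj g).toMonoidHom = ⊥ := by
  by_contra hD1
  have hM := h.coatom
  have hp : p.Prime := Fact.out
  have hMA := h.maxEA hG
  have hA1 := h.ne_bot
  set Mg := M.map (MulAut.conj g).toMonoidHom with hMg
  set D := sigmaCore M ⊓ Mg with hD
  have hMgc : IsCoatom Mg := isCoatom_map_conj g hM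
  have hMgtop : Mg ≠ ⊤ := hMgc.1
  -- a prime divisor `q` of `|D|`
  have hcard1 : Nat.card D ≠ 1 := fun hc => hD1 (Subgroup.card_eq_one.mp hc)
  obtain ⟨q, hq, hqD⟩ := Nat.exists_prime_and_dvd hcard1
  have : Fact q.Prime := ⟨hq⟩
  have hDσ : D ≤ sigmaCore M := inf_le_left
  have hDMg : D ≤ Mg := inf_le_right
  have hqσ : q ∈ sigma M :=
    mem_sigma_of_dvd_card_sigmaCore hG hM hq (hqD.trans (Subgroup.card_dvd_of_le hDσ))
  have hqp : q ≠ p := fun hqp => h.not_sigma (hqp ▸ hqσ)
  have hσcop := h.coprime_sigmaCore hG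
  have hDcop : (Nat.card D).Coprime p :=
    Nat.Coprime.coprime_dvd_left (Subgroup.card_dvd_of_le hDσ) hσcop
  have hAD : A ≤ Subgroup.normalizer (D : Set G) :=
    Cfsg.Agent.Lib.Lead.Trans.le_normalizer_inf (h.leM.trans (le_normalizer_sigmaCore M))
      (hAg.trans Subgroup.le_normalizer)
  have hDtop : D ≠ ⊤ := ne_top_of_le_isCoatom hM (hDσ.trans (sigmaCore_le M))
  have hactD : CoprimeAct A D := h.coprimeAct_of hG hDtop hAD hDcop
  -- `Dq`: an `A`-invariant Sylow `q`-subgroup of `D`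
  obtain ⟨P0, hAP0⟩ := hactD.exists_invariant_sylow q
  set Dq := (P0 : Subgroup D).map D.subtype with hDq
  have hDqD : Dq ≤ D := Subgroup.map_subtype_le _
  have hDqq : IsPGroup q Dq := P0.isPGroup'.map _
  have hDq1 : Dq ≠ ⊥ := by
    intro hb
    have h1 : Nat.card Dq = q ^ (Nat.card D).factorization q := by
      rw [hDq, Subgroup.card_map_of_injective (Subgroup.subtype_injective _),
        P0.card_eq_multiplicity]
    rw [hb, Subgroup.card_bot] at h1
    have h2 : 1 ≤ (Nat.card D).factorization q :=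
      (hq.dvd_iff_one_le_factorization Nat.card_pos.ne').mp hqD
    have h3 : q ^ 1 ≤ q ^ (Nat.card D).factorization q := Nat.pow_le_pow_right hq.pos h2
    rw [pow_one] at h3
    have := hq.one_lt
    omega
  -- `Q`: an `A`-invariant Sylow `q`-subgroup of `M_σ` containing `Dq`
  obtain ⟨PQ, hDqQ, hAQ⟩ := (h.coprimeAct_sigmaCore hG).exists_invariant_sylow_ge Dq
    (hDqD.trans hDσ) hDqq hAP0
  set Q := (PQ : Subgroup (sigmaCore M)).map (sigmaCore M).subtype with hQ
  have hQcard : Nat.card Q = q ^ (Nat.card G).factorization q := card_sylow_sigmaCore hG hM hqσ PQ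
  have hQσ : Q ≤ sigmaCore M := Subgroup.map_subtype_le _
  have hQq : IsPGroup q Q := IsPGroup.of_card hQcard
  have hQtop : IsSylowIn q Q ⊤ := isSylowIn_of_card_eq le_top hQcard
  have hQmax : MaxInv A q Q :=
    ⟨⟨hQq, hAQ⟩, fun R hR hle => hQtop.eq_of_le le_top hR.1 hle⟩
  -- (T1) in `M^g`
  have hDqcop : (Nat.card Dq).Coprime p := by
    obtain ⟨n, hn⟩ := hDqq.exists_card_eq
    rw [hn]
    exact Nat.Coprime.pow_left n ((Nat.coprime_primes hq hp).mpr hqp)
  have hDqK : Dq ≤ ppCoreOf p Mg :=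
    T1 hG (h.ne_two hG) hMA hMgtop hAg (hDqD.trans hDMg) hDqcop hAP0
  -- `Q2`: an `A`-invariant Sylow `q`-subgroup of `K' = O_{p'}(M^g)` containing `Dq`
  have hK'top : ppCoreOf p Mg ≠ ⊤ := ne_top_of_le_isCoatom hMgc (ppCoreOf_le p Mg)
  have hactK : CoprimeAct A (ppCoreOf p Mg) :=
    h.coprimeAct_of hG hK'top (hAg.trans (le_normalizer_ppCoreOf p Mg)) (coprime_card_ppCoreOf p Mg)
  obtain ⟨P2, hDqQ2, hAQ2⟩ := hactK.exists_invariant_sylow_ge Dq hDqK hDqq hAP0
  set Q2 := (P2 : Subgroup (ppCoreOf p Mg)).map (ppCoreOf p Mg).subtype with hQ2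
  have hQ2K : Q2 ≤ ppCoreOf p Mg := Subgroup.map_subtype_le _
  have hQ2q : IsPGroup q Q2 := P2.isPGroup'.map _
  -- the `q`-part of `|K'|` is the full `q`-part of `|G|`
  have hσgK : (sigmaCore M).map (MulAut.conj g).toMonoidHom ≤ ppCoreOf p Mg := by
    apply le_ppCoreOf (Subgroup.map_mono (sigmaCore_le M))
    · rintro _ ⟨m, hm, rfl⟩
      have h1 := le_normalizer_sigmaCore M hm
      have h2 := mem_normalizer_map_conj (D := sigmaCore M) (g := g)
        (x := (MulAut.conj g).toMonoidHom m) (by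
          have : g⁻¹ * (MulAut.conj g).toMonoidHom m * g = m := by
            simp [MulAut.conj_apply, mul_assoc]
          rw [this]; exact h1)
      exact h2
    · rw [card_map_conj]; exact hσcop
  have hfac : (Nat.card (ppCoreOf p Mg)).factorization q = (Nat.card G).factorization q := by
    apply le_antisymm
    · exact (Nat.factorization_le_iff_dvd Nat.card_pos.ne' Nat.card_pos.ne').mpr
        (Subgroup.card_subgroup_dvd_card _) q
    · rw [← factorization_sigmaCore hG hM hqσ, ← card_map_conj g (sigmaCore M)]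
      exact (Nat.factorization_le_iff_dvd Nat.card_pos.ne' Nat.card_pos.ne').mpr
        (Subgroup.card_dvd_of_le hσgK) q
  have hQ2card : Nat.card Q2 = q ^ (Nat.card G).factorization q := by
    rw [hQ2, Subgroup.card_map_of_injective (Subgroup.subtype_injective _),
      P2.card_eq_multiplicity, hfac]
  -- (TT)
  have hne : Q2 ⊓ Q ≠ ⊥ := by
    intro hb
    apply hDq1
    rw [eq_bot_iff, ← hb]
    exact le_inf hDqQ2 hDqQ
  obtain ⟨k, hk, hQ2k⟩ := TT hG hqp hMA hA1 hQmax ⟨hQ2q, hAQ2⟩ hne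
  have hkM : k ∈ M := h.KA_le hk
  have hXeq : Q2 = Q.map (MulAut.conj k).toMonoidHom := by
    apply Subgroup.eq_of_le_of_card_ge hQ2k
    rw [card_map_conj, hQcard, hQ2card]
  set X := Q.map (MulAut.conj k).toMonoidHom with hX
  have hXM : X ≤ M := map_conj_le_of_mem hkM (hQσ.trans (sigmaCore_le M))
  have hXMg : X ≤ Mg := by rw [← hXeq]; exact hQ2K.trans (ppCoreOf_le p Mg)
  have hXcard : Nat.card X = q ^ (Nat.card G).factorization q := by
    rw [hX, card_map_conj, hQcard]
  have hXq : IsPGroup q X := IsPGroup.of_card hXcard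
  have hX1 : X ≠ ⊥ := by
    intro hb
    apply hDq1
    rw [eq_bot_iff, ← hb, ← hXeq]
    exact hDqQ2
  have hσq : SigmaProp q M := sigmaProp_of_mem_sigma hM hqσ
  obtain ⟨c, hc, m, hm, hgcm⟩ := sigma_conj hG hσq hXq hX1 hXM hXMg
  have hXS : IsSylowIn q X M := isSylowIn_of_card_eq hXM hXcard
  have hcM : c ∈ M := hσq.2 X hXS (Subgroup.centralizer_le_normalizer _ hc)
  exact hg (hgcm ▸ mul_mem hcM hm)

end Cfsg.Agent.Lib.Helper29.BGExc
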