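import Mathlib
import Cfsg.Prelude
import Cfsg.Agent.Lib.Helper29.BGExc2
import Cfsg.Agent.S0033
import Cfsg.Agent.Lib.Helper9.BGTenB
import Cfsg.Agent.Lib.Helper10.FrobSub

/-!
# Exceptional maximal subgroups, part 3: regular subgroups (E2), (E2') and nilpotency of `M_σ` (E3)
-/

set_option autoImplicit false
open Cfsg

namespace Cfsg.Agent.Lib.Helper29.BGExc

open Cfsg.Agent.Lib.Helper10.BG
open Cfsg.Agent.Lib.Helper1 (CoprimeAct)

variable {G : Type*} [Group G]

/-- a subgroup normalized by an element of prime order acting without fixed points is nilpotent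
(Thompson). -/
theorem isNilpotent_of_fpf [Finite G] {K : Subgroup G} {a : G} {r : ℕ} (hr : r.Prime)
    (har : a ^ r = 1) (haK : a ∈ Subgroup.normalizer (K : Set G))
    (hfpf : ∀ k ∈ K, a * k = k * a → k = 1) : Group.IsNilpotent K := by
  have hJ : Subgroup.zpowers a ≤ Subgroup.normalizer (K : Set G) := Subgroup.zpowers_le.mpr haK
  let a' : Subgroup.zpowers a := ⟨a, Subgroup.mem_zpowers a⟩
  let φ : MulAut K := Cfsg.Agent.Lib.Helper10.FrobAction.conjHom K (Subgroup.zpowers a) hJ a'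
  have hφval : ∀ n : K, ((φ n : K) : G) = a * n * a⁻¹ := fun n => rfl
  have hfpf' : MonoidHom.FixedPointFree ((φ : K ≃* K) : K →* K) := by
    intro n hn
    have h1 : a * n * a⁻¹ = n := by
      rw [← hφval]
      exact congrArg Subtype.val hn
    have h2 : a * n = n * a := by
      calc a * n = a * n * a⁻¹ * a := by group
        _ = n * a := by rw [h1]
    exact Subtype.ext (hfpf n n.2 h2)
  have hpow : φ ^ r = 1 := by
    show (Cfsg.Agent.Lib.Helper10.FrobAction.conjHom K (Subgroup.zpowers a) hJ a') ^ r = 1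
    rw [← map_pow]
    have : a' ^ r = 1 := by
      apply Subtype.ext
      simp only [a', Subgroup.coe_pow, Subgroup.coe_one]
      exact har
    rw [this, map_one]
  have hdvd : orderOf φ ∣ r := orderOf_dvd_of_pow_eq_one hpow
  rcases (Nat.dvd_prime hr).1 hdvd with h1 | h1
  · rw [orderOf_eq_one_iff] at h1
    have hsub : Subsingleton K := by
      constructor
      intro x y
      have hx : x = 1 := hfpf' x (by
        show φ x = x
        rw [h1]; rfl)
      have hy : y = 1 := hfpf' y (by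
        show φ y = y
        rw [h1]; rfl)
      rw [hx, hy]
    exact Group.isNilpotent_of_subsingleton
  · exact Cfsg.Agent.S0033.result φ hfpf' r hr h1

/-- a subgroup of prime order is generated by each of its nonidentity elements. -/
theorem zpowers_eq_of_card_prime [Finite G] {X : Subgroup G} {p : ℕ} [Fact p.Prime]
    (hX : Nat.card X = p) {a : G} (ha : a ∈ X) (ha1 : a ≠ 1) : Subgroup.zpowers a = X := by
  have hp : p.Prime := Fact.out
  apply Subgroup.eq_of_le_of_card_ge (Subgroup.zpowers_le.mpr ha)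
  rw [hX, Nat.card_zpowers]
  have h1 : orderOf a ∣ p := by
    have h2 : orderOf (⟨a, ha⟩ : X) ∣ Nat.card X := orderOf_dvd_natCard _
    rwa [hX, ← Subgroup.orderOf_coe] at h2
  rcases (Nat.dvd_prime hp).mp h1 with h | h
  · exact absurd (orderOf_eq_one_iff.mp h) ha1
  · exact h.ge

theorem exists_ne_one_of_card_prime [Finite G] {X : Subgroup G} {p : ℕ} [Fact p.Prime]
    (hX : Nat.card X = p) : ∃ a ∈ X, a ≠ 1 := by
  have hp : p.Prime := Fact.out
  by_contra hcon
  push Not at hcon
  have : X = ⊥ := by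
    rw [eq_bot_iff]
    intro x hx
    rw [Subgroup.mem_bot]
    exact hcon x hx
  rw [this, Subgroup.card_bot] at hX
  exact hp.one_lt.ne hX

/-- a subgroup `K` normalized by a subgroup `X` of prime order with `K ∩ C_G(X) = 1` is
nilpotent. -/
theorem isNilpotent_of_regular [Finite G] {K X : Subgroup G} {p : ℕ} [Fact p.Prime]
    (hX : Nat.card X = p) (hXK : X ≤ Subgroup.normalizer (K : Set G))
    (hreg : K ⊓ Subgroup.centralizer (X : Set G) = ⊥) : Group.IsNilpotent K := by
  have hp : p.Prime := Fact.out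
  obtain ⟨a, ha, ha1⟩ := exists_ne_one_of_card_prime hX
  have hz := zpowers_eq_of_card_prime hX ha ha1
  have har : a ^ p = 1 := by
    have h2 : (⟨a, ha⟩ : X) ^ Nat.card X = 1 := pow_card_eq_one'
    rw [hX] at h2
    exact congrArg Subtype.val h2
  apply isNilpotent_of_fpf hp har (hXK ha)
  intro k hk hcomm
  have h1 : k ∈ K ⊓ Subgroup.centralizer (X : Set G) := by
    refine Subgroup.mem_inf.mpr ⟨hk, ?_⟩
    rw [← hz, Subgroup.mem_centralizer_iff]
    intro y hy
    obtain ⟨n, rfl⟩ := Subgroup.mem_zpowers_iff.mp hy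
    have : Commute a k := hcomm
    exact (this.zpow_left n).eq
  rw [hreg, Subgroup.mem_bot] at h1
  exact h1

omit [Group G] in
theorem map_conj_eq_self_of_mem_normalizer' {G : Type*} [Group G] {P : Subgroup G} {x : G}
    (hx : x ∈ Subgroup.normalizer (P : Set G)) : P.map (MulAut.conj x).toMonoidHom = P :=
  Cfsg.Agent.Lib.Helper10.map_conj_eq_of_mem_normalizer P x hx

/-- `N_G(X^g) = N_G(X)^g`, one inclusion. -/
theorem normalizer_map_conj_le (X : Subgroup G) (g : G) :
    Subgroup.normalizer ((X.map (MulAut.conj g).toMonoidHom : Subgroup G) : Set G) ≤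
      (Subgroup.normalizer (X : Set G)).map (MulAut.conj g).toMonoidHom := by
  intro n hn
  have h1 := conj_mem_normalizer_of_mem_normalizer_map_conj hn
  refine ⟨g⁻¹ * n * g, h1, ?_⟩
  simp [MulAut.conj_apply, mul_assoc]

variable [Finite G]

/-- (E2'): for a Sylow `p`-subgroup `P ≥ A` of `M` and every `x ∈ N_G(P) \ M`,
`M_σ ∩ M^x = 1` and `M_σ ∩ C_G(A₀^x) = 1`. -/
theorem E2' (hG : IsMinSimpleOddOrder G) {M A₀ A : Subgroup G} {p : ℕ} [Fact p.Prime]
    (h : Exc M p A₀ A) {P : Subgroup G} (hP : IsSylowIn p P M) (hAP : A ≤ P) {x : G}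
    (hxP : x ∈ Subgroup.normalizer (P : Set G)) (hxM : x ∉ M) :
    sigmaCore M ⊓ M.map (MulAut.conj x).toMonoidHom = ⊥ ∧
      sigmaCore M ⊓ Subgroup.centralizer
        ((A₀.map (MulAut.conj x).toMonoidHom : Subgroup G) : Set G) = ⊥ := by
  have hPx : P.map (MulAut.conj x).toMonoidHom = P := map_conj_eq_self_of_mem_normalizer' hxP
  have hAx : A ≤ M.map (MulAut.conj x).toMonoidHom := by
    refine hAP.trans ?_
    rw [← hPx]
    exact Subgroup.map_mono hP.le
  have h1 := E1 hG h hxM hAx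
  refine ⟨h1, ?_⟩
  rw [eq_bot_iff, ← h1]
  refine le_inf inf_le_left (inf_le_right.trans ?_)
  refine (Subgroup.centralizer_le_normalizer _).trans ?_
  exact (normalizer_map_conj_le A₀ x).trans (Subgroup.map_mono h.norm)

theorem Exc.dvd_card_M {M A₀ A : Subgroup G} {p : ℕ} [Fact p.Prime] (h : Exc M p A₀ A) :
    p ∣ Nat.card M := by
  have h1 : p ∣ Nat.card A := by rw [h.card]; exact dvd_pow_self p (by norm_num)
  exact h1.trans (Subgroup.card_dvd_of_le h.leM)

/-- (E2): there is a subgroup `A₁ ≤ M` of order `p` acting regularly on `M_σ`; more precisely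
`A₁ = A₀^x` for some `x ∈ N_G(P) \ M`, where `P ≥ A` is any Sylow `p`-subgroup of `M`. -/
theorem E2 (hG : IsMinSimpleOddOrder G) {M A₀ A : Subgroup G} {p : ℕ} [Fact p.Prime]
    (h : Exc M p A₀ A) {P : Subgroup G} (hP : IsSylowIn p P M) (hAP : A ≤ P) :
    ∃ x ∈ Subgroup.normalizer (P : Set G), x ∉ M ∧
      A₀.map (MulAut.conj x).toMonoidHom ≤ P ∧
      Nat.card (A₀.map (MulAut.conj x).toMonoidHom) = p ∧
      sigmaCore M ⊓ M.map (MulAut.conj x).toMonoidHom = ⊥ ∧
      sigmaCore M ⊓ Subgroup.centralizer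
        ((A₀.map (MulAut.conj x).toMonoidHom : Subgroup G) : Set G) = ⊥ := by
  obtain ⟨x, hxP, hxM⟩ :=
    Cfsg.Agent.Lib.Helper9.BG10.exists_normalizer_not_mem h.not_sigma h.dvd_card_M hP
  refine ⟨x, hxP, hxM, ?_, ?_, E2' hG h hP hAP hxP hxM⟩
  · have hPx : P.map (MulAut.conj x).toMonoidHom = P := map_conj_eq_self_of_mem_normalizer' hxP
    rw [← hPx]
    exact Subgroup.map_mono (h.le.trans hAP)
  · rw [card_map_conj, h.card₀]

/-- (E2), short form. -/
theorem exists_regular (hG : IsMinSimpleOddOrder G) {M A₀ A : Subgroup G} {p : ℕ} [Fact p.Prime]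
    (h : Exc M p A₀ A) :
    ∃ A₁ : Subgroup G, A₁ ≤ M ∧ Nat.card A₁ = p ∧
      sigmaCore M ⊓ Subgroup.centralizer (A₁ : Set G) = ⊥ := by
  obtain ⟨P, hP, hAP⟩ := exists_isSylowIn_ge h.leM h.isPGroup
  obtain ⟨x, -, -, hle, hc, -, hreg⟩ := E2 hG h hP hAP
  exact ⟨_, hle.trans hP.le, hc, hreg⟩

/-- (E3): `M_σ` is nilpotent. -/
theorem E3 (hG : IsMinSimpleOddOrder G) {M A₀ A : Subgroup G} {p : ℕ} [Fact p.Prime]
    (h : Exc M p A₀ A) : Group.IsNilpotent (sigmaCore M) := by
  obtain ⟨A₁, hA₁M, hA₁c, hreg⟩ := exists_regular hG h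
  exact isNilpotent_of_regular hA₁c (hA₁M.trans (le_normalizer_sigmaCore M)) hreg

end Cfsg.Agent.Lib.Helper29.BGExc
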