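import Mathlib
import Cfsg.Prelude
import Cfsg.Agent.Lib.Helper29.BGExc3
import Cfsg.Agent.S1414

/-!
# Exceptional maximal subgroups, part 4: the uniqueness property (E4)

`Exc M p A₀ A`, `H` maximal, `A ≤ H`, `M_σ ∩ H_σ ≠ 1`  ⟹  `H = M`
(both cases `p ∉ σ(H)` and `p ∈ σ(H)`).
-/

set_option autoImplicit false
open Cfsg

namespace Cfsg.Agent.Lib.Helper29.BGExc

open Cfsg.Agent.Lib.Helper10.BG
open Cfsg.Agent.Lib.Helper1 (CoprimeAct)
open Cfsg.Agent.Lib.Lead.Trans (Inv MaxInv)

variable {G : Type*} [Group G] [Finite G]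

/-- a subgroup of order prime to `p` lies in every normal subgroup of `p`-power index. -/
theorem le_of_coprime_of_index_pow {X : Type*} [Group X] [Finite X] {p v : ℕ} {N U : Subgroup X}
    [N.Normal] (hidx : N.index = p ^ v) (hU : (Nat.card U).Coprime p) : U ≤ N := by
  rw [← Subgroup.relIndex_eq_one]
  have h1 : N.relIndex U ∣ p ^ v := hidx ▸ Subgroup.relIndex_dvd_index_of_normal N U
  have h2 : N.relIndex U ∣ Nat.card U := Subgroup.relIndex_dvd_card N U
  exact Nat.eq_one_of_dvd_coprimes (Nat.Coprime.pow_right v hU) h2 h1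

/-- in both cases `p ∉ σ(H)` and `p ∈ σ(H)`, the `q`-part of `|O_{p'}(H)|` is the full `q`-part
of `|G|`, for `q ∈ σ(H)`, `q ≠ p`, `p` not ideal. -/
theorem factorization_ppCoreOf (hG : IsMinSimpleOddOrder G) {H : Subgroup G} (hH : IsCoatom H)
    {p q : ℕ} [Fact p.Prime] [Fact q.Prime] (hqp : q ≠ p) (hqH : q ∈ sigma H)
    (hpH : p ∣ Nat.card H) (hid : ¬ IsIdealPrime p G) :
    (Nat.card (ppCoreOf p H)).factorization q = (Nat.card G).factorization q := by
  have hp : p.Prime := Fact.out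
  have hq : q.Prime := Fact.out
  apply le_antisymm
  · exact (Nat.factorization_le_iff_dvd Nat.card_pos.ne' Nat.card_pos.ne').mpr
      (Subgroup.card_subgroup_dvd_card _) q
  by_cases hpσ : p ∈ sigma H
  · -- `H_σ` has a normal `p`-complement
    have hβ : p ∉ beta H := fun hb => hid hb.2
    obtain ⟨-, ⟨P, N, hNn, hcompl⟩, -⟩ :=
      (Cfsg.Agent.S1414.result hG H hH).2.2.2.2 p hp hpH hβ
    have hcard : Nat.card N * Nat.card (P : Subgroup (sigmaCore H)) = Nat.card (sigmaCore H) :=
      hcompl.card_mul_card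
    have hPcard : Nat.card (P : Subgroup (sigmaCore H)) =
        p ^ (Nat.card (sigmaCore H)).factorization p := P.card_eq_multiplicity
    have hidx : N.index = p ^ (Nat.card (sigmaCore H)).factorization p := by
      rw [← hPcard]; exact hcompl.symm.index_eq_card
    have hNcop : (Nat.card N).Coprime p := by
      have h1 : Nat.card N = Nat.card (sigmaCore H) /
          p ^ (Nat.card (sigmaCore H)).factorization p :=
        Nat.eq_div_of_mul_eq_left (pow_pos hp.pos _).ne' (by rw [← hPcard]; exact hcard)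
      rw [h1]
      exact (Nat.coprime_ordCompl hp Nat.card_pos.ne').symm
    have hNfac : (Nat.card N).factorization q = (Nat.card G).factorization q := by
      rw [← factorization_sigmaCore hG hH hqH, ← hcard, hPcard,
        Nat.factorization_mul Nat.card_pos.ne' (pow_pos hp.pos _).ne', Finsupp.add_apply,
        Nat.factorization_pow, Finsupp.smul_apply,
        Nat.factorization_eq_zero_of_not_dvd (fun hd => hqp ((Nat.prime_dvd_prime_iff_eq hq hp).mp hd)),
        smul_zero, add_zero]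
    set T := N.map (sigmaCore H).subtype with hT
    have hTσ : T ≤ sigmaCore H := Subgroup.map_subtype_le _
    have hTcard : Nat.card T = Nat.card N :=
      Subgroup.card_map_of_injective (Subgroup.subtype_injective _)
    -- every subgroup of `H_σ` of order prime to `p` lies in `T`
    have hle : ∀ U : Subgroup G, U ≤ sigmaCore H → (Nat.card U).Coprime p → U ≤ T := by
      intro U hUσ hUc
      have hc : Nat.card (U.subgroupOf (sigmaCore H)) = Nat.card U :=
        Nat.card_congr (Subgroup.subgroupOfEquivOfLe hUσ).toEquiv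
      have h1 : U.subgroupOf (sigmaCore H) ≤ N :=
        le_of_coprime_of_index_pow hidx (by rw [hc]; exact hUc)
      intro u hu
      exact Subgroup.mem_map.mpr ⟨⟨u, hUσ hu⟩, h1 (Subgroup.mem_subgroupOf.mpr hu), rfl⟩
    have hHT : H ≤ Subgroup.normalizer (T : Set G) := by
      intro g hg
      apply mem_normalizer_of_map_conj_eq
      apply Subgroup.eq_of_le_of_card_ge
      · apply hle
        · have h0 := Cfsg.Agent.Lib.Helper10.map_conj_eq_of_mem_normalizer (sigmaCore H) g
            (le_normalizer_sigmaCore H hg)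
          rw [← h0]
          exact Subgroup.map_mono hTσ
        · rw [card_map_conj, hTcard]; exact hNcop
      · rw [card_map_conj]
    have hTK : T ≤ ppCoreOf p H :=
      le_ppCoreOf (hTσ.trans (sigmaCore_le H)) hHT (by rw [hTcard]; exact hNcop)
    rw [← hNfac, ← hTcard]
    exact (Nat.factorization_le_iff_dvd Nat.card_pos.ne' Nat.card_pos.ne').mpr
      (Subgroup.card_dvd_of_le hTK) q
  · have hσK : sigmaCore H ≤ ppCoreOf p H :=
      le_ppCoreOf (sigmaCore_le H) (le_normalizer_sigmaCore H) (coprime_card_sigmaCore hG hH hpσ)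
    rw [← factorization_sigmaCore hG hH hqH]
    exact (Nat.factorization_le_iff_dvd Nat.card_pos.ne' Nat.card_pos.ne').mpr
      (Subgroup.card_dvd_of_le hσK) q

/-- (E4), "σ-uniqueness": a maximal subgroup `H ≥ A` with `M_σ ∩ H_σ ≠ 1` equals `M`. -/
theorem E4 (hG : IsMinSimpleOddOrder G) {M A₀ A H : Subgroup G} {p : ℕ} [Fact p.Prime]
    (h : Exc M p A₀ A) (hH : IsCoatom H) (hAH : A ≤ H)
    (hne : sigmaCore M ⊓ sigmaCore H ≠ ⊥) : H = M := by
  have hM := h.coatom
  have hp : p.Prime := Fact.out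
  have hMA := h.maxEA hG
  have hA1 := h.ne_bot
  set D := sigmaCore M ⊓ sigmaCore H with hD
  have hcard1 : Nat.card D ≠ 1 := fun hc => hne (Subgroup.card_eq_one.mp hc)
  obtain ⟨q, hq, hqD⟩ := Nat.exists_prime_and_dvd hcard1
  have : Fact q.Prime := ⟨hq⟩
  have hDM : D ≤ sigmaCore M := inf_le_left
  have hDH : D ≤ sigmaCore H := inf_le_right
  have hqM : q ∈ sigma M :=
    mem_sigma_of_dvd_card_sigmaCore hG hM hq (hqD.trans (Subgroup.card_dvd_of_le hDM))
  have hqH : q ∈ sigma H :=
    mem_sigma_of_dvd_card_sigmaCore hG hH hq (hqD.trans (Subgroup.card_dvd_of_le hDH))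
  have hqp : q ≠ p := fun hqp => h.not_sigma (hqp ▸ hqM)
  have hσcop := h.coprime_sigmaCore hG
  have hDcop : (Nat.card D).Coprime p :=
    Nat.Coprime.coprime_dvd_left (Subgroup.card_dvd_of_le hDM) hσcop
  have hAD : A ≤ Subgroup.normalizer (D : Set G) :=
    Cfsg.Agent.Lib.Lead.Trans.le_normalizer_inf (h.leM.trans (le_normalizer_sigmaCore M))
      (hAH.trans (le_normalizer_sigmaCore H))
  have hDtop : D ≠ ⊤ := ne_top_of_le_isCoatom hM (hDM.trans (sigmaCore_le M))
  have hactD : CoprimeAct A D := h.coprimeAct_of hG hDtop hAD hDcop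
  -- `X`: an `A`-invariant Sylow `q`-subgroup of `D`
  obtain ⟨P0, hAP0⟩ := hactD.exists_invariant_sylow q
  set X := (P0 : Subgroup D).map D.subtype with hX
  have hXD : X ≤ D := Subgroup.map_subtype_le _
  have hXq : IsPGroup q X := P0.isPGroup'.map _
  have hX1 : X ≠ ⊥ := by
    intro hb
    have h1 : Nat.card X = q ^ (Nat.card D).factorization q := by
      rw [hX, Subgroup.card_map_of_injective (Subgroup.subtype_injective _),
        P0.card_eq_multiplicity]
    rw [hb, Subgroup.card_bot] at h1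
    have h2 : 1 ≤ (Nat.card D).factorization q :=
      (hq.dvd_iff_one_le_factorization Nat.card_pos.ne').mp hqD
    have h3 : q ^ 1 ≤ q ^ (Nat.card D).factorization q := Nat.pow_le_pow_right hq.pos h2
    rw [pow_one] at h3
    have := hq.one_lt
    omega
  -- `Q`: the `A`-invariant Sylow `q`-subgroup of `M_σ` containing `X`; it is normal in `M`
  obtain ⟨PQ, hXQ, hAQ⟩ := (h.coprimeAct_sigmaCore hG).exists_invariant_sylow_ge X
    (hXD.trans hDM) hXq hAP0
  set Q := (PQ : Subgroup (sigmaCore M)).map (sigmaCore M).subtype with hQ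
  have hQcard : Nat.card Q = q ^ (Nat.card G).factorization q := card_sylow_sigmaCore hG hM hqM PQ
  have hQσ : Q ≤ sigmaCore M := Subgroup.map_subtype_le _
  have hQM : Q ≤ M := hQσ.trans (sigmaCore_le M)
  have hQq : IsPGroup q Q := IsPGroup.of_card hQcard
  have hQtop : IsSylowIn q Q ⊤ := isSylowIn_of_card_eq le_top hQcard
  have hQmax : MaxInv A q Q :=
    ⟨⟨hQq, hAQ⟩, fun R hR hle => hQtop.eq_of_le le_top hR.1 hle⟩
  have hQ1 : Q ≠ ⊥ := fun hb => hX1 (eq_bot_iff.mpr (hb ▸ hXQ))
  have hMQ : M ≤ Subgroup.normalizer (Q : Set G) :=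
    le_normalizer_of_isSylowIn_of_le_nilpotent (E3 hG h) (sigmaCore_le M)
      (le_normalizer_sigmaCore M) hQσ (isSylowIn_of_card_eq hQM hQcard)
  have hNQ : Subgroup.normalizer (Q : Set G) = M := normalizer_eq_of_isCoatom' hG hM hQ1 hQM hMQ
  -- `X ≤ O_{p'}(H)` and the Sylow `q`-subgroup `Q_H` of `O_{p'}(H)`
  have hXcop : (Nat.card X).Coprime p := by
    obtain ⟨n, hn⟩ := hXq.exists_card_eq
    rw [hn]
    exact Nat.Coprime.pow_left n ((Nat.coprime_primes hq hp).mpr hqp)
  have hXH : X ≤ H := hXD.trans (hDH.trans (sigmaCore_le H))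
  have hXK : X ≤ ppCoreOf p H := T1 hG (h.ne_two hG) hMA hH.1 hAH hXH hXcop hAP0
  have hKtop : ppCoreOf p H ≠ ⊤ := ne_top_of_le_isCoatom hH (ppCoreOf_le p H)
  have hactK : CoprimeAct A (ppCoreOf p H) :=
    h.coprimeAct_of hG hKtop (hAH.trans (le_normalizer_ppCoreOf p H)) (coprime_card_ppCoreOf p H)
  obtain ⟨P2, hXQ2, hAQ2⟩ := hactK.exists_invariant_sylow_ge X hXK hXq hAP0
  set QH := (P2 : Subgroup (ppCoreOf p H)).map (ppCoreOf p H).subtype with hQH
  have hQHK : QH ≤ ppCoreOf p H := Subgroup.map_subtype_le _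
  have hQHq : IsPGroup q QH := P2.isPGroup'.map _
  have hpH : p ∣ Nat.card H := by
    have h1 : p ∣ Nat.card A := by rw [h.card]; exact dvd_pow_self p (by norm_num)
    exact h1.trans (Subgroup.card_dvd_of_le hAH)
  have hQHcard : Nat.card QH = q ^ (Nat.card G).factorization q := by
    rw [hQH, Subgroup.card_map_of_injective (Subgroup.subtype_injective _),
      P2.card_eq_multiplicity, factorization_ppCoreOf hG hH hqp hqH hpH (h.not_ideal hG)]
  -- (TT)
  have hne' : QH ⊓ Q ≠ ⊥ := by
    intro hb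
    apply hX1
    rw [eq_bot_iff, ← hb]
    exact le_inf hXQ2 hXQ
  obtain ⟨k, hk, hQHk⟩ := TT hG hqp hMA hA1 hQmax ⟨hQHq, hAQ2⟩ hne'
  have hkM : k ∈ M := h.KA_le hk
  have hQk : Q.map (MulAut.conj k).toMonoidHom = Q :=
    map_conj_eq_self_of_mem_normalizer' (hMQ hkM)
  rw [hQk] at hQHk
  have hQHQ : QH = Q := by
    apply Subgroup.eq_of_le_of_card_ge hQHk
    rw [hQcard, hQHcard]
  have hQH' : Q ≤ H := by rw [← hQHQ]; exact hQHK.trans (ppCoreOf_le p H)
  have hσq : SigmaProp q H := sigmaProp_of_mem_sigma hH hqH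
  have hNH : Subgroup.normalizer (Q : Set G) ≤ H := hσq.2 Q (isSylowIn_of_card_eq hQH' hQcard)
  rw [hNQ] at hNH
  exact eq_of_isCoatom_of_le hM hH hNH

end Cfsg.Agent.Lib.Helper29.BGExc
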