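import Mathlib
import Cfsg.Agent.S2904

set_option autoImplicit false

namespace Cfsg.Agent.Helper29.CycloEval

open Polynomial Cfsg.Agent.S2904

theorem eval_expand_dvd (p n : ℕ) (hp : p.Prime) (h : p ∣ n) (x : ℤ) :
    eval x (cyclotomic (n * p) ℤ) = eval (x ^ p) (cyclotomic n ℤ) := by
  rw [← cyclotomic_expand_eq_cyclotomic hp h ℤ, expand_eval]

theorem eval_expand_ndvd (p n : ℕ) (hp : p.Prime) (h : ¬ p ∣ n) (x : ℤ) :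
    eval x (cyclotomic (n * p) ℤ) * eval x (cyclotomic n ℤ) =
      eval (x ^ p) (cyclotomic n ℤ) := by
  rw [← eval_mul, ← cyclotomic_expand_eq_cyclotomic_mul hp h ℤ, expand_eval]

theorem Phi_expand_dvd (p n a : ℕ) (hp : p.Prime) (h : p ∣ n) :
    Phi (n * p) a = Phi n (a ^ p) := by
  unfold Phi
  rw [eval_expand_dvd p n hp h]
  push_cast
  rfl

theorem Phi_expand_ndvd (p n a : ℕ) (hp : p.Prime) (h : ¬ p ∣ n) :
    Phi (n * p) a * Phi n a = Phi n (a ^ p) := by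
  unfold Phi
  rw [eval_expand_ndvd p n hp h]
  push_cast
  rfl

theorem ev2 (a : ℕ) : Phi 2 a = (a : ℤ) + 1 := by
  unfold Phi; rw [cyclotomic_two]; simp

theorem ev3 (a : ℕ) : Phi 3 a = (a : ℤ) ^ 2 + a + 1 := by
  unfold Phi; rw [cyclotomic_three]; simp

theorem ev4 (a : ℕ) : Phi 4 a = (a : ℤ) ^ 2 + 1 := by
  have h := Phi_expand_dvd 2 2 a Nat.prime_two (dvd_refl 2)
  rw [ev2] at h
  rw [show (4 : ℕ) = 2 * 2 from rfl, h]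
  push_cast; ring

theorem ev8 (a : ℕ) : Phi 8 a = (a : ℤ) ^ 4 + 1 := by
  have h := Phi_expand_dvd 2 4 a Nat.prime_two (by norm_num)
  rw [ev4] at h
  rw [show (8 : ℕ) = 4 * 2 from rfl, h]
  push_cast; ring

theorem ev9 (a : ℕ) : Phi 9 a = (a : ℤ) ^ 6 + (a : ℤ) ^ 3 + 1 := by
  have h := Phi_expand_dvd 3 3 a Nat.prime_three (dvd_refl 3)
  rw [ev3] at h
  rw [show (9 : ℕ) = 3 * 3 from rfl, h]
  push_cast; ring

theorem ev6 (a : ℕ) : Phi 6 a = (a : ℤ) ^ 2 - a + 1 := by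
  have h := Phi_expand_ndvd 2 3 a Nat.prime_two (by norm_num)
  rw [ev3, ev3] at h
  push_cast at h
  have hpos : (0 : ℤ) < (a : ℤ) ^ 2 + a + 1 := by positivity
  have h2 : Phi 6 a * ((a : ℤ) ^ 2 + a + 1) =
      ((a : ℤ) ^ 2 - a + 1) * ((a : ℤ) ^ 2 + a + 1) := by
    rw [show (6 : ℕ) = 3 * 2 from rfl, h]; ring
  exact mul_right_cancel₀ hpos.ne' h2

theorem ev12 (a : ℕ) : Phi 12 a = (a : ℤ) ^ 4 - (a : ℤ) ^ 2 + 1 := by
  have h := Phi_expand_dvd 2 6 a Nat.prime_two (by norm_num)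
  rw [ev6] at h
  rw [show (12 : ℕ) = 6 * 2 from rfl, h]
  push_cast; ring

theorem ev18 (a : ℕ) : Phi 18 a = (a : ℤ) ^ 6 - (a : ℤ) ^ 3 + 1 := by
  have h := Phi_expand_dvd 3 6 a Nat.prime_three (by norm_num)
  rw [ev6] at h
  rw [show (18 : ℕ) = 6 * 3 from rfl, h]
  push_cast; ring

theorem ev5 (a : ℕ) : Phi 5 a = (a : ℤ) ^ 4 + (a : ℤ) ^ 3 + (a : ℤ) ^ 2 + a + 1 := by
  have : Fact (Nat.Prime 5) := ⟨by norm_num⟩
  unfold Phi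
  rw [cyclotomic_prime ℤ 5]
  simp [Finset.sum_range_succ]
  ring

theorem ev7 (a : ℕ) : Phi 7 a =
    (a : ℤ) ^ 6 + (a : ℤ) ^ 5 + (a : ℤ) ^ 4 + (a : ℤ) ^ 3 + (a : ℤ) ^ 2 + a + 1 := by
  have : Fact (Nat.Prime 7) := ⟨by norm_num⟩
  unfold Phi
  rw [cyclotomic_prime ℤ 7]
  simp [Finset.sum_range_succ]
  ring

theorem ev11 (a : ℕ) : Phi 11 a =
    (a : ℤ) ^ 10 + (a : ℤ) ^ 9 + (a : ℤ) ^ 8 + (a : ℤ) ^ 7 + (a : ℤ) ^ 6 + (a : ℤ) ^ 5 +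
      (a : ℤ) ^ 4 + (a : ℤ) ^ 3 + (a : ℤ) ^ 2 + a + 1 := by
  have : Fact (Nat.Prime 11) := ⟨by norm_num⟩
  unfold Phi
  rw [cyclotomic_prime ℤ 11]
  simp [Finset.sum_range_succ]
  ring

theorem ev10 (a : ℕ) : Phi 10 a =
    (a : ℤ) ^ 4 - (a : ℤ) ^ 3 + (a : ℤ) ^ 2 - a + 1 := by
  have h := Phi_expand_ndvd 2 5 a Nat.prime_two (by norm_num)
  rw [ev5, ev5] at h
  push_cast at h
  have hpos : (0 : ℤ) < (a : ℤ) ^ 4 + (a : ℤ) ^ 3 + (a : ℤ) ^ 2 + a + 1 := by positivity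
  have h2 : Phi 10 a * ((a : ℤ) ^ 4 + (a : ℤ) ^ 3 + (a : ℤ) ^ 2 + a + 1) =
      ((a : ℤ) ^ 4 - (a : ℤ) ^ 3 + (a : ℤ) ^ 2 - a + 1) *
        ((a : ℤ) ^ 4 + (a : ℤ) ^ 3 + (a : ℤ) ^ 2 + a + 1) := by
    rw [show (10 : ℕ) = 5 * 2 from rfl, h]; ring
  exact mul_right_cancel₀ hpos.ne' h2

theorem ev20 (a : ℕ) : Phi 20 a =
    (a : ℤ) ^ 8 - (a : ℤ) ^ 6 + (a : ℤ) ^ 4 - (a : ℤ) ^ 2 + 1 := by
  have h := Phi_expand_dvd 2 10 a Nat.prime_two (by norm_num)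
  rw [ev10] at h
  rw [show (20 : ℕ) = 10 * 2 from rfl, h]
  push_cast; ring

theorem ev14 (a : ℕ) : Phi 14 a =
    (a : ℤ) ^ 6 - (a : ℤ) ^ 5 + (a : ℤ) ^ 4 - (a : ℤ) ^ 3 + (a : ℤ) ^ 2 - a + 1 := by
  have h := Phi_expand_ndvd 2 7 a Nat.prime_two (by norm_num)
  rw [ev7, ev7] at h
  push_cast at h
  have hpos : (0 : ℤ) <
      (a : ℤ) ^ 6 + (a : ℤ) ^ 5 + (a : ℤ) ^ 4 + (a : ℤ) ^ 3 + (a : ℤ) ^ 2 + a + 1 := by
    positivity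
  have h2 : Phi 14 a *
      ((a : ℤ) ^ 6 + (a : ℤ) ^ 5 + (a : ℤ) ^ 4 + (a : ℤ) ^ 3 + (a : ℤ) ^ 2 + a + 1) =
      ((a : ℤ) ^ 6 - (a : ℤ) ^ 5 + (a : ℤ) ^ 4 - (a : ℤ) ^ 3 + (a : ℤ) ^ 2 - a + 1) *
        ((a : ℤ) ^ 6 + (a : ℤ) ^ 5 + (a : ℤ) ^ 4 + (a : ℤ) ^ 3 + (a : ℤ) ^ 2 + a + 1) := by
    rw [show (14 : ℕ) = 7 * 2 from rfl, h]; ring
  exact mul_right_cancel₀ hpos.ne' h2

theorem ev22 (a : ℕ) : Phi 22 a =
    (a : ℤ) ^ 10 - (a : ℤ) ^ 9 + (a : ℤ) ^ 8 - (a : ℤ) ^ 7 + (a : ℤ) ^ 6 - (a : ℤ) ^ 5 +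
      (a : ℤ) ^ 4 - (a : ℤ) ^ 3 + (a : ℤ) ^ 2 - a + 1 := by
  have h := Phi_expand_ndvd 2 11 a Nat.prime_two (by norm_num)
  rw [ev11, ev11] at h
  push_cast at h
  have hpos : (0 : ℤ) <
      (a : ℤ) ^ 10 + (a : ℤ) ^ 9 + (a : ℤ) ^ 8 + (a : ℤ) ^ 7 + (a : ℤ) ^ 6 + (a : ℤ) ^ 5 +
        (a : ℤ) ^ 4 + (a : ℤ) ^ 3 + (a : ℤ) ^ 2 + a + 1 := by
    positivity
  have h2 : Phi 22 a *
      ((a : ℤ) ^ 10 + (a : ℤ) ^ 9 + (a : ℤ) ^ 8 + (a : ℤ) ^ 7 + (a : ℤ) ^ 6 + (a : ℤ) ^ 5 +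
        (a : ℤ) ^ 4 + (a : ℤ) ^ 3 + (a : ℤ) ^ 2 + a + 1) =
      ((a : ℤ) ^ 10 - (a : ℤ) ^ 9 + (a : ℤ) ^ 8 - (a : ℤ) ^ 7 + (a : ℤ) ^ 6 - (a : ℤ) ^ 5 +
        (a : ℤ) ^ 4 - (a : ℤ) ^ 3 + (a : ℤ) ^ 2 - a + 1) *
      ((a : ℤ) ^ 10 + (a : ℤ) ^ 9 + (a : ℤ) ^ 8 + (a : ℤ) ^ 7 + (a : ℤ) ^ 6 + (a : ℤ) ^ 5 +
        (a : ℤ) ^ 4 + (a : ℤ) ^ 3 + (a : ℤ) ^ 2 + a + 1) := by
    rw [show (22 : ℕ) = 11 * 2 from rfl, h]; ring
  exact mul_right_cancel₀ hpos.ne' h2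

theorem real_eval (n a : ℕ) : eval (a : ℝ) (cyclotomic n ℝ) = ((Phi n a : ℤ) : ℝ) := by
  have h := cyclotomic.eval_apply (a : ℤ) n (Int.castRingHom ℝ)
  simpa [Phi] using h

theorem Phi_gt_pow (n q : ℕ) (hn : 2 ≤ n) (hq : 2 ≤ q) :
    ((q : ℤ) - 1) ^ n.totient < Phi n q := by
  have h := sub_one_pow_totient_lt_cyclotomic_eval (n := n) (q := (q : ℝ)) hn
    (by exact_mod_cast hq)
  rw [real_eval] at h
  exact_mod_cast h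

theorem pow_ineq_A (l : ℕ) (hl : 2 ≤ l) : (3 : ℝ) ^ l ≤ ((2 : ℝ) ^ l - 1) ^ 2 := by
  induction l, hl using Nat.le_induction with
  | base => norm_num
  | succ l hl ih =>
    have hx : (4 : ℝ) ≤ 2 ^ l := by
      calc (4 : ℝ) = 2 ^ 2 := by norm_num
        _ ≤ 2 ^ l := pow_le_pow_right₀ (by norm_num) hl
    rw [pow_succ 3, pow_succ 2]
    nlinarith

theorem pow_ineq_B (l : ℕ) (hl : 5 ≤ l) : (3 : ℝ) ^ (l + 1) ≤ ((2 : ℝ) ^ l - 1) ^ 2 := by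
  induction l, hl using Nat.le_induction with
  | base => norm_num
  | succ l hl ih =>
    have hx : (4 : ℝ) ≤ 2 ^ l := by
      calc (4 : ℝ) = 2 ^ 2 := by norm_num
        _ ≤ 2 ^ l := pow_le_pow_right₀ (by norm_num) (by omega)
    rw [pow_succ 3, pow_succ 2]
    nlinarith

theorem Phi_sq_of_sq_dvd (m l : ℕ) (hl : l.Prime) (hdvd : l ∣ m) :
    (3 : ℤ) ^ (m * l).totient ≤ (Phi (m * l) 2) ^ 2 := by
  have h1 : Phi (m * l) 2 = Phi m (2 ^ l) := Phi_expand_dvd l m 2 hl hdvd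
  have htot : (m * l).totient = l * m.totient := by
    rw [mul_comm]; exact Nat.totient_mul_of_prime_of_dvd hl hdvd
  have hq : (1 : ℝ) < ((2 ^ l : ℕ) : ℝ) := by
    have : 1 < 2 ^ l := Nat.one_lt_two_pow hl.ne_zero
    exact_mod_cast this
  have h2 := sub_one_pow_totient_le_cyclotomic_eval hq m
  rw [real_eval] at h2
  have h3 : (3 : ℝ) ^ (l * m.totient) ≤ (((Phi m (2 ^ l) : ℤ) : ℝ)) ^ 2 := by
    have hA := pow_ineq_A l hl.two_le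
    have hnn : (0 : ℝ) ≤ ((2 ^ l : ℕ) : ℝ) - 1 := by linarith
    calc (3 : ℝ) ^ (l * m.totient) = ((3 : ℝ) ^ l) ^ m.totient := by rw [pow_mul]
      _ ≤ ((((2 ^ l : ℕ) : ℝ) - 1) ^ 2) ^ m.totient := by
          apply pow_le_pow_left₀ (by positivity)
          push_cast; exact hA
      _ = ((((2 ^ l : ℕ) : ℝ) - 1) ^ m.totient) ^ 2 := by
          rw [← pow_mul, ← pow_mul, mul_comm]
      _ ≤ _ := pow_le_pow_left₀ (pow_nonneg hnn _) h2 2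
  rw [h1, htot]
  exact_mod_cast h3

theorem Phi_sq_of_ndvd (m l : ℕ) (hl : l.Prime) (h5 : 5 ≤ l) (hndvd : ¬ l ∣ m) :
    (3 : ℤ) ^ (m * l).totient ≤ (Phi (m * l) 2) ^ 2 := by
  have h1 : Phi (m * l) 2 * Phi m 2 = Phi m (2 ^ l) := Phi_expand_ndvd l m 2 hl hndvd
  have htot : (m * l).totient = (l - 1) * m.totient := by
    rw [mul_comm]; exact Nat.totient_mul_of_prime_of_not_dvd hl hndvd
  have hq : (1 : ℝ) < ((2 ^ l : ℕ) : ℝ) := by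
    have : 1 < 2 ^ l := Nat.one_lt_two_pow hl.ne_zero
    exact_mod_cast this
  have h2 := sub_one_pow_totient_le_cyclotomic_eval hq m
  rw [real_eval] at h2
  have h3 := cyclotomic_eval_le_add_one_pow_totient (q := ((2 : ℕ) : ℝ)) (by norm_num) m
  rw [real_eval] at h3
  obtain ⟨t, ht⟩ : ∃ t, t = m.totient := ⟨_, rfl⟩
  rw [← ht] at h2 h3 htot
  obtain ⟨E, hE⟩ : ∃ E : ℝ, E = ((Phi (m * l) 2 : ℤ) : ℝ) := ⟨_, rfl⟩
  obtain ⟨F, hF⟩ : ∃ F : ℝ, F = ((Phi m 2 : ℤ) : ℝ) := ⟨_, rfl⟩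
  obtain ⟨G, hG⟩ : ∃ G : ℝ, G = ((Phi m (2 ^ l) : ℤ) : ℝ) := ⟨_, rfl⟩
  have hEFG : E * F = G := by rw [hE, hF, hG]; exact_mod_cast h1
  have hEpos : 0 < E := by rw [hE]; exact_mod_cast Phi_pos (m * l) 2 (by norm_num)
  have hFpos : 0 < F := by rw [hF]; exact_mod_cast Phi_pos m 2 (by norm_num)
  rw [← hG] at h2
  rw [← hF] at h3
  have h3' : F ≤ (3 : ℝ) ^ t := by
    have : ((2 : ℕ) : ℝ) + 1 = 3 := by norm_num
    rw [this] at h3; exact h3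
  have hB := pow_ineq_B l h5
  obtain ⟨y, hy⟩ : ∃ y : ℝ, y = ((2 ^ l : ℕ) : ℝ) - 1 := ⟨_, rfl⟩
  have hy' : y = (2 : ℝ) ^ l - 1 := by rw [hy]; push_cast; ring
  rw [← hy] at h2
  rw [← hy'] at hB
  have hynn : 0 ≤ y := by rw [hy]; linarith
  have h4 : y ^ t ≤ E * (3 : ℝ) ^ t := by
    calc y ^ t ≤ G := h2
      _ = E * F := hEFG.symm
      _ ≤ E * (3 : ℝ) ^ t := mul_le_mul_of_nonneg_left h3' hEpos.le
  have h5' : (y ^ t) ^ 2 ≤ (E * (3 : ℝ) ^ t) ^ 2 := pow_le_pow_left₀ (pow_nonneg hynn _) h4 2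
  have h6 : ((3 : ℝ) ^ (l + 1)) ^ t ≤ (y ^ 2) ^ t := pow_le_pow_left₀ (by positivity) hB t
  have h7 : ((3 : ℝ) ^ (l + 1)) ^ t = (3 : ℝ) ^ ((l - 1) * t) * (9 : ℝ) ^ t := by
    have : l + 1 = (l - 1) + 2 := by omega
    rw [this, pow_add, mul_pow, ← pow_mul]
    norm_num
  have h8 : (y ^ t) ^ 2 = (y ^ 2) ^ t := by rw [← pow_mul, ← pow_mul, mul_comm]
  have h9 : (E * (3 : ℝ) ^ t) ^ 2 = E ^ 2 * (9 : ℝ) ^ t := by
    rw [mul_pow, ← pow_mul, mul_comm t 2, pow_mul]; norm_num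
  have h10 : (3 : ℝ) ^ ((l - 1) * t) * (9 : ℝ) ^ t ≤ E ^ 2 * (9 : ℝ) ^ t := by
    rw [← h7, ← h9]
    calc ((3 : ℝ) ^ (l + 1)) ^ t ≤ (y ^ 2) ^ t := h6
      _ = (y ^ t) ^ 2 := h8.symm
      _ ≤ _ := h5'
  have h11 : (3 : ℝ) ^ ((l - 1) * t) ≤ E ^ 2 :=
    le_of_mul_le_mul_right h10 (by positivity)
  rw [htot]
  rw [hE] at h11
  exact_mod_cast h11

theorem Phi_sq_ge_two (n : ℕ) (hn : 2 ≤ n) : (3 : ℤ) ^ n.totient ≤ (Phi n 2) ^ 2 := by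
  by_cases hsq : ∃ l, l.Prime ∧ l * l ∣ n
  · obtain ⟨l, hl, c, hc⟩ := hsq
    have : n = (l * c) * l := by rw [hc]; ring
    rw [this]
    exact Phi_sq_of_sq_dvd (l * c) l hl (dvd_mul_right l c)
  · push Not at hsq
    have hsf : Squarefree n := Nat.squarefree_iff_prime_squarefree.2 (fun x hx => hsq x hx)
    by_cases h5 : ∃ l ∈ n.primeFactors, 5 ≤ l
    · obtain ⟨l, hlmem, hl5⟩ := h5
      have hl := Nat.prime_of_mem_primeFactors hlmem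
      obtain ⟨m, hm⟩ := Nat.dvd_of_mem_primeFactors hlmem
      have hndvd : ¬ l ∣ m := fun ⟨c, hc⟩ => hsq l hl ⟨c, by rw [hm, hc]; ring⟩
      have : n = m * l := by rw [hm]; ring
      rw [this]
      exact Phi_sq_of_ndvd m l hl hl5 hndvd
    · push Not at h5
      have hsub : n.primeFactors ⊆ ({2, 3} : Finset ℕ) := by
        intro p hp
        have hpp := Nat.prime_of_mem_primeFactors hp
        have hlt := h5 p hp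
        have h2 := hpp.two_le
        interval_cases p
        · simp
        · simp
        · exact absurd hpp (by norm_num)
      have hprod := Nat.prod_primeFactors_of_squarefree hsf
      have hdvd6 : n ∣ 6 := by
        rw [← hprod]
        have h6 : (∏ p ∈ ({2, 3} : Finset ℕ), p) = 6 := by decide
        rw [← h6]
        exact Finset.prod_dvd_prod_of_subset _ _ _ hsub
      have hle : n ≤ 6 := Nat.le_of_dvd (by norm_num) hdvd6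
      have t2 : Nat.totient 2 = 1 := by decide
      have t3 : Nat.totient 3 = 2 := by decide
      have t6 : Nat.totient 6 = 2 := by decide
      interval_cases n
      · rw [ev2, t2]; norm_num
      · rw [ev3, t3]; norm_num
      · exact absurd hdvd6 (by norm_num)
      · exact absurd hdvd6 (by norm_num)
      · rw [ev6, t6]; norm_num

/-- `3^φ(n) ≤ Φ_n(q)²` for `n, q ≥ 2`. -/
theorem Phi_sq_ge (n q : ℕ) (hn : 2 ≤ n) (hq : 2 ≤ q) :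
    (3 : ℤ) ^ n.totient ≤ (Phi n q) ^ 2 := by
  rcases Nat.lt_or_ge q 3 with h | h
  · have : q = 2 := by omega
    subst this; exact Phi_sq_ge_two n hn
  · have h1 := Phi_gt_pow n q hn hq
    have hq3 : (3 : ℤ) ≤ q := by exact_mod_cast h
    have h2 : (2 : ℤ) ^ n.totient ≤ ((q : ℤ) - 1) ^ n.totient :=
      pow_le_pow_left₀ (by norm_num) (by linarith) _
    have h3 : (2 : ℤ) ^ n.totient ≤ Phi n q := by linarith
    calc (3 : ℤ) ^ n.totient ≤ (4 : ℤ) ^ n.totient :=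
          pow_le_pow_left₀ (by norm_num) (by norm_num) _
      _ = ((2 : ℤ) ^ n.totient) ^ 2 := by
          rw [← pow_mul, mul_comm, pow_mul]; norm_num
      _ ≤ (Phi n q) ^ 2 := pow_le_pow_left₀ (by positivity) h3 2

end Cfsg.Agent.Helper29.CycloEval
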