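import Mathlib

set_option autoImplicit false

namespace Cfsg.Agent.Helper29.CycloTot

open Nat

theorem odd_prime_pow_le (p k : ℕ) (hp : p.Prime) (hodd : p ≠ 2) (hk : 0 < k) :
    p ^ k ≤ (p ^ k).totient ^ 2 := by
  obtain ⟨j, rfl⟩ : ∃ j, k = j + 1 := ⟨k - 1, by omega⟩
  rw [Nat.totient_prime_pow_succ hp]
  have hp3 : 3 ≤ p := by have := hp.two_le; omega
  have h1 : p ≤ (p - 1) ^ 2 := by
    obtain ⟨m, rfl⟩ : ∃ m, p = m + 3 := ⟨p - 3, by omega⟩
    have : m + 3 - 1 = m + 2 := by omega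
    rw [this]
    nlinarith
  have h2 : p ^ j ≤ (p ^ j) ^ 2 := by
    have := Nat.one_le_pow j p hp.pos
    nlinarith
  calc p ^ (j + 1) = p ^ j * p := pow_succ _ _
    _ ≤ (p ^ j) ^ 2 * (p - 1) ^ 2 := Nat.mul_le_mul h2 h1
    _ = (p ^ j * (p - 1)) ^ 2 := by ring

theorem two_pow_le (k : ℕ) (hk : 0 < k) : 2 ^ k ≤ 2 * (2 ^ k).totient ^ 2 := by
  obtain ⟨j, rfl⟩ : ∃ j, k = j + 1 := ⟨k - 1, by omega⟩
  rw [Nat.totient_prime_pow_succ Nat.prime_two]
  have h2 : 2 ^ j ≤ (2 ^ j) ^ 2 := by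
    have := Nat.one_le_pow j 2 (by norm_num)
    nlinarith
  calc 2 ^ (j + 1) = 2 * 2 ^ j := by ring
    _ ≤ 2 * (2 ^ j) ^ 2 := Nat.mul_le_mul le_rfl h2
    _ = 2 * (2 ^ j * (2 - 1)) ^ 2 := by norm_num

theorem tot_aux (n : ℕ) :
    (Odd n → n ≤ n.totient ^ 2) ∧ (0 < n → n ≤ 2 * n.totient ^ 2) := by
  induction n using Nat.recOnPosPrimePosCoprime with
  | prime_pow p k hp hk =>
    by_cases h2 : p = 2
    · subst h2
      refine ⟨fun hodd => ?_, fun _ => two_pow_le k hk⟩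
      exfalso
      have : Even (2 ^ k) := (Nat.even_pow.2 ⟨even_two, hk.ne'⟩)
      exact (Nat.not_odd_iff_even.2 this) hodd
    · have := odd_prime_pow_le p k hp h2 hk
      exact ⟨fun _ => this, fun _ => by omega⟩
  | zero => simp
  | one => simp
  | coprime a b ha hb hab iha ihb =>
    rw [Nat.totient_mul hab]
    have e : (a.totient * b.totient) ^ 2 = a.totient ^ 2 * b.totient ^ 2 := by ring
    refine ⟨fun hodd => ?_, fun _ => ?_⟩
    · rw [Nat.odd_mul] at hodd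
      rw [e]
      exact Nat.mul_le_mul (iha.1 hodd.1) (ihb.1 hodd.2)
    · rw [e]
      rcases Nat.even_or_odd a with hae | hao
      · have hbo : Odd b := by
          rcases Nat.even_or_odd b with hbe | hbo
          · exfalso
            have h2 : 2 ∣ Nat.gcd a b := Nat.dvd_gcd hae.two_dvd hbe.two_dvd
            rw [hab] at h2
            omega
          · exact hbo
        calc a * b ≤ (2 * a.totient ^ 2) * b.totient ^ 2 :=
              Nat.mul_le_mul (iha.2 (by omega)) (ihb.1 hbo)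
          _ = 2 * (a.totient ^ 2 * b.totient ^ 2) := by ring
      · calc a * b ≤ a.totient ^ 2 * (2 * b.totient ^ 2) :=
              Nat.mul_le_mul (iha.1 hao) (ihb.2 (by omega))
          _ = 2 * (a.totient ^ 2 * b.totient ^ 2) := by ring

/-- `n ≤ 2 φ(n)²`. -/
theorem le_two_mul_totient_sq (n : ℕ) (hn : 0 < n) : n ≤ 2 * n.totient ^ 2 :=
  (tot_aux n).2 hn

theorem pow_three_gt (t : ℕ) (ht : 12 ≤ t) : (4 * t ^ 2 + 1) ^ 2 < 3 ^ t := by
  induction t, ht using Nat.le_induction with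
  | base => norm_num
  | succ t ht ih =>
    have h1 : 2 * (4 * (t + 1) ^ 2 + 1) ≤ 3 * (4 * t ^ 2 + 1) := by nlinarith
    have h2 : (2 * (4 * (t + 1) ^ 2 + 1)) ^ 2 ≤ (3 * (4 * t ^ 2 + 1)) ^ 2 :=
      Nat.pow_le_pow_left h1 2
    have h3 : 3 ^ (t + 1) = 3 * 3 ^ t := by ring
    rw [h3]
    nlinarith

theorem tot_large (n : ℕ) (hn : 243 ≤ n) : (2 * n + 1) ^ 2 < 3 ^ n.totient := by
  have h := le_two_mul_totient_sq n (by omega)
  obtain ⟨t, ht⟩ : ∃ t, t = n.totient := ⟨_, rfl⟩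
  rw [← ht] at h ⊢
  have ht12 : 12 ≤ t := by
    by_contra hlt
    push Not at hlt
    have : t ≤ 11 := by omega
    have : t ^ 2 ≤ 11 ^ 2 := Nat.pow_le_pow_left this 2
    omega
  have h1 : 2 * n + 1 ≤ 4 * t ^ 2 + 1 := by omega
  calc (2 * n + 1) ^ 2 ≤ (4 * t ^ 2 + 1) ^ 2 := Nat.pow_le_pow_left h1 2
    _ < 3 ^ t := pow_three_gt t ht12

set_option maxRecDepth 100000 in
theorem tot_small : ∀ n < 243, 3 ≤ n → n ∈ [3, 4, 5, 6, 8, 10, 12, 14, 18] ∨
    (2 * n + 1) ^ 2 < 3 ^ (Nat.totient n) := by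
  decide

/-- the totient inequality for regime II -/
theorem tot_main (n : ℕ) (hn : 3 ≤ n) (hR : n ∉ [3, 4, 5, 6, 8, 10, 12, 14, 18]) :
    (2 * n + 1) ^ 2 < 3 ^ n.totient := by
  rcases Nat.lt_or_ge n 243 with h | h
  · rcases tot_small n h hn with h1 | h1
    · exact absurd h1 hR
    · exact h1
  · exact tot_large n h

theorem poly_gt (u : ℕ) (hu : 18 ≤ u) : ((u + 1) * (2 * (u * (u + 1)) + 1)) ^ 2 < 3 ^ u := by
  induction u, hu using Nat.le_induction with
  | base => norm_num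
  | succ u hu ih =>
    have h1 : 4 * ((u + 1 + 1) * (2 * ((u + 1) * (u + 1 + 1)) + 1)) ≤
        5 * ((u + 1) * (2 * (u * (u + 1)) + 1)) := by
      have ha : 18 * (u * u) ≤ u * (u * u) := Nat.mul_le_mul_right _ hu
      have hb : 18 * u ≤ u * u := Nat.mul_le_mul_right _ hu
      nlinarith
    have h2 := Nat.pow_le_pow_left h1 2
    have h3 : 3 ^ (u + 1) = 3 * 3 ^ u := by ring
    rw [h3]
    nlinarith

set_option synthInstance.maxSize 2000 in
set_option synthInstance.maxHeartbeats 200000 in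
set_option maxRecDepth 100000 in
theorem tot_small_I : ∀ r < 19, ∀ e < r, ∀ s < 5, (r ∈ [2, 3, 5, 7, 11, 13, 17] ∧ e ∣ r - 1 ∧
    0 < e ∧ r ^ s * (r - 1) ≤ 17 ∧ 3 ≤ e * r ^ (s + 1)) →
    e * r ^ (s + 1) ∈ [3, 4, 5, 6, 7, 8, 9, 10, 11, 14, 18, 20, 22] ∨
    (r * (2 * (e * r ^ (s + 1)) + 1)) ^ 2 < 3 ^ (Nat.totient (e * r ^ (s + 1))) := by
  decide

/-- the totient inequality for regime I -/
theorem tot_main_I (r e s n : ℕ) (hr : r.Prime) (he : 0 < e) (her : e < r) (hdvd : e ∣ r - 1)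
    (hn : n = e * r ^ (s + 1)) (h3 : 3 ≤ n)
    (hR : n ∉ [3, 4, 5, 6, 7, 8, 9, 10, 11, 14, 18, 20, 22]) :
    (r * (2 * n + 1)) ^ 2 < 3 ^ n.totient := by
  have hr2 : 2 ≤ r := hr.two_le
  obtain ⟨u, hu⟩ : ∃ u, u = r ^ s * (r - 1) := ⟨_, rfl⟩
  have hcop : Nat.Coprime e (r ^ (s + 1)) :=
    Nat.Coprime.pow_right _ (Nat.coprime_of_lt_prime he.ne' her hr).symm
  have htot : n.totient = e.totient * u := by
    rw [hn, Nat.totient_mul hcop, Nat.totient_prime_pow_succ hr, hu]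
  have hepos : 0 < e.totient := Nat.totient_pos.2 he
  have hule : u ≤ n.totient := by
    rw [htot]; exact Nat.le_mul_of_pos_left _ hepos
  have hrs : 1 ≤ r ^ s := Nat.one_le_pow _ _ (by omega)
  have hru : r ≤ u + 1 := by
    have : 1 * (r - 1) ≤ r ^ s * (r - 1) := Nat.mul_le_mul_right _ hrs
    rw [← hu] at this
    omega
  have hnu : n ≤ u * (u + 1) := by
    have h1 : n = e * (r ^ s * r) := by rw [hn, pow_succ]
    have h2 : e ≤ r - 1 := by omega
    calc n = e * (r ^ s * r) := h1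
      _ ≤ (r - 1) * (r ^ s * r) := Nat.mul_le_mul_right _ h2
      _ = (r ^ s * (r - 1)) * r := by ring
      _ = u * r := by rw [hu]
      _ ≤ u * (u + 1) := Nat.mul_le_mul_left _ hru
  rcases Nat.lt_or_ge u 18 with hlt | hge
  · -- small case: decide
    have hr19 : r < 19 := by omega
    have hs5 : s < 5 := by
      by_contra hs
      push Not at hs
      have h1 : 2 ^ 5 ≤ r ^ s :=
        calc 2 ^ 5 ≤ 2 ^ s := Nat.pow_le_pow_right (by norm_num) hs
          _ ≤ r ^ s := Nat.pow_le_pow_left hr2 s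
      have h2 : r ^ s * 1 ≤ r ^ s * (r - 1) := Nat.mul_le_mul_left _ (by omega)
      rw [← hu] at h2
      omega
    have hrmem : r ∈ [2, 3, 5, 7, 11, 13, 17] := by
      clear hru hrs hcop hu hn hdvd her
      interval_cases r <;> first | (exfalso; revert hr; norm_num; done) | simp
    have := tot_small_I r hr19 e her s hs5
      ⟨hrmem, hdvd, he, by rw [← hu]; omega, by rw [← hn]; exact h3⟩
    rw [← hn] at this
    rcases this with h1 | h1
    · exact absurd h1 hR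
    · exact h1
  · have h1 : r * (2 * n + 1) ≤ (u + 1) * (2 * (u * (u + 1)) + 1) :=
      Nat.mul_le_mul hru (by omega)
    calc (r * (2 * n + 1)) ^ 2 ≤ ((u + 1) * (2 * (u * (u + 1)) + 1)) ^ 2 :=
          Nat.pow_le_pow_left h1 2
      _ < 3 ^ u := poly_gt u hge
      _ ≤ 3 ^ n.totient := Nat.pow_le_pow_right (by norm_num) hule

end Cfsg.Agent.Helper29.CycloTot
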