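import Mathlib
import Cfsg.Agent.S2904
import Cfsg.Agent.Lib.Helper29.CycloTot
import Cfsg.Agent.Lib.Helper29.CycloEval

set_option autoImplicit false

namespace Cfsg.Agent.Helper29.CycloCST

open Polynomial Cfsg.Agent.S2904 Cfsg.Agent.Helper29.CycloTot Cfsg.Agent.Helper29.CycloEval

theorem q_le_of_pow (q t c : ℕ) (B : ℤ) (h : ((q : ℤ) - 1) ^ t < B) (hc : B ≤ (c : ℤ) ^ t) :
    q ≤ c := by
  by_contra hlt
  push Not at hlt
  have h1 : (c : ℤ) ≤ (q : ℤ) - 1 := by
    have : (c : ℤ) + 1 ≤ (q : ℤ) := by exact_mod_cast hlt
    linarith
  have h2 : (c : ℤ) ^ t ≤ ((q : ℤ) - 1) ^ t := pow_le_pow_left₀ (by positivity) h1 t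
  linarith

theorem no_common (r n : ℕ) (N : ℤ) (hr : r.Prime) (hrn : r ∣ n) (hrN : (r : ℤ) ∣ N)
    (hg : Int.gcd (n : ℤ) N = 1) : False := by
  have h1 : (r : ℤ) ∣ (n : ℤ) := by exact_mod_cast hrn
  have h2 := Int.dvd_coe_gcd h1 hrN
  rw [hg] at h2
  have h3 : r ∣ 1 := by exact_mod_cast h2
  exact hr.one_lt.ne' (Nat.dvd_one.1 h3)

theorem M_II (q n : ℕ) (hq : 2 ≤ q) (hn : 3 ≤ n) (h : Phi n q ≤ 2 * (n : ℤ) + 1) :
    (q, n, Phi n q) ∈ ([(2, 3, 7), (2, 4, 5), (2, 6, 3), (3, 6, 7), (4, 6, 13), (2, 8, 17),
      (2, 10, 11), (2, 12, 13)] : List (ℕ × ℕ × ℤ)) := by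
  have hpos := Phi_pos n q (by omega)
  have hgt := Phi_gt_pow n q (by omega) hq
  by_cases hR : n ∈ [3, 4, 5, 6, 8, 10, 12, 14, 18]
  · simp only [List.mem_cons, List.not_mem_nil, or_false] at hR
    rcases hR with rfl | rfl | rfl | rfl | rfl | rfl | rfl | rfl | rfl
    · have t : Nat.totient 3 = 2 := by decide
      rw [t] at hgt
      have h' : Phi 3 q ≤ 7 := by
        refine le_trans h ?_
        norm_num
      have hqc : q ≤ 3 := q_le_of_pow q 2 3 _ (lt_of_lt_of_le hgt h') (by norm_num)
      clear hgt h
      interval_cases q <;>
        first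
        | (rw [ev3] at h'; norm_num at h'; done)
        | (rw [ev3]; norm_num; done)
    · have t : Nat.totient 4 = 2 := by decide
      rw [t] at hgt
      have h' : Phi 4 q ≤ 9 := by
        refine le_trans h ?_
        norm_num
      have hqc : q ≤ 3 := q_le_of_pow q 2 3 _ (lt_of_lt_of_le hgt h') (by norm_num)
      clear hgt h
      interval_cases q <;>
        first
        | (rw [ev4] at h'; norm_num at h'; done)
        | (rw [ev4]; norm_num; done)
    · have t : Nat.totient 5 = 4 := by decide
      rw [t] at hgt
      have h' : Phi 5 q ≤ 11 := by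
        refine le_trans h ?_
        norm_num
      have hqc : q ≤ 2 := q_le_of_pow q 4 2 _ (lt_of_lt_of_le hgt h') (by norm_num)
      clear hgt h
      interval_cases q <;>
        first
        | (rw [ev5] at h'; norm_num at h'; done)
        | (rw [ev5]; norm_num; done)
    · have t : Nat.totient 6 = 2 := by decide
      rw [t] at hgt
      have h' : Phi 6 q ≤ 13 := by
        refine le_trans h ?_
        norm_num
      have hqc : q ≤ 4 := q_le_of_pow q 2 4 _ (lt_of_lt_of_le hgt h') (by norm_num)
      clear hgt h
      interval_cases q <;>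
        first
        | (rw [ev6] at h'; norm_num at h'; done)
        | (rw [ev6]; norm_num; done)
    · have t : Nat.totient 8 = 4 := by decide
      rw [t] at hgt
      have h' : Phi 8 q ≤ 17 := by
        refine le_trans h ?_
        norm_num
      have hqc : q ≤ 3 := q_le_of_pow q 4 3 _ (lt_of_lt_of_le hgt h') (by norm_num)
      clear hgt h
      interval_cases q <;>
        first
        | (rw [ev8] at h'; norm_num at h'; done)
        | (rw [ev8]; norm_num; done)
    · have t : Nat.totient 10 = 4 := by decide
      rw [t] at hgt
      have h' : Phi 10 q ≤ 21 := by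
        refine le_trans h ?_
        norm_num
      have hqc : q ≤ 3 := q_le_of_pow q 4 3 _ (lt_of_lt_of_le hgt h') (by norm_num)
      clear hgt h
      interval_cases q <;>
        first
        | (rw [ev10] at h'; norm_num at h'; done)
        | (rw [ev10]; norm_num; done)
    · have t : Nat.totient 12 = 4 := by decide
      rw [t] at hgt
      have h' : Phi 12 q ≤ 25 := by
        refine le_trans h ?_
        norm_num
      have hqc : q ≤ 3 := q_le_of_pow q 4 3 _ (lt_of_lt_of_le hgt h') (by norm_num)
      clear hgt h
      interval_cases q <;>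
        first
        | (rw [ev12] at h'; norm_num at h'; done)
        | (rw [ev12]; norm_num; done)
    · have t : Nat.totient 14 = 6 := by decide
      rw [t] at hgt
      have h' : Phi 14 q ≤ 29 := by
        refine le_trans h ?_
        norm_num
      have hqc : q ≤ 2 := q_le_of_pow q 6 2 _ (lt_of_lt_of_le hgt h') (by norm_num)
      clear hgt h
      interval_cases q <;>
        first
        | (rw [ev14] at h'; norm_num at h'; done)
        | (rw [ev14]; norm_num; done)
    · have t : Nat.totient 18 = 6 := by decide
      rw [t] at hgt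
      have h' : Phi 18 q ≤ 37 := by
        refine le_trans h ?_
        norm_num
      have hqc : q ≤ 2 := q_le_of_pow q 6 2 _ (lt_of_lt_of_le hgt h') (by norm_num)
      clear hgt h
      interval_cases q <;>
        first
        | (rw [ev18] at h'; norm_num at h'; done)
        | (rw [ev18]; norm_num; done)
  · exfalso
    have h1 := tot_main n hn hR
    have h2 := Phi_sq_ge n q (by omega) hq
    have h3 : (Phi n q) ^ 2 ≤ (2 * (n : ℤ) + 1) ^ 2 := pow_le_pow_left₀ hpos.le h 2
    have h4 : ((2 * n + 1 : ℕ) : ℤ) ^ 2 < ((3 : ℕ) : ℤ) ^ n.totient := by exact_mod_cast h1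
    push_cast at h4
    linarith

theorem M_I (q n r e s : ℕ) (hq : 2 ≤ q) (hn : 3 ≤ n) (hr : r.Prime) (he : 0 < e)
    (her : e < r) (hdvd : e ∣ r - 1) (hnes : n = e * r ^ (s + 1)) (hrN : (r : ℤ) ∣ Phi n q)
    (h : Phi n q ≤ (r : ℤ) * (2 * (n : ℤ) + 1)) :
    (q, n, Phi n q) ∈ ([(4, 3, 21), (3, 4, 10), (2, 6, 3), (5, 6, 21), (2, 18, 57),
      (2, 20, 205)] : List (ℕ × ℕ × ℤ)) := by
  have hpos := Phi_pos n q (by omega)
  have hgt := Phi_gt_pow n q (by omega) hq
  have hrn : r ∣ n := by rw [hnes, pow_succ]; exact ⟨e * r ^ s, by ring⟩
  by_cases hR : n ∈ [3, 4, 5, 6, 7, 8, 9, 10, 11, 14, 18, 20, 22]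
  · clear hnes hdvd her he
    simp only [List.mem_cons, List.not_mem_nil, or_false] at hR
    rcases hR with rfl | rfl | rfl | rfl | rfl | rfl | rfl | rfl | rfl | rfl | rfl | rfl | rfl
    · have t : Nat.totient 3 = 2 := by decide
      rw [t] at hgt
      have hrle : r ≤ 3 := by
        have hle := Nat.le_of_dvd (by norm_num) hrn
        clear hrN h hgt
        interval_cases r <;>
          first
          | omega
          | (exfalso; revert hr; norm_num; done)
          | (exfalso; revert hrn; norm_num; done)
      have h' : Phi 3 q ≤ 21 := by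
        refine le_trans h ?_
        have : (r : ℤ) ≤ 3 := by exact_mod_cast hrle
        push_cast
        linarith
      have hqc : q ≤ 5 := q_le_of_pow q 2 5 _ (lt_of_lt_of_le hgt h') (by norm_num)
      clear hgt h
      interval_cases q <;>
        first
        | (rw [ev3] at h'; norm_num at h'; done)
        | (rw [ev3]; norm_num; done)
        | (exfalso; exact no_common r 3 _ hr hrn hrN (by rw [ev3]; norm_num))
    · have t : Nat.totient 4 = 2 := by decide
      rw [t] at hgt
      have hrle : r ≤ 2 := by
        have hle := Nat.le_of_dvd (by norm_num) hrn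
        clear hrN h hgt
        interval_cases r <;>
          first
          | omega
          | (exfalso; revert hr; norm_num; done)
          | (exfalso; revert hrn; norm_num; done)
      have h' : Phi 4 q ≤ 18 := by
        refine le_trans h ?_
        have : (r : ℤ) ≤ 2 := by exact_mod_cast hrle
        push_cast
        linarith
      have hqc : q ≤ 5 := q_le_of_pow q 2 5 _ (lt_of_lt_of_le hgt h') (by norm_num)
      clear hgt h
      interval_cases q <;>
        first
        | (rw [ev4] at h'; norm_num at h'; done)
        | (rw [ev4]; norm_num; done)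
        | (exfalso; exact no_common r 4 _ hr hrn hrN (by rw [ev4]; norm_num))
    · have t : Nat.totient 5 = 4 := by decide
      rw [t] at hgt
      have hrle : r ≤ 5 := by
        have hle := Nat.le_of_dvd (by norm_num) hrn
        clear hrN h hgt
        interval_cases r <;>
          first
          | omega
          | (exfalso; revert hr; norm_num; done)
          | (exfalso; revert hrn; norm_num; done)
      have h' : Phi 5 q ≤ 55 := by
        refine le_trans h ?_
        have : (r : ℤ) ≤ 5 := by exact_mod_cast hrle
        push_cast
        linarith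
      have hqc : q ≤ 3 := q_le_of_pow q 4 3 _ (lt_of_lt_of_le hgt h') (by norm_num)
      clear hgt h
      interval_cases q <;>
        first
        | (rw [ev5] at h'; norm_num at h'; done)
        | (rw [ev5]; norm_num; done)
        | (exfalso; exact no_common r 5 _ hr hrn hrN (by rw [ev5]; norm_num))
    · have t : Nat.totient 6 = 2 := by decide
      rw [t] at hgt
      have hrle : r ≤ 3 := by
        have hle := Nat.le_of_dvd (by norm_num) hrn
        clear hrN h hgt
        interval_cases r <;>
          first
          | omega
          | (exfalso; revert hr; norm_num; done)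
          | (exfalso; revert hrn; norm_num; done)
      have h' : Phi 6 q ≤ 39 := by
        refine le_trans h ?_
        have : (r : ℤ) ≤ 3 := by exact_mod_cast hrle
        push_cast
        linarith
      have hqc : q ≤ 7 := q_le_of_pow q 2 7 _ (lt_of_lt_of_le hgt h') (by norm_num)
      clear hgt h
      interval_cases q <;>
        first
        | (rw [ev6] at h'; norm_num at h'; done)
        | (rw [ev6]; norm_num; done)
        | (exfalso; exact no_common r 6 _ hr hrn hrN (by rw [ev6]; norm_num))
    · have t : Nat.totient 7 = 6 := by decide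
      rw [t] at hgt
      have hrle : r ≤ 7 := by
        have hle := Nat.le_of_dvd (by norm_num) hrn
        clear hrN h hgt
        interval_cases r <;>
          first
          | omega
          | (exfalso; revert hr; norm_num; done)
          | (exfalso; revert hrn; norm_num; done)
      have h' : Phi 7 q ≤ 105 := by
        refine le_trans h ?_
        have : (r : ℤ) ≤ 7 := by exact_mod_cast hrle
        push_cast
        linarith
      have hqc : q ≤ 3 := q_le_of_pow q 6 3 _ (lt_of_lt_of_le hgt h') (by norm_num)
      clear hgt h
      interval_cases q <;>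
        first
        | (rw [ev7] at h'; norm_num at h'; done)
        | (rw [ev7]; norm_num; done)
        | (exfalso; exact no_common r 7 _ hr hrn hrN (by rw [ev7]; norm_num))
    · have t : Nat.totient 8 = 4 := by decide
      rw [t] at hgt
      have hrle : r ≤ 2 := by
        have hle := Nat.le_of_dvd (by norm_num) hrn
        clear hrN h hgt
        interval_cases r <;>
          first
          | omega
          | (exfalso; revert hr; norm_num; done)
          | (exfalso; revert hrn; norm_num; done)
      have h' : Phi 8 q ≤ 34 := by
        refine le_trans h ?_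
        have : (r : ℤ) ≤ 2 := by exact_mod_cast hrle
        push_cast
        linarith
      have hqc : q ≤ 3 := q_le_of_pow q 4 3 _ (lt_of_lt_of_le hgt h') (by norm_num)
      clear hgt h
      interval_cases q <;>
        first
        | (rw [ev8] at h'; norm_num at h'; done)
        | (rw [ev8]; norm_num; done)
        | (exfalso; exact no_common r 8 _ hr hrn hrN (by rw [ev8]; norm_num))
    · have t : Nat.totient 9 = 6 := by decide
      rw [t] at hgt
      have hrle : r ≤ 3 := by
        have hle := Nat.le_of_dvd (by norm_num) hrn
        clear hrN h hgt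
        interval_cases r <;>
          first
          | omega
          | (exfalso; revert hr; norm_num; done)
          | (exfalso; revert hrn; norm_num; done)
      have h' : Phi 9 q ≤ 57 := by
        refine le_trans h ?_
        have : (r : ℤ) ≤ 3 := by exact_mod_cast hrle
        push_cast
        linarith
      have hqc : q ≤ 2 := q_le_of_pow q 6 2 _ (lt_of_lt_of_le hgt h') (by norm_num)
      clear hgt h
      interval_cases q <;>
        first
        | (rw [ev9] at h'; norm_num at h'; done)
        | (rw [ev9]; norm_num; done)
        | (exfalso; exact no_common r 9 _ hr hrn hrN (by rw [ev9]; norm_num))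
    · have t : Nat.totient 10 = 4 := by decide
      rw [t] at hgt
      have hrle : r ≤ 5 := by
        have hle := Nat.le_of_dvd (by norm_num) hrn
        clear hrN h hgt
        interval_cases r <;>
          first
          | omega
          | (exfalso; revert hr; norm_num; done)
          | (exfalso; revert hrn; norm_num; done)
      have h' : Phi 10 q ≤ 105 := by
        refine le_trans h ?_
        have : (r : ℤ) ≤ 5 := by exact_mod_cast hrle
        push_cast
        linarith
      have hqc : q ≤ 4 := q_le_of_pow q 4 4 _ (lt_of_lt_of_le hgt h') (by norm_num)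
      clear hgt h
      interval_cases q <;>
        first
        | (rw [ev10] at h'; norm_num at h'; done)
        | (rw [ev10]; norm_num; done)
        | (exfalso; exact no_common r 10 _ hr hrn hrN (by rw [ev10]; norm_num))
    · have t : Nat.totient 11 = 10 := by decide
      rw [t] at hgt
      have hrle : r ≤ 11 := by
        have hle := Nat.le_of_dvd (by norm_num) hrn
        clear hrN h hgt
        interval_cases r <;>
          first
          | omega
          | (exfalso; revert hr; norm_num; done)
          | (exfalso; revert hrn; norm_num; done)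
      have h' : Phi 11 q ≤ 253 := by
        refine le_trans h ?_
        have : (r : ℤ) ≤ 11 := by exact_mod_cast hrle
        push_cast
        linarith
      have hqc : q ≤ 2 := q_le_of_pow q 10 2 _ (lt_of_lt_of_le hgt h') (by norm_num)
      clear hgt h
      interval_cases q <;>
        first
        | (rw [ev11] at h'; norm_num at h'; done)
        | (rw [ev11]; norm_num; done)
        | (exfalso; exact no_common r 11 _ hr hrn hrN (by rw [ev11]; norm_num))
    · have t : Nat.totient 14 = 6 := by decide
      rw [t] at hgt
      have hrle : r ≤ 7 := by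
        have hle := Nat.le_of_dvd (by norm_num) hrn
        clear hrN h hgt
        interval_cases r <;>
          first
          | omega
          | (exfalso; revert hr; norm_num; done)
          | (exfalso; revert hrn; norm_num; done)
      have h' : Phi 14 q ≤ 203 := by
        refine le_trans h ?_
        have : (r : ℤ) ≤ 7 := by exact_mod_cast hrle
        push_cast
        linarith
      have hqc : q ≤ 3 := q_le_of_pow q 6 3 _ (lt_of_lt_of_le hgt h') (by norm_num)
      clear hgt h
      interval_cases q <;>
        first
        | (rw [ev14] at h'; norm_num at h'; done)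
        | (rw [ev14]; norm_num; done)
        | (exfalso; exact no_common r 14 _ hr hrn hrN (by rw [ev14]; norm_num))
    · have t : Nat.totient 18 = 6 := by decide
      rw [t] at hgt
      have hrle : r ≤ 3 := by
        have hle := Nat.le_of_dvd (by norm_num) hrn
        clear hrN h hgt
        interval_cases r <;>
          first
          | omega
          | (exfalso; revert hr; norm_num; done)
          | (exfalso; revert hrn; norm_num; done)
      have h' : Phi 18 q ≤ 111 := by
        refine le_trans h ?_
        have : (r : ℤ) ≤ 3 := by exact_mod_cast hrle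
        push_cast
        linarith
      have hqc : q ≤ 3 := q_le_of_pow q 6 3 _ (lt_of_lt_of_le hgt h') (by norm_num)
      clear hgt h
      interval_cases q <;>
        first
        | (rw [ev18] at h'; norm_num at h'; done)
        | (rw [ev18]; norm_num; done)
        | (exfalso; exact no_common r 18 _ hr hrn hrN (by rw [ev18]; norm_num))
    · have t : Nat.totient 20 = 8 := by decide
      rw [t] at hgt
      have hrle : r ≤ 5 := by
        have hle := Nat.le_of_dvd (by norm_num) hrn
        clear hrN h hgt
        interval_cases r <;>
          first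
          | omega
          | (exfalso; revert hr; norm_num; done)
          | (exfalso; revert hrn; norm_num; done)
      have h' : Phi 20 q ≤ 205 := by
        refine le_trans h ?_
        have : (r : ℤ) ≤ 5 := by exact_mod_cast hrle
        push_cast
        linarith
      have hqc : q ≤ 2 := q_le_of_pow q 8 2 _ (lt_of_lt_of_le hgt h') (by norm_num)
      clear hgt h
      interval_cases q <;>
        first
        | (rw [ev20] at h'; norm_num at h'; done)
        | (rw [ev20]; norm_num; done)
        | (exfalso; exact no_common r 20 _ hr hrn hrN (by rw [ev20]; norm_num))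
    · have t : Nat.totient 22 = 10 := by decide
      rw [t] at hgt
      have hrle : r ≤ 11 := by
        have hle := Nat.le_of_dvd (by norm_num) hrn
        clear hrN h hgt
        interval_cases r <;>
          first
          | omega
          | (exfalso; revert hr; norm_num; done)
          | (exfalso; revert hrn; norm_num; done)
      have h' : Phi 22 q ≤ 495 := by
        refine le_trans h ?_
        have : (r : ℤ) ≤ 11 := by exact_mod_cast hrle
        push_cast
        linarith
      have hqc : q ≤ 2 := q_le_of_pow q 10 2 _ (lt_of_lt_of_le hgt h') (by norm_num)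
      clear hgt h
      interval_cases q <;>
        first
        | (rw [ev22] at h'; norm_num at h'; done)
        | (rw [ev22]; norm_num; done)
        | (exfalso; exact no_common r 22 _ hr hrn hrN (by rw [ev22]; norm_num))
  · exfalso
    have h1 := tot_main_I r e s n hr he her hdvd hnes hn hR
    have h2 := Phi_sq_ge n q (by omega) hq
    have hrpos : (0 : ℤ) ≤ (r : ℤ) * (2 * (n : ℤ) + 1) := by positivity
    have h3 : (Phi n q) ^ 2 ≤ ((r : ℤ) * (2 * (n : ℤ) + 1)) ^ 2 := pow_le_pow_left₀ hpos.le h 2
    have h4 : ((r * (2 * n + 1) : ℕ) : ℤ) ^ 2 < ((3 : ℕ) : ℤ) ^ n.totient := by exact_mod_cast h1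
    push_cast at h4
    linarith

theorem prim_or_struct (q n : ℕ) (hq : 1 < q) (hn : 3 ≤ n) :
    (∀ l : ℕ, l.Prime → (l : ℤ) ∣ Phi n q → orderOf ((q : ℕ) : ZMod l) = n) ∨
    ∃ r e s : ℕ, r.Prime ∧ (r : ℤ) ∣ Phi n q ∧ ¬ ((r : ℤ) ^ 2 ∣ Phi n q) ∧
      n = e * r ^ (s + 1) ∧ e < r ∧ 0 < e ∧ e ∣ r - 1 ∧
      ∀ l : ℕ, l.Prime → (l : ℤ) ∣ Phi n q → l ≠ r → orderOf ((q : ℕ) : ZMod l) = n := by
  by_cases hall : ∀ l : ℕ, l.Prime → (l : ℤ) ∣ Phi n q → orderOf ((q : ℕ) : ZMod l) = n
  · exact Or.inl hall
  · right
    push Not at hall
    obtain ⟨r, hr, hrN, hne⟩ := hall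
    have : Fact r.Prime := ⟨hr⟩
    obtain ⟨e, s, hnes, her, hord, hepos⟩ := structure_lemma n q r (by omega) hq hrN hne
    have hnsq := not_sq_dvd n q r e s hn hq hnes her hepos hord
    have hrn : r ∣ n := by rw [hnes, pow_succ]; exact ⟨e * r ^ s, by ring⟩
    refine ⟨r, e, s, hr, hrN, hnsq, hnes, her, hepos, ?_, ?_⟩
    · have hxn := pow_eq_one_of_dvd n q r hrN
      have hx0 : ((q : ℕ) : ZMod r) ≠ 0 := by
        intro h0
        rw [h0, zero_pow (by omega)] at hxn
        exact zero_ne_one hxn
      rw [← hord]
      exact orderOf_dvd_of_pow_eq_one (ZMod.pow_card_sub_one_eq_one hx0)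
    · intro l hl hlN hlr
      by_contra hne'
      have : Fact l.Prime := ⟨hl⟩
      obtain ⟨e', s', hnes', her', hord', hepos'⟩ :=
        structure_lemma n q l (by omega) hq hlN hne'
      have hln : l ∣ n := by rw [hnes', pow_succ]; exact ⟨e' * l ^ s', by ring⟩
      have h1 : l ≤ r := prime_le n e s r l hr hl hnes her hepos hln
      have h2 : r ≤ l := prime_le n e' s' l r hl hr hnes' her' hepos' hrn
      exact hlr (le_antisymm h1 h2)

/-- facts about a primitive prime -/
theorem primitive_facts (q n l : ℕ) (hq : 0 < q) (hn : 0 < n) (hl : l.Prime)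
    (hord : orderOf ((q : ℕ) : ZMod l) = n) :
    l ∣ q ^ n - 1 ∧ (∀ i : ℕ, 0 < i → i < n → ¬ l ∣ q ^ i - 1) ∧ n ∣ l - 1 := by
  have : Fact l.Prime := ⟨hl⟩
  have hxn : ((q : ℕ) : ZMod l) ^ n = 1 := by rw [← hord]; exact pow_orderOf_eq_one _
  refine ⟨?_, ?_, ?_⟩
  · rw [dvd_pow_sub_one_iff l q n hq]; exact hxn
  · intro i hi hin hdiv
    rw [dvd_pow_sub_one_iff l q i hq] at hdiv
    have := orderOf_le_of_pow_eq_one hi hdiv
    omega
  · have hx0 : ((q : ℕ) : ZMod l) ≠ 0 := by
      intro h0
      rw [h0, zero_pow hn.ne'] at hxn
      exact zero_ne_one hxn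
    rw [← hord]
    exact orderOf_dvd_of_pow_eq_one (ZMod.pow_card_sub_one_eq_one hx0)

end Cfsg.Agent.Helper29.CycloCST
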