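import Mathlib
import Cfsg.Agent.Lib.Helper14.SzRepGen

/-!
# Eigenspaces: intersections, conjugates, twisted commutation, permuted decompositions
-/

set_option autoImplicit false
set_option linter.unusedSectionVars false

namespace Cfsg.Agent.Lib.Helper29.ES

open Module

section abstract

variable {F : Type*} [Field F] {V : Type*} [AddCommGroup V] [Module F V] [FiniteDimensional F V]

theorem finrank_add_le_inf (W₁ W₂ : Submodule F V) :
    finrank F W₁ + finrank F W₂ ≤ finrank F V + finrank F ↥(W₁ ⊓ W₂) := by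
  have h := Submodule.finrank_sup_add_finrank_inf_eq W₁ W₂
  have h1 := Submodule.finrank_le (W₁ ⊔ W₂)
  omega

theorem finrank_map_of_injective (X : Module.End F V) (hX : Function.Injective X)
    (W : Submodule F V) : finrank F ↥(W.map X) = finrank F W :=
  (LinearEquiv.finrank_eq (Submodule.equivMapOfInjective X hX W)).symm

/-- twisted commutation: if `X` shifts the eigenvalues of `A` (inside an ambient subspace `E`) by
a factor `μ` of multiplicative order at least `m`, the eigenspaces of `A` in `E` have dimension at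
most `dim E / m`. -/
theorem twisted_finrank_le (A X : Module.End F V) (E : Submodule F V)
    (hX : Function.Injective X) (μ : F) (hμ0 : μ ≠ 0) (m : ℕ)
    (hμ : ∀ j, 0 < j → j < m → μ ^ j ≠ 1) (c : F) (hc : c ≠ 0)
    (h : ∀ (l : F) (v : V), v ∈ E → v ∈ Module.End.eigenspace A l →
       X v ∈ E ∧ X v ∈ Module.End.eigenspace A (l * μ)) :
    m * finrank F ↥(E ⊓ Module.End.eigenspace A c) ≤ finrank F E := by
  classical
  set p : F → Submodule F V := fun l => E ⊓ Module.End.eigenspace A l with hp
  have hind : iSupIndep p :=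
    (Module.End.eigenspaces_iSupIndep A).mono (fun l => inf_le_right)
  have hstep : ∀ l, finrank F (p l) ≤ finrank F (p (l * μ)) := by
    intro l
    rw [← finrank_map_of_injective X hX (p l)]
    apply Submodule.finrank_mono
    rintro _ ⟨v, hv, rfl⟩
    have := h l v hv.1 hv.2
    exact ⟨this.1, this.2⟩
  have hj : ∀ j : ℕ, finrank F (p c) ≤ finrank F (p (c * μ ^ j)) := by
    intro j
    induction j with
    | zero => rw [pow_zero, mul_one]
    | succ j ih =>
      refine ih.trans ?_
      have := hstep (c * μ ^ j)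
      rwa [mul_assoc, ← pow_succ] at this
  have hinj : Set.InjOn (fun j : ℕ => c * μ ^ j) (Finset.range m : Set ℕ) := by
    have key : ∀ i j : ℕ, i < j → j < m → c * μ ^ i ≠ c * μ ^ j := by
      intro i j hij hjm heq
      have h1 : μ ^ i = μ ^ j := mul_left_cancel₀ hc heq
      have h2 : μ ^ j = μ ^ i * μ ^ (j - i) := by
        rw [← pow_add]; congr 1; omega
      rw [h2] at h1
      have h3 : μ ^ (j - i) = 1 := by
        have h4 : μ ^ i ≠ 0 := pow_ne_zero _ hμ0
        have h5 : μ ^ i * 1 = μ ^ i * μ ^ (j - i) := by rw [mul_one]; exact h1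
        exact (mul_left_cancel₀ h4 h5).symm
      exact hμ (j - i) (by omega) (by omega) h3
    intro i hi j hj heq
    simp only [Finset.coe_range, Set.mem_Iio] at hi hj
    by_contra hne
    rcases Nat.lt_or_gt_of_ne hne with hlt | hlt
    · exact key i j hlt hj heq
    · exact key j i hlt hi heq.symm
  calc m * finrank F ↥(E ⊓ Module.End.eigenspace A c)
      = ∑ _j ∈ Finset.range m, finrank F (p c) := by
        rw [Finset.sum_const, Finset.card_range, smul_eq_mul]
    _ ≤ ∑ j ∈ Finset.range m, finrank F (p (c * μ ^ j)) :=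
        Finset.sum_le_sum (fun j _ => hj j)
    _ = ∑ l ∈ (Finset.range m).image (fun j : ℕ => c * μ ^ j), finrank F (p l) := by
        rw [Finset.sum_image hinj]
    _ = finrank F ↥(⨆ l ∈ (Finset.range m).image (fun j : ℕ => c * μ ^ j), p l) :=
        (Cfsg.Agent.Lib.Helper14.SzRep.finrank_biSup_eq hind _).symm
    _ ≤ finrank F E := by
        apply Submodule.finrank_mono
        refine iSup₂_le (fun l _ => ?_)
        exact inf_le_left

/-- for an independent family, sups over index sets intersect in the sup over the intersection -/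
theorem biSup_inf_biSup_le {I : Type*} [DecidableEq I] (p : I → Submodule F V)
    (hp : iSupIndep p) (S S' : Finset I) :
    (⨆ i ∈ S, p i) ⊓ (⨆ i ∈ S', p i) ≤ ⨆ i ∈ S ∩ S', p i := by
  have h1 : S = (S ∩ S') ∪ (S \ S') := by
    ext i; simp only [Finset.mem_union, Finset.mem_inter, Finset.mem_sdiff]; tauto
  have h2 : (⨆ i ∈ S, p i) = (⨆ i ∈ S ∩ S', p i) ⊔ (⨆ i ∈ S \ S', p i) := by
    conv_lhs => rw [h1]
    rw [Finset.iSup_union]
  have h3 : (⨆ i ∈ S ∩ S', p i) ≤ ⨆ i ∈ S', p i := by
    refine iSup₂_le (fun i hi => ?_)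
    exact le_iSup₂_of_le i (Finset.mem_inter.mp hi).2 le_rfl
  have h4 : Disjoint (⨆ i ∈ S \ S', p i) (⨆ i ∈ S', p i) := by
    have hd : Disjoint ((S \ S' : Finset I) : Set I) (S' : Set I) := by
      rw [Finset.disjoint_coe]
      exact Finset.sdiff_disjoint
    simpa using hp.disjoint_biSup_biSup hd
  rw [h2, sup_inf_assoc_of_le _ h3, h4.eq_bot, sup_bot_eq]

/-- a linear map permuting the summands of a direct decomposition: its eigenspaces embed into the
sum of the summands indexed by any set meeting all orbits -/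
theorem finrank_eigenspace_le_sum {I : Type*} [Fintype I] [DecidableEq I]
    (p : I → Submodule F V) (hp : iSupIndep p) (htop : ⨆ i, p i = ⊤)
    (g : Module.End F V) (σ : Equiv.Perm I) (hg : ∀ i, ∀ v ∈ p i, g v ∈ p (σ i))
    (c : F) (hc : c ≠ 0) (T : Finset I) (hT : ∀ i, ∃ k : ℕ, (σ.symm ^ k) i ∈ T) :
    finrank F ↥(Module.End.eigenspace g c) ≤ ∑ t ∈ T, finrank F (p t) := by
  classical
  set K := Module.End.eigenspace g c with hK
  let S : ℕ → Finset I := fun k => Finset.univ.filter (fun i => ∀ j ≤ k, (σ.symm ^ j) i ∉ T)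
  have hS : ∀ k i, i ∈ S k ↔ ∀ j ≤ k, (σ.symm ^ j) i ∉ T := by
    intro k i
    simp only [S, Finset.mem_filter, Finset.mem_univ, true_and]
  have hmap : ∀ (Q : Finset I), (⨆ i ∈ Q, p i).map g ≤ ⨆ i ∈ Q.image σ, p i := by
    intro Q
    rw [Submodule.map_iSup]
    refine iSup_le (fun i => ?_)
    rw [Submodule.map_iSup]
    refine iSup_le (fun hi => ?_)
    refine le_trans ?_ (le_iSup₂_of_le (σ i) (Finset.mem_image_of_mem σ hi) le_rfl)
    rintro _ ⟨v, hv, rfl⟩
    exact hg i v hv
  have hstep : ∀ k, K ⊓ (⨆ i ∈ S 0, p i) ≤ ⨆ i ∈ S k, p i := by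
    intro k
    induction k with
    | zero => exact inf_le_right
    | succ k ih =>
      intro v hv
      have hvK : v ∈ K := hv.1
      have hv0 : v ∈ ⨆ i ∈ S 0, p i := hv.2
      have hvk : v ∈ ⨆ i ∈ S k, p i := ih hv
      have hgv : g v = c • v := Module.End.mem_eigenspace_iff.mp hvK
      have h1 : v ∈ (⨆ i ∈ S k, p i).map g := by
        refine ⟨c⁻¹ • v, Submodule.smul_mem _ _ hvk, ?_⟩
        rw [map_smul, hgv, smul_smul, inv_mul_cancel₀ hc, one_smul]
      have h2 : v ∈ ⨆ i ∈ (S k).image σ, p i := hmap _ h1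
      have h3 := biSup_inf_biSup_le p hp (S 0) ((S k).image σ) ⟨hv0, h2⟩
      have hmono : (⨆ i ∈ S 0 ∩ (S k).image σ, p i) ≤ ⨆ i ∈ S (k + 1), p i := by
        apply biSup_mono
        intro i hi
        rw [Finset.mem_inter, Finset.mem_image] at hi
        obtain ⟨hi0, i', hi', rfl⟩ := hi
        rw [hS] at hi0 hi' ⊢
        intro j hj
        rcases Nat.eq_zero_or_pos j with rfl | hjpos
        · exact hi0 0 le_rfl
        · obtain ⟨j', rfl⟩ : ∃ j', j = j' + 1 := ⟨j - 1, by omega⟩
          rw [pow_succ, Equiv.Perm.mul_apply, Equiv.symm_apply_apply]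
          exact hi' j' (by omega)
      exact hmono h3
  choose kk hkk using hT
  have hempty : S (Finset.univ.sup kk) = ∅ := by
    rw [Finset.eq_empty_iff_forall_notMem]
    intro i hi
    rw [hS] at hi
    exact hi (kk i) (Finset.le_sup (Finset.mem_univ i)) (hkk i)
  have hdisj : Disjoint K (⨆ i ∈ S 0, p i) := by
    rw [disjoint_iff, eq_bot_iff]
    refine (hstep (Finset.univ.sup kk)).trans ?_
    rw [hempty]
    simp
  have h1 := Submodule.finrank_add_finrank_le_of_disjoint hdisj
  have h2 : finrank F ↥(⨆ i ∈ S 0, p i) = ∑ i ∈ S 0, finrank F (p i) :=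
    Cfsg.Agent.Lib.Helper14.SzRep.finrank_biSup_eq hp _
  have h3 : finrank F V = ∑ i, finrank F (p i) := by
    rw [← Cfsg.Agent.Lib.Helper14.SzRep.finrank_biSup_eq hp Finset.univ]
    have : (⨆ i ∈ (Finset.univ : Finset I), p i) = ⊤ := by
      rw [← htop]; simp
    rw [this, finrank_top]
  have h4 : S 0 = Finset.univ \ T := by
    ext i
    rw [hS, Finset.mem_sdiff]
    constructor
    · intro h; exact ⟨Finset.mem_univ i, by simpa using h 0 le_rfl⟩
    · rintro ⟨_, h⟩ j hj
      obtain rfl : j = 0 := by omega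
      simpa using h
  have h5 : ∑ i ∈ Finset.univ \ T, finrank F (p i) + ∑ i ∈ T, finrank F (p i)
      = ∑ i, finrank F (p i) := Finset.sum_sdiff (Finset.subset_univ T)
  rw [h4] at h2 h1
  rw [h2] at h1
  omega

end abstract

end Cfsg.Agent.Lib.Helper29.ES
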