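import Mathlib

/-!
# Orbit transversals of a permutation of prime order
-/

set_option autoImplicit false
set_option linter.unusedSectionVars false

namespace Cfsg.Agent.Lib.Helper29.ES

theorem perm_fixed_of_pow {I : Type*} (τ : Equiv.Perm I) (ϖ : ℕ) (hϖ : ϖ.Prime)
    (hτ : τ ^ ϖ = 1) (a : ℕ) (ha0 : 0 < a) (ha : a < ϖ) (t : I) (h : (τ ^ a) t = t) :
    τ t = t := by
  have h1 : Function.IsPeriodicPt τ a t := by
    unfold Function.IsPeriodicPt Function.IsFixedPt
    rw [Equiv.Perm.iterate_eq_pow]; exact h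
  have h2 : Function.IsPeriodicPt τ ϖ t := by
    unfold Function.IsPeriodicPt Function.IsFixedPt
    rw [Equiv.Perm.iterate_eq_pow, hτ]; rfl
  have h3 := h1.gcd h2
  have h4 : Nat.gcd a ϖ = 1 := by
    have : Nat.Coprime ϖ a := (Nat.Prime.coprime_iff_not_dvd hϖ).mpr
      (fun hd => by have := Nat.le_of_dvd ha0 hd; omega)
    exact this.symm
  rw [h4] at h3
  simpa [Function.IsPeriodicPt, Function.IsFixedPt] using h3

/-- a transversal `T` of the orbits of a permutation of prime order `ϖ`, together with the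
resulting estimate for sums of an invariant function -/
theorem exists_transversal {I : Type*} [Fintype I] [DecidableEq I] (τ : Equiv.Perm I) (ϖ : ℕ)
    (hϖ : ϖ.Prime) (hτ : τ ^ ϖ = 1) (d : I → ℕ) (hd : ∀ i, d (τ i) = d i) :
    ∃ T : Finset I, (∀ i, ∃ k : ℕ, (τ ^ k) i ∈ T) ∧
      ϖ * ∑ t ∈ T, d t ≤
        ∑ i, d i + (ϖ - 1) * ∑ i ∈ Finset.univ.filter (fun i => τ i = i), d i := by
  classical
  have hϖ0 : 0 < ϖ := hϖ.pos
  set f : I → ℕ := fun i => (Fintype.equivFin I i : ℕ) with hf
  have hfinj : Function.Injective f := by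
    intro a b hab
    exact (Fintype.equivFin I).injective (Fin.ext hab)
  have hdk : ∀ (k : ℕ) i, d ((τ ^ k) i) = d i := by
    intro k
    induction k with
    | zero => intro i; simp
    | succ k ih => intro i; rw [pow_succ, Equiv.Perm.mul_apply, ih, hd]
  have hmod : ∀ (k : ℕ) i, (τ ^ k) i = (τ ^ (k % ϖ)) i := by
    intro k i
    conv_lhs => rw [← Nat.div_add_mod k ϖ, pow_add, pow_mul, hτ, one_pow, one_mul]
  set T : Finset I := Finset.univ.filter (fun i => ∀ k : ℕ, f i ≤ f ((τ ^ k) i)) with hT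
  set Fx : Finset I := Finset.univ.filter (fun i => τ i = i) with hFx
  have hFxT : Fx ⊆ T := by
    intro i hi
    rw [hFx, Finset.mem_filter] at hi
    rw [hT, Finset.mem_filter]
    refine ⟨Finset.mem_univ _, fun k => ?_⟩
    have : (τ ^ k) i = i := by
      induction k with
      | zero => simp
      | succ k ih => rw [pow_succ, Equiv.Perm.mul_apply, hi.2, ih]
    rw [this]
  refine ⟨T, ?_, ?_⟩
  · intro i
    set O : Finset I := (Finset.range ϖ).image (fun k => (τ ^ k) i) with hO
    have hOne : O.Nonempty := ⟨(τ ^ 0) i, Finset.mem_image_of_mem _ (Finset.mem_range.mpr hϖ0)⟩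
    obtain ⟨t, htO, htmin⟩ := Finset.exists_min_image O f hOne
    rw [hO, Finset.mem_image] at htO
    obtain ⟨j, _, rfl⟩ := htO
    refine ⟨j, ?_⟩
    rw [hT, Finset.mem_filter]
    refine ⟨Finset.mem_univ _, fun k => ?_⟩
    apply htmin
    rw [hO, Finset.mem_image]
    refine ⟨(k + j) % ϖ, Finset.mem_range.mpr (Nat.mod_lt _ hϖ0), ?_⟩
    rw [← hmod, pow_add, Equiv.Perm.mul_apply]
  · -- the estimate
    have hsplit : ∑ t ∈ T, d t = ∑ t ∈ Fx, d t + ∑ t ∈ T \ Fx, d t := by
      rw [add_comm]; exact (Finset.sum_sdiff hFxT).symm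
    have hsplit2 : ∑ i, d i = ∑ t ∈ Fx, d t + ∑ t ∈ Finset.univ \ Fx, d t := by
      rw [add_comm]; exact (Finset.sum_sdiff (Finset.subset_univ Fx)).symm
    -- the map (t,k) ↦ τ^k t
    set Φ : I × ℕ → I := fun q => (τ ^ q.2) q.1 with hΦ
    have hinj : Set.InjOn Φ (((T \ Fx) ×ˢ Finset.range ϖ : Finset (I × ℕ)) : Set (I × ℕ)) := by
      have key : ∀ t t' : I, t ∈ T \ Fx → t' ∈ T \ Fx → ∀ k k' : ℕ, k ≤ k' → k' < ϖ →
          (τ ^ k) t = (τ ^ k') t' → t = t' ∧ k = k' := by
        intro t t' ht ht' k k' hkk hk' heq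
        rw [Finset.mem_sdiff] at ht ht'
        have h1 : t = (τ ^ (k' - k)) t' := by
          have : (τ ^ k') t' = (τ ^ k) ((τ ^ (k' - k)) t') := by
            rw [← Equiv.Perm.mul_apply, ← pow_add]; congr 2; omega
          rw [this] at heq
          exact (τ ^ k).injective heq
        have h2 : f t' ≤ f t := by
          rw [h1]
          have := ht'.1
          rw [hT, Finset.mem_filter] at this
          exact this.2 _
        have h3 : t' = (τ ^ (ϖ - (k' - k))) t := by
          rw [h1, ← Equiv.Perm.mul_apply, ← pow_add]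
          have : ϖ - (k' - k) + (k' - k) = ϖ := by omega
          rw [this, hτ]; rfl
        have h4 : f t ≤ f t' := by
          rw [h3]
          have := ht.1
          rw [hT, Finset.mem_filter] at this
          exact this.2 _
        have h5 : t = t' := hfinj (le_antisymm h4 h2)
        refine ⟨h5, ?_⟩
        by_contra hne
        have h6 : 0 < k' - k := by omega
        have h7 : (τ ^ (k' - k)) t' = t' := by rw [← h1, h5]
        have h8 := perm_fixed_of_pow τ ϖ hϖ hτ (k' - k) h6 (by omega) t' h7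
        apply ht'.2
        rw [hFx, Finset.mem_filter]
        exact ⟨Finset.mem_univ _, h8⟩
      rintro ⟨t, k⟩ hq ⟨t', k'⟩ hq' heq
      simp only [Finset.coe_product, Set.mem_prod, Finset.mem_coe, Finset.mem_range] at hq hq'
      simp only [hΦ] at heq
      rcases le_total k k' with hkk | hkk
      · obtain ⟨h1, h2⟩ := key t t' hq.1 hq'.1 k k' hkk hq'.2 heq
        rw [h1, h2]
      · obtain ⟨h1, h2⟩ := key t' t hq'.1 hq.1 k' k hkk hq.2 heq.symm
        rw [h1, h2]
    have himg : ((T \ Fx) ×ˢ Finset.range ϖ).image Φ ⊆ Finset.univ \ Fx := by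
      intro i hi
      rw [Finset.mem_image] at hi
      obtain ⟨⟨t, k⟩, hq, rfl⟩ := hi
      rw [Finset.mem_product, Finset.mem_sdiff] at hq
      rw [Finset.mem_sdiff]
      refine ⟨Finset.mem_univ _, fun hfx => hq.1.2 ?_⟩
      rw [hFx, Finset.mem_filter] at hfx ⊢
      refine ⟨Finset.mem_univ _, ?_⟩
      have h1 := hfx.2
      simp only [hΦ] at h1
      have : (τ ^ k) (τ t) = (τ ^ k) t := by
        rw [← Equiv.Perm.mul_apply, ← pow_succ, pow_succ', Equiv.Perm.mul_apply]; exact h1
      exact (τ ^ k).injective this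
    have hsum : ϖ * ∑ t ∈ T \ Fx, d t ≤ ∑ t ∈ Finset.univ \ Fx, d t := by
      calc ϖ * ∑ t ∈ T \ Fx, d t = ∑ t ∈ T \ Fx, ∑ _k ∈ Finset.range ϖ, d t := by
            rw [Finset.mul_sum]
            apply Finset.sum_congr rfl
            intro t _
            rw [Finset.sum_const, Finset.card_range, smul_eq_mul]
        _ = ∑ q ∈ (T \ Fx) ×ˢ Finset.range ϖ, d (Φ q) := by
            rw [Finset.sum_product]
            apply Finset.sum_congr rfl
            intro t _
            apply Finset.sum_congr rfl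
            intro k _
            simp only [hΦ]
            rw [hdk]
        _ = ∑ i ∈ ((T \ Fx) ×ˢ Finset.range ϖ).image Φ, d i := by
            rw [Finset.sum_image hinj]
        _ ≤ ∑ t ∈ Finset.univ \ Fx, d t :=
            Finset.sum_le_sum_of_subset himg
    rw [hsplit, hsplit2, mul_add]
    have h9 : ϖ * ∑ t ∈ Fx, d t = ∑ t ∈ Fx, d t + (ϖ - 1) * ∑ t ∈ Fx, d t := by
      obtain ⟨m, rfl⟩ : ∃ m, ϖ = m + 1 := ⟨ϖ - 1, by omega⟩
      simp only [Nat.add_sub_cancel]
      ring
    rw [h9]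
    omega

end Cfsg.Agent.Lib.Helper29.ES
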