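import Mathlib
import Cfsg.Agent.Lib.Helper29.LO2
import Cfsg.Agent.Lib.Helper15.PInv4

/-!
# Orthogonal-type subgroups of `SL_n(q)`, `q` odd: tools for conjugating into the subgroup
-/

set_option autoImplicit false

namespace Cfsg.Agent.Lib.Helper29.LO

open Module Submodule Matrix QuadraticMap Polynomial Cfsg.Agent.Lib.Helper13
  Cfsg.Agent.Lib.Helper15.PSub Cfsg.Agent.Lib.Helper15.PInv Cfsg.Agent.Lib.Helper15.PDec

section tools
universe u
variable {F : Type u} [Field F] {n : ℕ}

local notation "VV" => (Fin n → F)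

/-- similarity on a basis -/
theorem sim_of_basis {Q : VV → F} (hQ : Cfsg.Geo.IsNondegenerateQuadraticForm Q)
    (h2 : (2 : F) ≠ 0) {ι : Type*} (b : Basis ι F VV) (Y : VV →ₗ[F] VV) (μ : F)
    (h : ∀ i j, polB hQ (Y (b i)) (Y (b j)) = μ * polB hQ (b i) (b j)) (w : VV) :
    Q (Y w) = μ * Q w := by
  have hB : (polB hQ).compl₁₂ Y Y = μ • polB hQ := by
    apply b.ext
    intro i
    apply b.ext
    intro j
    rw [LinearMap.compl₁₂_apply, LinearMap.smul_apply, LinearMap.smul_apply, smul_eq_mul]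
    exact h i j
  have h1 : polB hQ (Y w) (Y w) = μ * polB hQ w w := by
    have := LinearMap.congr_fun (LinearMap.congr_fun hB w) w
    rw [LinearMap.compl₁₂_apply, LinearMap.smul_apply, LinearMap.smul_apply, smul_eq_mul] at this
    exact this
  rw [polB_self, polB_self] at h1
  apply mul_left_cancel₀ h2
  linear_combination h1

/-- an orthogonal basis -/
theorem exists_orth_basis {Q : VV → F} (hQ : Cfsg.Geo.IsNondegenerateQuadraticForm Q)
    (h2 : (2 : F) ≠ 0) :
    ∃ v : Basis (Fin n) F VV, (∀ i j, i ≠ j → polB hQ (v i) (v j) = 0) ∧ ∀ i, Q (v i) ≠ 0 := by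
  haveI : Invertible (2 : F) := invertibleOfNonzero h2
  have hsymm : LinearMap.IsSymm (polB hQ) := ⟨fun x y => by
    rw [RingHom.id_apply]
    exact polB_symm hQ x y⟩
  obtain ⟨v₀, hv₀⟩ := LinearMap.BilinForm.exists_orthogonal_basis hsymm
  obtain ⟨v, hv⟩ : ∃ v : Basis (Fin n) F VV, v = v₀.reindex (finCongr (Module.finrank_fin_fun F)) :=
    ⟨_, rfl⟩
  have horth : ∀ i j, i ≠ j → polB hQ (v i) (v j) = 0 := by
    intro i j hij
    rw [hv, Basis.reindex_apply, Basis.reindex_apply]
    apply hv₀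
    intro h
    exact hij ((finCongr (Module.finrank_fin_fun F)).symm.injective h)
  refine ⟨v, horth, fun i hi => ?_⟩
  have h0 : v i = 0 := by
    apply polB_nondeg hQ
    intro y
    have hB : polB hQ (v i) = 0 := by
      apply v.ext
      intro j
      rw [LinearMap.zero_apply]
      by_cases hij : i = j
      · rw [← hij, polB_self, hi, mul_zero]
      · exact horth i j hij
    rw [hB, LinearMap.zero_apply]
  exact v.ne_zero i h0

end tools

section cent

variable {F V : Type*} [Field F] [AddCommGroup V] [Module F V] [FiniteDimensional F V]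

/-- the centraliser of a semisimple endomorphism with an eigenvector contains all determinants -/
theorem cent_of_eigenvector (X : V →ₗ[F] V) (hss : Module.End.IsSemisimple X) (lam : F) (v₀ : V)
    (hv₀ : X v₀ = lam • v₀) (hv₀0 : v₀ ≠ 0) (δ : F) :
    ∃ C : V →ₗ[F] V, C ∘ₗ X = X ∘ₗ C ∧ LinearMap.det C = δ := by
  have hZinv : span F {v₀} ∈ Module.End.invtSubmodule X := by
    rw [Module.End.mem_invtSubmodule_iff_map_le, Submodule.map_span, span_le]
    rintro _ ⟨x, hx, rfl⟩
    rw [Set.mem_singleton_iff.mp hx, hv₀]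
    exact Submodule.smul_mem _ _ (Submodule.mem_span_singleton_self v₀)
  obtain ⟨Z', hZ'inv, hcompl⟩ := Module.End.isSemisimple_iff.mp hss _ hZinv
  obtain ⟨C, hC, hCdet⟩ := exists_comm_det X (span F {v₀}) Z' hcompl
    (fun z hz => hZinv hz) (fun z hz => hZ'inv hz) (δ • LinearMap.id) (fun z => by
      simp only [LinearMap.smul_apply, LinearMap.id_coe, id_eq, Submodule.coe_smul, map_smul])
  refine ⟨C, hC, ?_⟩
  rw [hCdet, LinearMap.det_smul, LinearMap.det_id, mul_one, finrank_span_singleton hv₀0, pow_one]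

end cent

section typeI

variable {F V : Type*} [Field F] [AddCommGroup V] [Module F V]

/-- `W` has a basis of pairs `(e j, X (e j))` -/
def TB (X : V →ₗ[F] V) (W : Submodule F V) (κ : Type) : Prop :=
  ∃ e : κ → V, LinearIndependent F (Sum.elim e (fun j => X (e j))) ∧
    span F (Set.range (Sum.elim e (fun j => X (e j)))) = W

theorem TB.empty (X : V →ₗ[F] V) : TB X ⊥ Empty := by
  refine ⟨fun e => e.elim, linearIndependent_empty_type, ?_⟩
  rw [Set.range_eq_empty, span_empty]

theorem TB.series {κ₁ κ₂ : Type} {X : V →ₗ[F] V} {W₁ W₂ : Submodule F V}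
    (h₁ : TB X W₁ κ₁) (h₂ : TB X W₂ κ₂) (hd : Disjoint W₁ W₂) : TB X (W₁ ⊔ W₂) (κ₁ ⊕ κ₂) := by
  obtain ⟨e₁, hli₁, hsp₁⟩ := h₁
  obtain ⟨e₂, hli₂, hsp₂⟩ := h₂
  have hcomp : Sum.elim (Sum.elim e₁ e₂) (fun j => X (Sum.elim e₁ e₂ j)) =
      Sum.elim (Sum.elim e₁ (fun j => X (e₁ j))) (Sum.elim e₂ (fun j => X (e₂ j))) ∘
        (Equiv.sumSumSumComm κ₁ κ₂ κ₁ κ₂) := by
    funext i
    rcases i with (i | i) | (i | i) <;> rfl
  refine ⟨Sum.elim e₁ e₂, ?_, ?_⟩
  · have hg : LinearIndependent F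
        (Sum.elim (Sum.elim e₁ (fun j => X (e₁ j))) (Sum.elim e₂ (fun j => X (e₂ j)))) := by
      apply LinearIndependent.sum_type hli₁ hli₂
      rw [hsp₁, hsp₂]
      exact hd
    rw [hcomp]
    exact hg.comp _ (Equiv.injective _)
  · rw [hcomp, Set.range_comp, Equiv.range_eq_univ, Set.image_univ, Set.Sum.elim_range, span_union,
      hsp₁, hsp₂]

variable [FiniteDimensional F V]

/-- bases of pairs for the irreducible type -/
theorem typeI_TB (X : V →ₗ[F] V) (z : F) (hz : z ≠ 0) (h2 : (2 : F) ≠ 0)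
    (hX : X ^ 2 = z • (1 : V →ₗ[F] V))
    (hirr : Irreducible (Polynomial.X ^ 2 - C z : F[X])) (k : ℕ) :
    ∀ W : Submodule F V, W ∈ Module.End.invtSubmodule X → finrank F W = 2 * k →
      ∃ (κ : Type) (_ : Fintype κ), Fintype.card κ = k ∧ TB X W κ := by
  have hss : Module.End.IsSemisimple X :=
    isSemisimple_of_pow_eq_smul X 2 (by exact_mod_cast h2) z hz hX
  induction k with
  | zero =>
    intro W _ hdim
    have hW0 : W = ⊥ := Submodule.finrank_eq_zero.mp (by omega)
    subst hW0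
    exact ⟨Empty, inferInstance, by simp, TB.empty X⟩
  | succ k ih =>
    intro W hW hdim
    have hWne : W ≠ ⊥ := by
      intro h0
      rw [h0, finrank_bot] at hdim
      omega
    obtain ⟨v, hvW, hv0⟩ := Submodule.exists_mem_ne_zero_of_ne_bot hWne
    obtain ⟨hZinv, hZdim⟩ := typeI_plane X z hX hirr v hv0
    have hZW : span F {v, X v} ≤ W := by
      rw [span_le]
      rintro x (rfl | hx)
      · exact hvW
      · rw [Set.mem_singleton_iff.mp hx]
        exact hW hvW
    have hrange : Set.range (Sum.elim (fun _ : Unit => v) (fun _ : Unit => X v)) = {v, X v} := by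
      rw [Set.Sum.elim_range, Set.range_const, Set.range_const]
      rfl
    have hli : LinearIndependent F (Sum.elim (fun _ : Unit => v) (fun _ : Unit => X v)) := by
      rw [linearIndependent_iff_card_eq_finrank_span, Set.finrank, hrange, hZdim]
      simp
    have hP₁ : TB X (span F {v, X v}) Unit := ⟨fun _ => v, hli, by rw [hrange]⟩
    obtain ⟨W', hW'W, hW'inv, hinf, hsup, hdim'⟩ := exists_compl_in X hss W _ hW hZinv hZW
    have hW'dim : finrank F W' = 2 * k := by omega
    obtain ⟨κ, hκ, hcard, hP₂⟩ := ih W' hW'inv hW'dim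
    have hser := hP₁.series hP₂ (disjoint_iff.mpr hinf)
    rw [hsup] at hser
    refine ⟨Unit ⊕ κ, inferInstance, ?_, hser⟩
    rw [Fintype.card_sum, Fintype.card_unit, hcard, add_comm]

/-- an adapted basis for the irreducible type -/
theorem typeI_basis (X : V →ₗ[F] V) (z : F) (hz : z ≠ 0) (h2 : (2 : F) ≠ 0)
    (hX : X ^ 2 = z • (1 : V →ₗ[F] V))
    (hirr : Irreducible (Polynomial.X ^ 2 - C z : F[X])) (m : ℕ) (hV : finrank F V = 2 * m) :
    ∃ b : Basis (Fin m ⊕ Fin m) F V, (∀ j, X (b (Sum.inl j)) = b (Sum.inr j)) ∧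
      ∀ j, X (b (Sum.inr j)) = z • b (Sum.inl j) := by
  obtain ⟨κ, hκ, hcard, e, hli, hsp⟩ := typeI_TB X z hz h2 hX hirr m ⊤
    (Module.End.invtSubmodule.top_mem X) (by rw [finrank_top, hV])
  have hXX : ∀ v, X (X v) = z • v := by
    intro v
    have := LinearMap.congr_fun hX v
    rw [pow_two, Module.End.mul_apply] at this
    rw [this]
    simp
  let b₀ : Basis (κ ⊕ κ) F V := Basis.mk hli (by rw [hsp])
  have hb₀ : ∀ i, b₀ i = Sum.elim e (fun j => X (e j)) i := fun i => Basis.mk_apply hli _ i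
  have hκm : Fintype.card κ = Fintype.card (Fin m) := by rw [hcard, Fintype.card_fin]
  let ε : κ ≃ Fin m := Fintype.equivOfCardEq hκm
  refine ⟨b₀.reindex (Equiv.sumCongr ε ε), ?_, ?_⟩
  · intro j
    rw [Basis.reindex_apply, Basis.reindex_apply, hb₀, hb₀]
    rfl
  · intro j
    rw [Basis.reindex_apply, Basis.reindex_apply, hb₀, hb₀]
    show X (X (e (ε.symm j))) = z • e (ε.symm j)
    exact hXX _

end typeI

end Cfsg.Agent.Lib.Helper29.LO
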