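import Mathlib
import Cfsg.Agent.Lib.Helper29.LO8
import Cfsg.Agent.Lib.Helper15.PSubf3

/-!
# Orthogonal-type subgroups of `SL_n(q)`, `q` odd: involutions modulo scalars are conjugate
into the subgroup
-/

set_option autoImplicit false

namespace Cfsg.Agent.Lib.Helper29.LO

open Module Submodule Matrix QuadraticMap Polynomial Cfsg.Agent.Lib.Helper13
  Cfsg.Agent.Lib.Helper15.PSub Cfsg.Agent.Lib.Helper15.PInv Cfsg.Agent.Lib.Helper15.PDec

section eigen

variable {F V : Type*} [Field F] [Fintype F] [AddCommGroup V] [Module F V] [FiniteDimensional F V]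

/-- a basis of eigenvectors -/
theorem exists_eigenbasis (X : V →ₗ[F] V) (h : ⨆ μ : F, Module.End.eigenspace X μ = ⊤) :
    ∃ (b : Basis (Fin (finrank F V)) F V) (d : Fin (finrank F V) → F),
      ∀ i, X (b i) = d i • b i := by
  classical
  have hint := DirectSum.isInternal_submodule_of_iSupIndep_of_iSup_eq_top
    (Module.End.eigenspaces_iSupIndep X) h
  let b₀ := hint.collectedBasis (fun μ => Module.finBasis F (Module.End.eigenspace X μ))
  have hcard : Fintype.card (Σ μ : F, Fin (finrank F (Module.End.eigenspace X μ))) =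
      finrank F V := (Module.finrank_eq_card_basis b₀).symm
  let ε := Fintype.equivOfCardEq (hcard.trans (Fintype.card_fin _).symm)
  refine ⟨b₀.reindex ε, fun i => (ε.symm i).1, fun i => ?_⟩
  rw [Basis.reindex_apply]
  have := hint.collectedBasis_mem
    (fun μ => Module.finBasis F (Module.End.eigenspace X μ)) (ε.symm i)
  exact Module.End.mem_eigenspace_iff.mp this

end eigen

section two
universe u
variable {F : Type u} [Field F] [Fintype F] {n : ℕ}

local notation "VV" => (Fin n → F)
local notation "MM" => Matrix (Fin n) (Fin n) F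
local notation "GG" => GL (Fin n) F

/-- conjugating a diagonalisable element whose eigenvalues are matched with a basis adapted to
the form -/
theorem good_of_eigen {Q : VV → F} (hQ : Cfsg.Geo.IsNondegenerateQuadraticForm Q)
    (h2 : (2 : F) ≠ 0) (x : GG) (μ : F) (hμ : μ ≠ 0)
    (hss : Module.End.IsSemisimple (Matrix.toLin' (x : MM))) {ι : Type} [Nonempty ι]
    (b v : Basis ι F VV) (d : ι → F)
    (hb : ∀ i, Matrix.toLin' (x : MM) (b i) = d i • b i)
    (hv : ∀ i j, d i * d j ≠ μ → polB hQ (v i) (v j) = 0) :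
    ∃ g ∈ Cfsg.Geo.specialLinear (Fin n) F, g⁻¹ * x * g ∈ Cfsg.Geo.quadSimilarityGroup Q := by
  obtain ⟨h, hh⟩ : ∃ h : VV ≃ₗ[F] VV, h = v.equiv b (Equiv.refl _) := ⟨_, rfl⟩
  have hhv : ∀ i, h (v i) = b i := by
    intro i
    rw [hh, Basis.equiv_apply]
    rfl
  obtain ⟨Y, hY⟩ : ∃ Y : VV →ₗ[F] VV,
      Y = (h.symm : VV →ₗ[F] VV) ∘ₗ Matrix.toLin' (x : MM) ∘ₗ (h : VV →ₗ[F] VV) := ⟨_, rfl⟩
  have hYapp : ∀ w, Y w = h.symm (Matrix.toLin' (x : MM) (h w)) := fun w => by rw [hY]; rfl
  have hYv : ∀ i, Y (v i) = d i • v i := by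
    intro i
    rw [hYapp, hhv, hb, map_smul, ← hhv, LinearEquiv.symm_apply_apply]
  apply assembly x h μ hμ
  · intro w
    rw [← hYapp]
    apply sim_of_basis hQ h2 v Y μ
    intro i j
    rw [hYv, hYv]
    simp only [map_smul, LinearMap.smul_apply, smul_eq_mul]
    by_cases hij : d i * d j = μ
    · rw [← hij]
      ring
    · rw [hv i j hij, mul_zero, mul_zero, mul_zero]
  · intro δ _
    obtain ⟨i0⟩ := ‹Nonempty ι›
    exact cent_of_eigenvector _ hss (d i0) (b i0) (hb i0) (b.ne_zero i0) δ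

end two

end Cfsg.Agent.Lib.Helper29.LO
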