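import Mathlib
import Cfsg.Agent.Lib.Helper29.LO9

/-!
# Orthogonal-type subgroups of `SL_n(q)`, `q` odd: a similarity of irreducible type with
prescribed square
-/

set_option autoImplicit false

namespace Cfsg.Agent.Lib.Helper29.LO

open Module Submodule Matrix QuadraticMap Polynomial Cfsg.Agent.Lib.Helper13
  Cfsg.Agent.Lib.Helper15.PSub Cfsg.Agent.Lib.Helper15.PInv Cfsg.Agent.Lib.Helper15.PDec

section typeIsim
universe u
variable {F : Type u} [Field F] [Fintype F] {n : ℕ}

local notation "VV" => (Fin n → F)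

/-- in even dimension the similarity group contains an element with any prescribed nonzero
scalar square (and multiplier equal to that scalar) -/
theorem exists_typeI_sim (m : ℕ) (hnm : n = m + m) {Q : VV → F}
    (hQ : Cfsg.Geo.IsNondegenerateQuadraticForm Q) (h2 : (2 : F) ≠ 0)
    (hodd : Fintype.card F % 2 = 1) (z : F) :
    ∃ Y : VV →ₗ[F] VV, Y ^ 2 = z • (1 : VV →ₗ[F] VV) ∧ ∀ w, Q (Y w) = z * Q w := by
  classical
  obtain ⟨v₀, horth₀, hq₀⟩ := exists_orth_basis hQ h2
  obtain ⟨v, hvdef⟩ : ∃ v : Basis (Fin m ⊕ Fin m) F VV,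
      v = v₀.reindex ((finCongr hnm).trans finSumFinEquiv.symm) := ⟨_, rfl⟩
  have horth : ∀ i j, i ≠ j → polB hQ (v i) (v j) = 0 := by
    intro i j hij
    rw [hvdef, Basis.reindex_apply, Basis.reindex_apply]
    apply horth₀
    intro h
    exact hij (Equiv.injective _ h)
  have hq : ∀ i, Q (v i) ≠ 0 := by
    intro i
    rw [hvdef, Basis.reindex_apply]
    exact hq₀ _
  -- solve the norm equations
  have hsol : ∀ j : Fin m, ∃ p r : F,
      Q (v (Sum.inl j)) * (p * p) + Q (v (Sum.inr j)) * (r * r) = z * Q (v (Sum.inl j)) := by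
    intro j
    have hα := hq (Sum.inl j)
    have hβ := hq (Sum.inr j)
    have hf2 : (Polynomial.X ^ 2 - C z : F[X]).degree = 2 := degree_X_pow_sub_C (by norm_num) z
    have hg2 : (C (Q (v (Sum.inr j)) / Q (v (Sum.inl j))) * Polynomial.X ^ 2 : F[X]).degree = 2 := by
      rw [degree_C_mul_X_pow 2 (div_ne_zero hβ hα)]
      rfl
    obtain ⟨a, b, h⟩ := FiniteField.exists_root_sum_quadratic hf2 hg2 hodd
    refine ⟨a, b, ?_⟩
    simp only [eval_sub, eval_pow, eval_X, eval_C, eval_mul] at h
    field_simp at h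
    linear_combination h
  choose p r hpr using hsol
  obtain ⟨s, hsdef⟩ : ∃ s : Fin m → F,
      s = fun j => Q (v (Sum.inr j)) * r j / Q (v (Sum.inl j)) := ⟨_, rfl⟩
  have hs : ∀ j, Q (v (Sum.inl j)) * s j = Q (v (Sum.inr j)) * r j := by
    intro j
    rw [hsdef]
    field_simp [hq (Sum.inl j)]
  have hz' : ∀ j, p j * p j + r j * s j = z := by
    intro j
    apply mul_left_cancel₀ (hq (Sum.inl j))
    linear_combination hpr j + r j * hs j
  obtain ⟨Y, hYdef⟩ : ∃ Y : VV →ₗ[F] VV, Y = v.constr F
      (Sum.elim (fun j => p j • v (Sum.inl j) + r j • v (Sum.inr j))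
        (fun j => s j • v (Sum.inl j) - p j • v (Sum.inr j))) := ⟨_, rfl⟩
  have hYl : ∀ j, Y (v (Sum.inl j)) = p j • v (Sum.inl j) + r j • v (Sum.inr j) := by
    intro j
    rw [hYdef, Basis.constr_basis]
    rfl
  have hYr : ∀ j, Y (v (Sum.inr j)) = s j • v (Sum.inl j) - p j • v (Sum.inr j) := by
    intro j
    rw [hYdef, Basis.constr_basis]
    rfl
  refine ⟨Y, ?_, ?_⟩
  · apply v.ext
    intro i
    rw [pow_two, Module.End.mul_apply, LinearMap.smul_apply, Module.End.one_apply]
    rcases i with j | j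
    · rw [hYl, map_add, map_smul, map_smul, hYl, hYr, ← hz' j]
      module
    · rw [hYr, map_sub, map_smul, map_smul, hYl, hYr, ← hz' j]
      module
  · apply sim_of_basis hQ h2 v Y z
    have hll : ∀ j, polB hQ (v (Sum.inl j)) (v (Sum.inl j)) = 2 * Q (v (Sum.inl j)) :=
      fun j => polB_self hQ _
    have hrr : ∀ j, polB hQ (v (Sum.inr j)) (v (Sum.inr j)) = 2 * Q (v (Sum.inr j)) :=
      fun j => polB_self hQ _
    have hlr : ∀ j k, polB hQ (v (Sum.inl j)) (v (Sum.inr k)) = 0 :=
      fun j k => horth _ _ Sum.inl_ne_inr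
    have hrl : ∀ j k, polB hQ (v (Sum.inr j)) (v (Sum.inl k)) = 0 :=
      fun j k => horth _ _ Sum.inr_ne_inl
    intro i i'
    rcases i with j | j <;> rcases i' with k | k
    · rw [hYl, hYl]
      simp only [map_add, map_smul, LinearMap.add_apply, LinearMap.smul_apply, smul_eq_mul,
        hlr, hrl, mul_zero, add_zero, zero_add]
      by_cases hjk : j = k
      · subst hjk
        rw [hll, hrr]
        linear_combination 2 * hpr j
      · rw [horth (Sum.inl j) (Sum.inl k) (fun h => hjk (Sum.inl.inj h)),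
          horth (Sum.inr j) (Sum.inr k) (fun h => hjk (Sum.inr.inj h))]
        ring
    · rw [hYl, hYr]
      simp only [map_add, map_smul, map_sub, LinearMap.add_apply, LinearMap.smul_apply,
        LinearMap.sub_apply, smul_eq_mul, hlr, hrl, mul_zero, add_zero, zero_add, sub_zero,
        zero_sub]
      by_cases hjk : j = k
      · subst hjk
        rw [hll, hrr]
        linear_combination (2 * p j) * hs j
      · rw [horth (Sum.inl j) (Sum.inl k) (fun h => hjk (Sum.inl.inj h)),
          horth (Sum.inr j) (Sum.inr k) (fun h => hjk (Sum.inr.inj h))]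
        ring
    · rw [hYr, hYl]
      simp only [map_add, map_smul, map_sub, LinearMap.add_apply, LinearMap.smul_apply,
        LinearMap.sub_apply, smul_eq_mul, hlr, hrl, mul_zero, add_zero, zero_add, sub_zero,
        zero_sub]
      by_cases hjk : j = k
      · subst hjk
        rw [hll, hrr]
        linear_combination (2 * p j) * hs j
      · rw [horth (Sum.inl j) (Sum.inl k) (fun h => hjk (Sum.inl.inj h)),
          horth (Sum.inr j) (Sum.inr k) (fun h => hjk (Sum.inr.inj h))]
        ring
    · rw [hYr, hYr]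
      simp only [map_add, map_smul, map_sub, LinearMap.add_apply, LinearMap.smul_apply,
        LinearMap.sub_apply, smul_eq_mul, hlr, hrl, mul_zero, add_zero, zero_add, sub_zero,
        zero_sub]
      by_cases hjk : j = k
      · subst hjk
        rw [hll, hrr]
        linear_combination (2 * s j) * hs j + (2 * Q (v (Sum.inr j))) * hz' j
      · rw [horth (Sum.inl j) (Sum.inl k) (fun h => hjk (Sum.inl.inj h)),
          horth (Sum.inr j) (Sum.inr k) (fun h => hjk (Sum.inr.inj h))]
        ring

end typeIsim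

end Cfsg.Agent.Lib.Helper29.LO
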