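import Mathlib
import Cfsg.Agent.Lib.Helper29.LO10

/-!
# Orthogonal-type subgroups of `SL_n(q)`, `q` odd: involutions modulo scalars
-/

set_option autoImplicit false

namespace Cfsg.Agent.Lib.Helper29.LO

open Module Submodule Matrix QuadraticMap Polynomial Cfsg.Agent.Lib.Helper13
  Cfsg.Agent.Lib.Helper15.PSub Cfsg.Agent.Lib.Helper15.PInv Cfsg.Agent.Lib.Helper15.PDec

section two
universe u
variable {F : Type u} [Field F] [Fintype F] {n : ℕ}

local notation "VV" => (Fin n → F)
local notation "MM" => Matrix (Fin n) (Fin n) F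
local notation "GG" => GL (Fin n) F

omit [Fintype F] in
theorem toLin_pow_of_coe (x : GG) (r : ℕ) (z : F)
    (hx : ((x ^ r : GG) : MM) = z • (1 : MM)) :
    Matrix.toLin' (x : MM) ^ r = z • (1 : VV →ₗ[F] VV) := by
  rw [← toLin'_pow', ← Units.val_pow_eq_pow_val, hx, toLin'_smul_one]

omit [Fintype F] in
theorem det_toLin_of_mem (x : GG) (hx : x ∈ Cfsg.Geo.specialLinear (Fin n) F) :
    LinearMap.det (Matrix.toLin' (x : MM)) = 1 := by
  rw [LinearMap.det_toLin']
  exact (mem_specialLinear_iff x).mp hx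

/-- every involution modulo scalars is conjugate into the orthogonal-type subgroup -/
theorem good_two (hn : 0 < n) {Q : VV → F} (hQ : Cfsg.Geo.IsNondegenerateQuadraticForm Q)
    (hodd : Odd (Fintype.card F)) (x : GG) (hx : x ∈ Cfsg.Geo.specialLinear (Fin n) F) (z : F)
    (hx2 : ((x ^ 2 : GG) : MM) = z • (1 : MM)) :
    ∃ g ∈ Cfsg.Geo.specialLinear (Fin n) F, g⁻¹ * x * g ∈ Cfsg.Geo.quadSimilarityGroup Q := by
  classical
  have h2 : (2 : F) ≠ 0 := by
    intro h
    have hk := FiniteField.even_card_of_char_two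
      (CharP.ringChar_of_prime_eq_zero Nat.prime_two h)
    exact (Nat.not_even_iff_odd.mpr hodd) (Nat.even_iff.mpr hk)
  have hodd' : Fintype.card F % 2 = 1 := Nat.odd_iff.mp hodd
  set X := Matrix.toLin' (x : MM) with hXdef
  have hX2 : X ^ 2 = z • (1 : VV →ₗ[F] VV) := toLin_pow_of_coe x 2 z hx2
  have hdetX : LinearMap.det X = 1 := det_toLin_of_mem x hx
  have hV : finrank F VV = n := Module.finrank_fin_fun F
  have hV0 : finrank F VV ≠ 0 := by rw [hV]; omega
  have hz : z ≠ 0 := by
    rintro rfl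
    have h1 := congrArg LinearMap.det hX2
    rw [map_pow, hdetX, LinearMap.det_smul, hV, zero_pow (by omega), zero_mul] at h1
    simp at h1
  have hss : Module.End.IsSemisimple X :=
    isSemisimple_of_pow_eq_smul X 2 (by exact_mod_cast h2) z hz hX2
  have hXX : ∀ v, X (X v) = z • v := by
    intro v
    have := LinearMap.congr_fun hX2 v
    rw [pow_two, Module.End.mul_apply] at this
    rw [this]
    simp
  haveI : Nonempty (Fin n) := ⟨⟨0, hn⟩⟩
  by_cases hsq : IsSquare z
  · obtain ⟨w, hw⟩ := hsq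
    have hw0 : w ≠ 0 := by
      rintro rfl
      apply hz
      rw [hw, mul_zero]
    have hX2' : X ^ 2 = (w * w) • (1 : VV →ₗ[F] VV) := by rw [← hw]; exact hX2
    have hc := typeD_isCompl X w hw0 h2 hX2'
    have htop : ⨆ μ : F, Module.End.eigenspace X μ = ⊤ := by
      rw [eq_top_iff, ← hc.sup_eq_top]
      exact sup_le (le_iSup _ w) (le_iSup _ (-w))
    obtain ⟨b₀, d₀, hb₀⟩ := exists_eigenbasis X htop
    obtain ⟨b, hbdef⟩ : ∃ b : Basis (Fin n) F VV, b = b₀.reindex (finCongr hV) := ⟨_, rfl⟩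
    obtain ⟨d, hddef⟩ : ∃ d : Fin n → F, d = fun i => d₀ ((finCongr hV).symm i) := ⟨_, rfl⟩
    have hb : ∀ i, X (b i) = d i • b i := by
      intro i
      rw [hbdef, hddef, Basis.reindex_apply]
      exact hb₀ _
    have hd : ∀ i, d i * d i = z := by
      intro i
      have h1 := hXX (b i)
      rw [hb, map_smul, hb, smul_smul] at h1
      have h3 : (d i * d i - z) • b i = 0 := by rw [sub_smul, h1, sub_self]
      rcases smul_eq_zero.mp h3 with h4 | h4
      · exact sub_eq_zero.mp h4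
      · exact absurd h4 (b.ne_zero i)
    obtain ⟨v, horth, -⟩ := exists_orth_basis hQ h2
    apply good_of_eigen hQ h2 x z hz hss b v d hb
    intro i j hij
    apply horth
    rintro rfl
    exact hij (hd i)
  · have hirr : Irreducible (Polynomial.X ^ 2 - C z : F[X]) := by
      apply X_pow_sub_C_irreducible_of_prime Nat.prime_two
      intro b hb
      apply hsq
      exact ⟨b, by rw [← hb, pow_two]⟩
    obtain ⟨m, hm⟩ := Cfsg.Agent.Lib.Helper15.PSubf.typeI_even X z hsq hX2 hdetX
    rw [hV] at hm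
    have hV2 : finrank F VV = 2 * m := by rw [hV, hm]; ring
    obtain ⟨Y, hY2, hYQ⟩ := exists_typeI_sim m hm hQ h2 hodd' z
    obtain ⟨bX, hbX1, hbX2⟩ := typeI_basis X z hz h2 hX2 hirr m hV2
    obtain ⟨bY, hbY1, hbY2⟩ := typeI_basis Y z hz h2 hY2 hirr m hV2
    obtain ⟨h, hh⟩ : ∃ h : VV ≃ₗ[F] VV, h = bY.equiv bX (Equiv.refl _) := ⟨_, rfl⟩
    have hhb : ∀ i, h (bY i) = bX i := by
      intro i
      rw [hh, Basis.equiv_apply]
      rfl
    have hcomm : X ∘ₗ (h : VV →ₗ[F] VV) = (h : VV →ₗ[F] VV) ∘ₗ Y := by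
      apply bY.ext
      intro i
      rw [LinearMap.comp_apply, LinearMap.comp_apply, LinearEquiv.coe_coe, hhb]
      rcases i with j | j
      · rw [hbX1, hbY1, hhb]
      · rw [hbX2, hbY2, map_smul, hhb]
    apply assembly x h z hz
    · intro w
      have h1 : X (h w) = h (Y w) := LinearMap.congr_fun hcomm w
      rw [← hXdef, h1, LinearEquiv.symm_apply_apply]
      exact hYQ w
    · intro δ _
      exact typeI_cent X z hz h2 hodd' hX2 hirr hV0 δ

end two

end Cfsg.Agent.Lib.Helper29.LO
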