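import Mathlib
import Cfsg.Agent.Lib.Helper29.LO11

/-!
# Orthogonal-type subgroups of `SL_n(q)`, `q` odd: diagonalisation of elements of order `r`
-/

set_option autoImplicit false

namespace Cfsg.Agent.Lib.Helper29.LO

open Module Submodule Polynomial

section eigen

variable {F V : Type*} [Field F] [AddCommGroup V] [Module F V]

theorem ker_prod_eq_iSup (f : V →ₗ[F] V) (S : Finset F) :
    LinearMap.ker (aeval f (∏ a ∈ S, (X - C a))) = ⨆ a ∈ S, Module.End.eigenspace f a := by
  classical
  induction S using Finset.induction_on with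
  | empty =>
    rw [Finset.prod_empty, map_one]
    simp
    rfl
  | insert a S ha ih =>
    have hcop : IsCoprime (X - C a) (∏ b ∈ S, (X - C b)) := by
      apply IsCoprime.prod_right
      intro b hb
      apply isCoprime_X_sub_C_of_isUnit_sub
      apply IsUnit.mk0
      intro h
      apply ha
      rw [sub_eq_zero.mp h]
      exact hb
    rw [Finset.prod_insert ha, ← sup_ker_aeval_eq_ker_aeval_mul_of_coprime f hcop, ih,
      Finset.iSup_insert]
    congr 1
    rw [Module.End.eigenspace_def, map_sub, aeval_X, aeval_C, Algebra.algebraMap_eq_smul_one]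

/-- an endomorphism of order dividing `r` is diagonalisable when `F` has a primitive `r`-th
root of unity -/
theorem iSup_eigenspace_of_pow_eq_one (f : V →ₗ[F] V) (r : ℕ) (hr : 0 < r) (ζ : F)
    (hζ : IsPrimitiveRoot ζ r) (hf : f ^ r = 1) : ⨆ μ : F, Module.End.eigenspace f μ = ⊤ := by
  have h1 : aeval f (X ^ r - 1 : F[X]) = 0 := by
    rw [map_sub, map_pow, aeval_X, map_one, hf, sub_self]
  rw [X_pow_sub_one_eq_prod hr hζ] at h1
  have h2 := ker_prod_eq_iSup f (nthRootsFinset r (1 : F))
  rw [h1, LinearMap.ker_zero] at h2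
  rw [eq_top_iff, h2]
  apply iSup_le
  intro a
  apply iSup_le
  intro _
  exact le_iSup (fun μ => Module.End.eigenspace f μ) a

end eigen

end Cfsg.Agent.Lib.Helper29.LO
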