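import Mathlib
import Cfsg.Agent.Lib.Helper29.ES1
import Cfsg.Agent.Lib.Helper29.ES2
import Cfsg.Agent.Lib.Helper29.LO12

/-!
# Joint eigenspaces of a commuting family permuted cyclically by a linear map
-/

set_option autoImplicit false
set_option linter.unusedSectionVars false

namespace Cfsg.Agent.Lib.Helper29.ES

open Module Polynomial

section joint

variable {F : Type*} [Field F] {V : Type*} [AddCommGroup V] [Module F V] [FiniteDimensional F V]

theorem isSemisimple_of_pow_eq_one (f : Module.End F V) (r : ℕ) (hr : 0 < r) (ζ : F)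
    (hζ : IsPrimitiveRoot ζ r) (hf : f ^ r = 1) : f.IsSemisimple := by
  haveI : NeZero r := ⟨by omega⟩
  have hr0 : ((r : ℕ) : F) ≠ 0 := (hζ.neZero' (R := F)).ne
  have hsep : (X ^ r - 1 : F[X]).Separable := X_pow_sub_one_separable_iff.mpr hr0
  apply Module.End.isSemisimple_of_squarefree_aeval_eq_zero hsep.squarefree
  rw [map_sub, map_pow, aeval_X, map_one, hf, sub_self]

theorem maxGenEigenspace_eq_of_pow_eq_one (f : Module.End F V) (r : ℕ) (hr : 0 < r) (ζ : F)
    (hζ : IsPrimitiveRoot ζ r) (hf : f ^ r = 1) (μ : F) :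
    f.maxGenEigenspace μ = f.eigenspace μ :=
  (isSemisimple_of_pow_eq_one f r hr ζ hζ hf).isFinitelySemisimple.maxGenEigenspace_eq_eigenspace μ

theorem finrank_eq_sum_of_indep {I : Type*} [Fintype I] (p : I → Submodule F V)
    (hp : iSupIndep p) (htop : ⨆ i, p i = ⊤) : finrank F V = ∑ i, finrank F (p i) := by
  classical
  rw [← Cfsg.Agent.Lib.Helper14.SzRep.finrank_biSup_eq hp Finset.univ]
  have : (⨆ i ∈ (Finset.univ : Finset I), p i) = ⊤ := by
    rw [← htop]; simp
  rw [this, finrank_top]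

variable [Fintype F] [DecidableEq F]

/-- **Lemma G**: a commuting family `y i` (`i : ZMod ϖ`) of diagonalisable endomorphisms permuted
cyclically by an injective `g`. -/
theorem cyclic_family_bound (ϖ : ℕ) [hϖ : Fact ϖ.Prime] (y : ZMod ϖ → Module.End F V)
    (hcomm : ∀ i j, Commute (y i) (y j))
    (hdiag : ∀ i, ⨆ μ, Module.End.eigenspace (y i) μ = ⊤)
    (hss : ∀ i μ, (y i).maxGenEigenspace μ = (y i).eigenspace μ)
    (g : Module.End F V) (hginj : Function.Injective g)
    (hg : ∀ i, g * y i = y (i + 1) * g) (c : F) (hc : c ≠ 0) :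
    ϖ * finrank F ↥(Module.End.eigenspace g c) ≤
      finrank F V + (ϖ - 1) * finrank F ↥(⨅ i, LinearMap.ker (y i - y 0)) := by
  classical
  haveI : NeZero ϖ := ⟨hϖ.out.ne_zero⟩
  set p : (ZMod ϖ → F) → Submodule F V := fun χ => ⨅ i, Module.End.eigenspace (y i) (χ i) with hp
  have hp' : p = fun χ : ZMod ϖ → F => ⨅ i, (y i).maxGenEigenspace (χ i) := by
    funext χ
    simp only [hp, hss]
  have hind : iSupIndep p := by
    rw [hp']
    apply Module.End.independent_iInf_maxGenEigenspace_of_forall_mapsTo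
    intro i j φ
    exact Module.End.mapsTo_maxGenEigenspace_of_comm (hcomm j i) φ
  have htop : ⨆ χ, p χ = ⊤ := by
    rw [hp']
    apply Module.End.iSup_iInf_maxGenEigenspace_eq_top_of_iSup_maxGenEigenspace_eq_top_of_commute
    · intro i j _
      exact hcomm i j
    · intro i
      simp only [hss]
      exact hdiag i
  -- the shift
  let σ : Equiv.Perm (ZMod ϖ → F) :=
    { toFun := fun χ j => χ (j - 1)
      invFun := fun χ j => χ (j + 1)
      left_inv := by intro χ; funext j; simp
      right_inv := by intro χ; funext j; simp }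
  have hσ : ∀ χ j, σ χ j = χ (j - 1) := fun _ _ => rfl
  have hσs : ∀ χ j, σ.symm χ j = χ (j + 1) := fun _ _ => rfl
  have hσk : ∀ (k : ℕ) χ j, (σ ^ k) χ j = χ (j - k) := by
    intro k
    induction k with
    | zero => intro χ j; simp
    | succ k ih =>
      intro χ j
      rw [pow_succ, Equiv.Perm.mul_apply, ih, hσ]
      congr 1
      push_cast
      ring
  have hσϖ : σ ^ ϖ = 1 := by
    ext χ j
    rw [hσk]
    simp
  have hgσ : ∀ χ, ∀ v ∈ p χ, g v ∈ p (σ χ) := by
    intro χ v hv
    simp only [hp, Submodule.mem_iInf, Module.End.mem_eigenspace_iff] at hv ⊢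
    intro i
    have h1 : y i (g v) = g (y (i - 1) v) := by
      have := hg (i - 1)
      rw [sub_add_cancel] at this
      have h2 := LinearMap.congr_fun this v
      simp only [Module.End.mul_apply] at h2
      exact h2.symm
    rw [h1, hv (i - 1), map_smul, hσ]
  set d : (ZMod ϖ → F) → ℕ := fun χ => finrank F (p χ) with hd
  have hdle : ∀ χ, d χ ≤ d (σ χ) := by
    intro χ
    simp only [hd]
    rw [← finrank_map_of_injective g hginj (p χ)]
    apply Submodule.finrank_mono
    rintro _ ⟨v, hv, rfl⟩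
    exact hgσ χ v hv
  have hdk : ∀ (k : ℕ) χ, d χ ≤ d ((σ ^ k) χ) := by
    intro k
    induction k with
    | zero => intro χ; simp
    | succ k ih =>
      intro χ
      rw [pow_succ', Equiv.Perm.mul_apply]
      exact (ih χ).trans (hdle _)
  have hdeq : ∀ χ, d (σ χ) = d χ := by
    intro χ
    apply le_antisymm _ (hdle χ)
    have h1 := hdk (ϖ - 1) (σ χ)
    have h2 : (σ ^ (ϖ - 1)) (σ χ) = χ := by
      rw [← Equiv.Perm.mul_apply, ← pow_succ]
      have : ϖ - 1 + 1 = ϖ := Nat.sub_add_cancel hϖ.out.one_le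
      rw [this, hσϖ]; rfl
    rwa [h2] at h1
  have hdeq' : ∀ χ, d (σ.symm χ) = d χ := by
    intro χ
    have := hdeq (σ.symm χ)
    rw [Equiv.apply_symm_apply] at this
    exact this.symm
  have hτϖ : (σ.symm : Equiv.Perm (ZMod ϖ → F)) ^ ϖ = 1 := by
    have : (σ.symm : Equiv.Perm (ZMod ϖ → F)) = σ⁻¹ := rfl
    rw [this, inv_pow, hσϖ, inv_one]
  obtain ⟨T, hT1, hT2⟩ := exists_transversal (σ.symm : Equiv.Perm (ZMod ϖ → F)) ϖ hϖ.out hτϖ d hdeq'
  have hPM := finrank_eigenspace_le_sum p hind htop g σ hgσ c hc T hT1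
  have hn : finrank F V = ∑ χ, d χ := finrank_eq_sum_of_indep p hind htop
  -- the fixed weights
  have hfix : ∑ χ ∈ Finset.univ.filter (fun χ => σ.symm χ = χ), d χ ≤
      finrank F ↥(⨅ i, LinearMap.ker (y i - y 0)) := by
    rw [← Cfsg.Agent.Lib.Helper14.SzRep.finrank_biSup_eq hind]
    apply Submodule.finrank_mono
    refine iSup₂_le (fun χ hχ => ?_)
    rw [Finset.mem_filter] at hχ
    have hχ1 : ∀ j, χ (j + 1) = χ j := by
      intro j
      have := congrFun hχ.2 j
      rwa [hσs] at this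
    have hχ2 : ∀ k : ℕ, χ (k : ZMod ϖ) = χ 0 := by
      intro k
      induction k with
      | zero => simp
      | succ k ih => rw [Nat.cast_succ, hχ1, ih]
    have hχ3 : ∀ j, χ j = χ 0 := by
      intro j
      have := hχ2 j.val
      rwa [ZMod.natCast_zmod_val] at this
    intro v hv
    simp only [hp, Submodule.mem_iInf, Module.End.mem_eigenspace_iff] at hv
    simp only [Submodule.mem_iInf, LinearMap.mem_ker, LinearMap.sub_apply]
    intro i
    rw [hv i, hv 0, hχ3 i, sub_self]
  calc ϖ * finrank F ↥(Module.End.eigenspace g c) ≤ ϖ * ∑ t ∈ T, d t :=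
        Nat.mul_le_mul_left _ hPM
    _ ≤ ∑ χ, d χ + (ϖ - 1) * ∑ χ ∈ Finset.univ.filter (fun χ => σ.symm χ = χ), d χ := hT2
    _ ≤ finrank F V + (ϖ - 1) * finrank F ↥(⨅ i, LinearMap.ker (y i - y 0)) := by
        rw [← hn]
        exact Nat.add_le_add_left (Nat.mul_le_mul_left _ hfix) _

end joint

end Cfsg.Agent.Lib.Helper29.ES
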