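import Mathlib
import Cfsg.Agent.Lib.Helper29.ES1

/-!
# Groups of matrices with scalar commutators: first consequences
-/

set_option autoImplicit false
set_option linter.unusedSectionVars false

namespace Cfsg.Agent.Lib.Helper29.ES

open Module Matrix

section setup

variable {F : Type*} [Field F] {n : ℕ}

local notation "MM" => Matrix (Fin n) (Fin n) F
local notation "GG" => Matrix.GeneralLinearGroup (Fin n) F
local notation "VV" => (Fin n → F)

/-- the eigenspace of a matrix -/
noncomputable def eig (A : MM) (c : F) : Submodule F VV :=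
  Module.End.eigenspace (Matrix.toLin' A) c

theorem mem_eig (A : MM) (c : F) (v : VV) : v ∈ eig A c ↔ A *ᵥ v = c • v := by
  unfold eig
  rw [Module.End.mem_eigenspace_iff, Matrix.toLin'_apply]

/-- the action of an invertible matrix on vectors -/
def act (a : GG) (v : VV) : VV := (a : MM) *ᵥ v

theorem act_mul (a b : GG) (v : VV) : act (a * b) v = act a (act b v) := by
  unfold act
  rw [Units.val_mul, Matrix.mulVec_mulVec]

theorem act_one (v : VV) : act (1 : GG) v = v := by
  unfold act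
  rw [Units.val_one, Matrix.one_mulVec]

theorem act_inv_act (a : GG) (v : VV) : act a⁻¹ (act a v) = v := by
  rw [← act_mul, inv_mul_cancel, act_one]

theorem act_act_inv (a : GG) (v : VV) : act a (act a⁻¹ v) = v := by
  rw [← act_mul, mul_inv_cancel, act_one]

theorem act_smul (a : GG) (c : F) (v : VV) : act a (c • v) = c • act a v := by
  unfold act
  rw [Matrix.mulVec_smul]

theorem act_zero (a : GG) : act a (0 : VV) = 0 := by
  unfold act
  rw [Matrix.mulVec_zero]

theorem act_injective (a : GG) : Function.Injective (act a) := by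
  intro v w h
  have := congrArg (act a⁻¹) h
  rwa [act_inv_act, act_inv_act] at this

theorem act_pow (a : GG) (k : ℕ) (c : F) (v : VV) (h : act a v = c • v) :
    act (a ^ k) v = c ^ k • v := by
  induction k with
  | zero => rw [pow_zero, pow_zero, act_one, one_smul]
  | succ k ih => rw [pow_succ, act_mul, h, act_smul, ih, smul_smul, pow_succ, mul_comm]

theorem act_inv_of (a : GG) (c : F) (hc : c ≠ 0) (v : VV) (h : act a v = c • v) :
    act a⁻¹ v = c⁻¹ • v := by
  have h1 : act a⁻¹ (act a v) = v := act_inv_act a v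
  rw [h, act_smul] at h1
  have h2 : c⁻¹ • (c • act a⁻¹ v) = c⁻¹ • v := by rw [h1]
  rwa [smul_smul, inv_mul_cancel₀ hc, one_smul] at h2

theorem mem_eig_iff (a : GG) (c : F) (v : VV) : v ∈ eig (a : MM) c ↔ act a v = c • v :=
  mem_eig _ _ _

theorem toLin'_apply_eq_act (a : GG) (v : VV) : Matrix.toLin' (a : MM) v = act a v := by
  rw [Matrix.toLin'_apply]; rfl

theorem toLin'_injective (a : GG) : Function.Injective (Matrix.toLin' (a : MM)) := by
  intro v w h
  rw [toLin'_apply_eq_act, toLin'_apply_eq_act] at h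
  exact act_injective a h

theorem eig_zero (a : GG) : eig (a : MM) 0 = ⊥ := by
  rw [eq_bot_iff]
  intro v hv
  rw [mem_eig_iff, zero_smul] at hv
  rw [Submodule.mem_bot]
  have := act_injective a (hv.trans (act_zero a).symm)
  exact this

theorem finrank_VV : finrank F VV = n := by
  rw [Module.finrank_fin_fun]

/-- a scalar matrix -/
def IsSc (A : MM) : Prop := ∃ c : F, A = c • (1 : MM)

/-- a group of matrices with scalar commutators of order dividing `r` and scalar commutant -/
structure Setup (r : ℕ) (N : Subgroup GG) : Prop where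
  hr : r.Prime
  hn : 0 < n
  comm : ∀ a ∈ N, ∀ b ∈ N, ∃ ζ : F, ζ ^ r = 1 ∧
    ((a : GG) : MM) * ((b : GG) : MM) = ζ • (((b : GG) : MM) * ((a : GG) : MM))
  scal : ∀ A : MM, (∀ a ∈ N, A * ((a : GG) : MM) = ((a : GG) : MM) * A) → IsSc A

theorem exists_vec_ne_zero (hn : 0 < n) : ∃ v : VV, v ≠ 0 := by
  refine ⟨fun _ => 1, ?_⟩
  intro h
  have := congrFun h ⟨0, hn⟩
  simp at this

theorem smul_one_mulVec (c : F) (v : VV) : (c • (1 : MM)) *ᵥ v = c • v := by
  rw [Matrix.smul_mulVec, Matrix.one_mulVec]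

theorem root_pow_ne_one {r : ℕ} (hr : r.Prime) (ζ : F) (h1 : ζ ^ r = 1) (hne : ζ ≠ 1) :
    ∀ j, 0 < j → j < r → ζ ^ j ≠ 1 := by
  haveI : Fact r.Prime := ⟨hr⟩
  have hord : orderOf ζ = r := orderOf_eq_prime h1 hne
  intro j hj0 hjr
  exact pow_ne_one_of_lt_orderOf (by omega) (by rw [hord]; exact hjr)

theorem root_ne_zero {r : ℕ} (hr : r.Prime) (ζ : F) (h1 : ζ ^ r = 1) : ζ ≠ 0 := by
  intro h
  rw [h, zero_pow hr.ne_zero] at h1
  exact zero_ne_one h1

variable {r : ℕ} {N : Subgroup (Matrix.GeneralLinearGroup (Fin n) F)}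

/-- **C1**: non-scalar elements have small eigenspaces -/
theorem Setup.finrank_eig_le (h : Setup r N) {a : GG} (ha : a ∈ N) (hns : ¬ IsSc ((a : GG) : MM))
    (c : F) : r * finrank F (eig ((a : GG) : MM) c) ≤ n := by
  by_cases hc : c = 0
  · rw [hc, eig_zero, finrank_bot, mul_zero]; exact Nat.zero_le _
  have hex : ∃ s ∈ N, ((a : GG) : MM) * ((s : GG) : MM) ≠ ((s : GG) : MM) * ((a : GG) : MM) := by
    by_contra hall
    push_neg at hall
    exact hns (h.scal _ hall)
  obtain ⟨s, hs, hsa⟩ := hex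
  obtain ⟨ζ, hζr, hζ⟩ := h.comm a ha s hs
  have hζ1 : ζ ≠ 1 := by
    intro h1
    rw [h1, one_smul] at hζ
    exact hsa hζ
  have key := twisted_finrank_le (Matrix.toLin' ((a : GG) : MM)) (Matrix.toLin' ((s : GG) : MM)) ⊤
    (toLin'_injective s) ζ (root_ne_zero h.hr ζ hζr) r (root_pow_ne_one h.hr ζ hζr hζ1) c hc ?_
  · rw [top_inf_eq, finrank_top, finrank_VV] at key
    exact key
  · intro l v _ hv
    refine ⟨Submodule.mem_top, ?_⟩
    rw [Module.End.mem_eigenspace_iff] at hv ⊢
    rw [Matrix.toLin'_apply] at hv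
    rw [Matrix.toLin'_apply, Matrix.toLin'_apply, Matrix.mulVec_mulVec, hζ, Matrix.smul_mulVec,
      ← Matrix.mulVec_mulVec, hv, Matrix.mulVec_smul, smul_smul, mul_comm]

/-- `r`-th powers are scalar -/
theorem Setup.pow_isSc (h : Setup r N) {a : GG} (ha : a ∈ N) : IsSc (((a : GG) : MM) ^ r) := by
  apply h.scal
  intro s hs
  obtain ⟨ζ, hζr, hζ⟩ := h.comm s hs a ha
  have hk : ∀ k : ℕ, ((s : GG) : MM) * ((a : GG) : MM) ^ k =
      ζ ^ k • (((a : GG) : MM) ^ k * ((s : GG) : MM)) := by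
    intro k
    induction k with
    | zero => simp
    | succ k ih =>
      rw [pow_succ, ← Matrix.mul_assoc, ih, Matrix.smul_mul, Matrix.mul_assoc, hζ, Matrix.mul_smul,
        smul_smul, ← Matrix.mul_assoc, pow_succ]
  have := hk r
  rw [hζr, one_smul] at this
  exact this.symm

theorem isSc_one_of_fix {A : MM} (hA : IsSc A) (u : VV) (hu : u ≠ 0) (hfix : A *ᵥ u = u) :
    A = 1 := by
  obtain ⟨c, rfl⟩ := hA
  rw [smul_one_mulVec] at hfix
  have h1 : (c - 1) • u = 0 := by rw [sub_smul, hfix, one_smul, sub_self]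
  rcases smul_eq_zero.mp h1 with h2 | h2
  · rw [sub_eq_zero.mp h2, one_smul]
  · exact absurd h2 hu

/-- the intersection of an eigenspace of `g` with its translate is fixed by the commutator -/
theorem inf_map_le_eig_one (g x : GG) (c : F) (hc : c ≠ 0) :
    eig ((g : GG) : MM) c ⊓ (eig ((g : GG) : MM) c).map (Matrix.toLin' ((x : GG) : MM)) ≤
      eig (((x * g * x⁻¹ * g⁻¹ : GG) : GG) : MM) 1 := by
  rintro u ⟨hu1, w, hw, rfl⟩
  rw [SetLike.mem_coe, mem_eig_iff] at hu1 hw
  rw [toLin'_apply_eq_act] at hu1 ⊢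
  rw [mem_eig_iff, one_smul, act_mul, act_mul, act_mul, act_inv_of g c hc _ hu1, act_smul,
    act_inv_act, act_smul, hw, smul_smul, inv_mul_cancel₀ hc, one_smul]

theorem two_mul_finrank_le (g x : GG) (c : F) :
    2 * finrank F (eig ((g : GG) : MM) c) ≤ n +
      finrank F ↥(eig ((g : GG) : MM) c ⊓
        (eig ((g : GG) : MM) c).map (Matrix.toLin' ((x : GG) : MM))) := by
  have h1 := finrank_add_le_inf (eig ((g : GG) : MM) c)
    ((eig ((g : GG) : MM) c).map (Matrix.toLin' ((x : GG) : MM)))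
  rw [finrank_map_of_injective _ (toLin'_injective x), finrank_VV] at h1
  omega

theorem conj_mem_of_normalizes {g : GG} (hgN : ∀ a, a ∈ N ↔ g * a * g⁻¹ ∈ N) {x : GG}
    (hx : x ∈ N) : x * g * x⁻¹ * g⁻¹ ∈ N := by
  have h1 : g * x⁻¹ * g⁻¹ ∈ N := (hgN x⁻¹).mp (N.inv_mem hx)
  have h2 : x * g * x⁻¹ * g⁻¹ = x * (g * x⁻¹ * g⁻¹) := by group
  rw [h2]
  exact N.mul_mem hx h1

/-- **first bound** -/
theorem Setup.first_bound (h : Setup r N) (g : GG) (hgN : ∀ a, a ∈ N ↔ g * a * g⁻¹ ∈ N)
    (hgs : ¬ IsSc ((g : GG) : MM)) (c : F) :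
    2 * finrank F (eig ((g : GG) : MM) c) ≤ n ∨
    ∃ x ∈ N, ¬ IsSc (((x * g * x⁻¹ * g⁻¹ : GG) : GG) : MM) ∧
      (eig ((g : GG) : MM) c ⊓ (eig ((g : GG) : MM) c).map (Matrix.toLin' ((x : GG) : MM)) ≠ ⊥) ∧
      2 * r * finrank F (eig ((g : GG) : MM) c) ≤ (r + 1) * n := by
  by_cases hc : c = 0
  · left
    rw [hc, eig_zero, finrank_bot, mul_zero]; exact Nat.zero_le _
  have hex : ∃ x ∈ N, ((g : GG) : MM) * ((x : GG) : MM) ≠ ((x : GG) : MM) * ((g : GG) : MM) := by
    by_contra hall
    push_neg at hall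
    exact hgs (h.scal _ hall)
  obtain ⟨x, hx, hxg⟩ := hex
  set y : GG := x * g * x⁻¹ * g⁻¹ with hy
  have hyN : y ∈ N := conj_mem_of_normalizes hgN hx
  have hy1 : y ≠ 1 := by
    intro h1
    apply hxg
    have h2 : x * g = g * x := by
      have : x * g * x⁻¹ * g⁻¹ = 1 := h1
      calc x * g = (x * g * x⁻¹ * g⁻¹) * (g * x) := by group
        _ = g * x := by rw [this, one_mul]
    have h3 := congrArg (fun z : GG => (z : MM)) h2
    simp only [Units.val_mul] at h3
    exact h3.symm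
  set U := eig ((g : GG) : MM) c ⊓ (eig ((g : GG) : MM) c).map (Matrix.toLin' ((x : GG) : MM))
    with hU
  have hUle : U ≤ eig ((y : GG) : MM) 1 := inf_map_le_eig_one g x c hc
  have h2e := two_mul_finrank_le g x c
  by_cases hUbot : U = ⊥
  · left
    rw [← hU, hUbot, finrank_bot] at h2e
    exact h2e
  by_cases hsc : IsSc ((y : GG) : MM)
  · exfalso
    obtain ⟨u, huU, hu0⟩ := (Submodule.ne_bot_iff U).mp hUbot
    have h1 := hUle huU
    rw [mem_eig, one_smul] at h1
    have h2 := isSc_one_of_fix hsc u hu0 h1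
    apply hy1
    apply Units.ext
    rw [h2, Units.val_one]
  · right
    refine ⟨x, hx, hsc, hUbot, ?_⟩
    have h1 := h.finrank_eig_le hyN hsc 1
    have h2 : finrank F U ≤ finrank F (eig ((y : GG) : MM) 1) := Submodule.finrank_mono hUle
    have h3 : r * finrank F U ≤ n := (Nat.mul_le_mul_left r h2).trans h1
    calc 2 * r * finrank F (eig ((g : GG) : MM) c)
        = r * (2 * finrank F (eig ((g : GG) : MM) c)) := by ring
      _ ≤ r * (n + finrank F U) := Nat.mul_le_mul_left r h2e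
      _ = r * n + r * finrank F U := by ring
      _ ≤ r * n + n := Nat.add_le_add_left h3 _
      _ = (r + 1) * n := by ring

end setup

end Cfsg.Agent.Lib.Helper29.ES
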