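import Mathlib
import Cfsg.Agent.Lib.Helper29.ES3
import Cfsg.Agent.Lib.Helper29.ES4

/-!
# The conjugates of a commutator under an element of prime order
-/

set_option autoImplicit false
set_option linter.unusedSectionVars false

namespace Cfsg.Agent.Lib.Helper29.ES

open Module Matrix

section second

variable {F : Type*} [Field F] {n : ℕ}

local notation "MM" => Matrix (Fin n) (Fin n) F
local notation "GG" => Matrix.GeneralLinearGroup (Fin n) F
local notation "VV" => (Fin n → F)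

theorem toLin'_mul_eq (A B : MM) :
    (Matrix.toLin' A : Module.End F VV) * Matrix.toLin' B = Matrix.toLin' (A * B) := by
  rw [Matrix.toLin'_mul]; rfl

/-- the conjugates `g^j y g^{-j}` -/
def Yc (g y : GG) (j : ℕ) : GG := g ^ j * y * (g ^ j)⁻¹

theorem Yc_zero (g y : GG) : Yc g y 0 = y := by
  unfold Yc
  rw [pow_zero, one_mul, inv_one, mul_one]

theorem Yc_succ (g y : GG) (j : ℕ) : g * Yc g y j * g⁻¹ = Yc g y (j + 1) := by
  unfold Yc
  rw [pow_succ', _root_.mul_inv_rev]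
  group

theorem Yc_succ' (g y : GG) (j : ℕ) : g * Yc g y j = Yc g y (j + 1) * g := by
  rw [← Yc_succ]
  group

theorem Yc_add_period (g y : GG) (ϖ : ℕ) (hg : g ^ ϖ = 1) (j : ℕ) :
    Yc g y (j + ϖ) = Yc g y j := by
  unfold Yc
  rw [pow_add, hg, mul_one]

theorem Yc_mod (g y : GG) (ϖ : ℕ) (hg : g ^ ϖ = 1) (j : ℕ) :
    Yc g y (j % ϖ) = Yc g y j := by
  unfold Yc
  have : g ^ j = g ^ (j % ϖ) := by
    conv_lhs => rw [← Nat.div_add_mod j ϖ, pow_add, pow_mul, hg, one_pow, one_mul]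
  rw [this]

variable {r : ℕ} {N : Subgroup (Matrix.GeneralLinearGroup (Fin n) F)}

theorem Yc_mem {g : GG} (hgN : ∀ a, a ∈ N ↔ g * a * g⁻¹ ∈ N) {y : GG} (hy : y ∈ N) (j : ℕ) :
    Yc g y j ∈ N := by
  induction j with
  | zero => rw [Yc_zero]; exact hy
  | succ j ih => rw [← Yc_succ]; exact (hgN _).mp ih

theorem Yc_fix (g y : GG) (c : F) (hc : c ≠ 0) (u : VV) (hgu : act g u = c • u)
    (hyu : act y u = u) (j : ℕ) : act (Yc g y j) u = u := by
  unfold Yc
  have h1 : act (g ^ j) u = c ^ j • u := act_pow g j c u hgu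
  have h2 : act (g ^ j)⁻¹ u = (c ^ j)⁻¹ • u := act_inv_of (g ^ j) (c ^ j) (pow_ne_zero _ hc) u h1
  rw [act_mul, act_mul, h2, act_smul, act_smul, hyu, h1, smul_smul,
    inv_mul_cancel₀ (pow_ne_zero _ hc), one_smul]

/-- two elements of `N` with a common fixed vector commute -/
theorem Setup.commute_of_fix (h : Setup r N) {a b : GG} (ha : a ∈ N) (hb : b ∈ N) (u : VV)
    (hu : u ≠ 0) (hau : act a u = u) (hbu : act b u = u) : a * b = b * a := by
  obtain ⟨ζ, _, hζ⟩ := h.comm a ha b hb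
  have h1 : act (a * b) u = ζ • act (b * a) u := by
    unfold act
    rw [Units.val_mul, hζ, Units.val_mul, Matrix.smul_mulVec]
  rw [act_mul, act_mul, hau, hbu, hau] at h1
  have h2 : (ζ - 1) • u = 0 := by rw [sub_smul, one_smul, ← h1, sub_self]
  have h3 : ζ = 1 := by
    rcases smul_eq_zero.mp h2 with h4 | h4
    · exact sub_eq_zero.mp h4
    · exact absurd h4 hu
  rw [h3, one_smul] at hζ
  apply Units.ext
  rw [Units.val_mul, Units.val_mul, hζ]

/-- an element of `N` with a nonzero fixed vector has `r`-th power one -/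
theorem Setup.pow_eq_one_of_fix (h : Setup r N) {a : GG} (ha : a ∈ N) (u : VV)
    (hu : u ≠ 0) (hau : act a u = u) : a ^ r = 1 := by
  have h1 := h.pow_isSc ha
  have h2 : act (a ^ r) u = u := by
    have := act_pow a r 1 u (by rw [hau, one_smul])
    rwa [one_pow, one_smul] at this
  have h3 : ((a : GG) : MM) ^ r = 1 := by
    apply isSc_one_of_fix h1 u hu
    have : ((a ^ r : GG) : MM) = ((a : GG) : MM) ^ r := Units.val_pow_eq_pow_val a r
    rw [← this]
    exact h2
  apply Units.ext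
  rw [Units.val_pow_eq_pow_val, h3, Units.val_one]

/-- a scalar element of `GG` fixing a nonzero vector is `1` -/
theorem eq_one_of_isSc_of_fix {a : GG} (hsc : IsSc ((a : GG) : MM)) (u : VV) (hu : u ≠ 0)
    (hau : act a u = u) : a = 1 := by
  apply Units.ext
  rw [Units.val_one]
  exact isSc_one_of_fix hsc u hu hau

variable [Fintype F] [DecidableEq F]

/-- **the cyclic bound**: application of Lemma G to the conjugates of `y` -/
theorem Setup.cyclic_bound (h : Setup r N) (ω : F) (hω : IsPrimitiveRoot ω r) (g : GG)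
    (hgN : ∀ a, a ∈ N ↔ g * a * g⁻¹ ∈ N) (ϖ : ℕ) [hϖ : Fact ϖ.Prime] (hgϖ : g ^ ϖ = 1) (c : F)
    (hc : c ≠ 0) (y : GG) (hy : y ∈ N) (u : VV) (hu0 : u ≠ 0) (hgu : act g u = c • u)
    (hyu : act y u = u) (D : Submodule F VV)
    (hD : ∀ v : VV, (∀ j : ℕ, act (Yc g y j) v = act y v) → v ∈ D) :
    ϖ * finrank F (eig ((g : GG) : MM) c) ≤ n + (ϖ - 1) * finrank F D := by
  haveI : NeZero ϖ := ⟨hϖ.out.ne_zero⟩
  haveI : Fact (1 < ϖ) := ⟨hϖ.out.one_lt⟩
  have hYN : ∀ j, Yc g y j ∈ N := Yc_mem hgN hy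
  have hYu : ∀ j, act (Yc g y j) u = u := Yc_fix g y c hc u hgu hyu
  have hYcomm : ∀ i j, Yc g y i * Yc g y j = Yc g y j * Yc g y i := fun i j =>
    h.commute_of_fix (hYN i) (hYN j) u hu0 (hYu i) (hYu j)
  have hYr : ∀ j, Yc g y j ^ r = 1 := fun j => h.pow_eq_one_of_fix (hYN j) u hu0 (hYu j)
  set yy : ZMod ϖ → Module.End F VV := fun i => Matrix.toLin' ((Yc g y i.val : GG) : MM) with hyy
  have hcomm : ∀ i j, Commute (yy i) (yy j) := by
    intro i j
    show yy i * yy j = yy j * yy i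
    simp only [hyy]
    rw [toLin'_mul_eq, toLin'_mul_eq, ← Units.val_mul, ← Units.val_mul, hYcomm]
  have hpow : ∀ i, yy i ^ r = 1 := by
    intro i
    simp only [hyy]
    rw [← Matrix.toLin'_pow, ← Units.val_pow_eq_pow_val, hYr, Units.val_one, Matrix.toLin'_one]
    rfl
  have hdiag : ∀ i, ⨆ μ, Module.End.eigenspace (yy i) μ = ⊤ := fun i =>
    Cfsg.Agent.Lib.Helper29.LO.iSup_eigenspace_of_pow_eq_one (yy i) r h.hr.pos ω hω (hpow i)
  have hss : ∀ i μ, (yy i).maxGenEigenspace μ = (yy i).eigenspace μ := fun i μ =>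
    maxGenEigenspace_eq_of_pow_eq_one (yy i) r h.hr.pos ω hω (hpow i) μ
  have hgy : ∀ i, Matrix.toLin' ((g : GG) : MM) * yy i = yy (i + 1) * Matrix.toLin' ((g : GG) : MM) := by
    intro i
    simp only [hyy]
    have h1 : (i + 1).val = (i.val + 1) % ϖ := by
      rw [ZMod.val_add, ZMod.val_one]
    rw [h1, Yc_mod g y ϖ hgϖ, toLin'_mul_eq, toLin'_mul_eq, ← Units.val_mul,
      ← Units.val_mul, Yc_succ']
  have key := cyclic_family_bound ϖ yy hcomm hdiag hss (Matrix.toLin' ((g : GG) : MM))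
    (toLin'_injective g) hgy c hc
  rw [finrank_VV] at key
  have hle : (⨅ i, LinearMap.ker (yy i - yy 0)) ≤ D := by
    intro v hv
    apply hD
    intro j
    simp only [Submodule.mem_iInf, LinearMap.mem_ker, LinearMap.sub_apply, sub_eq_zero] at hv
    have h1 := hv (j : ZMod ϖ)
    simp only [hyy] at h1
    rw [ZMod.val_natCast, Yc_mod g y ϖ hgϖ, ZMod.val_zero, Yc_zero, toLin'_apply_eq_act,
      toLin'_apply_eq_act] at h1
    exact h1
  have h2 := Submodule.finrank_mono hle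
  calc ϖ * finrank F (eig ((g : GG) : MM) c)
      ≤ n + (ϖ - 1) * finrank F ↥(⨅ i, LinearMap.ker (yy i - yy 0)) := key
    _ ≤ n + (ϖ - 1) * finrank F D := Nat.add_le_add_left (Nat.mul_le_mul_left _ h2) _

end second

end Cfsg.Agent.Lib.Helper29.ES
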