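import Mathlib
import Cfsg.Agent.Lib.Helper29.ES5

/-!
# The second bound: the case where `g` does not centralise the commutator `[x,g]`
-/

set_option autoImplicit false
set_option linter.unusedSectionVars false

namespace Cfsg.Agent.Lib.Helper29.ES

open Module Matrix

section third

variable {F : Type*} [Field F] {n : ℕ}

local notation "MM" => Matrix (Fin n) (Fin n) F
local notation "GG" => Matrix.GeneralLinearGroup (Fin n) F
local notation "VV" => (Fin n → F)

variable {r : ℕ} {N : Subgroup (Matrix.GeneralLinearGroup (Fin n) F)}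

theorem neg_comm_inv {a s : GG} (h : a * s = -(s * a)) : a⁻¹ * s = -(s * a⁻¹) := by
  have h1 : s * a⁻¹ = -(a⁻¹ * s) := by
    calc s * a⁻¹ = a⁻¹ * (a * s) * a⁻¹ := by group
      _ = a⁻¹ * (-(s * a)) * a⁻¹ := by rw [h]
      _ = -(a⁻¹ * s) := by
        rw [mul_neg, neg_mul, mul_assoc, mul_assoc, mul_inv_cancel, mul_one]
  rw [h1, neg_neg]

theorem comm_inv {a s : GG} (h : a * s = s * a) : a⁻¹ * s = s * a⁻¹ := by
  calc a⁻¹ * s = a⁻¹ * (s * a) * a⁻¹ := by group
    _ = a⁻¹ * (a * s) * a⁻¹ := by rw [h]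
    _ = s * a⁻¹ := by group

/-- for `r = 2` two elements of `N` commute or anticommute -/
theorem Setup.comm2 (h : Setup 2 N) {a s : GG} (ha : a ∈ N) (hs : s ∈ N) :
    a * s = s * a ∨ a * s = -(s * a) := by
  obtain ⟨ζ, hζ2, hζ⟩ := h.comm a ha s hs
  have h1 : ζ = 1 ∨ ζ = -1 := by
    rw [pow_two] at hζ2
    exact mul_self_eq_one_iff.mp hζ2
  rcases h1 with h1 | h1
  · left
    apply Units.ext
    rw [Units.val_mul, Units.val_mul, hζ, h1, one_smul]
  · right
    apply Units.ext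
    rw [Units.val_neg, Units.val_mul, Units.val_mul, hζ, h1, neg_smul, one_smul]

theorem isSc_of_commute_all (h : Setup r N) (a : GG) (hall : ∀ s ∈ N, a * s = s * a) :
    IsSc ((a : GG) : MM) := by
  apply h.scal
  intro s hs
  have := congrArg (fun z : GG => (z : MM)) (hall s hs)
  simpa only [Units.val_mul] using this

/-- for `r = 2`: existence of an element commuting with `a` but not with `b` -/
theorem Setup.exists_sep (h : Setup 2 N) {a b : GG} (ha : a ∈ N) (hb : b ∈ N)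
    (hnsb : ¬ IsSc ((b : GG) : MM)) (hnsab : ¬ IsSc (((a⁻¹ * b : GG) : GG) : MM)) :
    ∃ s ∈ N, a * s = s * a ∧ b * s ≠ s * b := by
  by_contra hall
  push_neg at hall
  -- odd times odd is even
  have hA : ∀ s ∈ N, ∀ t ∈ N, a * s = -(s * a) → a * t = -(t * a) → a * (t * s) = (t * s) * a := by
    intro s _ t _ hs ht
    rw [← mul_assoc, ht, neg_mul, mul_assoc, hs, mul_neg, neg_neg, mul_assoc]
  -- elements commuting with `b` commute with `a`
  have hC : ∀ s ∈ N, b * s = s * b → a * s = s * a := by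
    intro s hs hbs
    by_contra has
    have has' : a * s = -(s * a) := (h.comm2 ha hs).resolve_left has
    apply hnsb
    apply isSc_of_commute_all h
    intro t ht
    rcases h.comm2 ha ht with hat | hat
    · exact hall t ht hat
    · have h1 := hA s hs t ht has' hat
      have h2 := hall (t * s) (N.mul_mem ht hs) h1
      -- b t s = t s b and b s = s b, so b t = t b
      have h3 : b * t = (b * (t * s)) * s⁻¹ := by group
      rw [h3, h2]
      have h4 : s⁻¹ * b = b * s⁻¹ := by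
        have := comm_inv hbs.symm
        exact this
      calc t * s * b * s⁻¹ = t * s * (b * s⁻¹) := by group
        _ = t * s * (s⁻¹ * b) := by rw [h4]
        _ = t * b := by group
  apply hnsab
  apply isSc_of_commute_all h
  intro s hs
  by_cases has : a * s = s * a
  · have hbs := hall s hs has
    have h1 := comm_inv has
    calc a⁻¹ * b * s = a⁻¹ * (b * s) := by group
      _ = a⁻¹ * (s * b) := by rw [hbs]
      _ = (a⁻¹ * s) * b := by group
      _ = (s * a⁻¹) * b := by rw [h1]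
      _ = s * (a⁻¹ * b) := by group
  · have has' : a * s = -(s * a) := (h.comm2 ha hs).resolve_left has
    have hbs : b * s = -(s * b) := by
      refine (h.comm2 hb hs).resolve_left ?_
      intro hbs
      exact has (hC s hs hbs)
    have h1 := neg_comm_inv has'
    calc a⁻¹ * b * s = a⁻¹ * (b * s) := by group
      _ = a⁻¹ * (-(s * b)) := by rw [hbs]
      _ = -((a⁻¹ * s) * b) := by rw [mul_neg, mul_assoc]
      _ = -((-(s * a⁻¹)) * b) := by rw [h1]
      _ = s * (a⁻¹ * b) := by rw [neg_mul, neg_neg, mul_assoc]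

/-- for `r = 2`: the common fixed space of two independent elements has dimension `≤ n/4` -/
theorem Setup.two_step (h : Setup 2 N) {a b : GG} (ha : a ∈ N) (hb : b ∈ N)
    (hnsa : ¬ IsSc ((a : GG) : MM)) (hnsb : ¬ IsSc ((b : GG) : MM))
    (hnsab : ¬ IsSc (((a⁻¹ * b : GG) : GG) : MM)) :
    4 * finrank F ↥(eig ((a : GG) : MM) 1 ⊓ eig ((b : GG) : MM) 1) ≤ n := by
  obtain ⟨s, hs, has, hbs⟩ := h.exists_sep ha hb hnsb hnsab
  obtain ⟨ζ, hζr, hζ⟩ := h.comm b hb s hs
  have hζ1 : ζ ≠ 1 := by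
    intro h1
    rw [h1, one_smul] at hζ
    apply hbs
    apply Units.ext
    rw [Units.val_mul, Units.val_mul, hζ]
  have key := twisted_finrank_le (Matrix.toLin' ((b : GG) : MM)) (Matrix.toLin' ((s : GG) : MM))
    (eig ((a : GG) : MM) 1)
    (toLin'_injective s) ζ (root_ne_zero h.hr ζ hζr) 2 (root_pow_ne_one h.hr ζ hζr hζ1) 1
    one_ne_zero ?_
  · have h1 := h.finrank_eig_le ha hnsa 1
    have h2 : eig ((b : GG) : MM) 1 = Module.End.eigenspace (Matrix.toLin' ((b : GG) : MM)) 1 := rfl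
    rw [h2]
    omega
  · intro l v hvE hv
    constructor
    · rw [mem_eig_iff] at hvE ⊢
      rw [toLin'_apply_eq_act, ← act_mul, has, act_mul, hvE, one_smul, one_smul]
    · rw [Module.End.mem_eigenspace_iff] at hv ⊢
      rw [Matrix.toLin'_apply] at hv
      rw [Matrix.toLin'_apply, Matrix.toLin'_apply, Matrix.mulVec_mulVec, hζ, Matrix.smul_mulVec,
        ← Matrix.mulVec_mulVec, hv, Matrix.mulVec_smul, smul_smul, mul_comm]

/-- the partial products `y_0 y_1 ⋯ y_{k-1} = (y g)^k g^{-k}` -/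
def Pc (g y : GG) (k : ℕ) : GG := (y * g) ^ k * (g ^ k)⁻¹

theorem Pc_succ (g y : GG) (k : ℕ) : Pc g y (k + 1) = Pc g y k * Yc g y k := by
  unfold Pc Yc
  rw [pow_succ, pow_succ, _root_.mul_inv_rev]
  group

theorem Pc_eq_one (g x : GG) (ϖ : ℕ) (hg : g ^ ϖ = 1) :
    Pc g (x * g * x⁻¹ * g⁻¹) ϖ = 1 := by
  unfold Pc
  have h1 : x * g * x⁻¹ * g⁻¹ * g = x * g * x⁻¹ := by group
  rw [h1, conj_pow, hg, mul_one, mul_inv_cancel, inv_one, mul_one]

theorem act_Pc (g y : GG) (hcomm : ∀ j, Yc g y j * y = y * Yc g y j) (k : ℕ) :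
    ∀ v : VV, (∀ j : ℕ, act (Yc g y j) v = act y v) → act (Pc g y k) v = act (y ^ k) v := by
  induction k with
  | zero =>
    intro v _
    unfold Pc
    rw [pow_zero, pow_zero, inv_one, mul_one, pow_zero]
  | succ k ih =>
    intro v hv
    rw [Pc_succ, act_mul, hv k]
    have hv' : ∀ j : ℕ, act (Yc g y j) (act y v) = act y (act y v) := by
      intro j
      rw [← act_mul, hcomm j, act_mul, hv j]
    rw [ih (act y v) hv', ← act_mul, ← pow_succ]

end third

section fourth

variable {F : Type*} [Field F] [Fintype F] [DecidableEq F] {n : ℕ}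

local notation "MM" => Matrix (Fin n) (Fin n) F
local notation "GG" => Matrix.GeneralLinearGroup (Fin n) F
local notation "VV" => (Fin n → F)

variable {r : ℕ} {N : Subgroup (Matrix.GeneralLinearGroup (Fin n) F)}

/-- **the second bound** -/
theorem Setup.second_bound (h : Setup r N) (ω : F) (hω : IsPrimitiveRoot ω r) (g : GG)
    (hgN : ∀ a, a ∈ N ↔ g * a * g⁻¹ ∈ N) (ϖ : ℕ) [hϖ : Fact ϖ.Prime] (hgϖ : g ^ ϖ = 1) (c : F)
    (hc : c ≠ 0) (x : GG) (hx : x ∈ N)
    (hns : ¬ IsSc (((x * g * x⁻¹ * g⁻¹ : GG) : GG) : MM)) (u : VV) (hu0 : u ≠ 0)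
    (hgu : act g u = c • u) (hyu : act (x * g * x⁻¹ * g⁻¹) u = u)
    (hne : g * (x * g * x⁻¹ * g⁻¹) * g⁻¹ ≠ x * g * x⁻¹ * g⁻¹) (hϖ3 : 3 ≤ ϖ)
    (h33 : ¬ (r = 3 ∧ ϖ = 3)) :
    2 * finrank F (eig ((g : GG) : MM) c) ≤ n := by
  set y : GG := x * g * x⁻¹ * g⁻¹ with hy
  have hyN : y ∈ N := conj_mem_of_normalizes hgN hx
  have hY1 : Yc g y 1 = g * y * g⁻¹ := by rw [← Yc_succ, Yc_zero]
  have hY1N : Yc g y 1 ∈ N := Yc_mem hgN hyN 1
  have hY1u : act (Yc g y 1) u = u := Yc_fix g y c hc u hgu hyu 1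
  set b : GG := y⁻¹ * Yc g y 1 with hb
  have hbN : b ∈ N := N.mul_mem (N.inv_mem hyN) hY1N
  have hbu : act b u = u := by
    rw [hb, act_mul, hY1u]
    have := act_inv_act y u
    rwa [hyu] at this
  have hb1 : b ≠ 1 := by
    intro h1
    apply hne
    rw [← hY1]
    have : y * b = y := by rw [h1, mul_one]
    rw [hb, mul_inv_cancel_left] at this
    exact this
  have hbns : ¬ IsSc ((b : GG) : MM) := fun hsc => hb1 (eq_one_of_isSc_of_fix hsc u hu0 hbu)
  have hr2 : 2 ≤ r := h.hr.two_le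
  have hn := h.hn
  by_cases hr : r = 2
  · -- two independent elements
    subst hr
    have hY1ns : ¬ IsSc ((Yc g y 1 : GG) : MM) := by
      intro hsc
      have h1 := eq_one_of_isSc_of_fix hsc u hu0 hY1u
      rw [hY1] at h1
      apply hns
      have h2 : y = 1 := by
        calc y = g⁻¹ * (g * y * g⁻¹) * g := by group
          _ = 1 := by rw [h1]; group
      rw [h2]
      exact ⟨1, by rw [Units.val_one, one_smul]⟩
    have h4 := h.two_step hyN hY1N hns hY1ns hbns
    have hYcomm : ∀ j, Yc g y j * y = y * Yc g y j := fun j =>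
      h.commute_of_fix (Yc_mem hgN hyN j) hyN u hu0 (Yc_fix g y c hc u hgu hyu j) hyu
    have hy2 : y ^ 2 = 1 := h.pow_eq_one_of_fix hyN u hu0 hyu
    have hodd : Odd ϖ := hϖ.out.odd_of_ne_two (by omega)
    have hyϖ : y ^ ϖ = y := by
      obtain ⟨k, hk⟩ := hodd
      rw [hk, pow_succ, pow_mul, hy2, one_pow, one_mul]
    have key := h.cyclic_bound ω hω g hgN ϖ hgϖ c hc y hyN u hu0 hgu hyu
      (eig ((y : GG) : MM) 1 ⊓ eig ((Yc g y 1 : GG) : MM) 1) ?_
    · -- arithmetic
      set e := finrank F (eig ((g : GG) : MM) c)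
      set D := finrank F ↥(eig ((y : GG) : MM) 1 ⊓ eig ((Yc g y 1 : GG) : MM) 1)
      by_contra hcon
      push_neg at hcon
      have h5 : 4 * (ϖ * e) ≤ 4 * n + (ϖ - 1) * (4 * D) := by
        have := Nat.mul_le_mul_left 4 key
        calc 4 * (ϖ * e) ≤ 4 * (n + (ϖ - 1) * D) := this
          _ = 4 * n + (ϖ - 1) * (4 * D) := by ring
      have h6 : (ϖ - 1) * (4 * D) ≤ (ϖ - 1) * n := Nat.mul_le_mul_left _ h4
      have h7 : 2 * ϖ * (n + 1) ≤ 4 * (ϖ * e) := by
        have : n + 1 ≤ 2 * e := hcon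
        calc 2 * ϖ * (n + 1) ≤ 2 * ϖ * (2 * e) := Nat.mul_le_mul_left _ this
          _ = 4 * (ϖ * e) := by ring
      obtain ⟨m, hm⟩ : ∃ m, ϖ = m + 3 := ⟨ϖ - 3, by omega⟩
      rw [hm] at h5 h6 h7
      have h8 : m + 3 - 1 = m + 2 := by omega
      rw [h8] at h5 h6
      nlinarith
    · intro v hv
      have h5 := act_Pc g y hYcomm ϖ v hv
      rw [hy, Pc_eq_one g x ϖ hgϖ, act_one, ← hy, hyϖ] at h5
      refine ⟨?_, ?_⟩
      · rw [SetLike.mem_coe, mem_eig_iff, one_smul]; exact h5.symm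
      · rw [SetLike.mem_coe, mem_eig_iff, one_smul, hv 1]; exact h5.symm
  · have hr3 : 3 ≤ r := by omega
    have h4 := h.finrank_eig_le hbN hbns 1
    have key := h.cyclic_bound ω hω g hgN ϖ hgϖ c hc y hyN u hu0 hgu hyu
      (eig ((b : GG) : MM) 1) ?_
    · set e := finrank F (eig ((g : GG) : MM) c)
      set D := finrank F ↥(eig ((b : GG) : MM) 1)
      by_contra hcon
      push_neg at hcon
      have h5 : r * (ϖ * e) ≤ r * n + (ϖ - 1) * (r * D) := by
        have := Nat.mul_le_mul_left r key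
        calc r * (ϖ * e) ≤ r * (n + (ϖ - 1) * D) := this
          _ = r * n + (ϖ - 1) * (r * D) := by ring
      have h6 : (ϖ - 1) * (r * D) ≤ (ϖ - 1) * n := Nat.mul_le_mul_left _ h4
      have h7 : r * ϖ * (n + 1) ≤ 2 * (r * (ϖ * e)) := by
        have : n + 1 ≤ 2 * e := hcon
        calc r * ϖ * (n + 1) ≤ r * ϖ * (2 * e) := Nat.mul_le_mul_left _ this
          _ = 2 * (r * (ϖ * e)) := by ring
      obtain ⟨m, hm⟩ : ∃ m, ϖ = m + 3 := ⟨ϖ - 3, by omega⟩
      obtain ⟨k, hk⟩ : ∃ k, r = k + 3 := ⟨r - 3, by omega⟩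
      have hmk : 1 ≤ m + k := by
        by_contra hmk
        apply h33
        constructor <;> omega
      rw [hm] at h5 h6 h7
      have h8 : m + 3 - 1 = m + 2 := by omega
      rw [h8] at h5 h6
      rw [hk] at h5 h6 h7
      -- 2 (r n + (ϖ-1) n) ≥ r ϖ (n+1) is impossible when (r-2)(ϖ-2) ≥ 2
      have h9 : (k + 3) * (m + 3) * (n + 1) ≤ 2 * ((k + 3) * n + (m + 2) * n) := by
        calc (k + 3) * (m + 3) * (n + 1) ≤ 2 * ((k + 3) * ((m + 3) * e)) := h7
          _ ≤ 2 * ((k + 3) * n + (m + 2) * ((k + 3) * D)) := Nat.mul_le_mul_left _ h5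
          _ ≤ 2 * ((k + 3) * n + (m + 2) * n) :=
              Nat.mul_le_mul_left _ (Nat.add_le_add_left h6 _)
      have h10 : (k + 3) * (m + 3) * n + (k + 3) * (m + 3) ≤ 2 * (k + 3) * n + 2 * (m + 2) * n := by
        calc (k + 3) * (m + 3) * n + (k + 3) * (m + 3) = (k + 3) * (m + 3) * (n + 1) := by ring
          _ ≤ 2 * ((k + 3) * n + (m + 2) * n) := h9
          _ = 2 * (k + 3) * n + 2 * (m + 2) * n := by ring
      have h11 : 2 * (k + 3) * n + 2 * (m + 2) * n ≤ (k + 3) * (m + 3) * n := by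
        have : 2 * (k + 3) + 2 * (m + 2) ≤ (k + 3) * (m + 3) := by nlinarith
        calc 2 * (k + 3) * n + 2 * (m + 2) * n = (2 * (k + 3) + 2 * (m + 2)) * n := by ring
          _ ≤ (k + 3) * (m + 3) * n := Nat.mul_le_mul_right _ this
      have h12 : 0 < (k + 3) * (m + 3) := by positivity
      omega
    · intro v hv
      rw [mem_eig_iff, one_smul, hb, act_mul, hv 1, act_inv_act]

end fourth

end Cfsg.Agent.Lib.Helper29.ES
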