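import Mathlib
import Cfsg.Agent.Lib.Helper29.ES3
import Cfsg.Agent.Lib.Helper29.ES4

/-!
# The special case: `g` centralises the commutator `y = [x,g]`
-/

set_option autoImplicit false
set_option linter.unusedSectionVars false

namespace Cfsg.Agent.Lib.Helper29.ES

open Module

section arith

variable {F : Type*} [Field F]

/-- triangular numbers -/
def tri (j : ℕ) : ℕ := ∑ i ∈ Finset.range j, i

theorem tri_zero : tri 0 = 0 := by simp [tri]

theorem tri_succ (j : ℕ) : tri (j + 1) = tri j + j := by
  unfold tri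
  rw [Finset.sum_range_succ]

theorem tri_mul_two (j : ℕ) : tri j * 2 = j * (j - 1) := Finset.sum_range_id_mul_two j

theorem pow_eq_pow_cast {r : ℕ} (hr : r.Prime) (ξ : F) (hξ : IsPrimitiveRoot ξ r) (a b : ℕ)
    (h : ξ ^ a = ξ ^ b) : (a : ZMod r) = (b : ZMod r) := by
  have hord : orderOf ξ = r := hξ.eq_orderOf.symm
  have h1 : ξ ^ (a % r) = ξ ^ (b % r) := by
    rw [← hord, pow_mod_orderOf, pow_mod_orderOf]; exact h
  have h2 := hξ.pow_inj (Nat.mod_lt _ hr.pos) (Nat.mod_lt _ hr.pos) h1
  exact (ZMod.natCast_eq_natCast_iff' a b r).mpr h2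

theorem tri_cast {r : ℕ} [Fact r.Prime] (i : ℕ) (hi : i < r) :
    ((tri (r - i) : ℕ) : ZMod r) * 2 = (i : ZMod r) * ((i : ZMod r) + 1) := by
  have h1 := tri_mul_two (r - i)
  have h2 : ((tri (r - i) * 2 : ℕ) : ZMod r) = (((r - i) * (r - i - 1) : ℕ) : ZMod r) := by
    rw [h1]
  rw [Nat.cast_mul, Nat.cast_mul, Nat.cast_ofNat] at h2
  rw [h2]
  have h3 : ((r - i : ℕ) : ZMod r) = -(i : ZMod r) := by
    rw [Nat.cast_sub hi.le, ZMod.natCast_self, zero_sub]
  have h4 : ((r - i - 1 : ℕ) : ZMod r) = -(i : ZMod r) - 1 := by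
    have : 1 ≤ r - i := by omega
    rw [Nat.cast_sub this, h3, Nat.cast_one]
  rw [h3, h4]
  ring

theorem fiber_key {r : ℕ} (hr : r.Prime) (ξ : F) (hξ : IsPrimitiveRoot ξ r)
    (i i' : ℕ) (hi : i < r) (hi' : i' < r) (hne : i ≠ i')
    (h : ξ ^ tri (r - i) = ξ ^ tri (r - i')) : (i : ZMod r) + (i' : ZMod r) = -1 := by
  haveI : Fact r.Prime := ⟨hr⟩
  have h1 := pow_eq_pow_cast hr ξ hξ _ _ h
  have h2 : (i : ZMod r) * ((i : ZMod r) + 1) = (i' : ZMod r) * ((i' : ZMod r) + 1) := by
    rw [← tri_cast i hi, ← tri_cast i' hi', h1]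
  have h3 : ((i : ZMod r) - (i' : ZMod r)) * ((i : ZMod r) + (i' : ZMod r) + 1) = 0 := by
    have : ((i : ZMod r) - (i' : ZMod r)) * ((i : ZMod r) + (i' : ZMod r) + 1) =
        (i : ZMod r) * ((i : ZMod r) + 1) - (i' : ZMod r) * ((i' : ZMod r) + 1) := by ring
    rw [this, h2, sub_self]
  rcases mul_eq_zero.mp h3 with h4 | h4
  · exfalso
    apply hne
    have h5 : (i : ZMod r) = (i' : ZMod r) := sub_eq_zero.mp h4
    have h6 := (ZMod.natCast_eq_natCast_iff' i i' r).mp h5
    rwa [Nat.mod_eq_of_lt hi, Nat.mod_eq_of_lt hi'] at h6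
  · exact eq_neg_of_add_eq_zero_left h4

theorem fiber_card_le_two [DecidableEq F] {r : ℕ} (hr : r.Prime) (ξ : F) (hξ : IsPrimitiveRoot ξ r)
    (c : F) (hc : c ≠ 0) (ν : F) :
    ((Finset.range r).filter (fun i => c * ξ ^ tri (r - i) = ν)).card ≤ 2 := by
  by_contra hcon
  push_neg at hcon
  obtain ⟨i1, i2, i3, h1, h2, h3, h12, h13, h23⟩ := Finset.two_lt_card_iff.mp hcon
  rw [Finset.mem_filter, Finset.mem_range] at h1 h2 h3
  have e12 : ξ ^ tri (r - i1) = ξ ^ tri (r - i2) :=
    mul_left_cancel₀ hc (h1.2.trans h2.2.symm)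
  have e13 : ξ ^ tri (r - i1) = ξ ^ tri (r - i3) :=
    mul_left_cancel₀ hc (h1.2.trans h3.2.symm)
  have k12 := fiber_key hr ξ hξ i1 i2 h1.1 h2.1 h12 e12
  have k13 := fiber_key hr ξ hξ i1 i3 h1.1 h3.1 h13 e13
  have h5 : (i2 : ZMod r) = (i3 : ZMod r) := by
    have := k12.trans k13.symm
    exact add_left_cancel this
  have h6 := (ZMod.natCast_eq_natCast_iff' i2 i3 r).mp h5
  rw [Nat.mod_eq_of_lt h2.1, Nat.mod_eq_of_lt h3.1] at h6
  exact h23 h6

end arith

section special

variable {F : Type*} [Field F] {V : Type*} [AddCommGroup V] [Module F V] [FiniteDimensional F V]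

theorem pow_apply_eigen (y : Module.End F V) (μ : F) (v : V) (hv : y v = μ • v) (k : ℕ) :
    (y ^ k) v = μ ^ k • v := by
  induction k with
  | zero => simp
  | succ k ih =>
    rw [pow_succ, Module.End.mul_apply, hv, map_smul, ih, smul_smul, pow_succ, mul_comm]

theorem eigenspace_eq_bot_of_pow (y : Module.End F V) (r : ℕ) (hy : y ^ r = 1) (μ : F)
    (hμ : μ ^ r ≠ 1) : Module.End.eigenspace y μ = ⊥ := by
  rw [eq_bot_iff]
  intro v hv
  rw [Module.End.mem_eigenspace_iff] at hv
  have h1 := pow_apply_eigen y μ v hv r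
  rw [hy, Module.End.one_apply] at h1
  have h2 : (μ ^ r - 1) • v = 0 := by rw [sub_smul, ← h1, one_smul, sub_self]
  rcases smul_eq_zero.mp h2 with h3 | h3
  · exact absurd (sub_eq_zero.mp h3) hμ
  · rw [h3]; exact Submodule.zero_mem _

theorem pow_injective (x : Module.End F V) (hx : Function.Injective x) (j : ℕ) :
    Function.Injective (x ^ j) := by
  induction j with
  | zero => intro a b h; simpa using h
  | succ j ih =>
    intro a b h
    rw [pow_succ, Module.End.mul_apply, Module.End.mul_apply] at h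
    exact hx (ih h)

variable [Fintype F] [DecidableEq F]

/-- an invariant subspace of a diagonalisable endomorphism is the sum of its intersections with
the eigenspaces -/
theorem finrank_eq_sum_inf_eigenspace (K : Submodule F V) (y : Module.End F V)
    (hdiag : ⨆ μ, Module.End.eigenspace y μ = ⊤) (hK : ∀ v ∈ K, y v ∈ K) :
    finrank F K = ∑ μ : F, finrank F ↥(K ⊓ Module.End.eigenspace y μ) := by
  have h1 := Submodule.inf_iSup_genEigenspace (p := K) (f := y) hK 1
  have h2 : K = ⨆ μ, K ⊓ Module.End.eigenspace y μ := by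
    have h3 : (⨆ μ, y.genEigenspace μ 1) = ⊤ := hdiag
    rw [h3, inf_top_eq] at h1
    exact h1
  have hind : iSupIndep (fun μ => K ⊓ Module.End.eigenspace y μ) :=
    (Module.End.eigenspaces_iSupIndep y).mono (fun μ => inf_le_right)
  rw [← Cfsg.Agent.Lib.Helper14.SzRep.finrank_biSup_eq hind Finset.univ]
  have h4 : (⨆ μ ∈ (Finset.univ : Finset F), K ⊓ Module.End.eigenspace y μ) =
      ⨆ μ, K ⊓ Module.End.eigenspace y μ := by simp
  rw [h4, ← h2]

theorem sum_finrank_inf_eigenspace_le (E : Submodule F V) (g : Module.End F V) (s : Finset F) :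
    ∑ ν ∈ s, finrank F ↥(E ⊓ Module.End.eigenspace g ν) ≤ finrank F E := by
  have hind : iSupIndep (fun ν => E ⊓ Module.End.eigenspace g ν) :=
    (Module.End.eigenspaces_iSupIndep g).mono (fun ν => inf_le_right)
  rw [← Cfsg.Agent.Lib.Helper14.SzRep.finrank_biSup_eq hind s]
  apply Submodule.finrank_mono
  exact iSup₂_le (fun ν _ => inf_le_left)

/-- **the special bound** -/
theorem special_bound (r : ℕ) (hr : r.Prime) (ω : F) (hω : IsPrimitiveRoot ω r)
    (x y g : Module.End F V) (hx : Function.Injective x)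
    (hy : y ^ r = 1) (hgy : g * y = y * g) (hxg : x * g = y * g * x)
    (ξ : F) (hξ : ξ ^ r = 1) (hyx : y * x = ξ • (x * y))
    (hC1 : ∀ l : F, r * finrank F (Module.End.eigenspace y l) ≤ finrank F V)
    (c : F) (hc : c ≠ 0) :
    r * finrank F (Module.End.eigenspace g c) ≤ 2 * finrank F V := by
  haveI : NeZero r := ⟨hr.ne_zero⟩
  set K := Module.End.eigenspace g c with hKdef
  have hdiag : ⨆ μ, Module.End.eigenspace y μ = ⊤ :=
    Cfsg.Agent.Lib.Helper29.LO.iSup_eigenspace_of_pow_eq_one y r hr.pos ω hω hy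
  have hKinv : ∀ v ∈ K, y v ∈ K := by
    intro v hv
    rw [hKdef, Module.End.mem_eigenspace_iff] at hv ⊢
    have := LinearMap.congr_fun hgy v
    simp only [Module.End.mul_apply] at this
    rw [this, hv, map_smul]
  have hsum := finrank_eq_sum_inf_eigenspace K y hdiag hKinv
  have hgyk : ∀ k : ℕ, g * y ^ k = y ^ k * g := by
    intro k
    have : Commute g y := hgy
    exact this.pow_right k
  by_cases hξ1 : ξ = 1
  · -- `x` commutes with `y`
    rw [hξ1, one_smul] at hyx
    have hterm : ∀ μ : F, μ ≠ 1 →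
        r * finrank F ↥(K ⊓ Module.End.eigenspace y μ) ≤ finrank F (Module.End.eigenspace y μ) := by
      intro μ hμ1
      by_cases hμr : μ ^ r = 1
      · have hμ0 : μ ≠ 0 := root_ne_zero hr μ hμr
        have hμi : μ⁻¹ ^ r = 1 := by rw [inv_pow, hμr, inv_one]
        have hμi1 : μ⁻¹ ≠ 1 := by
          intro h; apply hμ1; rw [← inv_inv μ, h, inv_one]
        have key := twisted_finrank_le g x (Module.End.eigenspace y μ) hx μ⁻¹ (inv_ne_zero hμ0) r
          (root_pow_ne_one hr μ⁻¹ hμi hμi1) c hc ?_
        · rw [inf_comm]; exact key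
        · intro l v hvE hv
          rw [Module.End.mem_eigenspace_iff] at hvE hv
          have hxv : y (x v) = μ • x v := by
            have := LinearMap.congr_fun hyx v
            simp only [Module.End.mul_apply] at this
            rw [this, hvE, map_smul]
          refine ⟨Module.End.mem_eigenspace_iff.mpr hxv, ?_⟩
          rw [Module.End.mem_eigenspace_iff]
          have h1 := LinearMap.congr_fun hxg v
          simp only [Module.End.mul_apply] at h1
          rw [hv, map_smul] at h1
          -- h1 : l • x v = y (g (x v))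
          have h2 : y (g (x v)) = μ • g (x v) := by
            have := LinearMap.congr_fun hgy (x v)
            simp only [Module.End.mul_apply] at this
            rw [← this, hxv, map_smul]
          rw [h2] at h1
          have h3 : μ⁻¹ • (l • x v) = μ⁻¹ • (μ • g (x v)) := by rw [h1]
          rw [smul_smul, smul_smul, inv_mul_cancel₀ hμ0, one_smul] at h3
          rw [← h3, mul_comm]
      · rw [eigenspace_eq_bot_of_pow y r hy μ hμr, inf_bot_eq, finrank_bot, mul_zero]
    have h1 : r * finrank F ↥(K ⊓ Module.End.eigenspace y 1) ≤ finrank F V := by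
      refine le_trans (Nat.mul_le_mul_left r (Submodule.finrank_mono inf_le_right)) (hC1 1)
    have h2 : ∑ μ ∈ Finset.univ.erase (1 : F), r * finrank F ↥(K ⊓ Module.End.eigenspace y μ) ≤
        finrank F V := by
      calc ∑ μ ∈ Finset.univ.erase (1 : F), r * finrank F ↥(K ⊓ Module.End.eigenspace y μ)
          ≤ ∑ μ ∈ Finset.univ.erase (1 : F), finrank F (Module.End.eigenspace y μ) :=
            Finset.sum_le_sum (fun μ hμ => hterm μ (Finset.ne_of_mem_erase hμ))
        _ ≤ finrank F V :=
            Cfsg.Agent.Lib.Helper14.SzRep.sum_finrank_le (Module.End.eigenspaces_iSupIndep y) _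
    rw [hsum, Finset.mul_sum, ← Finset.add_sum_erase _ _ (Finset.mem_univ (1 : F))]
    omega
  · -- `ξ` is a primitive root
    have hξp : IsPrimitiveRoot ξ r := by
      haveI : Fact r.Prime := ⟨hr⟩
      have hord : orderOf ξ = r := orderOf_eq_prime hξ hξ1
      rw [← hord]
      exact IsPrimitiveRoot.orderOf ξ
    -- claim B
    have hB : ∀ j : ℕ, y * x ^ j = ξ ^ j • (x ^ j * y) := by
      intro j
      induction j with
      | zero => simp
      | succ j ih =>
        calc y * x ^ (j + 1) = (y * x ^ j) * x := by rw [pow_succ, mul_assoc]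
          _ = ξ ^ j • (x ^ j * (y * x)) := by rw [ih, smul_mul_assoc, mul_assoc]
          _ = ξ ^ j • (x ^ j * (ξ • (x * y))) := by rw [hyx]
          _ = ξ ^ (j + 1) • (x ^ (j + 1) * y) := by
            rw [mul_smul_comm, smul_smul, ← mul_assoc, ← pow_succ, ← pow_succ]
    -- claim A
    have hA : ∀ j : ℕ, ξ ^ tri j • (x ^ j * g) = y ^ j * g * x ^ j := by
      intro j
      induction j with
      | zero => simp [tri_zero]
      | succ j ih =>
        calc ξ ^ tri (j + 1) • (x ^ (j + 1) * g)
            = ξ ^ tri j • (ξ ^ j • (x ^ j * (x * g))) := by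
              rw [tri_succ, pow_add, smul_smul, pow_succ, mul_assoc]
          _ = ξ ^ tri j • (ξ ^ j • (x ^ j * (y * g * x))) := by rw [hxg]
          _ = ξ ^ tri j • ((ξ ^ j • (x ^ j * y)) * g * x) := by
              rw [smul_mul_assoc, smul_mul_assoc, mul_assoc, mul_assoc, mul_assoc]
          _ = ξ ^ tri j • ((y * x ^ j) * g * x) := by rw [← hB j]
          _ = y * (ξ ^ tri j • (x ^ j * g)) * x := by
              simp only [mul_smul_comm, smul_mul_assoc, mul_assoc]
          _ = y * (y ^ j * g * x ^ j) * x := by rw [ih]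
          _ = y ^ (j + 1) * g * x ^ (j + 1) := by
              rw [pow_succ', pow_succ]
              simp only [mul_assoc]
    -- the comparison
    have hcomp : ∀ i : ℕ, i < r → finrank F ↥(K ⊓ Module.End.eigenspace y (ξ ^ i)) ≤
        finrank F ↥(Module.End.eigenspace y 1 ⊓
          Module.End.eigenspace g (c * ξ ^ tri (r - i))) := by
      intro i hi
      set j := r - i with hj
      rw [← finrank_map_of_injective (x ^ j) (pow_injective x hx j)]
      apply Submodule.finrank_mono
      rintro _ ⟨v, ⟨hvK, hvy⟩, rfl⟩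
      rw [SetLike.mem_coe, hKdef, Module.End.mem_eigenspace_iff] at hvK
      rw [SetLike.mem_coe, Module.End.mem_eigenspace_iff] at hvy
      have hw1 : y ((x ^ j) v) = (x ^ j) v := by
        have := LinearMap.congr_fun (hB j) v
        simp only [Module.End.mul_apply, LinearMap.smul_apply] at this
        rw [this, hvy, map_smul, smul_smul, ← pow_add]
        have : j + i = r := by omega
        rw [this, hξ, one_smul]
      refine ⟨?_, ?_⟩
      · rw [SetLike.mem_coe, Module.End.mem_eigenspace_iff, one_smul]; exact hw1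
      · rw [SetLike.mem_coe, Module.End.mem_eigenspace_iff]
        have h1 := LinearMap.congr_fun (hA j) v
        simp only [Module.End.mul_apply, LinearMap.smul_apply] at h1
        rw [hvK, map_smul, smul_smul] at h1
        -- h1 : (ξ^tri j * c) • x^j v = y^j (g (x^j v))
        have h2 : (y ^ j) (g ((x ^ j) v)) = g ((x ^ j) v) := by
          have := LinearMap.congr_fun (hgyk j) ((x ^ j) v)
          simp only [Module.End.mul_apply] at this
          rw [← this]
          have h3 := pow_apply_eigen y 1 ((x ^ j) v) (by rw [hw1, one_smul]) j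
          rw [h3, one_pow, one_smul]
        rw [h2] at h1
        rw [← h1, mul_comm]
    -- the sum over the eigenvalues of `y`
    have himg : ∀ μ : F, μ ∉ (Finset.range r).image (fun i => ξ ^ i) →
        finrank F ↥(K ⊓ Module.End.eigenspace y μ) = 0 := by
      intro μ hμ
      have : μ ^ r ≠ 1 := by
        intro h
        obtain ⟨i, hi, hiμ⟩ := hξp.eq_pow_of_pow_eq_one h
        apply hμ
        rw [Finset.mem_image]
        exact ⟨i, Finset.mem_range.mpr hi, hiμ⟩
      rw [eigenspace_eq_bot_of_pow y r hy μ this, inf_bot_eq, finrank_bot]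
    have hinj : Set.InjOn (fun i : ℕ => ξ ^ i) (Finset.range r : Set ℕ) := by
      intro a ha b hb hab
      simp only [Finset.coe_range, Set.mem_Iio] at ha hb
      exact hξp.pow_inj ha hb hab
    have hsum2 : finrank F K = ∑ i ∈ Finset.range r,
        finrank F ↥(K ⊓ Module.End.eigenspace y (ξ ^ i)) := by
      rw [hsum]
      have h0 := Finset.sum_image (f := fun μ => finrank F ↥(K ⊓ Module.End.eigenspace y μ)) hinj
      rw [← h0]
      symm
      apply Finset.sum_subset (Finset.subset_univ _)
      intro μ _ hμ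
      exact himg μ hμ
    have hle : finrank F K ≤ 2 * finrank F (Module.End.eigenspace y 1) := by
      rw [hsum2]
      calc ∑ i ∈ Finset.range r, finrank F ↥(K ⊓ Module.End.eigenspace y (ξ ^ i))
          ≤ ∑ i ∈ Finset.range r, finrank F ↥(Module.End.eigenspace y 1 ⊓
              Module.End.eigenspace g (c * ξ ^ tri (r - i))) :=
            Finset.sum_le_sum (fun i hi => hcomp i (Finset.mem_range.mp hi))
        _ = ∑ ν ∈ (Finset.range r).image (fun i => c * ξ ^ tri (r - i)),
              ((Finset.range r).filter (fun i => c * ξ ^ tri (r - i) = ν)).card •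
                finrank F ↥(Module.End.eigenspace y 1 ⊓ Module.End.eigenspace g ν) :=
            Finset.sum_comp (fun ν => finrank F ↥(Module.End.eigenspace y 1 ⊓
              Module.End.eigenspace g ν)) (fun i => c * ξ ^ tri (r - i))
        _ ≤ ∑ ν ∈ (Finset.range r).image (fun i => c * ξ ^ tri (r - i)),
              2 * finrank F ↥(Module.End.eigenspace y 1 ⊓ Module.End.eigenspace g ν) := by
            apply Finset.sum_le_sum
            intro ν _
            rw [smul_eq_mul]
            exact Nat.mul_le_mul_right _ (fiber_card_le_two hr ξ hξp c hc ν)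
        _ = 2 * ∑ ν ∈ (Finset.range r).image (fun i => c * ξ ^ tri (r - i)),
              finrank F ↥(Module.End.eigenspace y 1 ⊓ Module.End.eigenspace g ν) := by
            rw [Finset.mul_sum]
        _ ≤ 2 * finrank F (Module.End.eigenspace y 1) :=
            Nat.mul_le_mul_left _ (sum_finrank_inf_eigenspace_le _ g _)
    calc r * finrank F K ≤ r * (2 * finrank F (Module.End.eigenspace y 1)) :=
          Nat.mul_le_mul_left _ hle
      _ = 2 * (r * finrank F (Module.End.eigenspace y 1)) := by ring
      _ ≤ 2 * finrank F V := Nat.mul_le_mul_left _ (hC1 1)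

end special

end Cfsg.Agent.Lib.Helper29.ES
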