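import Mathlib
import Cfsg.Agent.Lib.Helper29.ES6
import Cfsg.Agent.Lib.Helper29.ES7

/-!
# The core theorem on eigenspaces of elements normalising a group with scalar commutators
-/

set_option autoImplicit false
set_option linter.unusedSectionVars false

namespace Cfsg.Agent.Lib.Helper29.ES

open Module Matrix

section core

variable {F : Type*} [Field F] [Fintype F] [DecidableEq F] {n : ℕ}

local notation "MM" => Matrix (Fin n) (Fin n) F
local notation "GG" => Matrix.GeneralLinearGroup (Fin n) F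
local notation "VV" => (Fin n → F)

variable {r : ℕ} {N : Subgroup (Matrix.GeneralLinearGroup (Fin n) F)}

/-- the special case in matrix form -/
theorem Setup.special (h : Setup r N) (ω : F) (hω : IsPrimitiveRoot ω r) (g x : GG)
    (hgN : ∀ a, a ∈ N ↔ g * a * g⁻¹ ∈ N) (hx : x ∈ N)
    (hns : ¬ IsSc (((x * g * x⁻¹ * g⁻¹ : GG) : GG) : MM)) (u : VV) (hu0 : u ≠ 0)
    (hyu : act (x * g * x⁻¹ * g⁻¹) u = u)
    (hcomm : g * (x * g * x⁻¹ * g⁻¹) * g⁻¹ = x * g * x⁻¹ * g⁻¹) (c : F) (hc : c ≠ 0) :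
    r * finrank F (eig ((g : GG) : MM) c) ≤ 2 * n := by
  set y : GG := x * g * x⁻¹ * g⁻¹ with hy
  have hyN : y ∈ N := conj_mem_of_normalizes hgN hx
  have hyr : y ^ r = 1 := h.pow_eq_one_of_fix hyN u hu0 hyu
  have hgy : g * y = y * g := by
    calc g * y = (g * y * g⁻¹) * g := by group
      _ = y * g := by rw [hcomm]
  have hxg : x * g = y * g * x := by rw [hy]; group
  obtain ⟨ξ, hξr, hξ⟩ := h.comm y hyN x hx
  have key := special_bound r h.hr ω hω (Matrix.toLin' ((x : GG) : MM))
    (Matrix.toLin' ((y : GG) : MM)) (Matrix.toLin' ((g : GG) : MM)) (toLin'_injective x)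
    ?_ ?_ ?_ ξ hξr ?_ ?_ c hc
  · rw [finrank_VV] at key
    exact key
  · rw [← Matrix.toLin'_pow, ← Units.val_pow_eq_pow_val, hyr, Units.val_one, Matrix.toLin'_one]
    rfl
  · rw [toLin'_mul_eq, toLin'_mul_eq, ← Units.val_mul, ← Units.val_mul, hgy]
  · rw [toLin'_mul_eq, toLin'_mul_eq, toLin'_mul_eq, ← Units.val_mul, ← Units.val_mul,
      ← Units.val_mul, hxg]
  · rw [toLin'_mul_eq, toLin'_mul_eq, hξ, map_smul]
  · intro l
    rw [finrank_VV]
    exact h.finrank_eig_le hyN hns l

/-- **the core theorem** -/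
theorem Setup.core (h : Setup r N) (ω : F) (hω : IsPrimitiveRoot ω r) (g : GG)
    (hgN : ∀ a, a ∈ N ↔ g * a * g⁻¹ ∈ N) (ϖ : ℕ) (hϖ : ϖ.Prime) (hgϖ : g ^ ϖ = 1)
    (hgs : ¬ IsSc ((g : GG) : MM)) (h3n : r = 3 → 3 ∣ n) (c : F) :
    (ϖ = 2 → 4 * finrank F (eig ((g : GG) : MM) c) ≤ 3 * n) ∧
    (ϖ = 3 → 3 * finrank F (eig ((g : GG) : MM) c) ≤ 2 * n) ∧
    (3 < ϖ → 2 * finrank F (eig ((g : GG) : MM) c) ≤ n) ∧
    (ϖ = 3 → ¬ 3 ∣ n → 2 * finrank F (eig ((g : GG) : MM) c) ≤ n) := by
  haveI : Fact ϖ.Prime := ⟨hϖ⟩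
  set e := finrank F (eig ((g : GG) : MM) c) with he
  have hr2 : 2 ≤ r := h.hr.two_le
  rcases h.first_bound g hgN hgs c with h1 | ⟨x, hx, hns, hU, h1⟩
  · refine ⟨fun _ => by omega, fun _ => by omega, fun _ => h1, fun _ _ => h1⟩
  · -- the main claim
    have main : 3 ≤ ϖ → ¬ (r = 3 ∧ ϖ = 3) → 2 * e ≤ n := by
      intro hϖ3 h33
      by_cases hc : c = 0
      · rw [he, hc, eig_zero, finrank_bot, mul_zero]; exact Nat.zero_le _
      obtain ⟨u, huU, hu0⟩ := (Submodule.ne_bot_iff _).mp hU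
      have hgu : act g u = c • u := (mem_eig_iff g c u).mp huU.1
      have hyu : act (x * g * x⁻¹ * g⁻¹) u = u := by
        have := inf_map_le_eig_one g x c hc huU
        rw [mem_eig_iff, one_smul] at this
        exact this
      by_cases hcomm : g * (x * g * x⁻¹ * g⁻¹) * g⁻¹ = x * g * x⁻¹ * g⁻¹
      · -- the special case
        set y : GG := x * g * x⁻¹ * g⁻¹ with hy
        have hyN : y ∈ N := conj_mem_of_normalizes hgN hx
        have hyr : y ^ r = 1 := h.pow_eq_one_of_fix hyN u hu0 hyu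
        have hgy : Commute y g := by
          show y * g = g * y
          calc y * g = (g * y * g⁻¹) * g := by rw [hcomm]
            _ = g * y := by group
        have hyϖ : y ^ ϖ = 1 := by
          have h2 := Pc_eq_one g x ϖ hgϖ
          rw [← hy] at h2
          unfold Pc at h2
          rw [hgy.mul_pow, hgϖ, mul_one, inv_one, mul_one] at h2
          exact h2
        have hϖr : ϖ = r := by
          by_contra hne
          have hcop : Nat.gcd ϖ r = 1 := (Nat.coprime_primes hϖ h.hr).mpr hne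
          have h2 : y ^ Nat.gcd ϖ r = 1 := pow_gcd_eq_one.mpr ⟨hyϖ, hyr⟩
          rw [hcop, pow_one] at h2
          apply hns
          rw [h2]
          exact ⟨1, by rw [Units.val_one, one_smul]⟩
        have hr4 : 4 ≤ r := by
          by_contra hlt
          apply h33
          constructor <;> omega
        have h2 := h.special ω hω g x hgN hx hns u hu0 hyu hcomm c hc
        rw [← he] at h2
        have h3 : 4 * e ≤ r * e := Nat.mul_le_mul_right _ hr4
        omega
      · exact h.second_bound ω hω g hgN ϖ hgϖ c hc x hx hns u hu0 hgu hyu hcomm hϖ3 h33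
    refine ⟨?_, ?_, ?_, ?_⟩
    · intro _
      obtain ⟨k, hk⟩ : ∃ k, r = k + 2 := ⟨r - 2, by omega⟩
      rw [hk] at h1
      by_contra hcon
      push_neg at hcon
      have h2 : (k + 2) * (3 * n + 1) ≤ (k + 2) * (4 * e) := Nat.mul_le_mul_left _ hcon
      nlinarith
    · intro hϖ3
      by_cases hr : r = 2
      · have := main (by omega) (by omega)
        omega
      · obtain ⟨k, hk⟩ : ∃ k, r = k + 3 := ⟨r - 3, by omega⟩
        rw [hk] at h1
        by_contra hcon
        push_neg at hcon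
        have h2 : 2 * (k + 3) * (2 * n + 1) ≤ 2 * (k + 3) * (3 * e) :=
          Nat.mul_le_mul_left _ hcon
        nlinarith
    · intro hϖ3
      exact main (by omega) (by omega)
    · intro hϖ3 h3
      apply main (by omega)
      rintro ⟨hr3, _⟩
      exact h3 (h3n hr3)

end core

end Cfsg.Agent.Lib.Helper29.ES
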