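import Mathlib
import Cfsg.Prelude.Def_GeometricClasses
import Cfsg.Agent.Lib.Helper29.ES8

/-!
# Extraspecial-type groups: verification of the hypotheses of the core theorem
-/

set_option autoImplicit false
set_option linter.unusedSectionVars false

namespace Cfsg.Agent.Lib.Helper29.ES

open Module Matrix
open scoped commutatorElement

section final

variable {F : Type*} [Field F] {n r : ℕ}

local notation "MM" => Matrix (Fin n) (Fin n) F
local notation "GG" => Matrix.GeneralLinearGroup (Fin n) F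
local notation "VV" => (Fin n → F)

theorem smul_one_eq_one_iff (hn : 0 < n) (c : F) : c • (1 : MM) = 1 ↔ c = 1 := by
  constructor
  · intro h
    have := congrFun (congrFun h ⟨0, hn⟩) ⟨0, hn⟩
    simpa using this
  · intro h; rw [h, one_smul]

/-- central elements of `R` are scalars of order dividing `r` -/
theorem center_scalar (R : Subgroup (Matrix.GeneralLinearGroup (Fin n) F))
    (hZ : Nat.card (Subgroup.center R) = r)
    (hirr : Cfsg.Geo.ActsAbsolutelyIrreducibly (Cfsg.Geo.matrixSet R)) (hn : 0 < n)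
    (z : R) (hz : z ∈ Subgroup.center R) :
    ∃ c : F, c ^ r = 1 ∧ (((z : R) : GG) : MM) = c • (1 : MM) := by
  have h1 : ∀ s ∈ Cfsg.Geo.matrixSet R, (((z : R) : GG) : MM) * s = s * (((z : R) : GG) : MM) := by
    rintro _ ⟨t, ht, rfl⟩
    have h2 := (Subgroup.mem_center_iff.mp hz) ⟨t, ht⟩
    have h3 : (t : GG) * ((z : R) : GG) = ((z : R) : GG) * t := congrArg Subtype.val h2
    have h4 := congrArg (fun w : GG => (w : MM)) h3
    simp only [Units.val_mul] at h4
    exact h4.symm
  obtain ⟨c, hc⟩ := hirr.2 _ h1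
  refine ⟨c, ?_, hc⟩
  have h5 : (⟨z, hz⟩ : Subgroup.center R) ^ Nat.card (Subgroup.center R) = 1 := pow_card_eq_one'
  rw [hZ] at h5
  have h6 : z ^ r = 1 := by
    have := congrArg Subtype.val h5
    simpa using this
  have h7 : ((z : R) : GG) ^ r = 1 := by
    have := congrArg Subtype.val h6
    simpa using this
  have h8 : (((z : R) : GG) : MM) ^ r = 1 := by
    rw [← Units.val_pow_eq_pow_val, h7, Units.val_one]
  rw [hc, smul_pow, one_pow] at h8
  exact (smul_one_eq_one_iff hn _).mp h8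

/-- commutators in `R` are scalars -/
theorem comm_R (R : Subgroup (Matrix.GeneralLinearGroup (Fin n) F))
    (hZ : Nat.card (Subgroup.center R) = r) (hext : commutator R = Subgroup.center R)
    (hirr : Cfsg.Geo.ActsAbsolutelyIrreducibly (Cfsg.Geo.matrixSet R)) (hn : 0 < n)
    (s t : GG) (hs : s ∈ R) (ht : t ∈ R) :
    ∃ ζ : F, ζ ^ r = 1 ∧ ((s : GG) : MM) * ((t : GG) : MM) =
      ζ • (((t : GG) : MM) * ((s : GG) : MM)) := by
  have h1 : ⁅(⟨s, hs⟩ : R), (⟨t, ht⟩ : R)⁆ ∈ commutator R := by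
    rw [commutator_def]
    exact Subgroup.commutator_mem_commutator (Subgroup.mem_top _) (Subgroup.mem_top _)
  rw [hext] at h1
  obtain ⟨ζ, hζr, hζ⟩ := center_scalar R hZ hirr hn _ h1
  refine ⟨ζ, hζr, ?_⟩
  have h2 : ((⁅(⟨s, hs⟩ : R), (⟨t, ht⟩ : R)⁆ : R) : GG) = s * t * s⁻¹ * t⁻¹ := by
    rw [commutatorElement_def]
    simp
  rw [h2] at hζ
  have h3 : s * t = (s * t * s⁻¹ * t⁻¹) * (t * s) := by group
  have h4 := congrArg (fun w : GG => (w : MM)) h3
  simp only [Units.val_mul] at h4
  simp only [Units.val_mul] at hζ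
  rw [h4, hζ, Matrix.smul_mul, Matrix.one_mul]

/-- elements of `R ⊔ scalars` -/
theorem mem_sup_scalars (R : Subgroup (Matrix.GeneralLinearGroup (Fin n) F)) (a : GG)
    (ha : a ∈ R ⊔ Cfsg.Geo.scalars (Fin n) F) :
    ∃ s ∈ R, ∃ l : F, ((a : GG) : MM) = l • ((s : GG) : MM) := by
  obtain ⟨s, hs, z, hz, rfl⟩ := Subgroup.mem_sup_of_normal_right.mp ha
  obtain ⟨c, hc⟩ := (Cfsg.Geo.mem_scalars_iff z).mp hz
  refine ⟨s, hs, (c : F), ?_⟩
  rw [Units.val_mul, hc, Matrix.mul_smul, Matrix.mul_one]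

/-- the setup for `N = R ⊔ scalars` -/
theorem setup_of_extraspecial (R : Subgroup (Matrix.GeneralLinearGroup (Fin n) F))
    (hr : r.Prime) (hZ : Nat.card (Subgroup.center R) = r)
    (hext : commutator R = Subgroup.center R)
    (hirr : Cfsg.Geo.ActsAbsolutelyIrreducibly (Cfsg.Geo.matrixSet R)) (hn : 0 < n) :
    Setup r (R ⊔ Cfsg.Geo.scalars (Fin n) F) := by
  refine ⟨hr, hn, ?_, ?_⟩
  · intro a ha b hb
    obtain ⟨s, hs, l, hl⟩ := mem_sup_scalars R a ha
    obtain ⟨t, ht, m, hm⟩ := mem_sup_scalars R b hb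
    obtain ⟨ζ, hζr, hζ⟩ := comm_R R hZ hext hirr hn s t hs ht
    refine ⟨ζ, hζr, ?_⟩
    rw [hl, hm, Matrix.smul_mul, Matrix.mul_smul, hζ, Matrix.smul_mul, Matrix.mul_smul]
    simp only [smul_smul]
    congr 1
    ring
  · intro A hA
    apply hirr.2
    rintro _ ⟨t, ht, rfl⟩
    exact hA t (Subgroup.mem_sup_left ht)

/-- a primitive `r`-th root of unity -/
theorem exists_primitiveRoot (R : Subgroup (Matrix.GeneralLinearGroup (Fin n) F))
    (hr : r.Prime) (hZ : Nat.card (Subgroup.center R) = r)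
    (hirr : Cfsg.Geo.ActsAbsolutelyIrreducibly (Cfsg.Geo.matrixSet R)) (hn : 0 < n) :
    ∃ ω : F, IsPrimitiveRoot ω r := by
  have hex : ∃ z : R, z ∈ Subgroup.center R ∧ z ≠ 1 := by
    by_contra hall
    push_neg at hall
    have h1 : Subgroup.center R = ⊥ := by
      rw [Subgroup.eq_bot_iff_forall]
      exact hall
    rw [h1, Subgroup.card_bot] at hZ
    exact hr.one_lt.ne hZ
  obtain ⟨z, hz, hz1⟩ := hex
  obtain ⟨c, hcr, hc⟩ := center_scalar R hZ hirr hn z hz
  have hc1 : c ≠ 1 := by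
    intro h
    apply hz1
    apply Subtype.ext
    apply Units.ext
    rw [hc, h, one_smul]
    rfl
  haveI : Fact r.Prime := ⟨hr⟩
  have hord : orderOf c = r := orderOf_eq_prime hcr hc1
  exact ⟨c, hord ▸ IsPrimitiveRoot.orderOf c⟩

/-- `R` contains a non-scalar element -/
theorem exists_nonscalar (R : Subgroup (Matrix.GeneralLinearGroup (Fin n) F))
    (hr : r.Prime) (hZ : Nat.card (Subgroup.center R) = r)
    (hext : commutator R = Subgroup.center R) :
    ∃ a ∈ R, ¬ IsSc ((a : GG) : MM) := by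
  by_contra hall
  push_neg at hall
  have h1 : commutator R = ⊥ := by
    rw [eq_bot_iff, commutator_def, Subgroup.commutator_le]
    intro s _ t _
    rw [Subgroup.mem_bot]
    obtain ⟨c, hc⟩ := hall s s.2
    obtain ⟨d, hd⟩ := hall t t.2
    have h2 : (s : GG) * (t : GG) = (t : GG) * (s : GG) := by
      apply Units.ext
      rw [Units.val_mul, Units.val_mul, hc, hd, Matrix.smul_mul, Matrix.mul_smul, Matrix.smul_mul,
        Matrix.mul_smul, Matrix.one_mul, smul_smul, smul_smul, mul_comm]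
    have h3 : s * t = t * s := Subtype.ext h2
    rw [commutatorElement_def, h3]
    group
  rw [hext] at h1
  rw [h1, Subgroup.card_bot] at hZ
  exact hr.one_lt.ne hZ

end final

section dvd

variable {F : Type*} [Field F] [Fintype F] [DecidableEq F] {n r : ℕ}

local notation "MM" => Matrix (Fin n) (Fin n) F
local notation "GG" => Matrix.GeneralLinearGroup (Fin n) F

variable {N : Subgroup (Matrix.GeneralLinearGroup (Fin n) F)}

/-- a non-scalar element of order `r` forces `r ∣ n` -/
theorem Setup.dvd_of_pow_eq_one (h : Setup r N) (ω : F) (hω : IsPrimitiveRoot ω r) {a : GG}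
    (ha : a ∈ N) (hns : ¬ IsSc ((a : GG) : MM)) (har : a ^ r = 1) : r ∣ n := by
  haveI : NeZero r := ⟨h.hr.ne_zero⟩
  set A : Module.End F (Fin n → F) := Matrix.toLin' ((a : GG) : MM) with hA
  have hAr : A ^ r = 1 := by
    rw [hA, ← Matrix.toLin'_pow, ← Units.val_pow_eq_pow_val, har, Units.val_one,
      Matrix.toLin'_one]
    rfl
  have hdiag : ⨆ μ, Module.End.eigenspace A μ = ⊤ :=
    Cfsg.Agent.Lib.Helper29.LO.iSup_eigenspace_of_pow_eq_one A r h.hr.pos ω hω hAr
  have hsum := finrank_eq_sum_of_indep (fun μ : F => Module.End.eigenspace A μ)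
    (Module.End.eigenspaces_iSupIndep A) hdiag
  rw [finrank_VV] at hsum
  have hle : ∀ μ : F, r * finrank F (Module.End.eigenspace A μ) ≤ n := fun μ =>
    h.finrank_eig_le ha hns μ
  set S : Finset F := (Finset.range r).image (fun i => ω ^ i) with hS
  have hinj : Set.InjOn (fun i : ℕ => ω ^ i) (Finset.range r : Set ℕ) := by
    intro i hi j hj hij
    simp only [Finset.coe_range, Set.mem_Iio] at hi hj
    exact hω.pow_inj hi hj hij
  have hScard : S.card = r := by
    rw [hS, Finset.card_image_of_injOn hinj, Finset.card_range]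
  have h1S : (1 : F) ∈ S := by
    rw [hS, Finset.mem_image]
    exact ⟨0, Finset.mem_range.mpr h.hr.pos, pow_zero ω⟩
  have hzero : ∀ μ : F, μ ∉ S → finrank F (Module.End.eigenspace A μ) = 0 := by
    intro μ hμ
    have : μ ^ r ≠ 1 := by
      intro hμr
      obtain ⟨i, hi, hiμ⟩ := hω.eq_pow_of_pow_eq_one hμr
      apply hμ
      rw [hS, Finset.mem_image]
      exact ⟨i, Finset.mem_range.mpr hi, hiμ⟩
    rw [eigenspace_eq_bot_of_pow A r hAr μ this, finrank_bot]
  have hsum2 : n = ∑ μ ∈ S, finrank F (Module.End.eigenspace A μ) := by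
    refine hsum.trans ?_
    symm
    apply Finset.sum_subset (Finset.subset_univ _)
    intro μ _ hμ
    exact hzero μ hμ
  have hsum3 : r * n = r * finrank F (Module.End.eigenspace A 1) +
      ∑ μ ∈ S.erase 1, r * finrank F (Module.End.eigenspace A μ) := by
    conv_lhs => rw [hsum2, Finset.mul_sum, ← Finset.add_sum_erase _ _ h1S]
  have hrest : ∑ μ ∈ S.erase 1, r * finrank F (Module.End.eigenspace A μ) ≤ (r - 1) * n := by
    have := Finset.sum_le_card_nsmul (S.erase 1)
      (fun μ => r * finrank F (Module.End.eigenspace A μ)) n (fun μ _ => hle μ)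
    rw [Finset.card_erase_of_mem h1S, hScard, smul_eq_mul] at this
    exact this
  have h1 := hle 1
  have hr1 : 1 ≤ r := h.hr.one_le
  have h2 : r * n = n + (r - 1) * n := by
    obtain ⟨k, hk⟩ : ∃ k, r = k + 1 := ⟨r - 1, by omega⟩
    rw [hk]; simp only [Nat.add_sub_cancel]; ring
  have h3 : r * finrank F (Module.End.eigenspace A 1) = n := by omega
  exact ⟨_, h3.symm⟩

end dvd

end Cfsg.Agent.Lib.Helper29.ES
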