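import Mathlib
import Cfsg.Agent.Lib.Helper24.FL.Defs
import Cfsg.Agent.Lib.Helper24.FL.L08
import Cfsg.Agent.Lib.Helper24.FL.L09
import Cfsg.Agent.Lib.Helper24.FL.L11
import Cfsg.Agent.Lib.Helper24.FL.L23
import Cfsg.Agent.Lib.Helper24.FL.L24
import Cfsg.Agent.Lib.Helper24.FL.L25
import Cfsg.Agent.Lib.Helper24.FL.L26
import Cfsg.Agent.Lib.Helper1.CoprimeAbelian

/-!
# S3816 farm (helper24), spare of leaf L27 `MinA.caseI_exists` (helper29)
-/

set_option autoImplicit false

namespace Cfsg.Agent.Lib.Helper29.FLL27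

open Subgroup
open scoped commutatorElement
open Cfsg.Agent.Lib.Helper24.FL
open Cfsg.Agent.Lib.Helper1

universe u

variable {G : Type u} [Group G]

/-- if `P` normalises `A` and `X` then it normalises `⁅A, X⁆` -/
theorem le_normalizer_commutator_of {A X P : Subgroup G}
    (hA : P ≤ normalizer (A : Set G)) (hX : P ≤ normalizer (X : Set G)) :
    P ≤ normalizer ((⁅A, X⁆ : Subgroup G) : Set G) := by
  apply le_normalizer_of_forall_conj_mem
  intro y hy n hn
  induction hn using Subgroup.closure_induction with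
  | mem z hz =>
    obtain ⟨a, ha, x, hx, rfl⟩ := hz
    have h1 : y * ⁅a, x⁆ * y⁻¹ = ⁅y * a * y⁻¹, y * x * y⁻¹⁆ := by
      simp only [commutatorElement_def]; group
    rw [h1]
    exact Subgroup.commutator_mem_commutator
      ((Subgroup.mem_normalizer_iff.mp (hA hy) a).mp ha)
      ((Subgroup.mem_normalizer_iff.mp (hX hy) x).mp hx)
  | one => simp
  | mul u v _ _ hu hv =>
    have : y * (u * v) * y⁻¹ = (y * u * y⁻¹) * (y * v * y⁻¹) := by group
    rw [this]; exact mul_mem hu hv
  | inv u _ hu =>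
    have : y * u⁻¹ * y⁻¹ = (y * u * y⁻¹)⁻¹ := by group
    rw [this]; exact inv_mem hu

/-- if `P` normalises `A` and `B` then it normalises `A ⊔ B` -/
theorem le_normalizer_sup_of {A B P : Subgroup G}
    (hA : P ≤ normalizer (A : Set G)) (hB : P ≤ normalizer (B : Set G)) :
    P ≤ normalizer ((A ⊔ B : Subgroup G) : Set G) := by
  intro y hy
  rw [← conj_smul_eq_self_iff_mem_normalizer, Subgroup.smul_sup,
    conj_smul_eq_self_iff_mem_normalizer.mpr (hA hy),
    conj_smul_eq_self_iff_mem_normalizer.mpr (hB hy)]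

theorem caseI_exists [Finite G] {p : ℕ} [Fact p.Prime] {H P A : Subgroup G}
    (mc : MC p H P) (hA : MinA H P A) (hab : A ≤ Subgroup.centralizer (A : Set G)) :
    ∃ S ∈ SylInv H P, A ⊔ ⁅(S : Subgroup G), P⁆ = H := by
  by_contra hcon
  have hcon' : ∀ S ∈ SylInv H P, A ⊔ ⁅(S : Subgroup G), P⁆ ≠ H := by
    intro S hS h
    exact hcon ⟨S, hS, h⟩
  obtain ⟨hAH, hHA, hPA⟩ := hA.nrm
  have hHP : ⁅H, P⁆ = H := mc.comm_eq
  have hgen : ⨆ S : SylInv H P, ⁅(S : Subgroup G), P⁆ = H := gen_sylow_comm mc.act hHP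
  have hA1 : A ≠ ⊥ := by
    intro h
    apply hA.nc
    rw [h]
    exact bot_le
  have hSP_le : ∀ S : SylInv H P, ⁅(S : Subgroup G), P⁆ ≤ H := by
    intro S
    calc ⁅(S : Subgroup G), P⁆ ≤ ⁅H, P⁆ := Subgroup.commutator_mono S.2.1 le_rfl
      _ = H := hHP
  -- the family `P, ⁅S,P⁆`
  let X : Option (SylInv H P) → Subgroup G := fun o => o.elim P (fun S => ⁅(S : Subgroup G), P⁆)
  have hXn : X none = P := rfl
  have hXs : ∀ S : SylInv H P, X (some S) = ⁅(S : Subgroup G), P⁆ := fun _ => rfl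
  have hX : ∀ o, X o ≤ Subgroup.normalizer (A : Set G) := by
    intro o
    cases o with
    | none => exact hPA
    | some S => exact (hSP_le S).trans hHA
  have hPX : ∀ o, P ≤ Subgroup.normalizer ((X o : Subgroup G) : Set G) := by
    intro o
    cases o with
    | none => exact Subgroup.le_normalizer
    | some S => exact le_normalizer_commutator_right
  have hsup : ⨆ o, X o = H ⊔ P := by
    rw [iSup_option]
    show P ⊔ ⨆ S : SylInv H P, ⁅(S : Subgroup G), P⁆ = H ⊔ P
    rw [hgen, sup_comm]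
  let B : Option (SylInv H P) → Subgroup G := fun o => ⁅A, X o⁆
  have hB : ∀ o, B o ≤ A := fun o => commutator_le_of_le_normalizer (hX o)
  have hPB : ∀ o, P ≤ Subgroup.normalizer ((B o : Subgroup G) : Set G) :=
    fun o => le_normalizer_commutator_of hPA (hPX o)
  have hAle : A ≤ ⨆ o, B o := by
    calc A = ⁅A, H ⊔ P⁆ := (MinA.comm_top mc hA).symm
      _ = ⁅A, ⨆ o, X o⁆ := by rw [hsup]
      _ ≤ ⨆ o, ⁅A, X o⁆ := abelian_comm_iSup hab X hX
  have hcop : (Nat.card A).Coprime (Nat.card P) := by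
    rw [mc.act.cardP]
    exact Nat.Coprime.coprime_dvd_left (Subgroup.card_dvd_of_le hAH) mc.act.cop
  have hfix := abelian_fixed_iSup hab hPA hcop B hB hPB
  apply MC.not_le mc hA.nrm hA1
  calc A ⊓ Subgroup.centralizer (P : Set G)
      ≤ (⨆ o, B o) ⊓ Subgroup.centralizer (P : Set G) := inf_le_inf_right _ hAle
    _ ≤ ⨆ o, B o ⊓ Subgroup.centralizer (P : Set G) := hfix
    _ ≤ KK H P := by
      apply iSup_le
      intro o
      cases o with
      | none =>
        show ⁅A, P⁆ ⊓ Subgroup.centralizer (P : Set G) ≤ KK H P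
        have : IsMulCommutative A :=
          ⟨⟨fun a b => Subtype.ext (by
            show (a : G) * b = b * a
            exact (Subgroup.mem_centralizer_iff.mp (hab b.2) a a.2))⟩⟩
        have h0 := abelian_centralizer_inf_commutator_eq_bot P A hPA hcop.symm
        have h1 : ⁅A, P⁆ ⊓ Subgroup.centralizer (P : Set G)
            ≤ (A ⊓ Subgroup.centralizer (P : Set G)) ⊓ ⁅A, P⁆ := by
          refine le_inf (le_inf ?_ inf_le_right) inf_le_left
          exact inf_le_left.trans (commutator_le_of_le_normalizer hPA)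
        rw [h0] at h1
        exact h1.trans bot_le
      | some S =>
        show ⁅A, ⁅(S : Subgroup G), P⁆⁆ ⊓ Subgroup.centralizer (P : Set G) ≤ KK H P
        obtain ⟨hSH, hPS, _⟩ := S.2
        set H₀ : Subgroup G := A ⊔ ⁅(S : Subgroup G), P⁆ with hH₀
        have h1 : H₀ ≤ H := sup_le hAH (hSP_le S)
        have h2 : H₀ ≠ H := hcon' S S.2
        have h3 : P ≤ Subgroup.normalizer (H₀ : Set G) :=
          le_normalizer_sup_of hPA le_normalizer_commutator_right
        have hsub := MC.sub mc h1 h2 h3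
        have hact : CoprimeAct P (S : Subgroup G) := (mc.act.coprimeAct).mono hSH hPS
        have hSPT : ⁅(S : Subgroup G), P⁆ ≤ ⁅H₀, P⁆ := by
          calc ⁅(S : Subgroup G), P⁆ = ⁅⁅(S : Subgroup G), P⁆, P⁆ := hact.commutator_commutator_eq.symm
            _ ≤ ⁅H₀, P⁆ := Subgroup.commutator_mono le_sup_right le_rfl
        have hT : ⁅A, ⁅(S : Subgroup G), P⁆⁆ ≤ ⁅H₀, P⁆ := by
          calc ⁅A, ⁅(S : Subgroup G), P⁆⁆ ≤ ⁅H₀, ⁅H₀, P⁆⁆ := Subgroup.commutator_mono le_sup_left hSPT
            _ = ⁅⁅H₀, P⁆, H₀⁆ := Subgroup.commutator_comm _ _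
            _ ≤ ⁅H₀, P⁆ := commutator_le_of_le_normalizer le_normalizer_commutator_left
        exact (inf_le_inf_right _ hT).trans hsub

end Cfsg.Agent.Lib.Helper29.FLL27
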