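import Cfsg.Agent.Lib.Helper29.Fi22RepCore
import Cfsg.Agent.Lib.Helper29.Fi22RepGens

set_option autoImplicit false
set_option maxRecDepth 100000
set_option linter.unusedVariables false

namespace Cfsg.Agent.Lib.Helper29.Fi22Rep

theorem cmAC : (mulL mA mC == mulL mC mA) = true := by decide +kernel
theorem cmAD : (mulL mA mD == mulL mD mA) = true := by decide +kernel
theorem cmAE : (mulL mA mE == mulL mE mA) = true := by decide +kernel
theorem cmAF : (mulL mA mF == mulL mF mA) = true := by decide +kernel
theorem cmAG : (mulL mA mG == mulL mG mA) = true := by decide +kernel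
theorem cmAH : (mulL mA mH == mulL mH mA) = true := by decide +kernel
theorem cmAI : (mulL mA mI == mulL mI mA) = true := by decide +kernel

end Cfsg.Agent.Lib.Helper29.Fi22Rep
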