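import Cfsg.Agent.Lib.Helper29.Fi22RepCore
import Cfsg.Agent.Lib.Helper29.Fi22RepGens

set_option autoImplicit false
set_option maxRecDepth 100000
set_option linter.unusedVariables false

namespace Cfsg.Agent.Lib.Helper29.Fi22Rep

theorem cmBD : (mulL mB mD == mulL mD mB) = true := by decide +kernel
theorem cmBE : (mulL mB mE == mulL mE mB) = true := by decide +kernel
theorem cmBF : (mulL mB mF == mulL mF mB) = true := by decide +kernel
theorem cmBG : (mulL mB mG == mulL mG mB) = true := by decide +kernel
theorem cmBH : (mulL mB mH == mulL mH mB) = true := by decide +kernel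
theorem cmBI : (mulL mB mI == mulL mI mB) = true := by decide +kernel
theorem cmCE : (mulL mC mE == mulL mE mC) = true := by decide +kernel

end Cfsg.Agent.Lib.Helper29.Fi22Rep
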