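import Cfsg.Agent.Lib.Helper29.Fi22RepCore
import Cfsg.Agent.Lib.Helper29.Fi22RepGens

set_option autoImplicit false
set_option maxRecDepth 100000
set_option linter.unusedVariables false

namespace Cfsg.Agent.Lib.Helper29.Fi22Rep

theorem cmCF : (mulL mC mF == mulL mF mC) = true := by decide +kernel
theorem cmCG : (mulL mC mG == mulL mG mC) = true := by decide +kernel
theorem cmCH : (mulL mC mH == mulL mH mC) = true := by decide +kernel
theorem cmCI : (mulL mC mI == mulL mI mC) = true := by decide +kernel
theorem cmDF : (mulL mD mF == mulL mF mD) = true := by decide +kernel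
theorem cmDG : (mulL mD mG == mulL mG mD) = true := by decide +kernel
theorem cmDI : (mulL mD mI == mulL mI mD) = true := by decide +kernel

end Cfsg.Agent.Lib.Helper29.Fi22Rep
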