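import Cfsg.Agent.Lib.Helper29.Fi22RepCore
import Cfsg.Agent.Lib.Helper29.Fi22RepGens

set_option autoImplicit false
set_option maxRecDepth 100000
set_option linter.unusedVariables false

namespace Cfsg.Agent.Lib.Helper29.Fi22Rep

theorem cmEG : (mulL mE mG == mulL mG mE) = true := by decide +kernel
theorem cmEH : (mulL mE mH == mulL mH mE) = true := by decide +kernel
theorem cmEI : (mulL mE mI == mulL mI mE) = true := by decide +kernel
theorem cmFH : (mulL mF mH == mulL mH mF) = true := by decide +kernel
theorem cmFI : (mulL mF mI == mulL mI mF) = true := by decide +kernel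
theorem cmGH : (mulL mG mH == mulL mH mG) = true := by decide +kernel
theorem cmGI : (mulL mG mI == mulL mI mG) = true := by decide +kernel

end Cfsg.Agent.Lib.Helper29.Fi22Rep
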