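import Mathlib

set_option autoImplicit false
set_option linter.unusedVariables false

/-!
# 78 x 78 matrices over `ZMod 13` given by lists of rows of natural numbers

A product of two such matrices is computed on the lists (`mulL`, rows of the product are combinations of
the rows of the second factor) and `toMat_mulL` says that this is the product of matrices.
-/

namespace Cfsg.Agent.Lib.Helper29.Fi22Rep

/-- the entry `(i, j)` of a list of rows -/
def ent (A : List (List ℕ)) (i j : ℕ) : ℕ := (A.getD i []).getD j 0

/-- the matrix over `ZMod 13` of a list of rows -/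
def toMat (A : List (List ℕ)) : Matrix (Fin 78) (Fin 78) (ZMod 13) :=
  fun i j => ((ent A i.val j.val : ℕ) : ZMod 13)

/-- the zero row -/
def zeroRow : List ℕ := List.replicate 78 0

theorem zeroRow_length : zeroRow.length = 78 := List.length_replicate

theorem zeroRow_getD (j : ℕ) (hj : j < 78) : zeroRow.getD j 0 = 0 := List.getD_replicate 0 hj

/-- sum of two rows -/
def addRow (r s : List ℕ) : List ℕ := List.zipWith (fun x y => x + y) r s

/-- multiple of a row -/
def scaleRow (c : ℕ) (r : List ℕ) : List ℕ := r.map (fun x => c * x)

/-- the combination of the rows `rs` with the coefficients `cs` -/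
def combRows : List ℕ → List (List ℕ) → List ℕ
  | 0 :: cs, _ :: rs => combRows cs rs
  | (c + 1) :: cs, r :: rs => addRow (scaleRow (c + 1) r) (combRows cs rs)
  | [], _ => zeroRow
  | _ :: _, [] => zeroRow

/-- the column `j` of the combination -/
def dotCol : List ℕ → List (List ℕ) → ℕ → ℕ
  | c :: cs, r :: rs, j => c * r.getD j 0 + dotCol cs rs j
  | [], _, _ => 0
  | _ :: _, [], _ => 0

/-- the product of two lists of rows, reduced modulo 13 -/
def mulL (A B : List (List ℕ)) : List (List ℕ) :=
  A.map (fun a => (combRows a B).map (fun x => x % 13))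

/-- the identity as a list of rows -/
def oneL : List (List ℕ) :=
  (List.range 78).map (fun i => (List.range 78).map (fun j => if i = j then 1 else 0))

/-- 78 rows of length 78 -/
def shape (A : List (List ℕ)) : Bool := A.length == 78 && A.all (fun r => r.length == 78)

theorem shape_length {A : List (List ℕ)} (h : shape A = true) : A.length = 78 := by
  unfold shape at h
  rw [Bool.and_eq_true] at h
  simpa using h.1

theorem shape_rows {A : List (List ℕ)} (h : shape A = true) : ∀ r ∈ A, r.length = 78 := by
  unfold shape at h
  rw [Bool.and_eq_true, List.all_eq_true] at h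
  intro r hr
  simpa using h.2 r hr

theorem combRows_length (cs : List ℕ) (rs : List (List ℕ)) (h : ∀ r ∈ rs, r.length = 78) :
    (combRows cs rs).length = 78 := by
  induction cs generalizing rs with
  | nil => simp only [combRows, zeroRow_length]
  | cons c cs ih =>
    cases rs with
    | nil => simp only [combRows, zeroRow_length]
    | cons r rs =>
      have h1 : r.length = 78 := h r (List.mem_cons_self)
      have h2 := ih rs (fun r' hr' => h r' (List.mem_cons_of_mem _ hr'))
      cases c with
      | zero => simp only [combRows, h2]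
      | succ c =>
        simp only [combRows, addRow, scaleRow, List.length_zipWith, List.length_map, h1, h2, min_self]

theorem combRows_getD (cs : List ℕ) (rs : List (List ℕ)) (h : ∀ r ∈ rs, r.length = 78) (j : ℕ)
    (hj : j < 78) : (combRows cs rs).getD j 0 = dotCol cs rs j := by
  induction cs generalizing rs with
  | nil => simp only [combRows, dotCol, zeroRow_getD j hj]
  | cons c cs ih =>
    cases rs with
    | nil => simp only [combRows, dotCol, zeroRow_getD j hj]
    | cons r rs =>
      have h1 : r.length = 78 := h r (List.mem_cons_self)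
      have hrs : ∀ r' ∈ rs, r'.length = 78 := fun r' hr' => h r' (List.mem_cons_of_mem _ hr')
      have h2 := ih rs hrs
      have h3 := combRows_length cs rs hrs
      cases c with
      | zero =>
        simp only [combRows, dotCol, h2, Nat.zero_mul, Nat.zero_add]
      | succ c =>
        have hl : j < (combRows ((c + 1) :: cs) (r :: rs)).length := by
          rw [combRows_length _ _ h]; exact hj
        rw [List.getD_eq_getElem _ _ hl]
        simp only [combRows, addRow, scaleRow, List.getElem_zipWith, List.getElem_map, dotCol]
        rw [← h2, List.getD_eq_getElem _ _ (by omega : j < r.length),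
          List.getD_eq_getElem _ _ (by omega : j < (combRows cs rs).length)]

theorem dotCol_eq_sum (cs : List ℕ) (rs : List (List ℕ)) (j n : ℕ) (hn : rs.length ≤ n) :
    dotCol cs rs j = ∑ k ∈ Finset.range n, cs.getD k 0 * (rs.getD k []).getD j 0 := by
  induction cs generalizing rs n with
  | nil => simp [dotCol]
  | cons c cs ih =>
    cases rs with
    | nil => simp [dotCol]
    | cons r rs =>
      obtain ⟨m, rfl⟩ : ∃ m, n = m + 1 := ⟨n - 1, by simp at hn; omega⟩
      rw [Finset.sum_range_succ']
      simp only [dotCol, List.getD_cons_zero, List.getD_cons_succ]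
      rw [ih rs m (by simp at hn; omega)]
      ring

theorem toMat_mulL (A B : List (List ℕ)) (hA : shape A = true) (hB : shape B = true) :
    toMat (mulL A B) = toMat A * toMat B := by
  have hAl := shape_length hA
  have hBl := shape_length hB
  have hBr := shape_rows hB
  ext i j
  rw [Matrix.mul_apply]
  have hi : i.val < A.length := by rw [hAl]; exact i.isLt
  have hrow : (mulL A B).getD i.val [] = (combRows (A.getD i.val []) B).map (fun x => x % 13) := by
    unfold mulL
    have hi' : i.val < (A.map (fun a => (combRows a B).map (fun x => x % 13))).length := by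
      rw [List.length_map]; exact hi
    rw [List.getD_eq_getElem _ _ hi', List.getElem_map, List.getD_eq_getElem _ _ hi]
  have h1 : ent (mulL A B) i.val j.val = dotCol (A.getD i.val []) B j.val % 13 := by
    unfold ent
    rw [hrow]
    have hl : j.val < ((combRows (A.getD i.val []) B).map (fun x => x % 13)).length := by
      rw [List.length_map, combRows_length _ _ hBr]; exact j.isLt
    have hl2 : j.val < (combRows (A.getD i.val []) B).length := by
      rw [combRows_length _ _ hBr]; exact j.isLt
    rw [List.getD_eq_getElem _ _ hl, List.getElem_map, ← combRows_getD _ _ hBr j.val j.isLt,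
      List.getD_eq_getElem _ _ hl2]
  unfold toMat
  rw [h1, ZMod.natCast_mod, dotCol_eq_sum _ _ _ 78 (by omega), Nat.cast_sum,
    ← Fin.sum_univ_eq_sum_range (fun k => (((A.getD i.val []).getD k 0 * (B.getD k []).getD j.val 0 : ℕ) : ZMod 13)) 78]
  apply Finset.sum_congr rfl
  intro k _
  rw [Nat.cast_mul]
  rfl

theorem ent_oneL (i j : ℕ) (hi : i < 78) (hj : j < 78) : ent oneL i j = if i = j then 1 else 0 := by
  unfold ent oneL
  have hi' : i < ((List.range 78).map (fun i => (List.range 78).map (fun j => if i = j then 1 else 0))).length := by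
    rw [List.length_map, List.length_range]; exact hi
  rw [List.getD_eq_getElem _ _ hi', List.getElem_map, List.getElem_range]
  have hj' : j < ((List.range 78).map (fun j => if i = j then 1 else 0)).length := by
    rw [List.length_map, List.length_range]; exact hj
  rw [List.getD_eq_getElem _ _ hj', List.getElem_map, List.getElem_range]

theorem toMat_oneL : toMat oneL = 1 := by
  ext i j
  unfold toMat
  rw [ent_oneL _ _ i.isLt j.isLt, Matrix.one_apply]
  by_cases h : i = j
  · subst h; simp
  · have h' : ¬ (i.val = j.val) := fun hh => h (Fin.ext hh)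
    simp [h, h']

theorem shape_oneL : shape oneL = true := by decide

/-- the unit of the matrix ring given by an involutory list of rows -/
def unitOf (A : List (List ℕ)) (hA : shape A = true) (h : mulL A A = oneL) :
    GL (Fin 78) (ZMod 13) :=
  ⟨toMat A, toMat A, by rw [← toMat_mulL A A hA hA, h, toMat_oneL],
    by rw [← toMat_mulL A A hA hA, h, toMat_oneL]⟩

theorem unitOf_val (A : List (List ℕ)) (hA : shape A = true) (h : mulL A A = oneL) :
    ((unitOf A hA h : GL (Fin 78) (ZMod 13)) : Matrix (Fin 78) (Fin 78) (ZMod 13)) = toMat A := rfl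


theorem shape_mulL (A B : List (List ℕ)) (hA : shape A = true) (hB : shape B = true) :
    shape (mulL A B) = true := by
  have hAl := shape_length hA
  have hBr := shape_rows hB
  unfold shape
  rw [Bool.and_eq_true, List.all_eq_true]
  refine ⟨by simp [mulL, hAl], ?_⟩
  intro r hr
  unfold mulL at hr
  rw [List.mem_map] at hr
  obtain ⟨a, _, rfl⟩ := hr
  simp [combRows_length _ _ hBr]

/-- the element `g` of the general linear group has the matrix given by the list of rows `A` -/
def Rep (g : GL (Fin 78) (ZMod 13)) (A : List (List ℕ)) : Prop :=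
  shape A = true ∧ (g : Matrix (Fin 78) (Fin 78) (ZMod 13)) = toMat A

theorem Rep.mul' {g h : GL (Fin 78) (ZMod 13)} {A B : List (List ℕ)} (hg : Rep g A) (hh : Rep h B) :
    Rep (g * h) (mulL A B) :=
  ⟨shape_mulL A B hg.1 hh.1, by rw [Units.val_mul, hg.2, hh.2, toMat_mulL A B hg.1 hh.1]⟩

theorem Rep.mul {g h : GL (Fin 78) (ZMod 13)} {A B C : List (List ℕ)} (hg : Rep g A) (hh : Rep h B)
    (hc : (mulL A B == C) = true) : Rep (g * h) C := by
  have h1 : mulL A B = C := eq_of_beq hc
  rw [← h1]
  exact Rep.mul' hg hh

theorem Rep.eq {g h : GL (Fin 78) (ZMod 13)} {A : List (List ℕ)} (hg : Rep g A) (hh : Rep h A) :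
    g = h := Units.ext (by rw [hg.2, hh.2])

theorem Rep.one : Rep 1 oneL := ⟨shape_oneL, by rw [Units.val_one, toMat_oneL]⟩

theorem rep_unitOf (A : List (List ℕ)) (hA : shape A = true) (h : mulL A A = oneL) :
    Rep (unitOf A hA h) A := ⟨hA, rfl⟩

theorem Rep.comm {g h : GL (Fin 78) (ZMod 13)} {A B : List (List ℕ)} (hg : Rep g A) (hh : Rep h B)
    (hc : (mulL A B == mulL B A) = true) : g * h = h * g :=
  Rep.eq (Rep.mul hg hh hc) (Rep.mul' hh hg)

theorem Rep.braid {g h : GL (Fin 78) (ZMod 13)} {A B AB BA ABA : List (List ℕ)} (hg : Rep g A)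
    (hh : Rep h B) (h1 : (mulL A B == AB) = true) (h2 : (mulL AB A == ABA) = true)
    (h3 : (mulL B A == BA) = true) (h4 : (mulL BA B == ABA) = true) : g * h * g = h * g * h :=
  Rep.eq (Rep.mul (Rep.mul hg hh h1) hg h2) (Rep.mul (Rep.mul hh hg h3) hh h4)

section grp
variable {G : Type*} [Group G]

theorem pow_two_of_comm (x y : G) (hx : x * x = 1) (hy : y * y = 1) (h : x * y = y * x) :
    (x * y) ^ 2 = 1 := by
  rw [pow_two]
  calc x * y * (x * y) = x * (y * x) * y := by group
    _ = x * (x * y) * y := by rw [h]
    _ = (x * x) * (y * y) := by group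
    _ = 1 := by rw [hx, hy, mul_one]

theorem pow_three_of_braid (x y : G) (hx : x * x = 1) (hy : y * y = 1) (h : x * y * x = y * x * y) :
    (x * y) ^ 3 = 1 := by
  rw [pow_succ, pow_two]
  calc x * y * (x * y) * (x * y) = (x * y * x) * (y * x * y) := by group
    _ = (x * y * x) * (x * y * x) := by rw [h]
    _ = x * y * (x * x) * y * x := by group
    _ = x * (y * y) * x := by rw [hx]; group
    _ = 1 := by rw [hy, mul_one, hx]

theorem pow_ten_of (w w2 w4 w5 : G) (h2 : w * w = w2) (h4 : w2 * w2 = w4) (h5 : w4 * w = w5)
    (h10 : w5 * w5 = 1) : w ^ 10 = 1 := by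
  subst h2 h4 h5
  have h : w ^ 10 = w * w * (w * w) * w * (w * w * (w * w) * w) := by
    simp only [pow_succ, pow_zero, one_mul, mul_assoc]
  rw [h]
  exact h10

theorem pow_nine_of (w w2 w3 w6 : G) (h2 : w * w = w2) (h3 : w2 * w = w3) (h6 : w3 * w3 = w6)
    (h9 : w6 * w3 = 1) : w ^ 9 = 1 := by
  subst h2 h3 h6
  have h : w ^ 9 = w * w * w * (w * w * w) * (w * w * w) := by
    simp only [pow_succ, pow_zero, one_mul, mul_assoc]
  rw [h]
  exact h9

end grp

end Cfsg.Agent.Lib.Helper29.Fi22Rep
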