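import Cfsg.Agent.Lib.Helper29.Fi22RepCore
import Cfsg.Agent.Lib.Helper29.Fi22RepGens

set_option autoImplicit false
set_option maxRecDepth 100000
set_option linter.unusedVariables false

namespace Cfsg.Agent.Lib.Helper29.Fi22Rep

theorem shA : shape mA = true := by decide +kernel
theorem sqA : (mulL mA mA == oneL) = true := by decide +kernel

theorem shB : shape mB = true := by decide +kernel
theorem sqB : (mulL mB mB == oneL) = true := by decide +kernel

theorem shC : shape mC = true := by decide +kernel
theorem sqC : (mulL mC mC == oneL) = true := by decide +kernel

theorem shD : shape mD = true := by decide +kernel
theorem sqD : (mulL mD mD == oneL) = true := by decide +kernel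

theorem shE : shape mE = true := by decide +kernel
theorem sqE : (mulL mE mE == oneL) = true := by decide +kernel

theorem shF : shape mF = true := by decide +kernel
theorem sqF : (mulL mF mF == oneL) = true := by decide +kernel

theorem shG : shape mG = true := by decide +kernel
theorem sqG : (mulL mG mG == oneL) = true := by decide +kernel

theorem shH : shape mH = true := by decide +kernel
theorem sqH : (mulL mH mH == oneL) = true := by decide +kernel

theorem shI : shape mI = true := by decide +kernel
theorem sqI : (mulL mI mI == oneL) = true := by decide +kernel


end Cfsg.Agent.Lib.Helper29.Fi22Rep
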