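import Cfsg.Agent.Lib.Helper29.Fi22RepCore
import Cfsg.Agent.Lib.Helper29.Fi22RepSq
import Cfsg.Agent.Lib.Helper29.Fi22RepComm0
import Cfsg.Agent.Lib.Helper29.Fi22RepComm1
import Cfsg.Agent.Lib.Helper29.Fi22RepComm2
import Cfsg.Agent.Lib.Helper29.Fi22RepComm3
import Cfsg.Agent.Lib.Helper29.Fi22RepBraid0
import Cfsg.Agent.Lib.Helper29.Fi22RepBraid1
import Cfsg.Agent.Lib.Helper29.Fi22RepBraid2
import Cfsg.Agent.Lib.Helper29.Fi22RepBraid3
import Cfsg.Agent.Lib.Helper29.Fi22RepLong1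
import Cfsg.Agent.Lib.Helper29.Fi22RepLong2
import Cfsg.Agent.Lib.Helper29.Fi22RepLong3
import Cfsg.Prelude.Def_Spor_Fi22

set_option autoImplicit false
set_option maxRecDepth 100000
set_option linter.unusedVariables false

namespace Cfsg.Agent.Lib.Helper29.Fi22Rep

open Cfsg.Spor

/-- the image of the generator a -/
def gA : GL (Fin 78) (ZMod 13) := unitOf mA shA (eq_of_beq sqA)
theorem repA : Rep gA mA := rep_unitOf _ _ _
theorem sqgA : gA * gA = 1 := Rep.eq (Rep.mul repA repA sqA) Rep.one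

/-- the image of the generator b -/
def gB : GL (Fin 78) (ZMod 13) := unitOf mB shB (eq_of_beq sqB)
theorem repB : Rep gB mB := rep_unitOf _ _ _
theorem sqgB : gB * gB = 1 := Rep.eq (Rep.mul repB repB sqB) Rep.one

/-- the image of the generator c -/
def gC : GL (Fin 78) (ZMod 13) := unitOf mC shC (eq_of_beq sqC)
theorem repC : Rep gC mC := rep_unitOf _ _ _
theorem sqgC : gC * gC = 1 := Rep.eq (Rep.mul repC repC sqC) Rep.one

/-- the image of the generator d -/
def gD : GL (Fin 78) (ZMod 13) := unitOf mD shD (eq_of_beq sqD)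
theorem repD : Rep gD mD := rep_unitOf _ _ _
theorem sqgD : gD * gD = 1 := Rep.eq (Rep.mul repD repD sqD) Rep.one

/-- the image of the generator e -/
def gE : GL (Fin 78) (ZMod 13) := unitOf mE shE (eq_of_beq sqE)
theorem repE : Rep gE mE := rep_unitOf _ _ _
theorem sqgE : gE * gE = 1 := Rep.eq (Rep.mul repE repE sqE) Rep.one

/-- the image of the generator f -/
def gF : GL (Fin 78) (ZMod 13) := unitOf mF shF (eq_of_beq sqF)
theorem repF : Rep gF mF := rep_unitOf _ _ _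
theorem sqgF : gF * gF = 1 := Rep.eq (Rep.mul repF repF sqF) Rep.one

/-- the image of the generator g -/
def gG : GL (Fin 78) (ZMod 13) := unitOf mG shG (eq_of_beq sqG)
theorem repG : Rep gG mG := rep_unitOf _ _ _
theorem sqgG : gG * gG = 1 := Rep.eq (Rep.mul repG repG sqG) Rep.one

/-- the image of the generator h -/
def gH : GL (Fin 78) (ZMod 13) := unitOf mH shH (eq_of_beq sqH)
theorem repH : Rep gH mH := rep_unitOf _ _ _
theorem sqgH : gH * gH = 1 := Rep.eq (Rep.mul repH repH sqH) Rep.one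

/-- the image of the generator i -/
def gI : GL (Fin 78) (ZMod 13) := unitOf mI shI (eq_of_beq sqI)
theorem repI : Rep gI mI := rep_unitOf _ _ _
theorem sqgI : gI * gI = 1 := Rep.eq (Rep.mul repI repI sqI) Rep.one

theorem cgAC : gA * gC = gC * gA := Rep.comm repA repC cmAC
theorem cgAD : gA * gD = gD * gA := Rep.comm repA repD cmAD
theorem cgAE : gA * gE = gE * gA := Rep.comm repA repE cmAE
theorem cgAF : gA * gF = gF * gA := Rep.comm repA repF cmAF
theorem cgAG : gA * gG = gG * gA := Rep.comm repA repG cmAG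
theorem cgAH : gA * gH = gH * gA := Rep.comm repA repH cmAH
theorem cgAI : gA * gI = gI * gA := Rep.comm repA repI cmAI
theorem cgBD : gB * gD = gD * gB := Rep.comm repB repD cmBD
theorem cgBE : gB * gE = gE * gB := Rep.comm repB repE cmBE
theorem cgBF : gB * gF = gF * gB := Rep.comm repB repF cmBF
theorem cgBG : gB * gG = gG * gB := Rep.comm repB repG cmBG
theorem cgBH : gB * gH = gH * gB := Rep.comm repB repH cmBH
theorem cgBI : gB * gI = gI * gB := Rep.comm repB repI cmBI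
theorem cgCE : gC * gE = gE * gC := Rep.comm repC repE cmCE
theorem cgCF : gC * gF = gF * gC := Rep.comm repC repF cmCF
theorem cgCG : gC * gG = gG * gC := Rep.comm repC repG cmCG
theorem cgCH : gC * gH = gH * gC := Rep.comm repC repH cmCH
theorem cgCI : gC * gI = gI * gC := Rep.comm repC repI cmCI
theorem cgDF : gD * gF = gF * gD := Rep.comm repD repF cmDF
theorem cgDG : gD * gG = gG * gD := Rep.comm repD repG cmDG
theorem cgDI : gD * gI = gI * gD := Rep.comm repD repI cmDI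
theorem cgEG : gE * gG = gG * gE := Rep.comm repE repG cmEG
theorem cgEH : gE * gH = gH * gE := Rep.comm repE repH cmEH
theorem cgEI : gE * gI = gI * gE := Rep.comm repE repI cmEI
theorem cgFH : gF * gH = gH * gF := Rep.comm repF repH cmFH
theorem cgFI : gF * gI = gI * gF := Rep.comm repF repI cmFI
theorem cgGH : gG * gH = gH * gG := Rep.comm repG repH cmGH
theorem cgGI : gG * gI = gI * gG := Rep.comm repG repI cmGI

theorem bgAB : gA * gB * gA = gB * gA * gB := Rep.braid repA repB brAB1 brAB2 brAB3 brAB4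
theorem bgBC : gB * gC * gB = gC * gB * gC := Rep.braid repB repC brBC1 brBC2 brBC3 brBC4
theorem bgCD : gC * gD * gC = gD * gC * gD := Rep.braid repC repD brCD1 brCD2 brCD3 brCD4
theorem bgDE : gD * gE * gD = gE * gD * gE := Rep.braid repD repE brDE1 brDE2 brDE3 brDE4
theorem bgDH : gD * gH * gD = gH * gD * gH := Rep.braid repD repH brDH1 brDH2 brDH3 brDH4
theorem bgEF : gE * gF * gE = gF * gE * gF := Rep.braid repE repF brEF1 brEF2 brEF3 brEF4
theorem bgFG : gF * gG * gF = gG * gF * gG := Rep.braid repF repG brFG1 brFG2 brFG3 brFG4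
theorem bgHI : gH * gI * gH = gI * gH * gI := Rep.braid repH repI brHI1 brHI2 brHI3 brHI4

theorem long1 : (gD * gC * gB * gD * gE * gF * gD * gH * gI) ^ 10 = 1 := by
  have r2 : Rep (gD * gC) l1_2 := Rep.mul repD repC l1_2c
  have r3 : Rep (gD * gC * gB) l1_3 := Rep.mul r2 repB l1_3c
  have r4 : Rep (gD * gC * gB * gD) l1_4 := Rep.mul r3 repD l1_4c
  have r5 : Rep (gD * gC * gB * gD * gE) l1_5 := Rep.mul r4 repE l1_5c
  have r6 : Rep (gD * gC * gB * gD * gE * gF) l1_6 := Rep.mul r5 repF l1_6c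
  have r7 : Rep (gD * gC * gB * gD * gE * gF * gD) l1_7 := Rep.mul r6 repD l1_7c
  have r8 : Rep (gD * gC * gB * gD * gE * gF * gD * gH) l1_8 := Rep.mul r7 repH l1_8c
  have r9 : Rep (gD * gC * gB * gD * gE * gF * gD * gH * gI) l1_9 := Rep.mul r8 repI l1_9c
  have p2 := Rep.mul r9 r9 l1_p2c
  have p4 := Rep.mul p2 p2 l1_p4c
  have p5 := Rep.mul p4 r9 l1_p5c
  have p10 := Rep.mul p5 p5 l1_p10c
  exact pow_ten_of _ _ _ _ rfl rfl rfl (Rep.eq p10 Rep.one)

theorem long2 : (gA * gB * gC * gD * gE * gF * gH) ^ 9 = 1 := by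
  have r2 : Rep (gA * gB) l2_2 := Rep.mul repA repB l2_2c
  have r3 : Rep (gA * gB * gC) l2_3 := Rep.mul r2 repC l2_3c
  have r4 : Rep (gA * gB * gC * gD) l2_4 := Rep.mul r3 repD l2_4c
  have r5 : Rep (gA * gB * gC * gD * gE) l2_5 := Rep.mul r4 repE l2_5c
  have r6 : Rep (gA * gB * gC * gD * gE * gF) l2_6 := Rep.mul r5 repF l2_6c
  have r7 : Rep (gA * gB * gC * gD * gE * gF * gH) l2_7 := Rep.mul r6 repH l2_7c
  have p2 := Rep.mul r7 r7 l2_p2c
  have p3 := Rep.mul p2 r7 l2_p3c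
  have p6 := Rep.mul p3 p3 l2_p6c
  have p9 := Rep.mul p6 p3 l2_p9c
  exact pow_nine_of _ _ _ _ rfl rfl rfl (Rep.eq p9 Rep.one)

theorem long3 : (gB * gC * gD * gE * gF * gG * gH) ^ 9 = 1 := by
  have r2 : Rep (gB * gC) l3_2 := Rep.mul repB repC l3_2c
  have r3 : Rep (gB * gC * gD) l3_3 := Rep.mul r2 repD l3_3c
  have r4 : Rep (gB * gC * gD * gE) l3_4 := Rep.mul r3 repE l3_4c
  have r5 : Rep (gB * gC * gD * gE * gF) l3_5 := Rep.mul r4 repF l3_5c
  have r6 : Rep (gB * gC * gD * gE * gF * gG) l3_6 := Rep.mul r5 repG l3_6c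
  have r7 : Rep (gB * gC * gD * gE * gF * gG * gH) l3_7 := Rep.mul r6 repH l3_7c
  have p2 := Rep.mul r7 r7 l3_p2c
  have p3 := Rep.mul p2 r7 l3_p3c
  have p6 := Rep.mul p3 p3 l3_p6c
  have p9 := Rep.mul p6 p3 l3_p9c
  exact pow_nine_of _ _ _ _ rfl rfl rfl (Rep.eq p9 Rep.one)

/-- the images of the generators -/
def gen : Fi22.Gen → GL (Fin 78) (ZMod 13)
  | .a => gA
  | .b => gB
  | .c => gC
  | .d => gD
  | .e => gE
  | .f => gF
  | .g => gG
  | .h => gH
  | .i => gI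

theorem gen_rel : ∀ x y : Fi22.Gen, (gen x * gen y) ^ (coxLabel Fi22.edges x y) = 1
  | .a, .a => (pow_one _).trans sqgA
  | .a, .b => pow_three_of_braid gA gB sqgA sqgB bgAB
  | .a, .c => pow_two_of_comm gA gC sqgA sqgC cgAC
  | .a, .d => pow_two_of_comm gA gD sqgA sqgD cgAD
  | .a, .e => pow_two_of_comm gA gE sqgA sqgE cgAE
  | .a, .f => pow_two_of_comm gA gF sqgA sqgF cgAF
  | .a, .g => pow_two_of_comm gA gG sqgA sqgG cgAG
  | .a, .h => pow_two_of_comm gA gH sqgA sqgH cgAH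
  | .a, .i => pow_two_of_comm gA gI sqgA sqgI cgAI
  | .b, .a => pow_three_of_braid gB gA sqgB sqgA bgAB.symm
  | .b, .b => (pow_one _).trans sqgB
  | .b, .c => pow_three_of_braid gB gC sqgB sqgC bgBC
  | .b, .d => pow_two_of_comm gB gD sqgB sqgD cgBD
  | .b, .e => pow_two_of_comm gB gE sqgB sqgE cgBE
  | .b, .f => pow_two_of_comm gB gF sqgB sqgF cgBF
  | .b, .g => pow_two_of_comm gB gG sqgB sqgG cgBG
  | .b, .h => pow_two_of_comm gB gH sqgB sqgH cgBH
  | .b, .i => pow_two_of_comm gB gI sqgB sqgI cgBI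
  | .c, .a => pow_two_of_comm gC gA sqgC sqgA cgAC.symm
  | .c, .b => pow_three_of_braid gC gB sqgC sqgB bgBC.symm
  | .c, .c => (pow_one _).trans sqgC
  | .c, .d => pow_three_of_braid gC gD sqgC sqgD bgCD
  | .c, .e => pow_two_of_comm gC gE sqgC sqgE cgCE
  | .c, .f => pow_two_of_comm gC gF sqgC sqgF cgCF
  | .c, .g => pow_two_of_comm gC gG sqgC sqgG cgCG
  | .c, .h => pow_two_of_comm gC gH sqgC sqgH cgCH
  | .c, .i => pow_two_of_comm gC gI sqgC sqgI cgCI
  | .d, .a => pow_two_of_comm gD gA sqgD sqgA cgAD.symm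
  | .d, .b => pow_two_of_comm gD gB sqgD sqgB cgBD.symm
  | .d, .c => pow_three_of_braid gD gC sqgD sqgC bgCD.symm
  | .d, .d => (pow_one _).trans sqgD
  | .d, .e => pow_three_of_braid gD gE sqgD sqgE bgDE
  | .d, .f => pow_two_of_comm gD gF sqgD sqgF cgDF
  | .d, .g => pow_two_of_comm gD gG sqgD sqgG cgDG
  | .d, .h => pow_three_of_braid gD gH sqgD sqgH bgDH
  | .d, .i => pow_two_of_comm gD gI sqgD sqgI cgDI
  | .e, .a => pow_two_of_comm gE gA sqgE sqgA cgAE.symm
  | .e, .b => pow_two_of_comm gE gB sqgE sqgB cgBE.symm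
  | .e, .c => pow_two_of_comm gE gC sqgE sqgC cgCE.symm
  | .e, .d => pow_three_of_braid gE gD sqgE sqgD bgDE.symm
  | .e, .e => (pow_one _).trans sqgE
  | .e, .f => pow_three_of_braid gE gF sqgE sqgF bgEF
  | .e, .g => pow_two_of_comm gE gG sqgE sqgG cgEG
  | .e, .h => pow_two_of_comm gE gH sqgE sqgH cgEH
  | .e, .i => pow_two_of_comm gE gI sqgE sqgI cgEI
  | .f, .a => pow_two_of_comm gF gA sqgF sqgA cgAF.symm
  | .f, .b => pow_two_of_comm gF gB sqgF sqgB cgBF.symm
  | .f, .c => pow_two_of_comm gF gC sqgF sqgC cgCF.symm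
  | .f, .d => pow_two_of_comm gF gD sqgF sqgD cgDF.symm
  | .f, .e => pow_three_of_braid gF gE sqgF sqgE bgEF.symm
  | .f, .f => (pow_one _).trans sqgF
  | .f, .g => pow_three_of_braid gF gG sqgF sqgG bgFG
  | .f, .h => pow_two_of_comm gF gH sqgF sqgH cgFH
  | .f, .i => pow_two_of_comm gF gI sqgF sqgI cgFI
  | .g, .a => pow_two_of_comm gG gA sqgG sqgA cgAG.symm
  | .g, .b => pow_two_of_comm gG gB sqgG sqgB cgBG.symm
  | .g, .c => pow_two_of_comm gG gC sqgG sqgC cgCG.symm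
  | .g, .d => pow_two_of_comm gG gD sqgG sqgD cgDG.symm
  | .g, .e => pow_two_of_comm gG gE sqgG sqgE cgEG.symm
  | .g, .f => pow_three_of_braid gG gF sqgG sqgF bgFG.symm
  | .g, .g => (pow_one _).trans sqgG
  | .g, .h => pow_two_of_comm gG gH sqgG sqgH cgGH
  | .g, .i => pow_two_of_comm gG gI sqgG sqgI cgGI
  | .h, .a => pow_two_of_comm gH gA sqgH sqgA cgAH.symm
  | .h, .b => pow_two_of_comm gH gB sqgH sqgB cgBH.symm
  | .h, .c => pow_two_of_comm gH gC sqgH sqgC cgCH.symm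
  | .h, .d => pow_three_of_braid gH gD sqgH sqgD bgDH.symm
  | .h, .e => pow_two_of_comm gH gE sqgH sqgE cgEH.symm
  | .h, .f => pow_two_of_comm gH gF sqgH sqgF cgFH.symm
  | .h, .g => pow_two_of_comm gH gG sqgH sqgG cgGH.symm
  | .h, .h => (pow_one _).trans sqgH
  | .h, .i => pow_three_of_braid gH gI sqgH sqgI bgHI
  | .i, .a => pow_two_of_comm gI gA sqgI sqgA cgAI.symm
  | .i, .b => pow_two_of_comm gI gB sqgI sqgB cgBI.symm
  | .i, .c => pow_two_of_comm gI gC sqgI sqgC cgCI.symm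
  | .i, .d => pow_two_of_comm gI gD sqgI sqgD cgDI.symm
  | .i, .e => pow_two_of_comm gI gE sqgI sqgE cgEI.symm
  | .i, .f => pow_two_of_comm gI gF sqgI sqgF cgFI.symm
  | .i, .g => pow_two_of_comm gI gG sqgI sqgG cgGI.symm
  | .i, .h => pow_three_of_braid gI gH sqgI sqgH bgHI.symm
  | .i, .i => (pow_one _).trans sqgI

theorem lift_ok : ∀ r ∈ coxRelators Fi22.edges ∪ {r | r ∈ Fi22.extra}, FreeGroup.lift gen r = 1 := by
  rintro r (⟨x, -, y, -, rfl⟩ | hr)
  · rw [map_pow, map_mul, FreeGroup.lift_apply_of, FreeGroup.lift_apply_of]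
    exact gen_rel x y
  · have hr' : r ∈ [(Fi22.d * Fi22.c * Fi22.b * Fi22.d * Fi22.e * Fi22.f * Fi22.d * Fi22.h * Fi22.i) ^ 10,
        (Fi22.a * Fi22.b * Fi22.c * Fi22.d * Fi22.e * Fi22.f * Fi22.h) ^ 9,
        (Fi22.b * Fi22.c * Fi22.d * Fi22.e * Fi22.f * Fi22.g * Fi22.h) ^ 9] := hr
    simp only [List.mem_cons, List.not_mem_nil, or_false] at hr'
    rcases hr' with rfl | rfl | rfl
    · simp only [map_pow, map_mul, Fi22.b, Fi22.c, Fi22.d, Fi22.e, Fi22.f, Fi22.h, Fi22.i,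
        FreeGroup.lift_apply_of]
      exact long1
    · simp only [map_pow, map_mul, Fi22.a, Fi22.b, Fi22.c, Fi22.d, Fi22.e, Fi22.f, Fi22.h,
        FreeGroup.lift_apply_of]
      exact long2
    · simp only [map_pow, map_mul, Fi22.b, Fi22.c, Fi22.d, Fi22.e, Fi22.f, Fi22.g, Fi22.h,
        FreeGroup.lift_apply_of]
      exact long3

/-- the representation of degree 78 over the field with 13 elements -/
def rho : Fi22 →* GL (Fin 78) (ZMod 13) := PresentedGroup.toGroup lift_ok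

theorem rho_a : rho (PresentedGroup.of Fi22.Gen.a) = gA := PresentedGroup.toGroup.of lift_ok

theorem gA_ne_one : gA ≠ 1 := by
  intro h
  have h1 : toMat mA = 1 := by rw [← repA.2, h, Units.val_one]
  have h2 : toMat mA ⟨0, by norm_num⟩ ⟨1, by norm_num⟩ = (1 : Matrix (Fin 78) (Fin 78) (ZMod 13)) ⟨0, by norm_num⟩ ⟨1, by norm_num⟩ := by
    rw [h1]
  revert h2
  decide +kernel

end Cfsg.Agent.Lib.Helper29.Fi22Rep
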