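import Mathlib
import Cfsg.Prelude.Def_Transfer

set_option autoImplicit false
set_option linter.unusedVariables false
set_option linter.unusedSectionVars false
set_option linter.style.haveILetI false

/-!
# A group `E.S` with `E` elementary abelian of order `2^11` and `S` of order `128`

The elements are `e u * σ i` (`u < 2048`, `i < 128`); the structure is given by three functions on
numbers (`actS`, `mulS`, `coc`).  We show that the normal elementary abelian subgroups of the group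
have order at most `2^11`, with equality only for `E`, from a few facts on the three functions.
-/

namespace Cfsg.Agent.Lib.Helper29.Fi23Syl

open Cfsg

variable {G : Type*} [Group G]

/-- the indices of the elements of `A` -/
def PB (e σ : ℕ → G) (A : Subgroup G) (i : ℕ) : Prop := i < 128 ∧ ∃ u, u < 2048 ∧ e u * σ i ∈ A

/-- the elements of `E` in `A` -/
def PW (e : ℕ → G) (A : Subgroup G) (u : ℕ) : Prop := u < 2048 ∧ e u ∈ A

/-- the hypotheses on the elements -/
structure Hyp (e σ : ℕ → G) (actS mulS coc conjT : ℕ → ℕ → ℕ) (z : ℕ) (zcert : ℕ → List ℕ) :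
    Prop where
  e0 : e 0 = 1
  emul : ∀ u, u < 2048 → ∀ v, v < 2048 → e u * e v = e (u ^^^ v)
  einj : ∀ v, v < 2048 → e v = 1 → v = 0
  s0 : σ 0 = 1
  conj : ∀ i, i < 128 → ∀ v, v < 2048 → σ i * e v * (σ i)⁻¹ = e (actS i v)
  act_lt : ∀ i, i < 128 → ∀ v, v < 2048 → actS i v < 2048
  mul : ∀ i, i < 128 → ∀ j, j < 128 → σ i * σ j = e (coc i j) * σ (mulS i j)
  mul_lt : ∀ i, i < 128 → ∀ j, j < 128 → mulS i j < 128
  coc_lt : ∀ i, i < 128 → ∀ j, j < 128 → coc i j < 2048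
  dist : ∀ i, i < 128 → ∀ j, j < 128 → (∀ k, k < 11 → actS i (2 ^ k) = actS j (2 ^ k)) → i = j
  inv : ∀ i, i < 128 → ∃ j, j < 128 ∧ mulS i j = 0
  cj : ∀ i, i < 128 → ∀ j, j < 128 → conjT j i < 128 ∧ mulS (conjT j i) j = mulS j i
  z_lt : z < 128
  zc : ∀ b, b < 128 → b ≠ 0 → (∀ j ∈ zcert b, j < 128) ∧
    (zcert b).foldl (fun acc j => mulS acc (conjT j b)) 0 = z
  fixz : ∀ s : Finset ℕ, (∀ v ∈ s, v < 2048 ∧ actS z v = v) → s.card ≤ 128
  good : ∀ b, b < 128 → b ≠ 0 → b ≠ z → mulS b b = 0 →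
    (∀ j, j < 128 → mulS b (conjT j b) = mulS (conjT j b) b) →
    ∃ kb fb : ℕ, kb * fb < 2048 ∧
    (∀ s : Finset ℕ, (∀ k ∈ s, k < 128 ∧ mulS k k = 0 ∧
        ∀ j, j < 128 → mulS k (conjT j b) = mulS (conjT j b) k) → s.card ≤ kb) ∧
    (∀ s : Finset ℕ, (∀ v ∈ s, v < 2048 ∧ actS z v = v ∧ actS b v = v) → s.card ≤ fb)

section

variable {e σ : ℕ → G} {actS mulS coc conjT : ℕ → ℕ → ℕ} {z : ℕ} {zcert : ℕ → List ℕ}
  (H : Hyp e σ actS mulS coc conjT z zcert)

include H

theorem xor_lt {u v : ℕ} (hu : u < 2048) (hv : v < 2048) : u ^^^ v < 2048 :=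
  Nat.xor_lt_two_pow (n := 11) hu hv

theorem e_sq (u : ℕ) (hu : u < 2048) : e u * e u = 1 := by
  rw [H.emul u hu u hu, Nat.xor_self, H.e0]

theorem e_inv (u : ℕ) (hu : u < 2048) : (e u)⁻¹ = e u :=
  inv_eq_of_mul_eq_one_left (e_sq H u hu)

theorem e_comm (u v : ℕ) (hu : u < 2048) (hv : v < 2048) : e u * e v = e v * e u := by
  rw [H.emul u hu v hv, H.emul v hv u hu, Nat.xor_comm]

theorem e_inj {u v : ℕ} (hu : u < 2048) (hv : v < 2048) (h : e u = e v) : u = v := by
  have h1 : e (u ^^^ v) = 1 := by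
    rw [← H.emul u hu v hv, h, e_sq H v hv]
  have h2 := H.einj _ (xor_lt H hu hv) h1
  exact Nat.eq_of_xor_eq_zero h2

/-- moving an element of `E` across `σ i` -/
theorem s_e (i : ℕ) (hi : i < 128) (v : ℕ) (hv : v < 2048) :
    σ i * e v = e (actS i v) * σ i := by
  rw [← H.conj i hi v hv]
  group

/-- the product of two elements -/
theorem prod_formula (u i v j : ℕ) (hu : u < 2048) (hi : i < 128) (hv : v < 2048)
    (hj : j < 128) :
    (e u * σ i) * (e v * σ j) = e (u ^^^ actS i v ^^^ coc i j) * σ (mulS i j) := by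
  have h1 := s_e H i hi v hv
  have h2 := H.mul i hi j hj
  have ha := H.act_lt i hi v hv
  have hc := H.coc_lt i hi j hj
  calc (e u * σ i) * (e v * σ j) = e u * (σ i * e v) * σ j := by group
    _ = e u * (e (actS i v) * σ i) * σ j := by rw [h1]
    _ = e u * e (actS i v) * (σ i * σ j) := by group
    _ = e u * e (actS i v) * (e (coc i j) * σ (mulS i j)) := by rw [h2]
    _ = (e u * e (actS i v)) * e (coc i j) * σ (mulS i j) := by group
    _ = e (u ^^^ actS i v ^^^ coc i j) * σ (mulS i j) := by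
        rw [H.emul u hu _ ha, H.emul _ (xor_lt H hu ha) _ hc]

/-- the indices are determined -/
theorem rep_unique (u i v j : ℕ) (hu : u < 2048) (hi : i < 128) (hv : v < 2048)
    (hj : j < 128) (h : e u * σ i = e v * σ j) : i = j ∧ u = v := by
  have hσ : σ i = e (u ^^^ v) * σ j := by
    have : σ i = (e u)⁻¹ * (e v * σ j) := by rw [← h]; group
    rw [this, e_inv H u hu, ← mul_assoc, H.emul u hu v hv]
  have hij : i = j := by
    apply H.dist i hi j hj
    intro k hk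
    have hk2 : 2 ^ k < 2048 := by
      calc 2 ^ k < 2 ^ 11 := Nat.pow_lt_pow_right (by norm_num) hk
        _ = 2048 := by norm_num
    have h1 := H.conj i hi _ hk2
    have h2 := H.conj j hj _ hk2
    have huv := xor_lt H hu hv
    have : e (actS i (2 ^ k)) = e (actS j (2 ^ k)) := by
      rw [← h1, ← h2, hσ]
      have hc := e_comm H (u ^^^ v) (actS j (2 ^ k)) huv (H.act_lt j hj _ hk2)
      have h3 := s_e H j hj _ hk2
      calc e (u ^^^ v) * σ j * e (2 ^ k) * (e (u ^^^ v) * σ j)⁻¹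
          = e (u ^^^ v) * (σ j * e (2 ^ k)) * (σ j)⁻¹ * (e (u ^^^ v))⁻¹ := by group
        _ = e (u ^^^ v) * (e (actS j (2 ^ k)) * σ j) * (σ j)⁻¹ * (e (u ^^^ v))⁻¹ := by rw [h3]
        _ = (e (u ^^^ v) * e (actS j (2 ^ k))) * (e (u ^^^ v))⁻¹ := by group
        _ = (e (actS j (2 ^ k)) * e (u ^^^ v)) * (e (u ^^^ v))⁻¹ := by rw [hc]
        _ = e (actS j (2 ^ k)) := by group
        _ = σ j * e (2 ^ k) * (σ j)⁻¹ := by rw [h3]; group
    exact e_inj H (H.act_lt i hi _ hk2) (H.act_lt j hj _ hk2) this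
  refine ⟨hij, ?_⟩
  subst hij
  exact e_inj H hu hv (mul_right_cancel h)

/-- the group of the elements `e u * σ i` -/
def TT : Subgroup G where
  carrier := {g | ∃ u, u < 2048 ∧ ∃ i, i < 128 ∧ g = e u * σ i}
  mul_mem' := by
    rintro a b ⟨u, hu, i, hi, rfl⟩ ⟨v, hv, j, hj, rfl⟩
    exact ⟨_, xor_lt H (xor_lt H hu (H.act_lt i hi v hv)) (H.coc_lt i hi j hj), _,
      H.mul_lt i hi j hj, prod_formula H u i v j hu hi hv hj⟩
  one_mem' := ⟨0, by norm_num, 0, by norm_num, by rw [H.e0, H.s0, one_mul]⟩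
  inv_mem' := by
    rintro a ⟨u, hu, i, hi, rfl⟩
    obtain ⟨j, hj, hij⟩ := H.inv i hi
    have h1 := H.mul i hi j hj
    rw [hij, H.s0, mul_one] at h1
    have hc := H.coc_lt i hi j hj
    have hcu := xor_lt H hc hu
    refine ⟨actS j (coc i j ^^^ u), H.act_lt j hj _ hcu, j, hj, ?_⟩
    rw [← s_e H j hj _ hcu]
    apply inv_eq_of_mul_eq_one_right
    calc e u * σ i * (σ j * e (coc i j ^^^ u)) = e u * (σ i * σ j) * e (coc i j ^^^ u) := by group
      _ = e u * e (coc i j) * e (coc i j ^^^ u) := by rw [h1]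
      _ = 1 := by
        rw [H.emul u hu _ hc, H.emul _ (xor_lt H hu hc) _ hcu, Nat.xor_comm u, Nat.xor_self, H.e0]

theorem mem_TT {g : G} : g ∈ TT H ↔ ∃ u, u < 2048 ∧ ∃ i, i < 128 ∧ g = e u * σ i := Iff.rfl

/-- the subgroup `E` -/
def EE : Subgroup G where
  carrier := {g | ∃ u, u < 2048 ∧ g = e u}
  mul_mem' := by
    rintro a b ⟨u, hu, rfl⟩ ⟨v, hv, rfl⟩
    exact ⟨_, xor_lt H hu hv, H.emul u hu v hv⟩
  one_mem' := ⟨0, by norm_num, H.e0.symm⟩
  inv_mem' := by
    rintro a ⟨u, hu, rfl⟩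
    exact ⟨u, hu, e_inv H u hu⟩

theorem mem_EE {g : G} : g ∈ EE H ↔ ∃ u, u < 2048 ∧ g = e u := Iff.rfl

theorem EE_le_TT : EE H ≤ TT H := by
  rintro g ⟨u, hu, rfl⟩
  exact ⟨u, hu, 0, by norm_num, by rw [H.s0, mul_one]⟩

theorem card_TT : Nat.card (TT H) = 2 ^ 18 := by
  let f : Fin 2048 × Fin 128 → TT H := fun p => ⟨e p.1 * σ p.2, p.1, p.1.2, p.2, p.2.2, rfl⟩
  have hf : Function.Bijective f := by
    constructor
    · rintro ⟨u, i⟩ ⟨v, j⟩ h
      have h0 : e u * σ i = e v * σ j := congrArg Subtype.val h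
      obtain ⟨h1, h2⟩ := rep_unique H u i v j u.2 i.2 v.2 j.2 h0
      exact Prod.ext (Fin.ext h2) (Fin.ext h1)
    · rintro ⟨g, u, hu, i, hi, rfl⟩
      exact ⟨(⟨u, hu⟩, ⟨i, hi⟩), rfl⟩
  rw [← Nat.card_congr (Equiv.ofBijective f hf), Nat.card_prod, Nat.card_fin, Nat.card_fin]
  norm_num

theorem card_EE : Nat.card (EE H) = 2 ^ 11 := by
  let f : Fin 2048 → EE H := fun p => ⟨e p, p, p.2, rfl⟩
  have hf : Function.Bijective f := by
    constructor
    · rintro u v h
      have h0 : e u = e v := congrArg Subtype.val h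
      exact Fin.ext (e_inj H u.2 v.2 h0)
    · rintro ⟨g, u, hu, rfl⟩
      exact ⟨⟨u, hu⟩, rfl⟩
  rw [← Nat.card_congr (Equiv.ofBijective f hf), Nat.card_fin]
  norm_num

instance finite_EE : Finite (EE H) :=
  Nat.finite_of_card_ne_zero (by rw [card_EE H]; norm_num)

theorem EE_elem : IsElementaryAbelian 2 (EE H) := by
  refine ⟨⟨⟨?_⟩⟩, ?_⟩
  · rintro ⟨a, u, hu, rfl⟩ ⟨b, v, hv, rfl⟩
    exact Subtype.ext (e_comm H u v hu hv)
  · rintro a ⟨u, hu, rfl⟩
    rw [pow_two, e_sq H u hu]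

/-- conjugation of an element of `E` by an element of the group -/
theorem conj_e (u i v : ℕ) (hu : u < 2048) (hi : i < 128) (hv : v < 2048) :
    (e u * σ i) * e v * (e u * σ i)⁻¹ = e (actS i v) := by
  have h1 := H.conj i hi v hv
  have ha := H.act_lt i hi v hv
  calc (e u * σ i) * e v * (e u * σ i)⁻¹ = e u * (σ i * e v * (σ i)⁻¹) * (e u)⁻¹ := by group
    _ = e u * e (actS i v) * (e u)⁻¹ := by rw [h1]
    _ = e (actS i v) * e u * (e u)⁻¹ := by rw [e_comm H u _ hu ha]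
    _ = e (actS i v) := by group

theorem EE_normal : ((EE H).subgroupOf (TT H)).Normal := by
  refine ⟨fun n hn g => ?_⟩
  rw [Subgroup.mem_subgroupOf] at hn ⊢
  obtain ⟨v, hv, hnv⟩ := hn
  obtain ⟨u, hu, i, hi, hg⟩ := g.2
  refine ⟨actS i v, H.act_lt i hi v hv, ?_⟩
  rw [← conj_e H u i v hu hi hv, ← hg, ← hnv]
  simp

/-- cancellation on the right in the indices -/
theorem idx_right_cancel (k k' j : ℕ) (hk : k < 128) (hk' : k' < 128) (hj : j < 128)
    (h : mulS k j = mulS k' j) : k = k' := by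
  have h1 := H.mul k hk j hj
  have h2 := H.mul k' hk' j hj
  have hc := H.coc_lt k hk j hj
  have hc' := H.coc_lt k' hk' j hj
  rw [h] at h1
  have h3 : e 0 * σ k = e (coc k j ^^^ coc k' j) * σ k' := by
    rw [H.e0, one_mul, ← H.emul _ hc _ hc']
    have e1 : σ k = e (coc k j) * σ (mulS k' j) * (σ j)⁻¹ := by rw [← h1]; group
    have e2 : σ (mulS k' j) = (e (coc k' j))⁻¹ * (σ k' * σ j) := by rw [h2]; group
    rw [e1, e2, e_inv H _ hc']
    group
  exact (rep_unique H 0 k _ k' (by norm_num) hk (xor_lt H hc hc') hk' h3).1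

section Main

variable (A : Subgroup G) (hAT : A ≤ TT H) (hN : (A.subgroupOf (TT H)).Normal)
  (hEA : IsElementaryAbelian 2 A)

include hAT hN hEA

theorem A_conj {a t : G} (ha : a ∈ A) (ht : t ∈ TT H) : t * a * t⁻¹ ∈ A := by
  have h := hN.conj_mem ⟨a, hAT ha⟩ (by rw [Subgroup.mem_subgroupOf]; exact ha) ⟨t, ht⟩
  rw [Subgroup.mem_subgroupOf] at h
  simpa using h

theorem A_comm {a b : G} (ha : a ∈ A) (hb : b ∈ A) : a * b = b * a := by
  have h := hEA.1.is_comm.comm ⟨a, ha⟩ ⟨b, hb⟩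
  exact congrArg Subtype.val h

theorem A_sq {a : G} (ha : a ∈ A) : a * a = 1 := by
  have h := hEA.2 a ha
  rwa [pow_two] at h

theorem PB_zero : PB e σ A 0 :=
  ⟨by norm_num, 0, by norm_num, by rw [H.e0, H.s0, one_mul]; exact A.one_mem⟩

theorem PB_mul {i j : ℕ} (hi : PB e σ A i) (hj : PB e σ A j) : PB e σ A (mulS i j) := by
  obtain ⟨hi, u, hu, ha⟩ := hi
  obtain ⟨hj, v, hv, hb⟩ := hj
  refine ⟨H.mul_lt i hi j hj, _, xor_lt H (xor_lt H hu (H.act_lt i hi v hv)) (H.coc_lt i hi j hj), ?_⟩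
  rw [← prod_formula H u i v j hu hi hv hj]
  exact A.mul_mem ha hb

theorem PB_conj {i : ℕ} (hi : PB e σ A i) (j : ℕ) (hj : j < 128) : PB e σ A (conjT j i) := by
  obtain ⟨hi, u, hu, ha⟩ := hi
  have ht : e 0 * σ j ∈ TT H := ⟨0, by norm_num, j, hj, rfl⟩
  have hc := A_conj H A hAT hN hEA ha ht
  obtain ⟨v, hv, k, hk, hvk⟩ := hAT hc
  have h1 : (e 0 * σ j) * (e u * σ i) = (e v * σ k) * (e 0 * σ j) := by
    rw [← hvk]; group
  rw [prod_formula H 0 j u i (by norm_num) hj hu hi,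
    prod_formula H v k 0 j hv hk (by norm_num) hj] at h1
  have h2 := (rep_unique H _ _ _ _
    (xor_lt H (xor_lt H (by norm_num) (H.act_lt j hj u hu)) (H.coc_lt j hj i hi))
    (H.mul_lt j hj i hi)
    (xor_lt H (xor_lt H hv (H.act_lt k hk 0 (by norm_num))) (H.coc_lt k hk j hj))
    (H.mul_lt k hk j hj) h1).1
  have h3 := H.cj i hi j hj
  have h4 : k = conjT j i := idx_right_cancel H k _ j hk h3.1 hj (by rw [← h2, h3.2])
  rw [← h4]
  exact ⟨hk, v, hv, by rw [← hvk]; exact hc⟩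

theorem PB_sq {i : ℕ} (hi : PB e σ A i) : mulS i i = 0 := by
  obtain ⟨hi, u, hu, ha⟩ := hi
  have h1 := A_sq H A hAT hN hEA ha
  rw [prod_formula H u i u i hu hi hu hi] at h1
  have h2 : e (u ^^^ actS i u ^^^ coc i i) * σ (mulS i i) = e 0 * σ 0 := by
    rw [h1, H.e0, H.s0, one_mul]
  exact (rep_unique H _ _ _ _ (xor_lt H (xor_lt H hu (H.act_lt i hi u hu)) (H.coc_lt i hi i hi))
    (H.mul_lt i hi i hi) (by norm_num) (by norm_num) h2).1

theorem PB_comm {i j : ℕ} (hi : PB e σ A i) (hj : PB e σ A j) : mulS i j = mulS j i := by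
  obtain ⟨hi, u, hu, ha⟩ := hi
  obtain ⟨hj, v, hv, hb⟩ := hj
  have h1 := A_comm H A hAT hN hEA ha hb
  rw [prod_formula H u i v j hu hi hv hj, prod_formula H v j u i hv hj hu hi] at h1
  exact (rep_unique H _ _ _ _ (xor_lt H (xor_lt H hu (H.act_lt i hi v hv)) (H.coc_lt i hi j hj))
    (H.mul_lt i hi j hj) (xor_lt H (xor_lt H hv (H.act_lt j hj u hu)) (H.coc_lt j hj i hi))
    (H.mul_lt j hj i hi) h1).1

theorem PW_fix {v i : ℕ} (hv : PW e A v) (hi : PB e σ A i) : actS i v = v := by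
  obtain ⟨hi, u, hu, ha⟩ := hi
  obtain ⟨hv, hb⟩ := hv
  have h1 := A_comm H A hAT hN hEA ha hb
  have h2 := conj_e H u i v hu hi hv
  rw [h1] at h2
  have h3 : e (actS i v) = e v := by rw [← h2]; group
  exact e_inj H (H.act_lt i hi v hv) hv h3

theorem PB_z {b : ℕ} (hb : PB e σ A b) (hb0 : b ≠ 0) : PB e σ A z := by
  obtain ⟨h1, h2⟩ := H.zc b hb.1 hb0
  rw [← h2]
  have key : ∀ (l : List ℕ) (acc : ℕ), (∀ j ∈ l, j < 128) → PB e σ A acc →
      PB e σ A (l.foldl (fun acc j => mulS acc (conjT j b)) acc) := by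
    intro l
    induction l with
    | nil => intro acc _ h; exact h
    | cons x xs ih =>
      intro acc hl hacc
      rw [List.foldl_cons]
      apply ih
      · intro j hj; exact hl j (List.mem_cons_of_mem _ hj)
      · exact PB_mul H A hAT hN hEA hacc
          (PB_conj H A hAT hN hEA hb x (hl x (List.mem_cons_self ..)))
  exact key _ 0 h1 (PB_zero H A hAT hN hEA)

/-- the counting -/
theorem card_le (Bs Ws : Finset ℕ) (hB : ∀ i, PB e σ A i → i ∈ Bs) (hW : ∀ u, PW e A u → u ∈ Ws) :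
    Nat.card A ≤ Bs.card * Ws.card := by
  classical
  -- representatives
  have hrep : ∀ a : A, ∃ p : ℕ × ℕ, p.1 < 2048 ∧ p.2 < 128 ∧ (a : G) = e p.1 * σ p.2 := by
    intro a
    obtain ⟨u, hu, i, hi, h⟩ := hAT a.2
    exact ⟨(u, i), hu, hi, h⟩
  choose rp hrp using hrep
  have hPB : ∀ a : A, PB e σ A (rp a).2 := fun a =>
    ⟨(hrp a).2.1, (rp a).1, (hrp a).1, by rw [← (hrp a).2.2]; exact a.2⟩
  let ch : ℕ → ℕ := fun i => if h : PB e σ A i then Classical.choose h.2 else 0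
  have hch : ∀ i, PB e σ A i → ch i < 2048 ∧ e (ch i) * σ i ∈ A := by
    intro i hi
    have : ch i = Classical.choose hi.2 := dif_pos hi
    rw [this]
    exact Classical.choose_spec hi.2
  let φ : A → ℕ × ℕ := fun a => ((rp a).2, (rp a).1 ^^^ ch (rp a).2)
  have hφmem : ∀ a : A, φ a ∈ Bs ×ˢ Ws := by
    intro a
    rw [Finset.mem_product]
    refine ⟨hB _ (hPB a), hW _ ⟨xor_lt H (hrp a).1 (hch _ (hPB a)).1, ?_⟩⟩
    have h1 := (hch _ (hPB a)).2
    have h2 : (a : G) * (e (ch (rp a).2) * σ (rp a).2)⁻¹ ∈ A := A.mul_mem a.2 (A.inv_mem h1)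
    have h3 : (a : G) * (e (ch (rp a).2) * σ (rp a).2)⁻¹ = e ((rp a).1 ^^^ ch (rp a).2) := by
      rw [(hrp a).2.2, ← H.emul _ (hrp a).1 _ (hch _ (hPB a)).1]
      have := e_inv H _ (hch _ (hPB a)).1
      calc e (rp a).1 * σ (rp a).2 * (e (ch (rp a).2) * σ (rp a).2)⁻¹
          = e (rp a).1 * (e (ch (rp a).2))⁻¹ := by group
        _ = e (rp a).1 * e (ch (rp a).2) := by rw [this]
    rw [← h3]
    exact h2
  have hφinj : Function.Injective φ := by
    intro a a' h
    have h1 : (rp a).2 = (rp a').2 := congrArg Prod.fst h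
    have h2 : (rp a).1 ^^^ ch (rp a).2 = (rp a').1 ^^^ ch (rp a').2 := congrArg Prod.snd h
    rw [h1] at h2
    have h3 : (rp a).1 = (rp a').1 := Nat.xor_left_inj.mp h2
    apply Subtype.ext
    rw [(hrp a).2.2, (hrp a').2.2, h1, h3]
  let ψ : A → ↥(Bs ×ˢ Ws) := fun a => ⟨φ a, hφmem a⟩
  have hψ : Function.Injective ψ := fun a a' h => hφinj (congrArg Subtype.val h)
  have h1 := Nat.card_le_card_of_injective ψ hψ
  have h2 : Nat.card ↥(Bs ×ˢ Ws) = Bs.card * Ws.card := by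
    rw [Nat.card_eq_fintype_card, Fintype.card_coe, Finset.card_product]
  rw [h2] at h1
  exact h1

theorem A_bound : Nat.card A ≤ 2 ^ 11 ∧ (Nat.card A = 2 ^ 11 → A = EE H) := by
  classical
  by_cases h0 : ∀ i, PB e σ A i → i = 0
  · have hle : A ≤ EE H := by
      intro a ha
      obtain ⟨u, hu, i, hi, rfl⟩ := hAT ha
      have hi0 : i = 0 := h0 i ⟨hi, u, hu, ha⟩
      subst hi0
      exact ⟨u, hu, by rw [H.s0, mul_one]⟩
    have hc := Subgroup.card_le_of_le hle
    rw [card_EE H] at hc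
    refine ⟨hc, fun h => ?_⟩
    exact Subgroup.eq_of_le_of_card_ge hle (by rw [card_EE H, h])
  · push Not at h0
    obtain ⟨b, hb, hb0⟩ := h0
    have hz := PB_z H A hAT hN hEA hb hb0
    let Ws : Finset ℕ := (Finset.range 2048).filter (fun u => PW e A u)
    have hWs : ∀ u, PW e A u → u ∈ Ws := fun u hu =>
      Finset.mem_filter.mpr ⟨Finset.mem_range.mpr hu.1, hu⟩
    have key : Nat.card A < 2048 := by
      by_cases h1 : ∀ i, PB e σ A i → i = 0 ∨ i = z
      · have hc := card_le H A hAT hN hEA {0, z} Ws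
          (fun i hi => by rcases h1 i hi with h | h <;> simp [h]) hWs
        have hW : Ws.card ≤ 128 := H.fixz Ws (fun v hv => by
          have hv2 := (Finset.mem_filter.mp hv).2
          exact ⟨hv2.1, PW_fix H A hAT hN hEA hv2 hz⟩)
        have hB : ({0, z} : Finset ℕ).card ≤ 2 := Finset.card_le_two
        calc Nat.card A ≤ ({0, z} : Finset ℕ).card * Ws.card := hc
          _ ≤ 2 * 128 := Nat.mul_le_mul hB hW
          _ < 2048 := by norm_num
      · push Not at h1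
        obtain ⟨b', hb', hb'0, hb'z⟩ := h1
        obtain ⟨kb, fb, hkf, hg1, hg2⟩ := H.good b' hb'.1 hb'0 hb'z (PB_sq H A hAT hN hEA hb')
          (fun j hj => PB_comm H A hAT hN hEA hb' (PB_conj H A hAT hN hEA hb' j hj))
        let Bs : Finset ℕ := (Finset.range 128).filter (fun i => PB e σ A i)
        have hBs : ∀ i, PB e σ A i → i ∈ Bs := fun i hi =>
          Finset.mem_filter.mpr ⟨Finset.mem_range.mpr hi.1, hi⟩
        have hc := card_le H A hAT hN hEA Bs Ws hBs hWs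
        have hB : Bs.card ≤ kb := hg1 Bs (fun k hk => by
          have hk2 := (Finset.mem_filter.mp hk).2
          exact ⟨hk2.1, PB_sq H A hAT hN hEA hk2, fun j hj =>
            PB_comm H A hAT hN hEA hk2 (PB_conj H A hAT hN hEA hb' j hj)⟩)
        have hW : Ws.card ≤ fb := hg2 Ws (fun v hv => by
          have hv2 := (Finset.mem_filter.mp hv).2
          exact ⟨hv2.1, PW_fix H A hAT hN hEA hv2 hz, PW_fix H A hAT hN hEA hv2 hb'⟩)
        calc Nat.card A ≤ Bs.card * Ws.card := hc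
          _ ≤ kb * fb := Nat.mul_le_mul hB hW
          _ < 2048 := hkf
    have h2 : (2 : ℕ) ^ 11 = 2048 := by norm_num
    rw [h2]
    exact ⟨by omega, fun h => by omega⟩

end Main

/-- the statement for the group `TT` -/
theorem main_abs :
    (∀ A : Subgroup G, A ≤ TT H → (A.subgroupOf (TT H)).Normal → IsElementaryAbelian 2 A →
      Nat.card A ≤ 2 ^ 11) ∧
    ∃! A : Subgroup G, A ≤ TT H ∧ (A.subgroupOf (TT H)).Normal ∧ IsElementaryAbelian 2 A ∧
      Nat.card A = 2 ^ 11 := by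
  refine ⟨fun A h1 h2 h3 => (A_bound H A h1 h2 h3).1, EE H,
    ⟨EE_le_TT H, EE_normal H, EE_elem H, card_EE H⟩, ?_⟩
  rintro A ⟨h1, h2, h3, h4⟩
  exact (A_bound H A h1 h2 h3).2 h4

/-- the hypotheses for the conjugates of the elements -/
theorem Hyp.conjBy (g : G) :
    Hyp (fun u => g * e u * g⁻¹) (fun i => g * σ i * g⁻¹) actS mulS coc conjT z zcert where
  e0 := by simp [H.e0]
  emul := by
    intro u hu v hv
    rw [← H.emul u hu v hv]; group
  einj := by
    intro v hv h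
    apply H.einj v hv
    have : e v = g⁻¹ * (g * e v * g⁻¹) * g := by group
    rw [this, h]; group
  s0 := by simp [H.s0]
  conj := by
    intro i hi v hv
    rw [← H.conj i hi v hv]; group
  act_lt := H.act_lt
  mul := by
    intro i hi j hj
    have := H.mul i hi j hj
    calc g * σ i * g⁻¹ * (g * σ j * g⁻¹) = g * (σ i * σ j) * g⁻¹ := by group
      _ = g * (e (coc i j) * σ (mulS i j)) * g⁻¹ := by rw [this]
      _ = g * e (coc i j) * g⁻¹ * (g * σ (mulS i j) * g⁻¹) := by group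
  mul_lt := H.mul_lt
  coc_lt := H.coc_lt
  dist := H.dist
  inv := H.inv
  cj := H.cj
  z_lt := H.z_lt
  zc := H.zc
  fixz := H.fixz
  good := H.good

theorem factorization_two (m : ℕ) (hm : ¬ 2 ∣ m) : (2 ^ 18 * m).factorization 2 = 18 := by
  have hm0 : m ≠ 0 := by rintro rfl; exact hm (dvd_zero 2)
  rw [Nat.factorization_mul (by positivity) hm0, Nat.factorization_pow]
  simp [Nat.prime_two.factorization_self, Nat.factorization_eq_zero_of_not_dvd hm]

/-- the statement for every Sylow `2`-subgroup -/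
theorem main_sylow [Finite G] (m : ℕ) (hm : ¬ 2 ∣ m) (hG : Nat.card G = 2 ^ 18 * m)
    (T : Sylow 2 G) :
    (∀ A : Subgroup G, A ≤ T → (A.subgroupOf T).Normal → IsElementaryAbelian 2 A →
      Nat.card A ≤ 2 ^ 11) ∧
    ∃! A : Subgroup G, A ≤ T ∧ (A.subgroupOf T).Normal ∧ IsElementaryAbelian 2 A ∧
      Nat.card A = 2 ^ 11 := by
  haveI : Fact (Nat.Prime 2) := ⟨Nat.prime_two⟩
  let P0 : Sylow 2 G := Sylow.ofCard (TT H) (by rw [card_TT H, hG, factorization_two H m hm])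
  obtain ⟨g, hg⟩ := MulAction.exists_smul_eq G P0 T
  have hT : (T : Subgroup G) = TT (H.conjBy g) := by
    rw [← hg, Sylow.coe_subgroup_smul]
    ext x
    rw [Subgroup.mem_pointwise_smul_iff_inv_smul_mem, mem_TT]
    change (MulAut.conj g)⁻¹ x ∈ TT H ↔ _
    rw [mem_TT, MulAut.conj_inv_apply]
    constructor
    · rintro ⟨u, hu, i, hi, h⟩
      refine ⟨u, hu, i, hi, ?_⟩
      have : x = g * (g⁻¹ * x * g) * g⁻¹ := by group
      rw [this, h]; group
    · rintro ⟨u, hu, i, hi, h⟩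
      refine ⟨u, hu, i, hi, ?_⟩
      rw [h]; group
  rw [hT]
  exact main_abs (H.conjBy g)

end

end Cfsg.Agent.Lib.Helper29.Fi23Syl
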