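import Cfsg.Agent.Lib.Helper4.TC.Fi23Fi22Model
import Cfsg.Agent.Lib.Helper4.TC.Trans
import Cfsg.Agent.Lib.Helper29.Fi23SylData

set_option autoImplicit false
set_option maxRecDepth 100000
set_option linter.unusedVariables false

/-!
# The words checked on the model of `Fi23` for its Sylow 2-subgroup
-/

namespace Cfsg.Agent.Lib.Helper29.Fi23Syl

open Cfsg.Agent.Helper4.TC

/-- the letters of a word are letters -/
def wok (w : List ℕ) : Bool := w.all fun c => Nat.blt c 20

/-- the base of the chain of the model -/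
def hbPts : List ℕ := [0, 1, 203, 1230, 2]

/-- `σ i * x k * (σ i)⁻¹ = e (col i k)` -/
def conjW (i k : ℕ) : List ℕ := invW (sw i) ++ tw k ++ sw i ++ invW (ewordN 11 (col i k))

/-- `σ i * σ j = e (coc i j) * σ (mulS i j)` -/
def mulW (i j : ℕ) : List ℕ :=
  sw j ++ sw i ++ invW (ewordN 11 (coc i j)) ++ invW (sw (mulS i j))

/-- `x k` and `x l` commute -/
def commW (k l : ℕ) : List ℕ := tw k ++ tw l ++ invW (tw k) ++ invW (tw l)

/-- `x k` is an involution -/
def sqW (k : ℕ) : List ℕ := tw k ++ tw k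

/-- `e v` moves a point -/
noncomputable def injP (v : ℕ) : Bool :=
  Nat.beq v 0 || (wok (ewordN 11 v) &&
    (!(Nat.beq (mtrace Fi23Fi22.mdata (ewordN 11 v) 14823) 14823) ||
     !(Nat.beq (mtrace Fi23Fi22.mdata (ewordN 11 v) 28368) 28368)))

noncomputable def conjRow (i : ℕ) : Bool :=
  (List.range 11).all fun k => fixesB Fi23Fi22.mdata hbPts (conjW i k)

noncomputable def mulRow (i : ℕ) : Bool :=
  (List.range 128).all fun j => fixesB Fi23Fi22.mdata hbPts (mulW i j)

end Cfsg.Agent.Lib.Helper29.Fi23Syl
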