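import Cfsg.Agent.Lib.Helper4.TC.Perm
import Cfsg.Agent.Lib.Helper4.TC.Trans
import Cfsg.Agent.Lib.Helper4.TC.Strict

set_option autoImplicit false
set_option linter.unusedVariables false
set_option linter.unusedSectionVars false
set_option linter.style.haveILetI false

/-!
# Exclusion of images of the base points along a chain of stabilisers of the full order

For a permutation model with checked levels whose orbit lengths multiply to the order of the
group, the orbits of the stabilisers are exactly the listed ones; so a tuple of points is the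
image of the base under an element of the group only if it sifts through the levels.
-/

namespace Cfsg.Agent.Lib.Helper29.HeOut

open Cfsg.Agent.Helper4.TC MulAction

/-! ### exact chains -/

section Exact

variable {A : Type*} [Group A] {X : Type*} [MulAction A X]

theorem card_inf_stab_mul (K : Subgroup A) [Finite K] (x : X) :
    (orbit K x).ncard * Nat.card (K ⊓ stabilizer A x : Subgroup A) = Nat.card K := by
  have h2 : (stabilizer K x).index = (orbit K x).ncard := index_stabilizer K x
  have h3 := (stabilizer K x).card_mul_index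
  have h4 : Nat.card (stabilizer K x) = Nat.card (K ⊓ stabilizer A x : Subgroup A) := by
    have e1 : stabilizer K x = (stabilizer A x).subgroupOf K := by
      ext m
      simp only [mem_stabilizer_iff, Subgroup.mem_subgroupOf]
      rfl
    rw [e1, inf_comm, ← Subgroup.inf_subgroupOf_right]
    exact Nat.card_congr (Subgroup.subgroupOfEquivOfLe inf_le_right).toEquiv
  rw [← h3, h4, h2, mul_comm]

/-- in a chain whose lengths multiply to the order, the first orbit has exactly the given
length, and the rest of the chain is again exact -/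
theorem exact_step (K : Subgroup A) [Finite K] (bn : X × ℕ) (rest : List (X × ℕ))
    (h : ChainOK K (bn :: rest)) (hp : Nat.card K = bn.2 * (rest.map Prod.snd).prod) :
    (orbit K bn.1).ncard = bn.2 ∧
      Nat.card (K ⊓ stabilizer A bn.1 : Subgroup A) = (rest.map Prod.snd).prod := by
  obtain ⟨⟨O, hO, hy⟩, hrest⟩ := h
  set K' := K ⊓ stabilizer A bn.1 with hK'
  haveI : Finite K' := Finite.of_injective (Subgroup.inclusion (inf_le_left : K' ≤ K))
    (Subgroup.inclusion_injective _)
  have h1 := card_ge_of_chain rest K' hrest
  have h5 : bn.2 ≤ (orbit K bn.1).ncard := by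
    rw [← hO]
    apply Set.ncard_le_ncard
    · intro y hy'
      obtain ⟨g, hg, rfl⟩ := hy y hy'
      exact ⟨⟨g, hg⟩, rfl⟩
    · exact Set.finite_range _
  have h6 := card_inf_stab_mul K bn.1
  rw [← hK'] at h6
  have hKpos : 0 < Nat.card K := Nat.card_pos
  have hK'pos : 0 < Nat.card K' := Nat.card_pos
  set a := (orbit K bn.1).ncard
  set c := Nat.card K'
  set b := bn.2
  set d := (rest.map Prod.snd).prod
  have hac : a * c = b * d := by rw [h6, hp]
  have hb : 0 < b := by
    rcases Nat.eq_zero_or_pos b with h0 | h0
    · rw [h0, zero_mul] at hac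
      rw [← h6, hac] at hKpos
      omega
    · exact h0
  have hd : 0 < d := by
    rcases Nat.eq_zero_or_pos d with h0 | h0
    · rw [h0, mul_zero] at hac
      rw [← h6, hac] at hKpos
      omega
    · exact h0
  have ha : a = b := by
    by_contra hne
    have hlt : b < a := lt_of_le_of_ne h5 (Ne.symm hne)
    have : b * d < a * c := by
      calc b * d < a * d := Nat.mul_lt_mul_of_pos_right hlt hd
        _ ≤ a * c := Nat.mul_le_mul_left a h1
    omega
  refine ⟨ha, ?_⟩
  rw [ha] at hac
  exact Nat.eq_of_mul_eq_mul_left hb hac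

end Exact

/-! ### searching a point and pulling back along the tree -/

/-- the index of the entry of the point `t`, searching `F` entries from `j` -/
noncomputable def findPt (d : LData) (t : ℕ) (F j : ℕ) : Option ℕ :=
  Nat.rec (motive := fun _ => ℕ → Option ℕ) (fun _ => none)
    (fun _ ih j => Bool.rec (motive := fun _ => Option ℕ) (force (Nat.succ j) ih) (some j)
      (Nat.beq (d.pt j) t)) F j

theorem findPt_zero (d : LData) (t j : ℕ) : findPt d t 0 j = none := rfl

theorem findPt_succ (d : LData) (t F j : ℕ) :
    findPt d t (F + 1) j = if d.pt j = t then some j else findPt d t F (j + 1) := by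
  have h0 : findPt d t (F + 1) j = Bool.rec (motive := fun _ => Option ℕ)
      (force (Nat.succ j) (findPt d t F)) (some j) (Nat.beq (d.pt j) t) := rfl
  rw [h0, force_eq]
  by_cases h : d.pt j = t
  · rw [if_pos h]
    have : Nat.beq (d.pt j) t = true := by rw [h]; exact Nat.beq_refl t
    rw [this]
  · rw [if_neg h]
    have : Nat.beq (d.pt j) t = false := by
      cases hb : Nat.beq (d.pt j) t
      · rfl
      · exact absurd (Nat.eq_of_beq_eq_true hb) h
    rw [this]

theorem findPt_some {d : LData} {t : ℕ} : ∀ (F j0 : ℕ) {j : ℕ}, findPt d t F j0 = some j →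
    j0 ≤ j ∧ j < j0 + F ∧ d.pt j = t := by
  intro F
  induction F with
  | zero => intro j0 j h; rw [findPt_zero] at h; cases h
  | succ F ih =>
    intro j0 j h
    rw [findPt_succ] at h
    split_ifs at h with h1
    · have : j0 = j := by simpa using h
      subst this
      exact ⟨le_refl _, by omega, h1⟩
    · obtain ⟨h2, h3, h4⟩ := ih (j0 + 1) h
      exact ⟨by omega, by omega, h4⟩

theorem findPt_none {d : LData} {t : ℕ} : ∀ (F j0 : ℕ), findPt d t F j0 = none →
    ∀ j, j0 ≤ j → j < j0 + F → d.pt j ≠ t := by
  intro F
  induction F with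
  | zero => intro j0 _ j h1 h2; omega
  | succ F ih =>
    intro j0 h j h1 h2
    rw [findPt_succ] at h
    split_ifs at h with h3
    rcases Nat.eq_or_lt_of_le h1 with rfl | h4
    · exact h3
    · exact ih (j0 + 1) h j (by omega) (by omega)

/-- apply a map to the members of a list, evaluating the values -/
def mapF (f : ℕ → ℕ) : List ℕ → List ℕ
  | [] => []
  | t :: ts => force (f t) fun v => v :: mapF f ts

theorem mapF_eq (f : ℕ → ℕ) (ts : List ℕ) : mapF f ts = ts.map f := by
  induction ts with
  | nil => rfl
  | cons t ts ih =>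
    unfold mapF
    rw [force_eq, ih, List.map_cons]

/-- pull the points back along the path from the entry `j` to the root -/
noncomputable def pull (m : MData) (d : LData) (W : List (List ℕ)) (F j : ℕ) (ts : List ℕ) :
    List ℕ :=
  Nat.rec (motive := fun _ => ℕ → List ℕ → List ℕ) (fun _ ts => ts)
    (fun _ ih j ts => Bool.rec (motive := fun _ => List ℕ)
      (force (d.par j) fun pj => ih pj (mapF (mtrace m (invW (W.getD (d.gen j) []))) ts))
      ts (Nat.beq (d.dep j) 0)) F j ts

theorem pull_zero (m : MData) (d : LData) (W : List (List ℕ)) (j : ℕ) (ts : List ℕ) :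
    pull m d W 0 j ts = ts := rfl

theorem pull_succ (m : MData) (d : LData) (W : List (List ℕ)) (F j : ℕ) (ts : List ℕ) :
    pull m d W (F + 1) j ts = if d.dep j = 0 then ts
      else pull m d W F (d.par j) (mapF (mtrace m (invW (W.getD (d.gen j) []))) ts) := by
  have h0 : pull m d W (F + 1) j ts = Bool.rec (motive := fun _ => List ℕ)
      (force (d.par j) fun pj => pull m d W F pj
        (mapF (mtrace m (invW (W.getD (d.gen j) []))) ts))
      ts (Nat.beq (d.dep j) 0) := rfl
  rw [h0, force_eq]
  by_cases h : d.dep j = 0
  · rw [if_pos h]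
    have : Nat.beq (d.dep j) 0 = true := by rw [h]; rfl
    rw [this]
  · rw [if_neg h]
    have : Nat.beq (d.dep j) 0 = false := by
      cases hb : Nat.beq (d.dep j) 0
      · rfl
      · exact absurd (Nat.eq_of_beq_eq_true hb) h
    rw [this]

/-- the tuple does not sift through the levels -/
noncomputable def excl (m : MData) : List LSpec → List ℕ → Bool
  | [], _ => false
  | _ :: _, [] => false
  | s :: rest, t :: ts =>
    match findPt s.d t s.d.cnt 0 with
    | none => true
    | some j => excl m rest (pull m s.d s.W (s.d.dep j) j ts)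

section Sound

variable {α : Type} {R : Set (FreeGroup α)} {dec : ℕ → Letter α} {enc : α → ℕ}
variable {m : MData} {bases subsL : List (List ℕ)}

theorem invW_letters (hcod : Coding dec enc m.nc) (w : List ℕ) (hw : ∀ c ∈ w, c < m.nc) :
    ∀ c ∈ invW w, c < m.nc := by
  intro c hc
  unfold invW at hc
  rw [List.mem_reverse, List.mem_map] at hc
  obtain ⟨c', hc', rfl⟩ := hc
  exact hcod.nc_even c' (hw c' hc')

theorem mk_invW (hcod : Coding dec enc m.nc) (w : List ℕ) :
    PresentedGroup.mk R (wordF dec (invW w)) = (PresentedGroup.mk R (wordF dec w))⁻¹ := by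
  rw [← evc_of, ← evc_of, evc_invW _ hcod]

/-- the action of the inverse of a word -/
theorem mtrace_invW (hcod : Coding dec enc m.nc) (hR1 : ∀ r ∈ R, ∃ b ∈ bases, r = wordF dec b)
    (hm : ModelOK m bases subsL) (w : List ℕ) (hw : ∀ c ∈ w, c < m.nc) (k : Fin m.n) :
    mtrace m (invW w) k.val =
      ((modelHom hcod hR1 hm (PresentedGroup.mk R (wordF dec w)))⁻¹ k).val := by
  rw [← modelHom_word hcod hR1 hm (invW w) (invW_letters hcod w hw) k, mk_invW hcod, map_inv]

/-- the element of the group leading from the base point to the entry `j`, and the pull back -/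
theorem pull_spec {d : LData} {W : List (List ℕ)} {b : ℕ} (h : LevelOK m d W b)
    (hcod : Coding dec enc m.nc) (hR1 : ∀ r ∈ R, ∃ b ∈ bases, r = wordF dec b)
    (hm : ModelOK m bases subsL) (hW : ∀ w ∈ W, ∀ c ∈ w, c < m.nc) (hb : b < m.n)
    (K : Subgroup (Equiv.Perm (Fin m.n)))
    (hK : ∀ w ∈ W, modelHom hcod hR1 hm (PresentedGroup.mk R (wordF dec w)) ∈ K) :
    ∀ j, j < d.cnt → ∃ hp : d.pt j < m.n, ∃ g ∈ K, g ⟨b, hb⟩ = ⟨d.pt j, hp⟩ ∧
      ∀ (F : ℕ), d.dep j ≤ F → ∀ ts : List (Fin m.n),
        pull m d W F j (ts.map Fin.val) = (ts.map fun t => (g⁻¹ t).val) := by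
  intro j
  induction hD : d.dep j using Nat.strong_induction_on generalizing j with
  | _ D ih =>
    intro hj
    have h1 := h.lvl j hj
    rw [lvlAt_eq, Bool.or_eq_true] at h1
    by_cases hd0 : d.dep j = 0
    · have h1' : d.pt j = b := by
        rcases h1 with h1 | h1
        · rw [Bool.and_eq_true] at h1
          exact Nat.eq_of_beq_eq_true h1.2
        · simp only [Bool.and_eq_true] at h1
          have := lt_of_blt h1.1.2
          omega
      refine ⟨h1' ▸ hb, 1, K.one_mem, ?_, ?_⟩
      · apply Fin.ext
        simp [h1']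
      · intro F _ ts
        have : pull m d W F j (ts.map Fin.val) = ts.map Fin.val := by
          cases F with
          | zero => rfl
          | succ F => rw [pull_succ, if_pos hd0]
        rw [this]
        simp
    · have h1' : (Nat.blt (d.par j) d.cnt && Nat.blt (d.dep (d.par j)) (d.dep j) &&
          Nat.beq (mtrace m (W.getD (d.gen j) []) (d.pt (d.par j))) (d.pt j)) = true := by
        rcases h1 with h1 | h1
        · rw [Bool.and_eq_true] at h1
          exact absurd (Nat.eq_of_beq_eq_true h1.1) hd0
        · exact h1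
      simp only [Bool.and_eq_true] at h1'
      obtain ⟨⟨h2, h3⟩, h4⟩ := h1'
      have h2' := lt_of_blt h2
      have h3' := lt_of_blt h3
      have h4' := Nat.eq_of_beq_eq_true h4
      obtain ⟨hp, g, hg, hgb, hpull⟩ := ih (d.dep (d.par j)) (by omega) (d.par j) rfl h2'
      set w := W.getD (d.gen j) [] with hw
      have hwl : ∀ c ∈ w, c < m.nc := by
        by_cases hgen : d.gen j < W.length
        · rw [hw, List.getD_eq_getElem _ _ hgen]
          exact hW _ (List.getElem_mem hgen)
        · rw [hw, List.getD_eq_default _ _ (by omega)]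
          intro c hc
          simp at hc
      have hwK : modelHom hcod hR1 hm (PresentedGroup.mk R (wordF dec w)) ∈ K := by
        by_cases hgen : d.gen j < W.length
        · rw [hw, List.getD_eq_getElem _ _ hgen]
          exact hK _ (List.getElem_mem hgen)
        · rw [hw, List.getD_eq_default _ _ (by omega)]
          have : PresentedGroup.mk R (wordF dec ([] : List ℕ)) = 1 := by
            rw [← evc_of]; rfl
          rw [this, map_one]
          exact K.one_mem
      have hp' : d.pt j < m.n := by
        rw [← h4']
        exact mtrace_lt hm _ hwl _ hp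
      refine ⟨hp', modelHom hcod hR1 hm (PresentedGroup.mk R (wordF dec w)) * g,
        K.mul_mem hwK hg, ?_, ?_⟩
      · rw [Equiv.Perm.mul_apply, hgb]
        apply Fin.ext
        rw [modelHom_word hcod hR1 hm _ hwl]
        exact h4'
      · intro F hF ts
        cases F with
        | zero => omega
        | succ F =>
          rw [pull_succ, if_neg hd0, mapF_eq, ← hw]
          have e1 : (ts.map Fin.val).map (mtrace m (invW w)) =
              (ts.map fun t => (modelHom hcod hR1 hm (PresentedGroup.mk R (wordF dec w)))⁻¹ t).map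
                Fin.val := by
            rw [List.map_map, List.map_map]
            apply List.map_congr_left
            intro t _
            exact mtrace_invW hcod hR1 hm w hwl t
          rw [e1, hpull F (by omega), List.map_map]
          apply List.map_congr_left
          intro t _
          simp [mul_inv_rev]

/-- the points of a level as a set -/
theorem level_orbit_eq {d : LData} {W : List (List ℕ)} {b : ℕ} (h : LevelOK m d W b)
    (hcod : Coding dec enc m.nc) (hR1 : ∀ r ∈ R, ∃ b ∈ bases, r = wordF dec b)
    (hm : ModelOK m bases subsL) (hW : ∀ w ∈ W, ∀ c ∈ w, c < m.nc) (hb : b < m.n)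
    (K : Subgroup (Equiv.Perm (Fin m.n))) [Finite K]
    (hK : ∀ w ∈ W, modelHom hcod hR1 hm (PresentedGroup.mk R (wordF dec w)) ∈ K)
    (hcard : (orbit K (⟨b, hb⟩ : Fin m.n)).ncard = d.cnt)
    (g : Equiv.Perm (Fin m.n)) (hg : g ∈ K) : ∃ j, j < d.cnt ∧ d.pt j = (g ⟨b, hb⟩).val := by
  have hr := h.reach hcod hR1 hm hW hb K hK
  let f : Fin d.cnt → Fin m.n := fun j => ⟨d.pt j.val, (hr j.val j.2).1⟩
  have hf : Function.Injective f := by
    intro i j hij
    have h1 : d.pt i.val = d.pt j.val := congrArg Fin.val hij
    apply Fin.ext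
    by_contra hne
    rcases Nat.lt_or_gt_of_ne hne with h2 | h2
    · have := h.mono i.val j.val h2 j.2; omega
    · have := h.mono j.val i.val h2 i.2; omega
  have hsub : Set.range f ⊆ orbit K (⟨b, hb⟩ : Fin m.n) := by
    rintro _ ⟨j, rfl⟩
    obtain ⟨hp, g', hg', hgb⟩ := hr j.val j.2
    exact ⟨⟨g', hg'⟩, hgb⟩
  have hcf : (Set.range f).ncard = d.cnt := by
    rw [Set.ncard_eq_toFinset_card', Set.toFinset_range, Finset.card_image_of_injective _ hf,
      Finset.card_univ, Fintype.card_fin]
  have heq : Set.range f = orbit K (⟨b, hb⟩ : Fin m.n) :=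
    Set.eq_of_subset_of_ncard_le hsub (by rw [hcf, hcard]) (Set.toFinite _)
  have hmem : g ⟨b, hb⟩ ∈ orbit K (⟨b, hb⟩ : Fin m.n) := ⟨⟨g, hg⟩, rfl⟩
  rw [← heq] at hmem
  obtain ⟨j, hj⟩ := hmem
  exact ⟨j.val, j.2, congrArg Fin.val hj⟩

/-- a tuple of images of the base points under an element of the group sifts through -/
theorem excl_sound (hcod : Coding dec enc m.nc)
    (hR1 : ∀ r ∈ R, ∃ b ∈ bases, r = wordF dec b) (hm : ModelOK m bases subsL)
    [Finite (modelHom hcod hR1 hm).range] :
    ∀ (specs : List LSpec) (fixed : List ℕ), (∀ q ∈ fixed, q < m.n) →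
      LevelsOK m fixed specs →
      Nat.card (fixSub (modelHom hcod hR1 hm).range (fixed.map (mkPt hm))) =
        (specs.map fun s => s.d.cnt).prod →
      ∀ (ts : List (Fin m.n)) (g : Equiv.Perm (Fin m.n)),
        g ∈ fixSub (modelHom hcod hR1 hm).range (fixed.map (mkPt hm)) →
        List.Forall₂ (fun (s : LSpec) (t : Fin m.n) => g (mkPt hm s.b) = t) specs ts →
        excl m specs (ts.map Fin.val) = false := by
  intro specs
  induction specs with
  | nil => intro _ _ _ _ ts _ _ _; rfl
  | cons s rest ih =>
    intro fixed hfixed hlev hcard ts g hg hall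
    obtain ⟨⟨h1, h2, h3⟩, h4⟩ := hlev
    cases hall with
    | cons hst hrest =>
      rename_i t ts'
      set Φ := modelHom hcod hR1 hm with hΦ
      set K := fixSub Φ.range (fixed.map (mkPt hm)) with hKdef
      haveI : Finite K := Finite.of_injective
        (Subgroup.inclusion (show K ≤ Φ.range from fun x hx => ((mem_fixSub _ _ x).mp hx).1))
        (Subgroup.inclusion_injective _)
      have hchain := chainOK_of_levels hcod hR1 hm (s :: rest) fixed hfixed ⟨⟨h1, h2, h3⟩, h4⟩
      rw [List.map_cons] at hchain
      have hex := exact_step K (mkPt hm s.b, s.d.cnt)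
        (rest.map fun s => (mkPt hm s.b, s.d.cnt)) hchain (by
          rw [hcard, List.map_cons, List.prod_cons, List.map_map]
          rfl)
      obtain ⟨hex1, hex2⟩ := hex
      simp only at hex1 hex2
      rw [mkPt_of_lt hm s.b h2] at hex1 hst
      have hWK : ∀ w ∈ s.W, Φ (PresentedGroup.mk R (wordF dec w)) ∈ K := by
        intro w hw
        rw [hKdef, mem_fixSub]
        refine ⟨⟨_, rfl⟩, ?_⟩
        intro q hq
        obtain ⟨q', hq', rfl⟩ := List.mem_map.mp hq
        rw [mkPt_of_lt hm q' (hfixed q' hq')]
        apply Fin.ext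
        show (Φ (PresentedGroup.mk R (wordF dec w)) ⟨q', _⟩).val = q'
        rw [modelHom_word hcod hR1 hm w (h3 w hw).1]
        exact (h3 w hw).2 q' hq'
      obtain ⟨j, hj, hjt⟩ := level_orbit_eq h1 hcod hR1 hm (fun w hw => (h3 w hw).1) h2 K hWK
        hex1 g hg
      rw [hst] at hjt
      rw [List.map_cons]
      unfold excl
      have hfind : ∃ j', findPt s.d t.val s.d.cnt 0 = some j' := by
        cases hf : findPt s.d t.val s.d.cnt 0 with
        | none => exact absurd hjt (findPt_none _ _ hf j (by omega) (by omega))
        | some j' => exact ⟨j', rfl⟩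
      obtain ⟨j', hj'⟩ := hfind
      rw [hj']
      show excl m rest (pull m s.d s.W (s.d.dep j') j' (ts'.map Fin.val)) = false
      obtain ⟨hj'1, hj'2, hj'3⟩ := findPt_some _ _ hj'
      obtain ⟨hp, u, hu, hub, hpull⟩ := pull_spec h1 hcod hR1 hm (fun w hw => (h3 w hw).1) h2 K hWK
        j' (by omega)
      rw [hpull (s.d.dep j') (le_refl _) ts']
      have hfix : (s.b :: fixed).map (mkPt hm) = mkPt hm s.b :: fixed.map (mkPt hm) :=
        List.map_cons
      have hrw : (ts'.map fun t => (u⁻¹ t).val) = (ts'.map fun t => u⁻¹ t).map Fin.val := by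
        rw [List.map_map]; rfl
      rw [hrw]
      apply ih (s.b :: fixed) _ h4 _ _ (u⁻¹ * g)
      · rw [hfix, ← fixSub_cons, Subgroup.mem_inf]
        refine ⟨K.mul_mem (K.inv_mem hu) hg, ?_⟩
        rw [mem_stabilizer_iff, mkPt_of_lt hm s.b h2]
        show (u⁻¹ * g) ⟨s.b, h2⟩ = ⟨s.b, h2⟩
        rw [Equiv.Perm.mul_apply, hst]
        have : t = u ⟨s.b, h2⟩ := by
          rw [hub]
          apply Fin.ext
          exact hj'3.symm
        rw [this]
        simp
      · rw [List.forall₂_map_right_iff]
        refine List.Forall₂.imp ?_ hrest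
        intro s' t' hst'
        rw [Equiv.Perm.mul_apply, hst']
      · intro q hq
        rcases List.mem_cons.mp hq with rfl | hq
        · exact h2
        · exact hfixed q hq
      · rw [hfix, ← fixSub_cons, mkPt_of_lt hm s.b h2]
        rw [mkPt_of_lt hm s.b h2] at hex2
        rw [List.map_map] at hex2
        exact hex2

end Sound

/-! ### evaluated images and loops -/

/-- the images of a point under words, evaluated -/
noncomputable def imgsF (m : MData) (t : ℕ) : List (List ℕ) → List ℕ
  | [] => []
  | w :: ws => force (mtrace m w t) fun v => v :: imgsF m t ws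

theorem imgsF_eq (m : MData) (t : ℕ) (ws : List (List ℕ)) :
    imgsF m t ws = ws.map fun w => mtrace m w t := by
  induction ws with
  | nil => rfl
  | cons w ws ih =>
    unfold imgsF
    rw [force_eq, ih, List.map_cons]

/-- membership in a list of numbers -/
noncomputable def memB (t : ℕ) : List ℕ → Bool
  | [] => false
  | x :: xs => Nat.beq t x || memB t xs

theorem memB_sound {t : ℕ} : ∀ {l : List ℕ}, memB t l = true → t ∈ l := by
  intro l
  induction l with
  | nil => intro h; cases h
  | cons x xs ih =>
    intro h
    unfold memB at h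
    rw [Bool.or_eq_true] at h
    rcases h with h | h
    · rw [Nat.eq_of_beq_eq_true h]; exact List.mem_cons_self
    · exact List.mem_cons_of_mem _ (ih h)

theorem rangeS_sound (P : ℕ → Bool) (f : ℕ) (h : rangeS P f 0 = true) :
    ∀ j, j < f → P j = true := by
  intro j hj
  rw [rangeS_eq] at h
  exact range_sound P (rangeL P) (fun _ => rfl) (rangeL_succ P) f 0 h j (Nat.zero_le _) (by omega)

end Cfsg.Agent.Lib.Helper29.HeOut
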