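import Cfsg.Agent.Lib.Helper4.TC.Fi23SMain
import Cfsg.Agent.Lib.Helper4.TC.Fi23SLC
import Cfsg.Agent.Lib.Helper29.HeOutExcl
import Cfsg.Agent.Lib.Helper29.Fi23SylWords

set_option autoImplicit false
set_option maxRecDepth 100000
set_option linter.unusedVariables false
set_option linter.unusedSectionVars false
set_option linter.style.haveILetI false

/-!
# The presented group `Fi23`: elements of words and their action on the 31671 points
-/

namespace Cfsg.Agent.Lib.Helper29.Fi23Syl

open Cfsg.Agent.Helper4.TC Cfsg.Agent.Lib.Helper29.HeOut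

/-- the presented group `Fi23` -/
abbrev FP : Type := PresentedGroup Fi23S.Rset

/-- the permutation representation on the 31671 points -/
noncomputable abbrev PhiFi : FP →* Equiv.Perm (Fin Fi23Fi22.mdata.n) :=
  modelHom Fi23Fi22.coding Fi23Fi22.hR1 Fi23Fi22.model_ok

/-- the element of a word -/
noncomputable def el (w : List ℕ) : FP := PresentedGroup.mk Fi23S.Rset (wordF Fi23Fi22.dec w)

theorem el_append (u v : List ℕ) : el (u ++ v) = el v * el u := by
  unfold el
  rw [← evc_of, ← evc_of, ← evc_of, evc_append]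

theorem el_nil : el [] = 1 := by
  unfold el
  rw [← evc_of]
  rfl

theorem el_invW (w : List ℕ) : el (invW w) = (el w)⁻¹ :=
  mk_invW (R := Fi23S.Rset) (m := Fi23Fi22.mdata) Fi23Fi22.coding w

theorem wok_sound {w : List ℕ} (h : wok w = true) : ∀ c ∈ w, c < Fi23Fi22.mdata.nc := by
  intro c hc
  unfold wok at h
  rw [List.all_eq_true] at h
  have := h c hc
  rw [Nat.blt_eq] at this
  exact this

/-- the action on the numbers of the points -/
noncomputable def act (g : FP) (k : ℕ) : ℕ := (PhiFi g (mkPt Fi23Fi22.model_ok k)).val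

theorem act_one (k : ℕ) (hk : k < 31671) : act 1 k = k := by
  unfold act
  rw [map_one, Equiv.Perm.one_apply]
  exact Nat.mod_eq_of_lt hk

theorem act_el (w : List ℕ) (hw : wok w = true) (k : ℕ) (hk : k < 31671) :
    act (el w) k = mtrace Fi23Fi22.mdata w k := by
  unfold act el
  rw [mkPt_of_lt Fi23Fi22.model_ok k hk]
  exact modelHom_word Fi23Fi22.coding Fi23Fi22.hR1 Fi23Fi22.model_ok w (wok_sound hw) ⟨k, hk⟩

/-- a word fixing the base of the model is trivial -/
theorem el_eq_one_of_fixesB (w : List ℕ) (h : fixesB Fi23Fi22.mdata hbPts w = true) :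
    el w = 1 := by
  obtain ⟨h1, h2⟩ := fixesB_sound h
  refine word_eq_one_of_base Fi23Fi22.coding Fi23Fi22.hR1 Fi23Fi22.model_ok 4089470473293004800
    (by norm_num) Fi23S.card_top Fi23S.specs Fi23S.levels_ok (by decide) w h1 ?_ ?_
  · exact h2 0 (by decide)
  · intro s hs
    have hpts : hbPts = 0 :: Fi23S.specs.map fun s => s.b := rfl
    exact h2 s.b (by rw [hpts]; exact List.mem_cons_of_mem _ (List.mem_map_of_mem hs))

/-- a word moving a point is not trivial -/
theorem el_ne_one_of_moves (w : List ℕ) (hw : wok w = true) (k : ℕ) (hk : k < 31671)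
    (h : mtrace Fi23Fi22.mdata w k ≠ k) : el w ≠ 1 := by
  intro h1
  apply h
  rw [← act_el w hw k hk, h1, act_one k hk]

instance finite_FP : Finite FP := Fi23S.card_top.1

theorem card_FP : Nat.card FP = 4089470473293004800 := Fi23S.main.2

end Cfsg.Agent.Lib.Helper29.Fi23Syl
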