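import Mathlib

set_option autoImplicit false
set_option linter.unusedVariables false

/-!
# Products of commuting involutions over the bits of a number
-/

namespace Cfsg.Agent.Lib.Helper29.Fi23Syl

variable {G : Type*} [Group G]

/-- the product of the `x k` over the bits of `v` below `n` -/
def eP (x : ℕ → G) : ℕ → ℕ → G
  | 0, _ => 1
  | n + 1, v => eP x n v * (if Nat.testBit v n = true then x n else 1)

/-- the xor of the `c k` over the bits of `v` below `n` -/
def xorFold (c : ℕ → ℕ) : ℕ → ℕ → ℕ
  | 0, _ => 0
  | n + 1, v => Nat.xor (xorFold c n v) (if Nat.testBit v n = true then c n else 0)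

theorem eP_zero (x : ℕ → G) (n : ℕ) : eP x n 0 = 1 := by
  induction n with
  | zero => rfl
  | succ n ih => simp [eP, ih]

theorem eP_comm_of (x : ℕ → G) (g : G) (n : ℕ) (h : ∀ k, k < n → g * x k = x k * g) (v : ℕ) :
    g * eP x n v = eP x n v * g := by
  induction n with
  | zero => simp [eP]
  | succ n ih =>
    have h1 := ih (fun k hk => h k (Nat.lt_succ_of_lt hk))
    have h2 := h n (Nat.lt_succ_self n)
    simp only [eP]
    split_ifs
    · rw [← mul_assoc, h1, mul_assoc, h2, mul_assoc]
    · rw [mul_one, h1]

theorem eP_mul (x : ℕ → G) (n : ℕ) (hsq : ∀ k, k < n → x k * x k = 1)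
    (hc : ∀ k, k < n → ∀ l, l < n → x k * x l = x l * x k) (u v : ℕ) :
    eP x n u * eP x n v = eP x n (u ^^^ v) := by
  induction n with
  | zero => simp [eP]
  | succ n ih =>
    have h1 := ih (fun k hk => hsq k (Nat.lt_succ_of_lt hk))
      (fun k hk l hl => hc k (Nat.lt_succ_of_lt hk) l (Nat.lt_succ_of_lt hl))
    have hx : ∀ w, x n * eP x n w = eP x n w * x n := fun w =>
      eP_comm_of x (x n) n (fun k hk => hc n (Nat.lt_succ_self n) k (Nat.lt_succ_of_lt hk)) w
    have hs := hsq n (Nat.lt_succ_self n)
    simp only [eP, Nat.testBit_xor]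
    rw [← h1]
    by_cases hu : Nat.testBit u n = true <;> by_cases hv : Nat.testBit v n = true
    · simp only [hu, hv, if_true, Bool.xor_self, Bool.false_eq_true, if_false, mul_one]
      calc eP x n u * x n * (eP x n v * x n) = eP x n u * (x n * eP x n v) * x n := by group
        _ = eP x n u * (eP x n v * x n) * x n := by rw [hx]
        _ = eP x n u * eP x n v * (x n * x n) := by group
        _ = eP x n u * eP x n v := by rw [hs, mul_one]
    · rw [Bool.not_eq_true] at hv
      simp only [hu, hv, if_true, Bool.xor_false, Bool.false_eq_true, if_false, mul_one]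
      calc eP x n u * x n * eP x n v = eP x n u * (x n * eP x n v) := by group
        _ = eP x n u * (eP x n v * x n) := by rw [hx]
        _ = eP x n u * eP x n v * x n := by group
    · rw [Bool.not_eq_true] at hu
      simp only [hu, hv, if_true, Bool.false_xor, Bool.false_eq_true, if_false, mul_one]
      group
    · rw [Bool.not_eq_true] at hu hv
      simp only [hu, hv, Bool.xor_self, Bool.false_eq_true, if_false, mul_one]

theorem eP_conj (x : ℕ → G) (m : ℕ) (hsq : ∀ k, k < m → x k * x k = 1)
    (hc : ∀ k, k < m → ∀ l, l < m → x k * x l = x l * x k) (g : G) (c : ℕ → ℕ) (n : ℕ)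
    (h : ∀ k, k < n → g * x k * g⁻¹ = eP x m (c k)) (v : ℕ) :
    g * eP x n v * g⁻¹ = eP x m (xorFold c n v) := by
  induction n with
  | zero => simp [eP, xorFold, eP_zero]
  | succ n ih =>
    have h1 := ih (fun k hk => h k (Nat.lt_succ_of_lt hk))
    simp only [eP, xorFold]
    have hx : ∀ a b : ℕ, Nat.xor a b = a ^^^ b := fun _ _ => rfl
    rw [hx, ← eP_mul x m hsq hc, ← h1]
    split_ifs
    · rw [← h n (Nat.lt_succ_self n)]; group
    · rw [eP_zero]; group

theorem xorFold_lt (c : ℕ → ℕ) (m n : ℕ) (h : ∀ k, k < n → c k < 2 ^ m) (v : ℕ) :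
    xorFold c n v < 2 ^ m := by
  induction n with
  | zero => exact Nat.two_pow_pos m
  | succ n ih =>
    have h1 := ih (fun k hk => h k (Nat.lt_succ_of_lt hk))
    simp only [xorFold]
    apply Nat.xor_lt_two_pow h1
    split_ifs
    · exact h n (Nat.lt_succ_self n)
    · exact Nat.two_pow_pos m

theorem xorFold_two_pow (c : ℕ → ℕ) (n k : ℕ) :
    xorFold c n (2 ^ k) = if k < n then c k else 0 := by
  induction n with
  | zero => simp [xorFold]
  | succ n ih =>
    simp only [xorFold, ih, Nat.testBit_two_pow]
    have hx : ∀ a b : ℕ, Nat.xor a b = a ^^^ b := fun _ _ => rfl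
    rw [hx]
    rcases lt_trichotomy k n with hk | hk | hk
    · have h2 : ¬ (k = n) := by omega
      have h3 : k < n + 1 := by omega
      simp [hk, h2, h3]
    · subst hk
      simp
    · have h1 : ¬ (k < n) := by omega
      have h2 : ¬ (k = n) := by omega
      have h3 : ¬ (k < n + 1) := by omega
      simp [h1, h2, h3]

/-- counting through a list -/
theorem card_le_filter_length (N : ℕ) (p : ℕ → Bool) (s : Finset ℕ)
    (h : ∀ v ∈ s, v < N ∧ p v = true) : s.card ≤ ((List.range N).filter p).length := by
  have h1 : s ⊆ ((List.range N).filter p).toFinset := by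
    intro v hv
    rw [List.mem_toFinset, List.mem_filter, List.mem_range]
    exact h v hv
  exact (Finset.card_le_card h1).trans (List.toFinset_card_le _)

theorem forall_lt_of_all (N : ℕ) (p : ℕ → Bool) (h : (List.range N).all p = true) :
    ∀ i, i < N → p i = true := by
  intro i hi
  rw [List.all_eq_true] at h
  exact h i (List.mem_range.mpr hi)

end Cfsg.Agent.Lib.Helper29.Fi23Syl
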