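import Cfsg.Agent.Lib.Helper29.Fi23SylWords

set_option autoImplicit false
set_option maxRecDepth 100000
set_option linter.unusedVariables false
set_option Elab.async false

/-!
# Checks on the model of `Fi23` for its Sylow 2-subgroup (part E)
-/

namespace Cfsg.Agent.Lib.Helper29.Fi23Syl

open Cfsg.Agent.Helper4.TC

theorem commChk : ((List.range 11).all fun k => (List.range 11).all fun l =>
    fixesB Fi23Fi22.mdata hbPts (commW k l)) = true := by decide +kernel

theorem sqChk : ((List.range 11).all fun k => fixesB Fi23Fi22.mdata hbPts (sqW k)) = true := by
  decide +kernel

theorem injChk0 : ((List.range' 0 512).all injP) = true := by decide +kernel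

theorem injChk1 : ((List.range' 512 512).all injP) = true := by decide +kernel

theorem injChk2 : ((List.range' 1024 512).all injP) = true := by decide +kernel

theorem injChk3 : ((List.range' 1536 512).all injP) = true := by decide +kernel

theorem conjChk0 : ((List.range' 0 16).all conjRow) = true := by decide +kernel

theorem conjChk1 : ((List.range' 16 16).all conjRow) = true := by decide +kernel

theorem conjChk2 : ((List.range' 32 16).all conjRow) = true := by decide +kernel

theorem conjChk3 : ((List.range' 48 16).all conjRow) = true := by decide +kernel

theorem conjChk4 : ((List.range' 64 16).all conjRow) = true := by decide +kernel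

theorem conjChk5 : ((List.range' 80 16).all conjRow) = true := by decide +kernel

theorem conjChk6 : ((List.range' 96 16).all conjRow) = true := by decide +kernel

theorem conjChk7 : ((List.range' 112 16).all conjRow) = true := by decide +kernel


end Cfsg.Agent.Lib.Helper29.Fi23Syl
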