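import Cfsg.Agent.Lib.Helper29.Fi23SylWords

set_option autoImplicit false
set_option maxRecDepth 100000
set_option linter.unusedVariables false
set_option Elab.async false

/-!
# Checks on the model of `Fi23` for its Sylow 2-subgroup (part M0)
-/

namespace Cfsg.Agent.Lib.Helper29.Fi23Syl

open Cfsg.Agent.Helper4.TC

theorem mulChk0 : mulRow 0 = true := by decide +kernel

theorem mulChk1 : mulRow 1 = true := by decide +kernel

theorem mulChk2 : mulRow 2 = true := by decide +kernel

theorem mulChk3 : mulRow 3 = true := by decide +kernel

theorem mulChk4 : mulRow 4 = true := by decide +kernel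

theorem mulChk5 : mulRow 5 = true := by decide +kernel

theorem mulChk6 : mulRow 6 = true := by decide +kernel

theorem mulChk7 : mulRow 7 = true := by decide +kernel

theorem mulChk8 : mulRow 8 = true := by decide +kernel

theorem mulChk9 : mulRow 9 = true := by decide +kernel

theorem mulChk10 : mulRow 10 = true := by decide +kernel

theorem mulChk11 : mulRow 11 = true := by decide +kernel

theorem mulChk12 : mulRow 12 = true := by decide +kernel

theorem mulChk13 : mulRow 13 = true := by decide +kernel

theorem mulChk14 : mulRow 14 = true := by decide +kernel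

theorem mulChk15 : mulRow 15 = true := by decide +kernel

theorem mulChkF0 : ∀ i, 0 ≤ i → i < 16 → mulRow i = true := by
  intro i h1 h2
  interval_cases i
  exacts [mulChk0, mulChk1, mulChk2, mulChk3, mulChk4, mulChk5, mulChk6, mulChk7, mulChk8, mulChk9, mulChk10, mulChk11, mulChk12, mulChk13, mulChk14, mulChk15]

end Cfsg.Agent.Lib.Helper29.Fi23Syl
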