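import Cfsg.Agent.Lib.Helper29.Fi23SylWords

set_option autoImplicit false
set_option maxRecDepth 100000
set_option linter.unusedVariables false
set_option Elab.async false

/-!
# Checks on the model of `Fi23` for its Sylow 2-subgroup (part M1)
-/

namespace Cfsg.Agent.Lib.Helper29.Fi23Syl

open Cfsg.Agent.Helper4.TC

theorem mulChk16 : mulRow 16 = true := by decide +kernel

theorem mulChk17 : mulRow 17 = true := by decide +kernel

theorem mulChk18 : mulRow 18 = true := by decide +kernel

theorem mulChk19 : mulRow 19 = true := by decide +kernel

theorem mulChk20 : mulRow 20 = true := by decide +kernel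

theorem mulChk21 : mulRow 21 = true := by decide +kernel

theorem mulChk22 : mulRow 22 = true := by decide +kernel

theorem mulChk23 : mulRow 23 = true := by decide +kernel

theorem mulChk24 : mulRow 24 = true := by decide +kernel

theorem mulChk25 : mulRow 25 = true := by decide +kernel

theorem mulChk26 : mulRow 26 = true := by decide +kernel

theorem mulChk27 : mulRow 27 = true := by decide +kernel

theorem mulChk28 : mulRow 28 = true := by decide +kernel

theorem mulChk29 : mulRow 29 = true := by decide +kernel

theorem mulChk30 : mulRow 30 = true := by decide +kernel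

theorem mulChk31 : mulRow 31 = true := by decide +kernel

theorem mulChkF1 : ∀ i, 16 ≤ i → i < 32 → mulRow i = true := by
  intro i h1 h2
  interval_cases i
  exacts [mulChk16, mulChk17, mulChk18, mulChk19, mulChk20, mulChk21, mulChk22, mulChk23, mulChk24, mulChk25, mulChk26, mulChk27, mulChk28, mulChk29, mulChk30, mulChk31]

end Cfsg.Agent.Lib.Helper29.Fi23Syl
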