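import Cfsg.Agent.Lib.Helper29.Fi23SylWords

set_option autoImplicit false
set_option maxRecDepth 100000
set_option linter.unusedVariables false
set_option Elab.async false

/-!
# Checks on the model of `Fi23` for its Sylow 2-subgroup (part M2)
-/

namespace Cfsg.Agent.Lib.Helper29.Fi23Syl

open Cfsg.Agent.Helper4.TC

theorem mulChk32 : mulRow 32 = true := by decide +kernel

theorem mulChk33 : mulRow 33 = true := by decide +kernel

theorem mulChk34 : mulRow 34 = true := by decide +kernel

theorem mulChk35 : mulRow 35 = true := by decide +kernel

theorem mulChk36 : mulRow 36 = true := by decide +kernel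

theorem mulChk37 : mulRow 37 = true := by decide +kernel

theorem mulChk38 : mulRow 38 = true := by decide +kernel

theorem mulChk39 : mulRow 39 = true := by decide +kernel

theorem mulChk40 : mulRow 40 = true := by decide +kernel

theorem mulChk41 : mulRow 41 = true := by decide +kernel

theorem mulChk42 : mulRow 42 = true := by decide +kernel

theorem mulChk43 : mulRow 43 = true := by decide +kernel

theorem mulChk44 : mulRow 44 = true := by decide +kernel

theorem mulChk45 : mulRow 45 = true := by decide +kernel

theorem mulChk46 : mulRow 46 = true := by decide +kernel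

theorem mulChk47 : mulRow 47 = true := by decide +kernel

theorem mulChkF2 : ∀ i, 32 ≤ i → i < 48 → mulRow i = true := by
  intro i h1 h2
  interval_cases i
  exacts [mulChk32, mulChk33, mulChk34, mulChk35, mulChk36, mulChk37, mulChk38, mulChk39, mulChk40, mulChk41, mulChk42, mulChk43, mulChk44, mulChk45, mulChk46, mulChk47]

end Cfsg.Agent.Lib.Helper29.Fi23Syl
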