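import Cfsg.Agent.Lib.Helper29.Fi23SylWords

set_option autoImplicit false
set_option maxRecDepth 100000
set_option linter.unusedVariables false
set_option Elab.async false

/-!
# Checks on the model of `Fi23` for its Sylow 2-subgroup (part M3)
-/

namespace Cfsg.Agent.Lib.Helper29.Fi23Syl

open Cfsg.Agent.Helper4.TC

theorem mulChk48 : mulRow 48 = true := by decide +kernel

theorem mulChk49 : mulRow 49 = true := by decide +kernel

theorem mulChk50 : mulRow 50 = true := by decide +kernel

theorem mulChk51 : mulRow 51 = true := by decide +kernel

theorem mulChk52 : mulRow 52 = true := by decide +kernel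

theorem mulChk53 : mulRow 53 = true := by decide +kernel

theorem mulChk54 : mulRow 54 = true := by decide +kernel

theorem mulChk55 : mulRow 55 = true := by decide +kernel

theorem mulChk56 : mulRow 56 = true := by decide +kernel

theorem mulChk57 : mulRow 57 = true := by decide +kernel

theorem mulChk58 : mulRow 58 = true := by decide +kernel

theorem mulChk59 : mulRow 59 = true := by decide +kernel

theorem mulChk60 : mulRow 60 = true := by decide +kernel

theorem mulChk61 : mulRow 61 = true := by decide +kernel

theorem mulChk62 : mulRow 62 = true := by decide +kernel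

theorem mulChk63 : mulRow 63 = true := by decide +kernel

theorem mulChkF3 : ∀ i, 48 ≤ i → i < 64 → mulRow i = true := by
  intro i h1 h2
  interval_cases i
  exacts [mulChk48, mulChk49, mulChk50, mulChk51, mulChk52, mulChk53, mulChk54, mulChk55, mulChk56, mulChk57, mulChk58, mulChk59, mulChk60, mulChk61, mulChk62, mulChk63]

end Cfsg.Agent.Lib.Helper29.Fi23Syl
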