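import Cfsg.Agent.Lib.Helper29.Fi23SylWords

set_option autoImplicit false
set_option maxRecDepth 100000
set_option linter.unusedVariables false
set_option Elab.async false

/-!
# Checks on the model of `Fi23` for its Sylow 2-subgroup (part M4)
-/

namespace Cfsg.Agent.Lib.Helper29.Fi23Syl

open Cfsg.Agent.Helper4.TC

theorem mulChk64 : mulRow 64 = true := by decide +kernel

theorem mulChk65 : mulRow 65 = true := by decide +kernel

theorem mulChk66 : mulRow 66 = true := by decide +kernel

theorem mulChk67 : mulRow 67 = true := by decide +kernel

theorem mulChk68 : mulRow 68 = true := by decide +kernel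

theorem mulChk69 : mulRow 69 = true := by decide +kernel

theorem mulChk70 : mulRow 70 = true := by decide +kernel

theorem mulChk71 : mulRow 71 = true := by decide +kernel

theorem mulChk72 : mulRow 72 = true := by decide +kernel

theorem mulChk73 : mulRow 73 = true := by decide +kernel

theorem mulChk74 : mulRow 74 = true := by decide +kernel

theorem mulChk75 : mulRow 75 = true := by decide +kernel

theorem mulChk76 : mulRow 76 = true := by decide +kernel

theorem mulChk77 : mulRow 77 = true := by decide +kernel

theorem mulChk78 : mulRow 78 = true := by decide +kernel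

theorem mulChk79 : mulRow 79 = true := by decide +kernel

theorem mulChkF4 : ∀ i, 64 ≤ i → i < 80 → mulRow i = true := by
  intro i h1 h2
  interval_cases i
  exacts [mulChk64, mulChk65, mulChk66, mulChk67, mulChk68, mulChk69, mulChk70, mulChk71, mulChk72, mulChk73, mulChk74, mulChk75, mulChk76, mulChk77, mulChk78, mulChk79]

end Cfsg.Agent.Lib.Helper29.Fi23Syl
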