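import Cfsg.Agent.Lib.Helper29.Fi23SylWords

set_option autoImplicit false
set_option maxRecDepth 100000
set_option linter.unusedVariables false
set_option Elab.async false

/-!
# Checks on the model of `Fi23` for its Sylow 2-subgroup (part M5)
-/

namespace Cfsg.Agent.Lib.Helper29.Fi23Syl

open Cfsg.Agent.Helper4.TC

theorem mulChk80 : mulRow 80 = true := by decide +kernel

theorem mulChk81 : mulRow 81 = true := by decide +kernel

theorem mulChk82 : mulRow 82 = true := by decide +kernel

theorem mulChk83 : mulRow 83 = true := by decide +kernel

theorem mulChk84 : mulRow 84 = true := by decide +kernel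

theorem mulChk85 : mulRow 85 = true := by decide +kernel

theorem mulChk86 : mulRow 86 = true := by decide +kernel

theorem mulChk87 : mulRow 87 = true := by decide +kernel

theorem mulChk88 : mulRow 88 = true := by decide +kernel

theorem mulChk89 : mulRow 89 = true := by decide +kernel

theorem mulChk90 : mulRow 90 = true := by decide +kernel

theorem mulChk91 : mulRow 91 = true := by decide +kernel

theorem mulChk92 : mulRow 92 = true := by decide +kernel

theorem mulChk93 : mulRow 93 = true := by decide +kernel

theorem mulChk94 : mulRow 94 = true := by decide +kernel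

theorem mulChk95 : mulRow 95 = true := by decide +kernel

theorem mulChkF5 : ∀ i, 80 ≤ i → i < 96 → mulRow i = true := by
  intro i h1 h2
  interval_cases i
  exacts [mulChk80, mulChk81, mulChk82, mulChk83, mulChk84, mulChk85, mulChk86, mulChk87, mulChk88, mulChk89, mulChk90, mulChk91, mulChk92, mulChk93, mulChk94, mulChk95]

end Cfsg.Agent.Lib.Helper29.Fi23Syl
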