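import Cfsg.Agent.Lib.Helper29.Fi23SylWords

set_option autoImplicit false
set_option maxRecDepth 100000
set_option linter.unusedVariables false
set_option Elab.async false

/-!
# Checks on the model of `Fi23` for its Sylow 2-subgroup (part M6)
-/

namespace Cfsg.Agent.Lib.Helper29.Fi23Syl

open Cfsg.Agent.Helper4.TC

theorem mulChk96 : mulRow 96 = true := by decide +kernel

theorem mulChk97 : mulRow 97 = true := by decide +kernel

theorem mulChk98 : mulRow 98 = true := by decide +kernel

theorem mulChk99 : mulRow 99 = true := by decide +kernel

theorem mulChk100 : mulRow 100 = true := by decide +kernel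

theorem mulChk101 : mulRow 101 = true := by decide +kernel

theorem mulChk102 : mulRow 102 = true := by decide +kernel

theorem mulChk103 : mulRow 103 = true := by decide +kernel

theorem mulChk104 : mulRow 104 = true := by decide +kernel

theorem mulChk105 : mulRow 105 = true := by decide +kernel

theorem mulChk106 : mulRow 106 = true := by decide +kernel

theorem mulChk107 : mulRow 107 = true := by decide +kernel

theorem mulChk108 : mulRow 108 = true := by decide +kernel

theorem mulChk109 : mulRow 109 = true := by decide +kernel

theorem mulChk110 : mulRow 110 = true := by decide +kernel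

theorem mulChk111 : mulRow 111 = true := by decide +kernel

theorem mulChkF6 : ∀ i, 96 ≤ i → i < 112 → mulRow i = true := by
  intro i h1 h2
  interval_cases i
  exacts [mulChk96, mulChk97, mulChk98, mulChk99, mulChk100, mulChk101, mulChk102, mulChk103, mulChk104, mulChk105, mulChk106, mulChk107, mulChk108, mulChk109, mulChk110, mulChk111]

end Cfsg.Agent.Lib.Helper29.Fi23Syl
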