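import Cfsg.Agent.Lib.Helper29.Fi23SylWords

set_option autoImplicit false
set_option maxRecDepth 100000
set_option linter.unusedVariables false
set_option Elab.async false

/-!
# Checks on the model of `Fi23` for its Sylow 2-subgroup (part M7)
-/

namespace Cfsg.Agent.Lib.Helper29.Fi23Syl

open Cfsg.Agent.Helper4.TC

theorem mulChk112 : mulRow 112 = true := by decide +kernel

theorem mulChk113 : mulRow 113 = true := by decide +kernel

theorem mulChk114 : mulRow 114 = true := by decide +kernel

theorem mulChk115 : mulRow 115 = true := by decide +kernel

theorem mulChk116 : mulRow 116 = true := by decide +kernel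

theorem mulChk117 : mulRow 117 = true := by decide +kernel

theorem mulChk118 : mulRow 118 = true := by decide +kernel

theorem mulChk119 : mulRow 119 = true := by decide +kernel

theorem mulChk120 : mulRow 120 = true := by decide +kernel

theorem mulChk121 : mulRow 121 = true := by decide +kernel

theorem mulChk122 : mulRow 122 = true := by decide +kernel

theorem mulChk123 : mulRow 123 = true := by decide +kernel

theorem mulChk124 : mulRow 124 = true := by decide +kernel

theorem mulChk125 : mulRow 125 = true := by decide +kernel

theorem mulChk126 : mulRow 126 = true := by decide +kernel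

theorem mulChk127 : mulRow 127 = true := by decide +kernel

theorem mulChkF7 : ∀ i, 112 ≤ i → i < 128 → mulRow i = true := by
  intro i h1 h2
  interval_cases i
  exacts [mulChk112, mulChk113, mulChk114, mulChk115, mulChk116, mulChk117, mulChk118, mulChk119, mulChk120, mulChk121, mulChk122, mulChk123, mulChk124, mulChk125, mulChk126, mulChk127]

end Cfsg.Agent.Lib.Helper29.Fi23Syl
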