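import Cfsg.Agent.Lib.Helper29.Fi23SylData

set_option autoImplicit false
set_option maxRecDepth 100000
set_option linter.unusedVariables false

/-!
# Numeric facts on the tables of the Sylow 2-subgroup of `Fi23`
-/

namespace Cfsg.Agent.Lib.Helper29.Fi23Syl

theorem land_lt (x m : ℕ) : Nat.land x m < m + 1 :=
  Nat.lt_succ_of_le (Nat.and_le_right (n := x) (m := m))

theorem col_lt (i k : ℕ) : col i k < 2 ^ 11 := land_lt _ 2047
theorem mulS_lt (i j : ℕ) : mulS i j < 128 := land_lt _ 127
theorem coc_lt (i j : ℕ) : coc i j < 2048 := land_lt _ 2047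
theorem conjT_lt (j i : ℕ) : conjT j i < 128 := land_lt _ 127

theorem actS_lt (i v : ℕ) : actS i v < 2048 := xorFold_lt (col i) 11 11 (fun k _ => col_lt i k) v

theorem actS_two_pow (i k : ℕ) (hk : k < 11) : actS i (2 ^ k) = col i k := by
  unfold actS
  rw [xorFold_two_pow, if_pos hk]

def distB : Bool := (List.range 128).all fun i => (List.range 128).all fun j =>
  Nat.beq i j || (List.range 11).any fun k => !Nat.beq (col i k) (col j k)

theorem distB_true : distB = true := by decide +kernel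

theorem dist_ok : ∀ i, i < 128 → ∀ j, j < 128 →
    (∀ k, k < 11 → actS i (2 ^ k) = actS j (2 ^ k)) → i = j := by
  intro i hi j hj h
  have h1 := forall_lt_of_all 128 _ (forall_lt_of_all 128 _ distB_true i hi) j hj
  rw [Bool.or_eq_true] at h1
  rcases h1 with h1 | h1
  · exact Nat.eq_of_beq_eq_true h1
  · exfalso
    rw [List.any_eq_true] at h1
    obtain ⟨k, hk, hne⟩ := h1
    rw [List.mem_range] at hk
    have := h k hk
    rw [actS_two_pow i k hk, actS_two_pow j k hk] at this
    rw [this] at hne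
    simp at hne

def invB : Bool := (List.range 128).all fun i => (List.range 128).any fun j => Nat.beq (mulS i j) 0

theorem invB_true : invB = true := by decide +kernel

theorem inv_ok : ∀ i, i < 128 → ∃ j, j < 128 ∧ mulS i j = 0 := by
  intro i hi
  have h1 := forall_lt_of_all 128 _ invB_true i hi
  rw [List.any_eq_true] at h1
  obtain ⟨j, hj, h⟩ := h1
  exact ⟨j, List.mem_range.mp hj, Nat.eq_of_beq_eq_true h⟩

def cjB : Bool := (List.range 128).all fun i => (List.range 128).all fun j =>
  Nat.beq (mulS (conjT j i) j) (mulS j i)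

theorem cjB_true : cjB = true := by decide +kernel

theorem cj_ok : ∀ i, i < 128 → ∀ j, j < 128 → conjT j i < 128 ∧ mulS (conjT j i) j = mulS j i := by
  intro i hi j hj
  exact ⟨conjT_lt j i, Nat.eq_of_beq_eq_true
    (forall_lt_of_all 128 _ (forall_lt_of_all 128 _ cjB_true i hi) j hj)⟩

def zcB : Bool := (List.range 128).all fun b => Nat.beq b 0 ||
  ((zcert b).all (fun j => Nat.blt j 128) &&
    Nat.beq ((zcert b).foldl (fun acc j => mulS acc (conjT j b)) 0) 63)

theorem zcB_true : zcB = true := by decide +kernel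

theorem zc_ok : ∀ b, b < 128 → b ≠ 0 → (∀ j ∈ zcert b, j < 128) ∧
    (zcert b).foldl (fun acc j => mulS acc (conjT j b)) 0 = 63 := by
  intro b hb hb0
  have h1 := forall_lt_of_all 128 _ zcB_true b hb
  rw [Bool.or_eq_true] at h1
  rcases h1 with h1 | h1
  · exact absurd (Nat.eq_of_beq_eq_true h1) hb0
  · rw [Bool.and_eq_true, List.all_eq_true] at h1
    refine ⟨fun j hj => ?_, Nat.eq_of_beq_eq_true h1.2⟩
    have := h1.1 j hj
    rw [Nat.blt_eq] at this
    exact this

def fixzP (v : ℕ) : Bool := Nat.beq (actS 63 v) v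

theorem fixz_count : ((List.range 2048).filter fixzP).length ≤ 128 := by decide +kernel

theorem fixz_ok : ∀ s : Finset ℕ, (∀ v ∈ s, v < 2048 ∧ actS 63 v = v) → s.card ≤ 128 := by
  intro s hs
  refine (card_le_filter_length 2048 fixzP s (fun v hv => ⟨(hs v hv).1, ?_⟩)).trans fixz_count
  unfold fixzP
  rw [(hs v hv).2]
  exact Nat.beq_refl v

def goodP (b : ℕ) : Bool := Nat.beq (mulS b b) 0 &&
  (List.range 128).all fun j => Nat.beq (mulS b (conjT j b)) (mulS (conjT j b) b)

def kP (b k : ℕ) : Bool := Nat.beq (mulS k k) 0 &&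
  (List.range 128).all fun j => Nat.beq (mulS k (conjT j b)) (mulS (conjT j b) k)

def fP (b v : ℕ) : Bool := Nat.beq (actS 63 v) v && Nat.beq (actS b v) v

def kCount (b : ℕ) : ℕ := ((List.range 128).filter (kP b)).length
def fCount (b : ℕ) : ℕ := ((List.range 2048).filter (fP b)).length

def goodB : Bool := (List.range 128).all fun b => Nat.beq b 0 || Nat.beq b 63 || !goodP b ||
  Nat.blt (kCount b * fCount b) 2048

theorem goodB_true : goodB = true := by decide +kernel

theorem good_ok : ∀ b, b < 128 → b ≠ 0 → b ≠ 63 → mulS b b = 0 →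
    (∀ j, j < 128 → mulS b (conjT j b) = mulS (conjT j b) b) →
    ∃ kb fb : ℕ, kb * fb < 2048 ∧
    (∀ s : Finset ℕ, (∀ k ∈ s, k < 128 ∧ mulS k k = 0 ∧
        ∀ j, j < 128 → mulS k (conjT j b) = mulS (conjT j b) k) → s.card ≤ kb) ∧
    (∀ s : Finset ℕ, (∀ v ∈ s, v < 2048 ∧ actS 63 v = v ∧ actS b v = v) → s.card ≤ fb) := by
  intro b hb hb0 hbz hbb hcomm
  have h1 := forall_lt_of_all 128 _ goodB_true b hb
  have hg : goodP b = true := by
    unfold goodP
    rw [Bool.and_eq_true, List.all_eq_true]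
    refine ⟨by rw [hbb]; rfl, fun j hj => ?_⟩
    rw [hcomm j (List.mem_range.mp hj)]
    exact Nat.beq_refl _
  rw [Bool.or_eq_true, Bool.or_eq_true, Bool.or_eq_true] at h1
  rcases h1 with ((h1 | h1) | h1) | h1
  · exact absurd (Nat.eq_of_beq_eq_true h1) hb0
  · exact absurd (Nat.eq_of_beq_eq_true h1) hbz
  · rw [hg] at h1
    exact absurd h1 (by decide)
  · refine ⟨kCount b, fCount b, ?_, fun s hs => ?_, fun s hs => ?_⟩
    · rw [Nat.blt_eq] at h1
      exact h1
    · refine card_le_filter_length 128 (kP b) s (fun k hk => ⟨(hs k hk).1, ?_⟩)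
      unfold kP
      rw [Bool.and_eq_true, List.all_eq_true]
      refine ⟨by rw [(hs k hk).2.1]; rfl, fun j hj => ?_⟩
      rw [(hs k hk).2.2 j (List.mem_range.mp hj)]
      exact Nat.beq_refl _
    · refine card_le_filter_length 2048 (fP b) s (fun v hv => ⟨(hs v hv).1, ?_⟩)
      unfold fP
      rw [(hs v hv).2.1, (hs v hv).2.2, Bool.and_eq_true]
      exact ⟨Nat.beq_refl v, Nat.beq_refl v⟩

end Cfsg.Agent.Lib.Helper29.Fi23Syl
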