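import Cfsg.Agent.Lib.Helper29.Fi23SylBase
import Cfsg.Agent.Lib.Helper29.Fi23SylAbs
import Cfsg.Agent.Lib.Helper29.Fi23SylNum
import Cfsg.Agent.Lib.Helper29.Fi23SylChkE
import Cfsg.Agent.Lib.Helper29.Fi23SylChkM0
import Cfsg.Agent.Lib.Helper29.Fi23SylChkM1
import Cfsg.Agent.Lib.Helper29.Fi23SylChkM2
import Cfsg.Agent.Lib.Helper29.Fi23SylChkM3
import Cfsg.Agent.Lib.Helper29.Fi23SylChkM4
import Cfsg.Agent.Lib.Helper29.Fi23SylChkM5
import Cfsg.Agent.Lib.Helper29.Fi23SylChkM6
import Cfsg.Agent.Lib.Helper29.Fi23SylChkM7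

set_option autoImplicit false
set_option maxRecDepth 100000
set_option linter.unusedVariables false
set_option linter.unusedSectionVars false
set_option linter.style.haveILetI false

/-!
# The Sylow 2-subgroup of `Fi23` and its normal elementary abelian subgroups
-/

namespace Cfsg.Agent.Lib.Helper29.Fi23Syl

open Cfsg.Agent.Helper4.TC Cfsg

/-- the eleven commuting transpositions -/
noncomputable def xg (k : ℕ) : FP := el (tw k)
/-- the transversal of `E` in the Sylow subgroup -/
noncomputable def sg (i : ℕ) : FP := el (sw i)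
/-- the elements of `E` -/
noncomputable def eg (v : ℕ) : FP := eP xg 11 v

theorem el_ewordN (n v : ℕ) : el (ewordN n v) = eP xg n v := by
  induction n with
  | zero => exact el_nil
  | succ n ih =>
    rw [ewordN, eP, el_append, ih]
    split_ifs
    · rfl
    · rw [el_nil]

theorem mem_range'_of (s n i : ℕ) (h1 : s ≤ i) (h2 : i < s + n) : i ∈ List.range' s n := by
  rw [List.mem_range'_1]
  exact ⟨h1, h2⟩

theorem xg_sq (k : ℕ) (hk : k < 11) : xg k * xg k = 1 := by
  have h := forall_lt_of_all 11 _ sqChk k hk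
  have h1 := el_eq_one_of_fixesB _ h
  unfold sqW at h1
  rw [el_append] at h1
  exact h1

theorem xg_comm (k : ℕ) (hk : k < 11) (l : ℕ) (hl : l < 11) : xg k * xg l = xg l * xg k := by
  have h := forall_lt_of_all 11 _ (forall_lt_of_all 11 _ commChk k hk) l hl
  have h1 := el_eq_one_of_fixesB _ h
  unfold commW at h1
  rw [el_append, el_append, el_append, el_invW, el_invW] at h1
  change (xg l)⁻¹ * ((xg k)⁻¹ * (xg l * xg k)) = 1 at h1
  have h2 : xg k * xg l * ((xg l)⁻¹ * ((xg k)⁻¹ * (xg l * xg k))) = xg l * xg k := by group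
  rw [h1, mul_one] at h2
  exact h2

theorem conjRow_true (i : ℕ) (hi : i < 128) : conjRow i = true := by
  have h : ∀ s, ∀ hc : ((List.range' s 16).all conjRow) = true, s ≤ i → i < s + 16 →
      conjRow i = true := by
    intro s hc h1 h2
    rw [List.all_eq_true] at hc
    exact hc i (mem_range'_of s 16 i h1 h2)
  by_cases h0 : i < 16
  · exact h 0 conjChk0 (by omega) (by omega)
  by_cases h1 : i < 32
  · exact h 16 conjChk1 (by omega) (by omega)
  by_cases h2 : i < 48
  · exact h 32 conjChk2 (by omega) (by omega)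
  by_cases h3 : i < 64
  · exact h 48 conjChk3 (by omega) (by omega)
  by_cases h4 : i < 80
  · exact h 64 conjChk4 (by omega) (by omega)
  by_cases h5 : i < 96
  · exact h 80 conjChk5 (by omega) (by omega)
  by_cases h6 : i < 112
  · exact h 96 conjChk6 (by omega) (by omega)
  · exact h 112 conjChk7 (by omega) (by omega)

theorem mulRow_true (i : ℕ) (hi : i < 128) : mulRow i = true := by
  by_cases h0 : i < 16
  · exact mulChkF0 i (by omega) (by omega)
  by_cases h1 : i < 32
  · exact mulChkF1 i (by omega) (by omega)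
  by_cases h2 : i < 48
  · exact mulChkF2 i (by omega) (by omega)
  by_cases h3 : i < 64
  · exact mulChkF3 i (by omega) (by omega)
  by_cases h4 : i < 80
  · exact mulChkF4 i (by omega) (by omega)
  by_cases h5 : i < 96
  · exact mulChkF5 i (by omega) (by omega)
  by_cases h6 : i < 112
  · exact mulChkF6 i (by omega) (by omega)
  · exact mulChkF7 i (by omega) (by omega)

theorem injP_true (v : ℕ) (hv : v < 2048) : injP v = true := by
  have h : ∀ s, ∀ hc : ((List.range' s 512).all injP) = true, s ≤ v → v < s + 512 →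
      injP v = true := by
    intro s hc h1 h2
    rw [List.all_eq_true] at hc
    exact hc v (mem_range'_of s 512 v h1 h2)
  by_cases h0 : v < 512
  · exact h 0 injChk0 (by omega) (by omega)
  by_cases h1 : v < 1024
  · exact h 512 injChk1 (by omega) (by omega)
  by_cases h2 : v < 1536
  · exact h 1024 injChk2 (by omega) (by omega)
  · exact h 1536 injChk3 (by omega) (by omega)

theorem conj_gen (i : ℕ) (hi : i < 128) (k : ℕ) (hk : k < 11) :
    sg i * xg k * (sg i)⁻¹ = eP xg 11 (col i k) := by
  have h := forall_lt_of_all 11 _ (conjRow_true i hi) k hk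
  have h1 := el_eq_one_of_fixesB _ h
  unfold conjW at h1
  rw [el_append, el_append, el_append, el_invW, el_invW, el_ewordN] at h1
  change (eP xg 11 (col i k))⁻¹ * (sg i * (xg k * (sg i)⁻¹)) = 1 at h1
  have h2 : eP xg 11 (col i k) * ((eP xg 11 (col i k))⁻¹ * (sg i * (xg k * (sg i)⁻¹))) =
      sg i * xg k * (sg i)⁻¹ := by group
  rw [h1, mul_one] at h2
  exact h2.symm

theorem conj_all (i : ℕ) (hi : i < 128) (v : ℕ) :
    sg i * eg v * (sg i)⁻¹ = eg (actS i v) :=
  eP_conj xg 11 xg_sq xg_comm (sg i) (col i) 11 (conj_gen i hi) v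

theorem mul_all (i : ℕ) (hi : i < 128) (j : ℕ) (hj : j < 128) :
    sg i * sg j = eg (coc i j) * sg (mulS i j) := by
  have h := forall_lt_of_all 128 _ (mulRow_true i hi) j hj
  have h1 := el_eq_one_of_fixesB _ h
  unfold mulW at h1
  rw [el_append, el_append, el_append, el_invW, el_invW, el_ewordN] at h1
  change (sg (mulS i j))⁻¹ * ((eg (coc i j))⁻¹ * (sg i * sg j)) = 1 at h1
  have h2 : eg (coc i j) * sg (mulS i j) *
      ((sg (mulS i j))⁻¹ * ((eg (coc i j))⁻¹ * (sg i * sg j))) = sg i * sg j := by group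
  rw [h1, mul_one] at h2
  exact h2.symm

theorem eg_inj (v : ℕ) (hv : v < 2048) (h : eg v = 1) : v = 0 := by
  have h1 := injP_true v hv
  unfold injP at h1
  rw [Bool.or_eq_true] at h1
  rcases h1 with h1 | h1
  · exact Nat.eq_of_beq_eq_true h1
  · exfalso
    rw [Bool.and_eq_true, Bool.or_eq_true] at h1
    obtain ⟨hw, h2⟩ := h1
    have he : el (ewordN 11 v) = 1 := by rw [el_ewordN]; exact h
    rcases h2 with h2 | h2
    · refine el_ne_one_of_moves _ hw 14823 (by norm_num) ?_ he
      intro h3
      rw [h3] at h2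
      simp at h2
    · refine el_ne_one_of_moves _ hw 28368 (by norm_num) ?_ he
      intro h3
      rw [h3] at h2
      simp at h2

theorem sg_zero : sg 0 = 1 := by
  have : sw 0 = [] := by decide
  unfold sg
  rw [this, el_nil]

theorem hyp : Hyp eg sg actS mulS coc conjT 63 zcert where
  e0 := eP_zero xg 11
  emul := fun u _ v _ => eP_mul xg 11 xg_sq xg_comm u v
  einj := eg_inj
  s0 := sg_zero
  conj := fun i hi v _ => conj_all i hi v
  act_lt := fun i _ v _ => actS_lt i v
  mul := mul_all
  mul_lt := fun i _ j _ => mulS_lt i j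
  coc_lt := fun i _ j _ => coc_lt i j
  dist := dist_ok
  inv := inv_ok
  cj := cj_ok
  z_lt := by norm_num
  zc := zc_ok
  fixz := fixz_ok
  good := good_ok

/-- the Sylow 2-subgroups of `Fi23` have a unique normal elementary abelian subgroup of order
`2^11` and none larger -/
theorem main (T : Sylow 2 FP) :
    (∀ A : Subgroup FP, A ≤ T → (A.subgroupOf T).Normal → IsElementaryAbelian 2 A →
      Nat.card A ≤ 2 ^ 11) ∧
    ∃! A : Subgroup FP, A ≤ T ∧ (A.subgroupOf T).Normal ∧ IsElementaryAbelian 2 A ∧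
      Nat.card A = 2 ^ 11 :=
  main_sylow hyp 15600091832325 (by norm_num) (by rw [card_FP]; norm_num) T

end Cfsg.Agent.Lib.Helper29.Fi23Syl
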