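import Mathlib

/-!
# Relative multiple transitivity for subgroups of `Equiv.Perm α` (helper29)

`Trans H S m`: the subgroup `H` of `Equiv.Perm α` maps any duplicate-free list of at most `m` points
outside `S` to any other such list of the same length.  Lemmas to pass to point stabilisers and back,
conversions from/to Mathlib's `MulAction.IsMultiplyPretransitive`, and Jordan's theorem on normal
subgroups of multiply transitive groups.
-/

set_option autoImplicit false

namespace Cfsg.Agent.Helper29.MultTrans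

variable {α : Type*}

/-- `H` fixes `S` pointwise -/
def FixesOn (H : Subgroup (Equiv.Perm α)) (S : Set α) : Prop := ∀ h ∈ H, ∀ s ∈ S, h s = s

/-- `m`-fold transitivity off `S` (for lists of length at most `m`) -/
def Trans (H : Subgroup (Equiv.Perm α)) (S : Set α) (m : ℕ) : Prop :=
  ∀ l l' : List α, l.length = l'.length → l.length ≤ m → l.Nodup → l'.Nodup →
    (∀ x ∈ l, x ∉ S) → (∀ x ∈ l', x ∉ S) → ∃ h ∈ H, l.map h = l'

/-- point stabiliser inside `H` -/
def pstab (H : Subgroup (Equiv.Perm α)) (a : α) : Subgroup (Equiv.Perm α) :=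
  H ⊓ MulAction.stabilizer (Equiv.Perm α) a

theorem mem_pstab {H : Subgroup (Equiv.Perm α)} {a : α} {g : Equiv.Perm α} :
    g ∈ pstab H a ↔ g ∈ H ∧ g a = a := by
  unfold pstab
  rw [Subgroup.mem_inf, MulAction.mem_stabilizer_iff]
  rfl

theorem pstab_le (H : Subgroup (Equiv.Perm α)) (a : α) : pstab H a ≤ H := inf_le_left

theorem Trans.mono {H : Subgroup (Equiv.Perm α)} {S : Set α} {m j : ℕ} (h : Trans H S m) (hj : j ≤ m) :
    Trans H S j :=
  fun l l' hl hlen hn hn' hS hS' => h l l' hl (hlen.trans hj) hn hn' hS hS'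

theorem Trans.one {H : Subgroup (Equiv.Perm α)} {S : Set α} {m : ℕ} (h : Trans H S m) (hm : 1 ≤ m)
    {x y : α} (hx : x ∉ S) (hy : y ∉ S) : ∃ g ∈ H, g x = y := by
  obtain ⟨g, hg, hmap⟩ := h [x] [y] rfl (by simpa using hm) (List.nodup_singleton x) (List.nodup_singleton y)
    (by simpa using hx) (by simpa using hy)
  refine ⟨g, hg, ?_⟩
  simpa using hmap

theorem Trans.two {H : Subgroup (Equiv.Perm α)} {S : Set α} {m : ℕ} (h : Trans H S m) (hm : 2 ≤ m)
    {x x' y y' : α} (hxx' : x ≠ x') (hyy' : y ≠ y') (hx : x ∉ S) (hx' : x' ∉ S) (hy : y ∉ S) (hy' : y' ∉ S) :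
    ∃ g ∈ H, g x = y ∧ g x' = y' := by
  obtain ⟨g, hg, hmap⟩ := h [x, x'] [y, y'] rfl (by simpa using hm) (by simpa using hxx') (by simpa using hyy')
    (by simp [hx, hx']) (by simp [hy, hy'])
  refine ⟨g, hg, ?_⟩
  simpa using hmap

theorem FixesOn.stab {H : Subgroup (Equiv.Perm α)} {S : Set α} (h : FixesOn H S) (a : α) :
    FixesOn (pstab H a) (insert a S) := by
  intro g hg s hs
  rw [mem_pstab] at hg
  rcases hs with rfl | hs
  · exact hg.2
  · exact h g hg.1 s hs

theorem FixesOn.not_mem {H : Subgroup (Equiv.Perm α)} {S : Set α} (h : FixesOn H S) {g : Equiv.Perm α}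
    (hg : g ∈ H) {x : α} (hx : x ∉ S) : g x ∉ S := by
  intro hgx
  have h1 := h g⁻¹ (H.inv_mem hg) (g x) hgx
  rw [Equiv.Perm.inv_def, Equiv.symm_apply_apply] at h1
  exact hx (h1 ▸ hgx)

/-- passing to a point stabiliser -/
theorem Trans.stab {H : Subgroup (Equiv.Perm α)} {S : Set α} {m : ℕ} (h : Trans H S (m + 1)) {a : α}
    (ha : a ∉ S) : Trans (pstab H a) (insert a S) m := by
  intro l l' hl hlen hn hn' hS hS'
  have h1 : ∀ x ∈ l, x ≠ a ∧ x ∉ S := fun x hx => by
    have := hS x hx
    rw [Set.mem_insert_iff, not_or] at this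
    exact this
  have h1' : ∀ x ∈ l', x ≠ a ∧ x ∉ S := fun x hx => by
    have := hS' x hx
    rw [Set.mem_insert_iff, not_or] at this
    exact this
  obtain ⟨g, hg, hmap⟩ := h (a :: l) (a :: l') (by simp [hl]) (by simpa using hlen)
    (List.nodup_cons.mpr ⟨fun hmem => (h1 a hmem).1 rfl, hn⟩)
    (List.nodup_cons.mpr ⟨fun hmem => (h1' a hmem).1 rfl, hn'⟩)
    (by
      intro x hx
      rcases List.mem_cons.mp hx with rfl | hx
      · exact ha
      · exact (h1 x hx).2)
    (by
      intro x hx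
      rcases List.mem_cons.mp hx with rfl | hx
      · exact ha
      · exact (h1' x hx).2)
  rw [List.map_cons, List.cons.injEq] at hmap
  exact ⟨g, mem_pstab.mpr ⟨hg, hmap.1⟩, hmap.2⟩

/-- from a point stabiliser back to the group -/
theorem Trans.of_stab {H : Subgroup (Equiv.Perm α)} {S : Set α} {m : ℕ} (hfix : FixesOn H S) {a : α}
    (ha : a ∉ S) (h1 : Trans H S 1) (h : Trans (pstab H a) (insert a S) m) : Trans H S (m + 1) := by
  intro l l' hl hlen hn hn' hS hS'
  cases l with
  | nil =>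
    have : l' = [] := List.length_eq_zero_iff.mp (by rw [← hl]; rfl)
    exact ⟨1, H.one_mem, by rw [this]; rfl⟩
  | cons x t =>
    cases l' with
    | nil => simp at hl
    | cons y t' =>
      have hx : x ∉ S := hS x (List.mem_cons_self)
      have hy : y ∉ S := hS' y (List.mem_cons_self)
      obtain ⟨g1, hg1, hg1x⟩ := h1.one le_rfl hx ha
      obtain ⟨g2, hg2, hg2y⟩ := h1.one le_rfl hy ha
      rw [List.nodup_cons] at hn hn'
      have hlen' : t.length = t'.length := by simpa using hl
      have key : ∀ (g : Equiv.Perm α) (z : α) (s : List α), g ∈ H → g z = a → z ∉ s → s.Nodup →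
          (∀ w ∈ s, w ∉ S) → (s.map g).Nodup ∧ ∀ w ∈ s.map g, w ∉ insert a S := by
        intro g z s hg hgz hzs hs hsS
        refine ⟨hs.map g.injective, ?_⟩
        intro w hw
        obtain ⟨v, hv, rfl⟩ := List.mem_map.mp hw
        rw [Set.mem_insert_iff, not_or]
        refine ⟨?_, hfix.not_mem hg (hsS v hv)⟩
        intro hva
        have : v = z := g.injective (hva.trans hgz.symm)
        exact hzs (this ▸ hv)
      obtain ⟨k1, k2⟩ := key g1 x t hg1 hg1x hn.1 hn.2 (fun w hw => hS w (List.mem_cons_of_mem _ hw))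
      obtain ⟨k1', k2'⟩ := key g2 y t' hg2 hg2y hn'.1 hn'.2 (fun w hw => hS' w (List.mem_cons_of_mem _ hw))
      obtain ⟨g, hg, hmap⟩ := h (t.map g1) (t'.map g2) (by simp [hlen'])
        (by simpa using hlen) k1 k1' k2 k2'
      rw [mem_pstab] at hg
      refine ⟨g2⁻¹ * g * g1, H.mul_mem (H.mul_mem (H.inv_mem hg2) hg.1) hg1, ?_⟩
      rw [List.map_cons]
      congr 1
      · rw [Equiv.Perm.mul_apply, Equiv.Perm.mul_apply, hg1x, hg.2, ← hg2y, Equiv.Perm.inv_def,
          Equiv.symm_apply_apply]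
      · have : t.map (g2⁻¹ * g * g1) = (((t.map g1).map g).map (fun w => g2⁻¹ w)) := by
          rw [List.map_map, List.map_map]
          rfl
        rw [this, hmap, List.map_map]
        conv_rhs => rw [← List.map_id t']
        apply List.map_congr_left
        intro w _
        simp


/-! ### counting points outside `S` -/

theorem exists_outside [Finite α] {S : Set α} (F : Finset α) (hF : F.card < (Sᶜ).ncard) :
    ∃ z, z ∉ S ∧ z ∉ F := by
  have h1 : ((F : Set α)).ncard < (Sᶜ).ncard := by rwa [Set.ncard_coe_finset]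
  obtain ⟨e, he, he'⟩ := Set.exists_mem_notMem_of_ncard_lt_ncard h1 (Set.toFinite _)
  exact ⟨e, he, by simpa using he'⟩

theorem ncard_compl_insert [Finite α] {S : Set α} {a : α} (ha : a ∉ S) :
    ((insert a S)ᶜ).ncard + 1 = (Sᶜ).ncard := by
  have h1 : (insert a S)ᶜ = Sᶜ \ {a} := by
    ext x
    simp only [Set.mem_compl_iff, Set.mem_insert_iff, not_or, Set.mem_sdiff, Set.mem_singleton_iff]
    tauto
  rw [h1]
  exact Set.ncard_sdiff_singleton_add_one (Set.mem_compl ha) (Set.toFinite _)

/-! ### normal subgroups -/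

/-- `N` is normalised by `G` -/
def NormalizedBy (G N : Subgroup (Equiv.Perm α)) : Prop := ∀ g ∈ G, ∀ n ∈ N, g * n * g⁻¹ ∈ N

/-- semiregular off `S` -/
def SemiReg (N : Subgroup (Equiv.Perm α)) (S : Set α) : Prop := ∀ n ∈ N, ∀ x, x ∉ S → n x = x → n = 1

theorem FixesOn.mono {G N : Subgroup (Equiv.Perm α)} {S : Set α} (h : FixesOn G S) (hNG : N ≤ G) :
    FixesOn N S := fun n hn s hs => h n (hNG hn) s hs

theorem NormalizedBy.pstab {G N : Subgroup (Equiv.Perm α)} (h : NormalizedBy G N) (a : α) :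
    NormalizedBy (pstab G a) (pstab N a) := by
  intro g hg n hn
  rw [mem_pstab] at hg hn ⊢
  refine ⟨h g hg.1 n hn.1, ?_⟩
  have hginv : g⁻¹ a = a := by
    rw [Equiv.Perm.inv_def, Equiv.symm_apply_eq, hg.2]
  rw [Equiv.Perm.mul_apply, Equiv.Perm.mul_apply, hginv, hn.2, hg.2]

theorem NormalizedBy.mono_left {G G' N : Subgroup (Equiv.Perm α)} (h : NormalizedBy G N) (hG : G' ≤ G) :
    NormalizedBy G' N := fun g hg n hn => h g (hG hg) n hn

theorem pstab_mono {G N : Subgroup (Equiv.Perm α)} (h : N ≤ G) (a : α) : pstab N a ≤ pstab G a := by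
  intro g hg
  rw [mem_pstab] at hg ⊢
  exact ⟨h hg.1, hg.2⟩

/-- a nontrivial normal subgroup of a group that is 2-transitive off `S` is transitive off `S` -/
theorem trans_one_of_normal {G N : Subgroup (Equiv.Perm α)} {S : Set α} (hfix : FixesOn G S) (hNG : N ≤ G)
    (hnorm : NormalizedBy G N) (hN : N ≠ ⊥) (h2 : Trans G S 2) : Trans N S 1 := by
  obtain ⟨n, hn1⟩ := (Subgroup.ne_bot_iff_exists_ne_one).mp hN
  have hn1' : (n : Equiv.Perm α) ≠ 1 := fun h => hn1 (Subtype.ext h)
  obtain ⟨x, hx⟩ : ∃ x, (n : Equiv.Perm α) x ≠ x := by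
    by_contra hcon
    push Not at hcon
    exact hn1' (Equiv.ext hcon)
  have hxS : x ∉ S := fun hxS => hx (hfix _ (hNG n.2) x hxS)
  have hx'S : (n : Equiv.Perm α) x ∉ S := hfix.not_mem (hNG n.2) hxS
  intro l l' hl hlen hnd hnd' hS hS'
  match l, l', hl, hlen with
  | [], [], _, _ => exact ⟨1, N.one_mem, rfl⟩
  | [y], [y'], _, _ =>
    by_cases hyy' : y = y'
    · exact ⟨1, N.one_mem, by simp [hyy']⟩
    · have hy : y ∉ S := hS y (by simp)
      have hy' : y' ∉ S := hS' y' (by simp)
      obtain ⟨g, hg, hgx, hgx'⟩ := h2.two le_rfl (Ne.symm hx) hyy' hxS hx'S hy hy'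
      refine ⟨g * n * g⁻¹, hnorm g hg n n.2, ?_⟩
      have : g⁻¹ y = x := by rw [Equiv.Perm.inv_def, Equiv.symm_apply_eq, hgx]
      simp only [List.map_cons, List.map_nil, Equiv.Perm.mul_apply, this, hgx']
  | [], _ :: _, h, _ => simp at h
  | _ :: _, [], h, _ => simp at h
  | _ :: _ :: _, _, _, h => simp at h
  | [_], _ :: _ :: _, h, _ => simp at h

theorem semiReg_of_pstab_eq_bot {N : Subgroup (Equiv.Perm α)} {S : Set α} {a : α}
    (h1 : Trans N S 1) (ha : a ∉ S) (hbot : pstab N a = ⊥) : SemiReg N S := by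
  intro n hn x hx hnx
  obtain ⟨m, hm, hma⟩ := h1.one le_rfl ha hx
  have h2 : m⁻¹ * n * m ∈ pstab N a := by
    rw [mem_pstab]
    refine ⟨N.mul_mem (N.mul_mem (N.inv_mem hm) hn) hm, ?_⟩
    rw [Equiv.Perm.mul_apply, Equiv.Perm.mul_apply, hma, hnx, ← hma, Equiv.Perm.inv_def,
      Equiv.symm_apply_apply]
  rw [hbot, Subgroup.mem_bot] at h2
  have : n = m * (m⁻¹ * n * m) * m⁻¹ := by group
  rw [this, h2]
  group

/-- an element normalising a semiregular `N`, fixing `a` and `x a`, commutes with `x ∈ N` -/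
theorem commute_of_fix {N : Subgroup (Equiv.Perm α)} {S : Set α} (hsemi : SemiReg N S) {a : α} (ha : a ∉ S)
    {g x : Equiv.Perm α} (hgN : g * x * g⁻¹ ∈ N) (hx : x ∈ N) (hga : g a = a) (hgxa : g (x a) = x a) :
    g * x = x * g := by
  have hginv : g⁻¹ a = a := by rw [Equiv.Perm.inv_def, Equiv.symm_apply_eq, hga]
  have h1 : x⁻¹ * (g * x * g⁻¹) = 1 := by
    apply hsemi _ (N.mul_mem (N.inv_mem hx) hgN) a ha
    simp only [Equiv.Perm.mul_apply, hginv, hgxa]
    rw [Equiv.Perm.inv_def, Equiv.symm_apply_apply]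
  have h2 : g * x * g⁻¹ = x := by
    have := congrArg (fun t => x * t) h1
    simpa using this
  calc g * x = (g * x * g⁻¹) * g := by group
    _ = x * g := by rw [h2]


/-- the regular case of Jordan's theorem -/
theorem regular_case [Finite α] {G N : Subgroup (Equiv.Perm α)} {S : Set α} {k : ℕ} (hk : 2 ≤ k)
    (hfix : FixesOn G S) (hNG : N ≤ G) (hnorm : NormalizedBy G N) {a : α} (ha : a ∉ S)
    (hN1 : Trans N S 1) (hsemi : SemiReg N S) (hGa : Trans (pstab G a) (insert a S) k)
    (hdeg : k + 1 < (Sᶜ).ncard) : k = 2 ∧ ∀ n ∈ N, n * n = 1 := by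
  classical
  have hfixa := hfix.stab a
  -- elements of G_a fixing x a commute with x
  have hcomm : ∀ g ∈ pstab G a, ∀ x ∈ N, g (x a) = x a → g * x = x * g := by
    intro g hg x hx hgx
    rw [mem_pstab] at hg
    exact commute_of_fix hsemi ha (hnorm g hg.1 x hx) hx hg.2 hgx
  have hmoved : ∀ x ∈ N, x ≠ 1 → x a ≠ a := fun x hx hx1 h => hx1 (hsemi x hx a ha h)
  have hnotS : ∀ x ∈ N, x a ∉ S := fun x hx => hfix.not_mem (hNG hx) ha
  -- exponent two
  have hexp : ∀ x ∈ N, x * x = 1 := by
    intro x hx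
    by_cases hx1 : x = 1
    · rw [hx1, one_mul]
    set p := x a with hp
    set q := x⁻¹ a with hq
    have hpa : p ≠ a := hmoved x hx hx1
    have hpS : p ∉ S := hnotS x hx
    have hqa : q ≠ a := hmoved x⁻¹ (N.inv_mem hx) (fun h => hx1 (inv_eq_one.mp h))
    have hqS : q ∉ S := hnotS x⁻¹ (N.inv_mem hx)
    by_cases hqp : q = p
    · apply hsemi _ (N.mul_mem hx hx) a ha
      rw [Equiv.Perm.mul_apply, ← hp, ← hqp, hq, Equiv.Perm.inv_def, Equiv.apply_symm_apply]
    exfalso
    have hpS' : p ∉ insert a S := by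
      rw [Set.mem_insert_iff, not_or]; exact ⟨hpa, hpS⟩
    have hT : Trans (pstab (pstab G a) p) (insert p (insert a S)) (k - 1) := by
      have : Trans (pstab G a) (insert a S) ((k - 1) + 1) := by
        rw [Nat.sub_add_cancel (by omega)]; exact hGa
      exact this.stab hpS'
    obtain ⟨q', hq'S, hq'F⟩ := exists_outside (S := S) ({a, p, q} : Finset α)
      (lt_of_le_of_lt Finset.card_le_three (by omega))
    simp only [Finset.mem_insert, Finset.mem_singleton, not_or] at hq'F
    have hqT : q ∉ insert p (insert a S) := by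
      simp only [Set.mem_insert_iff, not_or]; exact ⟨hqp, hqa, hqS⟩
    have hq'T : q' ∉ insert p (insert a S) := by
      simp only [Set.mem_insert_iff, not_or]; exact ⟨hq'F.2.1, hq'F.1, hq'S⟩
    obtain ⟨g, hg, hgq⟩ := hT.one (by omega) hqT hq'T
    rw [mem_pstab] at hg
    have hc := hcomm g hg.1 x hx hg.2
    have hga : g a = a := (mem_pstab.mp hg.1).2
    -- g commutes with x⁻¹ too, so fixes q
    have hc' : g * x⁻¹ = x⁻¹ * g := by
      calc g * x⁻¹ = x⁻¹ * (x * g) * x⁻¹ := by group
        _ = x⁻¹ * (g * x) * x⁻¹ := by rw [hc]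
        _ = x⁻¹ * g := by group
    have : g q = q := by
      rw [hq, ← Equiv.Perm.mul_apply, hc', Equiv.Perm.mul_apply, hga]
    exact hq'F.2.2 (by rw [← hgq, this])
  refine ⟨?_, hexp⟩
  by_contra hk2
  have hk3 : 3 ≤ k := by omega
  -- two distinct points p q outside S ∪ {a}
  obtain ⟨p, hpS, hpF⟩ := exists_outside (S := S) ({a} : Finset α) (by rw [Finset.card_singleton]; omega)
  rw [Finset.mem_singleton] at hpF
  obtain ⟨q, hqS, hqF⟩ := exists_outside (S := S) ({a, p} : Finset α)
    (lt_of_le_of_lt Finset.card_le_two (by omega))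
  simp only [Finset.mem_insert, Finset.mem_singleton, not_or] at hqF
  obtain ⟨x, hx, hxa⟩ := hN1.one le_rfl ha hpS
  obtain ⟨y, hy, hya⟩ := hN1.one le_rfl ha hqS
  set r := x q with hr
  have hxinv : x⁻¹ = x := inv_eq_of_mul_eq_one_right (hexp x hx)
  have hrS : r ∉ S := hfix.not_mem (hNG hx) hqS
  have hra : r ≠ a := by
    intro h
    have : q = x⁻¹ a := by rw [← h, hr, Equiv.Perm.inv_def, Equiv.symm_apply_apply]
    rw [hxinv, hxa] at this
    exact hqF.2 this
  have hrp : r ≠ p := by
    intro h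
    rw [hr, ← hxa] at h
    exact hqF.1 (x.injective h)
  have hrq : r ≠ q := by
    intro h
    have hx1 : x = 1 := hsemi x hx q hqS h
    rw [hx1] at hxa
    exact hpF hxa.symm
  have hpS' : p ∉ insert a S := by
    rw [Set.mem_insert_iff, not_or]; exact ⟨hpF, hpS⟩
  have hqS' : q ∉ insert p (insert a S) := by
    simp only [Set.mem_insert_iff, not_or]; exact ⟨hqF.2, hqF.1, hqS⟩
  have hT1 : Trans (pstab (pstab G a) p) (insert p (insert a S)) (k - 1) := by
    have : Trans (pstab G a) (insert a S) ((k - 1) + 1) := by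
      rw [Nat.sub_add_cancel (by omega)]; exact hGa
    exact this.stab hpS'
  have hT2 : Trans (pstab (pstab (pstab G a) p) q) (insert q (insert p (insert a S))) (k - 2) := by
    have : Trans (pstab (pstab G a) p) (insert p (insert a S)) ((k - 2) + 1) := by
      rw [show k - 2 + 1 = k - 1 by omega]; exact hT1
    exact this.stab hqS'
  obtain ⟨r', hr'S, hr'F⟩ := exists_outside (S := S) ({a, p, q, r} : Finset α)
    (lt_of_le_of_lt Finset.card_le_four (by omega))
  simp only [Finset.mem_insert, Finset.mem_singleton, not_or] at hr'F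
  have hrT : r ∉ insert q (insert p (insert a S)) := by
    simp only [Set.mem_insert_iff, not_or]; exact ⟨hrq, hrp, hra, hrS⟩
  have hr'T : r' ∉ insert q (insert p (insert a S)) := by
    simp only [Set.mem_insert_iff, not_or]; exact ⟨hr'F.2.2.1, hr'F.2.1, hr'F.1, hr'S⟩
  obtain ⟨g, hg, hgr⟩ := hT2.one (by omega) hrT hr'T
  rw [mem_pstab] at hg
  have hg2 := mem_pstab.mp hg.1
  have hcx := hcomm g hg2.1 x hx (by rw [hxa]; exact hg2.2)
  have : g r = r := by
    rw [hr, ← Equiv.Perm.mul_apply, hcx, Equiv.Perm.mul_apply, hg.2]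
  exact hr'F.2.2.2 (by rw [← hgr, this])

/-- the sharply 2-transitive case is impossible inside a 4-transitive group -/
theorem sharp_case [Finite α] {G N : Subgroup (Equiv.Perm α)} {S : Set α}
    (hfix : FixesOn G S) (hNG : N ≤ G) (hnorm : NormalizedBy G N) {a : α} (ha : a ∉ S)
    (hG : Trans G S 4) (hdeg : 4 < (Sᶜ).ncard) (hN2 : Trans N S 2)
    (hsharp : ∀ n ∈ N, n a = a → ∀ x, x ∉ S → x ≠ a → n x = x → n = 1) : False := by
  classical
  -- general sharpness
  have hsh : ∀ n ∈ N, ∀ c c', c ∉ S → c' ∉ S → c ≠ c' → n c = c → n c' = c' → n = 1 := by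
    intro n hn c c' hc hc' hcc' hnc hnc'
    obtain ⟨m, hm, hmc⟩ := hN2.one (by norm_num) hc ha
    have h1 : m * n * m⁻¹ = 1 := by
      apply hsharp _ (N.mul_mem (N.mul_mem hm hn) (N.inv_mem hm)) _ (m c') (hfix.not_mem (hNG hm) hc')
      · intro h; rw [← hmc] at h; exact hcc' (m.injective h).symm
      · simp only [Equiv.Perm.mul_apply, Equiv.Perm.inv_def, Equiv.symm_apply_apply, hnc']
      · have : m⁻¹ a = c := by rw [Equiv.Perm.inv_def, Equiv.symm_apply_eq, hmc]
        simp only [Equiv.Perm.mul_apply, this, hnc, hmc]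
    have : n = m⁻¹ * (m * n * m⁻¹) * m := by group
    rw [this, h1]; group
  obtain ⟨b, hbS, hbF⟩ := exists_outside (S := S) ({a} : Finset α) (by rw [Finset.card_singleton]; omega)
  rw [Finset.mem_singleton] at hbF
  obtain ⟨s, hs, hsa, hsb⟩ := hN2.two le_rfl (Ne.symm hbF) hbF ha hbS hbS ha
  have hsinva : s⁻¹ a = b := by rw [Equiv.Perm.inv_def, Equiv.symm_apply_eq, hsb]
  have hsinvb : s⁻¹ b = a := by rw [Equiv.Perm.inv_def, Equiv.symm_apply_eq, hsa]
  have hbS' : b ∉ insert a S := by
    rw [Set.mem_insert_iff, not_or]; exact ⟨hbF, hbS⟩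
  have hTab : Trans (pstab (pstab G a) b) (insert b (insert a S)) 2 := (hG.stab ha).stab hbS'
  -- elements of G_ab commute with s
  have hcomm : ∀ g ∈ pstab (pstab G a) b, g * s = s * g := by
    intro g hg
    rw [mem_pstab] at hg
    have hg1 := mem_pstab.mp hg.1
    have hga := hg1.2
    have hgb := hg.2
    have hginva : g⁻¹ a = a := by rw [Equiv.Perm.inv_def, Equiv.symm_apply_eq, hga]
    have hginvb : g⁻¹ b = b := by rw [Equiv.Perm.inv_def, Equiv.symm_apply_eq, hgb]
    have h1 : s⁻¹ * (g * s * g⁻¹) = 1 := by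
      apply hsh _ (N.mul_mem (N.inv_mem hs) (hnorm g hg1.1 s hs)) a b ha hbS (Ne.symm hbF)
      · simp only [Equiv.Perm.mul_apply, hginva, hsa, hgb, hsinvb]
      · simp only [Equiv.Perm.mul_apply, hginvb, hsb, hga, hsinva]
    have h2 : g * s * g⁻¹ = s := by
      have := congrArg (fun t => s * t) h1
      simpa using this
    calc g * s = (g * s * g⁻¹) * g := by group
      _ = s * g := by rw [h2]
  obtain ⟨c, hcS, hcF⟩ := exists_outside (S := S) ({a, b} : Finset α)
    (lt_of_le_of_lt Finset.card_le_two (by omega))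
  simp only [Finset.mem_insert, Finset.mem_singleton, not_or] at hcF
  have hcT : c ∉ insert b (insert a S) := by
    simp only [Set.mem_insert_iff, not_or]; exact ⟨hcF.2, hcF.1, hcS⟩
  by_cases hsc : s c = c
  · obtain ⟨c', hc'S, hc'F⟩ := exists_outside (S := S) ({a, b, c} : Finset α)
      (lt_of_le_of_lt Finset.card_le_three (by omega))
    simp only [Finset.mem_insert, Finset.mem_singleton, not_or] at hc'F
    have hc'T : c' ∉ insert b (insert a S) := by
      simp only [Set.mem_insert_iff, not_or]; exact ⟨hc'F.2.1, hc'F.1, hc'S⟩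
    obtain ⟨g, hg, hgc⟩ := hTab.one (by norm_num) hcT hc'T
    have hsc' : s c' = c' := by
      rw [← hgc, ← Equiv.Perm.mul_apply, ← hcomm g hg, Equiv.Perm.mul_apply, hsc]
    have hs1 := hsh s hs c c' hcS hc'S (Ne.symm hc'F.2.2) hsc hsc'
    rw [hs1] at hsa
    exact hbF hsa.symm
  · set d := s c with hd
    have hdS : d ∉ S := hfix.not_mem (hNG hs) hcS
    have hda : d ≠ a := by
      intro h; rw [hd, ← hsb] at h; exact hcF.2 (s.injective h)
    have hdb : d ≠ b := by
      intro h; rw [hd, ← hsa] at h; exact hcF.1 (s.injective h)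
    have hTabc : Trans (pstab (pstab (pstab G a) b) c) (insert c (insert b (insert a S))) 1 := hTab.stab hcT
    obtain ⟨d', hd'S, hd'F⟩ := exists_outside (S := S) ({a, b, c, d} : Finset α)
      (lt_of_le_of_lt Finset.card_le_four (by omega))
    simp only [Finset.mem_insert, Finset.mem_singleton, not_or] at hd'F
    have hdT : d ∉ insert c (insert b (insert a S)) := by
      simp only [Set.mem_insert_iff, not_or]; exact ⟨hsc, hdb, hda, hdS⟩
    have hd'T : d' ∉ insert c (insert b (insert a S)) := by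
      simp only [Set.mem_insert_iff, not_or]; exact ⟨hd'F.2.2.1, hd'F.2.1, hd'F.1, hd'S⟩
    obtain ⟨g, hg, hgd⟩ := hTabc.one le_rfl hdT hd'T
    rw [mem_pstab] at hg
    have : g d = d := by
      rw [hd, ← Equiv.Perm.mul_apply, hcomm g hg.1, Equiv.Perm.mul_apply, hg.2]
    exact hd'F.2.2.2 (by rw [← hgd, this])


/-- **Jordan's theorem** on normal subgroups of multiply transitive groups, relative version. -/
theorem jordan [Finite α] (k : ℕ) (hk : 2 ≤ k) :
    ∀ (G N : Subgroup (Equiv.Perm α)) (S : Set α), FixesOn G S → N ≤ G → NormalizedBy G N → N ≠ ⊥ →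
      Trans G S k → k < (Sᶜ).ncard →
      Trans N S (k - 1) ∨ (k = 3 ∧ SemiReg N S ∧ ∀ n ∈ N, n * n = 1) := by
  induction k, hk using Nat.le_induction with
  | base =>
    intro G N S hfix hNG hnorm hN hG _
    exact Or.inl (trans_one_of_normal hfix hNG hnorm hN hG)
  | succ k hk ih =>
    intro G N S hfix hNG hnorm hN hG hdeg
    classical
    obtain ⟨a, ha, _⟩ := exists_outside (S := S) (∅ : Finset α) (by rw [Finset.card_empty]; omega)
    have hN1 : Trans N S 1 := trans_one_of_normal hfix hNG hnorm hN (hG.mono (by omega))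
    have hGa : Trans (pstab G a) (insert a S) k := hG.stab ha
    have hdeg' : k < ((insert a S)ᶜ).ncard := by
      have := ncard_compl_insert ha
      omega
    by_cases hNa : pstab N a = ⊥
    · have hsemi := semiReg_of_pstab_eq_bot hN1 ha hNa
      obtain ⟨hk2, hexp⟩ := regular_case hk hfix hNG hnorm ha hN1 hsemi hGa hdeg
      exact Or.inr ⟨by omega, hsemi, hexp⟩
    · rcases ih (pstab G a) (pstab N a) (insert a S) (hfix.stab a) (pstab_mono hNG a) (hnorm.pstab a) hNa hGa hdeg'
        with h | ⟨hk3, hsemi, _⟩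
      · left
        have : Trans N S ((k - 1) + 1) := Trans.of_stab (hfix.mono hNG) ha hN1 h
        rw [Nat.sub_add_cancel (by omega)] at this
        exact this
      · exfalso
        subst hk3
        have hNa1 : Trans (pstab N a) (insert a S) 1 :=
          trans_one_of_normal (hfix.stab a) (pstab_mono hNG a) (hnorm.pstab a) hNa (hGa.mono (by norm_num))
        have hN2 : Trans N S 2 := Trans.of_stab (hfix.mono hNG) ha hN1 hNa1
        refine sharp_case hfix hNG hnorm ha hG hdeg hN2 ?_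
        intro n hn hna x hxS hxa hnx
        apply hsemi n (mem_pstab.mpr ⟨hn, hna⟩) x _ hnx
        rw [Set.mem_insert_iff, not_or]
        exact ⟨hxa, hxS⟩

/-! ### conversions from and to Mathlib's multiple transitivity -/

theorem trans_of_isMultiplyPretransitive [Finite α] (G : Subgroup (Equiv.Perm α)) (k : ℕ)
    (hG : MulAction.IsMultiplyPretransitive G α k) (hk : k ≤ Nat.card α) : Trans G ∅ k := by
  intro l l' hl hlen hn hn' _ _
  have hj : MulAction.IsMultiplyPretransitive G α l.length :=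
    MulAction.isMultiplyPretransitive_of_le hlen hk
  let x : Fin l.length ↪ α := ⟨fun i => l.get i, fun i j hij => (List.Nodup.get_inj_iff hn).mp hij⟩
  let y : Fin l.length ↪ α := ⟨fun i => l'.get (i.cast hl),
    fun i j hij => by
      have := (List.Nodup.get_inj_iff hn').mp hij
      exact Fin.cast_injective _ this⟩
  obtain ⟨g, hg⟩ := hj.exists_smul_eq x y
  refine ⟨g, g.2, ?_⟩
  apply List.ext_get
  · rw [List.length_map, hl]
  · intro i h1 h2
    rw [List.get_eq_getElem, List.get_eq_getElem, List.getElem_map]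
    have h3 := DFunLike.congr_fun hg ⟨i, by simpa using h1⟩
    exact h3

theorem isMultiplyPretransitive_of_trans (G : Subgroup (Equiv.Perm α)) (N : Subgroup G) (j : ℕ)
    (h : Trans (N.map G.subtype) ∅ j) : MulAction.IsMultiplyPretransitive N α j := by
  constructor
  intro x y
  obtain ⟨g, hg, hmap⟩ := h (List.ofFn x) (List.ofFn y) (by simp) (by simp)
    (List.nodup_ofFn.mpr x.injective) (List.nodup_ofFn.mpr y.injective) (fun _ _ => by simp) (fun _ _ => by simp)
  obtain ⟨n, hn, rfl⟩ := hg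
  refine ⟨⟨n, hn⟩, ?_⟩
  ext i
  rw [List.map_ofFn, List.ofFn_inj] at hmap
  exact congrFun hmap i

end Cfsg.Agent.Helper29.MultTrans
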