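import Mathlib
import Cfsg.Agent.Lib.Helper29.MultTrans

set_option autoImplicit false

namespace Cfsg.Agent.Helper29.Generous

open Cfsg.Agent.Helper29.MultTrans

variable {α : Type*}

/-- pointwise stabiliser in `G` of a set -/
def pfix (G : Subgroup (Equiv.Perm α)) (S : Set α) : Subgroup (Equiv.Perm α) where
  carrier := {g | g ∈ G ∧ ∀ z ∈ S, g z = z}
  mul_mem' := by
    rintro g h ⟨hg, hg'⟩ ⟨hh, hh'⟩
    refine ⟨G.mul_mem hg hh, fun z hz => ?_⟩
    rw [Equiv.Perm.mul_apply, hh' z hz, hg' z hz]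
  one_mem' := ⟨G.one_mem, fun _ _ => rfl⟩
  inv_mem' := by
    rintro g ⟨hg, hg'⟩
    refine ⟨G.inv_mem hg, fun z hz => ?_⟩
    rw [Equiv.Perm.inv_def, Equiv.symm_apply_eq]
    exact (hg' z hz).symm

theorem mem_pfix {G : Subgroup (Equiv.Perm α)} {S : Set α} {g : Equiv.Perm α} :
    g ∈ pfix G S ↔ g ∈ G ∧ ∀ z ∈ S, g z = z := Iff.rfl

/-- elements of `G` fixing `Γ0` pointwise and shifting the cycle `γ` -/
def cycStab (G : Subgroup (Equiv.Perm α)) (Γ0 : Set α) {p : ℕ} (γ : ZMod p → α) :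
    Subgroup (Equiv.Perm α) where
  carrier := {g | g ∈ G ∧ (∀ z ∈ Γ0, g z = z) ∧ ∃ j : ZMod p, ∀ i, g (γ i) = γ (i + j)}
  mul_mem' := by
    rintro g h ⟨hg, hg', j, hj⟩ ⟨hh, hh', j', hj'⟩
    refine ⟨G.mul_mem hg hh, fun z hz => ?_, j' + j, fun i => ?_⟩
    · rw [Equiv.Perm.mul_apply, hh' z hz, hg' z hz]
    · rw [Equiv.Perm.mul_apply, hj', hj, add_assoc]
  one_mem' := ⟨G.one_mem, fun _ _ => rfl, 0, fun i => by rw [add_zero]; rfl⟩
  inv_mem' := by
    rintro g ⟨hg, hg', j, hj⟩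
    refine ⟨G.inv_mem hg, fun z hz => ?_, -j, fun i => ?_⟩
    · rw [Equiv.Perm.inv_def, Equiv.symm_apply_eq]
      exact (hg' z hz).symm
    · rw [Equiv.Perm.inv_def, Equiv.symm_apply_eq, hj, neg_add_cancel_right]

theorem mem_cycStab {G : Subgroup (Equiv.Perm α)} {Γ0 : Set α} {p : ℕ} {γ : ZMod p → α} {g : Equiv.Perm α} :
    g ∈ cycStab G Γ0 γ ↔ g ∈ G ∧ (∀ z ∈ Γ0, g z = z) ∧ ∃ j : ZMod p, ∀ i, g (γ i) = γ (i + j) := Iff.rfl

theorem pfix_le_cycStab (G : Subgroup (Equiv.Perm α)) (Γ0 : Set α) {p : ℕ} (γ : ZMod p → α) :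
    pfix G (Γ0 ∪ Set.range γ) ≤ cycStab G Γ0 γ := by
  rintro g ⟨hg, hg'⟩
  refine ⟨hg, fun z hz => hg' z (Or.inl hz), 0, fun i => ?_⟩
  rw [add_zero]
  exact hg' _ (Or.inr ⟨i, rfl⟩)

theorem pow_shift {p : ℕ} {γ : ZMod p → α} {h : Equiv.Perm α} (hh1 : ∀ i, h (γ i) = γ (i + 1)) (n : ℕ)
    (i : ZMod p) : (h ^ n) (γ i) = γ (i + n) := by
  induction n generalizing i with
  | zero => simp
  | succ n ih =>
    rw [pow_succ, Equiv.Perm.mul_apply, hh1, ih]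
    congr 1
    push_cast
    ring

theorem pow_mem_cycStab {G : Subgroup (Equiv.Perm α)} {Γ0 : Set α} {p : ℕ} {γ : ZMod p → α}
    {h : Equiv.Perm α} (hh : h ∈ G) (hh0 : ∀ z ∈ Γ0, h z = z) (hh1 : ∀ i, h (γ i) = γ (i + 1)) (n : ℕ) :
    h ^ n ∈ cycStab G Γ0 γ :=
  Subgroup.pow_mem _ (mem_cycStab.mpr ⟨hh, hh0, 1, hh1⟩) n

theorem card_cycStab [Finite α] {p : ℕ} [Fact p.Prime] (G : Subgroup (Equiv.Perm α)) (Γ0 : Set α)
    {γ : ZMod p → α} (hγ : Function.Injective γ)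
    {h : Equiv.Perm α} (hh : h ∈ G) (hh0 : ∀ z ∈ Γ0, h z = z) (hh1 : ∀ i, h (γ i) = γ (i + 1)) :
    Nat.card (cycStab G Γ0 γ) = p * Nat.card (pfix G (Γ0 ∪ Set.range γ)) := by
  have hstab : MulAction.stabilizer (cycStab G Γ0 γ) (γ 0) =
      (pfix G (Γ0 ∪ Set.range γ)).subgroupOf (cycStab G Γ0 γ) := by
    ext ⟨g, hg⟩
    rw [MulAction.mem_stabilizer_iff, Subgroup.mem_subgroupOf]
    show g (γ 0) = γ 0 ↔ g ∈ pfix G (Γ0 ∪ Set.range γ)
    constructor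
    · intro h0
      obtain ⟨hgG, hg0, j, hj⟩ := hg
      have hj0 : j = 0 := by
        have := hj 0
        rw [h0, zero_add] at this
        exact (hγ this).symm
      refine ⟨hgG, ?_⟩
      rintro z (hz | ⟨i, rfl⟩)
      · exact hg0 z hz
      · rw [hj, hj0, add_zero]
    · intro hg'
      exact hg'.2 _ (Or.inr ⟨0, rfl⟩)
  have horb : MulAction.orbit (cycStab G Γ0 γ) (γ 0) = Set.range γ := by
    ext z
    constructor
    · rintro ⟨⟨g, hg⟩, rfl⟩
      obtain ⟨_, _, j, hj⟩ := hg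
      exact ⟨0 + j, (hj 0).symm⟩
    · rintro ⟨i, rfl⟩
      refine ⟨⟨h ^ i.val, pow_mem_cycStab hh hh0 hh1 _⟩, ?_⟩
      show (h ^ i.val) (γ 0) = γ i
      rw [pow_shift hh1, zero_add, ZMod.natCast_zmod_val]
  have hidx := MulAction.index_stabilizer (G := cycStab G Γ0 γ) (x := γ 0)
  rw [horb, Set.ncard_range_of_injective hγ, Nat.card_zmod, hstab] at hidx
  have h1 := Subgroup.card_mul_index ((pfix G (Γ0 ∪ Set.range γ)).subgroupOf (cycStab G Γ0 γ))
  rw [hidx, Nat.card_congr (Subgroup.subgroupOfEquivOfLe (pfix_le_cycStab G Γ0 γ)).toEquiv] at h1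
  rw [← h1, mul_comm]


/-- conjugate pointwise stabilisers have the same cardinality -/
theorem card_pfix_image {G : Subgroup (Equiv.Perm α)} {u : Equiv.Perm α} (hu : u ∈ G) (S : Set α) :
    Nat.card (pfix G (u '' S)) = Nat.card (pfix G S) := by
  apply Nat.card_congr
  refine ⟨fun g => ⟨u⁻¹ * g.1 * u, ?_⟩, fun g => ⟨u * g.1 * u⁻¹, ?_⟩, ?_, ?_⟩
  · obtain ⟨g, hgG, hg⟩ := g
    refine ⟨G.mul_mem (G.mul_mem (G.inv_mem hu) hgG) hu, fun z hz => ?_⟩
    simp only [Equiv.Perm.mul_apply]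
    rw [hg (u z) ⟨z, hz, rfl⟩, Equiv.Perm.inv_def, Equiv.symm_apply_apply]
  · obtain ⟨g, hgG, hg⟩ := g
    refine ⟨G.mul_mem (G.mul_mem hu hgG) (G.inv_mem hu), ?_⟩
    rintro _ ⟨z, hz, rfl⟩
    simp only [Equiv.Perm.mul_apply]
    rw [Equiv.Perm.inv_def, Equiv.symm_apply_apply, hg z hz]
  · intro g
    ext : 1
    simp only
    group
  · intro g
    ext : 1
    simp only
    group

/-- an element of `G` fixing `Γ0` and mapping the family `γ` to the family `y` -/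
theorem exists_map_family [Finite α] {p : ℕ} [Fact p.Prime] {G : Subgroup (Equiv.Perm α)} {Γ0 : Finset α}
    (hT : Trans G ∅ (Γ0.card + p)) {γ y : ZMod p → α} (hγ : Function.Injective γ)
    (hy : Function.Injective y) (hγ0 : ∀ i, γ i ∉ Γ0) (hy0 : ∀ i, y i ∉ Γ0) :
    ∃ u ∈ G, (∀ z ∈ Γ0, u z = z) ∧ ∀ i, u (γ i) = y i := by
  classical
  have hnd : ∀ f : ZMod p → α, Function.Injective f → (∀ i, f i ∉ Γ0) →
      (Γ0.toList ++ (Finset.univ : Finset (ZMod p)).toList.map f).Nodup := by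
    intro f hf hf0
    rw [List.nodup_append]
    refine ⟨Finset.nodup_toList _, (Finset.nodup_toList _).map hf, ?_⟩
    intro a ha b hb
    rw [Finset.mem_toList] at ha
    rw [List.mem_map] at hb
    obtain ⟨i, _, rfl⟩ := hb
    rintro rfl
    exact hf0 i ha
  obtain ⟨u, hu, hmap⟩ := hT (Γ0.toList ++ (Finset.univ : Finset (ZMod p)).toList.map γ)
    (Γ0.toList ++ (Finset.univ : Finset (ZMod p)).toList.map y) (by simp) (by simp [ZMod.card])
    (hnd γ hγ hγ0) (hnd y hy hy0) (fun _ _ => by simp) (fun _ _ => by simp)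
  rw [List.map_append] at hmap
  obtain ⟨h1, h2⟩ := List.append_inj hmap (by simp)
  refine ⟨u, hu, fun z hz => ?_, fun i => ?_⟩
  · have h3 : Γ0.toList.map u = Γ0.toList.map id := by rw [List.map_id]; exact h1
    exact List.map_inj_left.mp h3 z (Finset.mem_toList.mpr hz)
  · rw [List.map_map] at h2
    exact List.map_inj_left.mp h2 i (Finset.mem_toList.mpr (Finset.mem_univ i))

/-- Key lemma: a Sylow `p`-subgroup of the cyclic stabiliser cannot fix `p` further points. -/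
theorem no_fixed_family [Finite α] {p : ℕ} [Fact p.Prime] (G : Subgroup (Equiv.Perm α)) (Γ0 : Finset α)
    {γ : ZMod p → α} (hγ : Function.Injective γ) (hγ0 : ∀ i, γ i ∉ Γ0)
    (hT : Trans G ∅ (Γ0.card + p))
    {h : Equiv.Perm α} (hh : h ∈ G) (hh0 : ∀ z ∈ Γ0, h z = z) (hh1 : ∀ i, h (γ i) = γ (i + 1))
    (Q : Sylow p (cycStab G (Γ0 : Set α) γ)) (y : ZMod p → α) (hy : Function.Injective y)
    (hy0 : ∀ i, y i ∉ Γ0)
    (hfix : ∀ q : cycStab G (Γ0 : Set α) γ, q ∈ Q → ∀ i, (q : Equiv.Perm α) (y i) = y i) : False := by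
  have hp : p.Prime := Fact.out
  obtain ⟨u, hu, hu0, hu1⟩ := exists_map_family hT hγ hy hγ0 hy0
  have himg : u '' ((Γ0 : Set α) ∪ Set.range γ) = (Γ0 : Set α) ∪ Set.range y := by
    ext z
    constructor
    · rintro ⟨w, hw | ⟨i, rfl⟩, rfl⟩
      · left; rw [hu0 w hw]; exact hw
      · right; exact ⟨i, (hu1 i).symm⟩
    · rintro (hz | ⟨i, rfl⟩)
      · exact ⟨z, Or.inl hz, hu0 z hz⟩
      · exact ⟨γ i, Or.inr ⟨i, rfl⟩, hu1 i⟩
  have hcardK : Nat.card (pfix G ((Γ0 : Set α) ∪ Set.range y)) =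
      Nat.card (pfix G ((Γ0 : Set α) ∪ Set.range γ)) := by
    rw [← himg]
    exact card_pfix_image hu _
  have hcardM := card_cycStab G (Γ0 : Set α) hγ hh hh0 hh1
  have hQ := Q.card_eq_multiplicity
  have hK0 : Nat.card (pfix G ((Γ0 : Set α) ∪ Set.range γ)) ≠ 0 := Nat.card_pos.ne'
  rw [hcardM, Nat.factorization_mul hp.ne_zero hK0, Finsupp.add_apply, hp.factorization_self] at hQ
  have hle : (Q : Subgroup (cycStab G (Γ0 : Set α) γ)).map (cycStab G (Γ0 : Set α) γ).subtype ≤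
      pfix G ((Γ0 : Set α) ∪ Set.range y) := by
    rintro _ ⟨q, hq, rfl⟩
    refine ⟨q.2.1, ?_⟩
    rintro z (hz | ⟨i, rfl⟩)
    · exact q.2.2.1 z hz
    · exact hfix q hq i
  have hdvd := Subgroup.card_dvd_of_le hle
  rw [Subgroup.card_map_of_injective (Subgroup.subtype_injective _), hQ, hcardK, add_comm] at hdvd
  exact Nat.pow_succ_factorization_not_dvd hK0 hp hdvd


/-- orbit of `x` under the pointwise stabiliser of `S` in `G`, as a set -/
def porb (G : Subgroup (Equiv.Perm α)) (S : Set α) (x : α) : Set α := {y | ∃ k ∈ pfix G S, k x = y}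

theorem mem_porb_self (G : Subgroup (Equiv.Perm α)) (S : Set α) (x : α) : x ∈ porb G S x :=
  ⟨1, (pfix G S).one_mem, rfl⟩

theorem porb_not_mem {G : Subgroup (Equiv.Perm α)} {S : Set α} {x y : α} (hy : y ∈ porb G S x)
    (hx : x ∉ S) : y ∉ S := by
  obtain ⟨k, hk, rfl⟩ := hy
  intro hkx
  have h1 := ((pfix G S).inv_mem hk).2 _ hkx
  rw [Equiv.Perm.inv_def, Equiv.symm_apply_apply] at h1
  exact hx (h1 ▸ hkx)

theorem porb_eq_of_mem {G : Subgroup (Equiv.Perm α)} {S : Set α} {x y : α} (hy : y ∈ porb G S x) :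
    porb G S y = porb G S x := by
  obtain ⟨k, hk, rfl⟩ := hy
  ext z
  constructor
  · rintro ⟨k', hk', rfl⟩
    exact ⟨k' * k, (pfix G S).mul_mem hk' hk, rfl⟩
  · rintro ⟨k', hk', rfl⟩
    refine ⟨k' * k⁻¹, (pfix G S).mul_mem hk' ((pfix G S).inv_mem hk), ?_⟩
    rw [Equiv.Perm.mul_apply, Equiv.Perm.inv_def, Equiv.symm_apply_apply]

/-- the orbits of the pointwise stabiliser are invariant under the cyclic stabiliser, given generosity at `x` -/
theorem cycStab_porb {p : ℕ} [Fact p.Prime] {G : Subgroup (Equiv.Perm α)} {Γ0 : Set α} {γ : ZMod p → α}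
    {x : α} (hx : ∃ h ∈ G, (∀ z ∈ Γ0, h z = z) ∧ (∀ i, h (γ i) = γ (i + 1)) ∧ h x = x)
    {m : Equiv.Perm α} (hm : m ∈ cycStab G Γ0 γ) {y : α} (hy : y ∈ porb G (Γ0 ∪ Set.range γ) x) :
    m y ∈ porb G (Γ0 ∪ Set.range γ) x := by
  obtain ⟨k, hk, rfl⟩ := hy
  obtain ⟨h, hh, hh0, hh1, hhx⟩ := hx
  have hmk : m * k ∈ cycStab G Γ0 γ := (cycStab G Γ0 γ).mul_mem hm (pfix_le_cycStab G Γ0 γ hk)
  obtain ⟨hmkG, hmk0, j, hj⟩ := hmk
  have hpowx : ∀ n : ℕ, (h ^ n) x = x := by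
    intro n
    induction n with
    | zero => simp
    | succ n ih => rw [pow_succ, Equiv.Perm.mul_apply, hhx, ih]
  have hinvx : ((h ^ j.val)⁻¹) x = x := by
    rw [Equiv.Perm.inv_def, Equiv.symm_apply_eq]
    exact (hpowx _).symm
  refine ⟨m * k * (h ^ j.val)⁻¹, ⟨G.mul_mem hmkG (G.inv_mem (G.pow_mem hh _)), ?_⟩, ?_⟩
  · rintro z (hz | ⟨i, rfl⟩)
    · have : ((h ^ j.val)⁻¹) z = z := by
        rw [Equiv.Perm.inv_def, Equiv.symm_apply_eq]
        have hpz : ∀ n : ℕ, (h ^ n) z = z := by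
          intro n
          induction n with
          | zero => simp
          | succ n ih => rw [pow_succ, Equiv.Perm.mul_apply, hh0 z hz, ih]
        exact (hpz _).symm
      rw [Equiv.Perm.mul_apply, this]
      exact hmk0 z hz
    · have : ((h ^ j.val)⁻¹) (γ i) = γ (i - j) := by
        rw [Equiv.Perm.inv_def, Equiv.symm_apply_eq, pow_shift hh1, ZMod.natCast_zmod_val, sub_add_cancel]
      rw [Equiv.Perm.mul_apply, this, hj, sub_add_cancel]
  · rw [Equiv.Perm.mul_apply, hinvx]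
    rfl

/-- a Sylow `p`-subgroup of the cyclic stabiliser fixes a point in each orbit of length prime to `p` -/
theorem exists_fixed_in_porb {p : ℕ} [Fact p.Prime] {G : Subgroup (Equiv.Perm α)} {Γ0 : Set α}
    {γ : ZMod p → α} {x : α}
    (hx : ∃ h ∈ G, (∀ z ∈ Γ0, h z = z) ∧ (∀ i, h (γ i) = γ (i + 1)) ∧ h x = x)
    (Q : Sylow p (cycStab G Γ0 γ)) (hcard : ¬ p ∣ Nat.card (porb G (Γ0 ∪ Set.range γ) x)) :
    ∃ y ∈ porb G (Γ0 ∪ Set.range γ) x, ∀ q : cycStab G Γ0 γ, q ∈ Q → (q : Equiv.Perm α) y = y := by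
  let sub : SubMulAction (Q : Subgroup (cycStab G Γ0 γ)) α :=
    { carrier := porb G (Γ0 ∪ Set.range γ) x
      smul_mem' := fun q y hy => cycStab_porb hx q.1.2 hy }
  have hcard' : ¬ p ∣ Nat.card sub := hcard
  obtain ⟨⟨y, hy⟩, hfix⟩ := Q.isPGroup'.nonempty_fixed_point_of_prime_not_dvd_card sub hcard'
  refine ⟨y, hy, fun q hq => ?_⟩
  have := hfix ⟨q, hq⟩
  exact congrArg Subtype.val this

end Cfsg.Agent.Helper29.Generous
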