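import Mathlib

set_option autoImplicit false

/-!
# Abstract lemmas for the outer automorphism group of a group given by three generators
-/

namespace Cfsg.Agent.Lib.Helper29.HeOut

/-- an automorphism fixing `a` and `d` fixes `y`, when `y` inverts `d`, the centraliser of `d`
is a known list, and two relations between `y` and `a` tell the members of the list apart -/
theorem rigid_of_centralizer {G : Type*} [Group G] {a d y : G} (L : List G)
    (hCd : ∀ c, c * d = d * c → c ∈ L)
    (hyd : y * d * y⁻¹ = d⁻¹) (n1 n2 : ℕ)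
    (h1 : (y * a) ^ n1 = 1) (h2 : (y * a ^ 2) ^ n2 = 1)
    (hdist : ∀ c ∈ L, c = 1 ∨ (y * c * a) ^ n1 ≠ 1 ∨ (y * c * a ^ 2) ^ n2 ≠ 1) :
    ∀ ψ : MulAut G, ψ a = a → ψ d = d → ψ y = y := by
  intro ψ ha hd
  set c := y⁻¹ * ψ y with hc
  have hψy : ψ y = y * c := by rw [hc]; group
  have h3 : ψ y * d * (ψ y)⁻¹ = d⁻¹ := by
    have := congrArg ψ hyd
    rw [map_mul, map_mul, map_inv, map_inv, hd] at this
    exact this
  have hcd : c * d = d * c := by
    have h4 : y⁻¹ * d⁻¹ * y = d := by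
      have : d⁻¹ = y * d * y⁻¹ := hyd.symm
      rw [this]; group
    have h5 : c * d * c⁻¹ = d := by
      rw [hc]
      calc y⁻¹ * ψ y * d * (y⁻¹ * ψ y)⁻¹ = y⁻¹ * (ψ y * d * (ψ y)⁻¹) * y := by group
        _ = d := by rw [h3, h4]
    calc c * d = c * d * c⁻¹ * c := by group
      _ = d * c := by rw [h5]
  rcases hdist c (hCd c hcd) with h | h | h
  · rw [hψy, h, mul_one]
  · exfalso; apply h
    have := congrArg ψ h1
    rw [map_pow, map_mul, ha, hψy, map_one] at this
    exact this
  · exfalso; apply h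
    have := congrArg ψ h2
    rw [map_pow, map_mul, map_pow, ha, hψy, map_one] at this
    exact this

/-- an endomorphism which is its own inverse, as an automorphism -/
def autOfInvolutive {G : Type*} [Group G] (f : G →* G) (h : ∀ x, f (f x) = x) : MulAut G :=
  { toFun := f, invFun := f, left_inv := h, right_inv := h, map_mul' := f.map_mul }

theorem autOfInvolutive_apply {G : Type*} [Group G] (f : G →* G) (h : ∀ x, f (f x) = x) (x : G) :
    autOfInvolutive f h x = f x := rfl

/-- the order of an element with a prime power trivial -/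
theorem orderOf_eq_prime_of {G : Type*} [Group G] {a : G} {p : ℕ} (hp : p.Prime)
    (h1 : a ^ p = 1) (h2 : a ≠ 1) : orderOf a = p :=
  haveI := Fact.mk hp
  orderOf_eq_prime h1 h2

/-- the arithmetic of the powers of two modulo seventeen -/
theorem arith17 : ∀ k, 1 ≤ k → k < 17 → ∃ i, k * 2 ^ i % 17 = 1 ∨ k * 2 ^ i % 17 = 3 := by
  intro k h1 h2
  interval_cases k
  · exact ⟨0, Or.inl (by norm_num)⟩
  · exact ⟨7, Or.inl (by norm_num)⟩
  · exact ⟨0, Or.inr (by norm_num)⟩
  · exact ⟨6, Or.inl (by norm_num)⟩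
  · exact ⟨2, Or.inr (by norm_num)⟩
  · exact ⟨7, Or.inr (by norm_num)⟩
  · exact ⟨5, Or.inr (by norm_num)⟩
  · exact ⟨5, Or.inl (by norm_num)⟩
  · exact ⟨1, Or.inl (by norm_num)⟩
  · exact ⟨1, Or.inr (by norm_num)⟩
  · exact ⟨3, Or.inr (by norm_num)⟩
  · exact ⟨6, Or.inr (by norm_num)⟩
  · exact ⟨2, Or.inl (by norm_num)⟩
  · exact ⟨4, Or.inr (by norm_num)⟩
  · exact ⟨3, Or.inl (by norm_num)⟩
  · exact ⟨4, Or.inl (by norm_num)⟩

end Cfsg.Agent.Lib.Helper29.HeOut
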