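import Cfsg.Agent.Lib.Helper29.HeOutData
import Cfsg.Agent.Lib.Helper4.TC.HeS44Glue
import Cfsg.Agent.Lib.Helper4.TC.Strict

set_option autoImplicit false
set_option maxRecDepth 100000
set_option linter.unusedVariables false
set_option Elab.async false

/-! The chain of stabilisers for the base in one cycle of the element of order 17: checks. -/

namespace Cfsg.Agent.Lib.Helper29.HeOut

open Cfsg.Agent.Helper4.TC

theorem lvl1_c : lvlRange HeS44.mdata ld1 W1 563 2058 0 = true := lvlRange_strict HeS44.mdata ld1 W1 563 2058 0 (by decide +kernel)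
theorem srt1_c : srtRange ld1 2057 0 = true := srtRange_strict ld1 2057 0 (by decide +kernel)
theorem fix1 : ∀ w ∈ W1, (∀ c ∈ w, c < HeS44.mdata.nc) ∧ ∀ q ∈ [], mtrace HeS44.mdata w q = q := by decide +kernel
theorem lvl1 : LevelOK HeS44.mdata ld1 W1 563 := by
  refine ⟨?_, ?_⟩
  · intro k hk
    have hk' : k < 2058 := hk
    exact lvlRange_sound HeS44.mdata ld1 W1 563 2058 0 lvl1_c k (by omega) (by omega)
  · intro k hk
    have hk' : k + 1 < 2058 := hk
    exact srtRange_sound ld1 2057 0 srt1_c k (by omega) (by omega)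

theorem lvl2_c : lvlRange HeS44.mdata ld2 W2 167 1360 0 = true := lvlRange_strict HeS44.mdata ld2 W2 167 1360 0 (by decide +kernel)
theorem srt2_c : srtRange ld2 1359 0 = true := srtRange_strict ld2 1359 0 (by decide +kernel)
theorem fix2 : ∀ w ∈ W2, (∀ c ∈ w, c < HeS44.mdata.nc) ∧ ∀ q ∈ [563], mtrace HeS44.mdata w q = q := by decide +kernel
theorem lvl2 : LevelOK HeS44.mdata ld2 W2 167 := by
  refine ⟨?_, ?_⟩
  · intro k hk
    have hk' : k < 1360 := hk
    exact lvlRange_sound HeS44.mdata ld2 W2 167 1360 0 lvl2_c k (by omega) (by omega)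
  · intro k hk
    have hk' : k + 1 < 1360 := hk
    exact srtRange_sound ld2 1359 0 srt2_c k (by omega) (by omega)

theorem lvl3_c : lvlRange HeS44.mdata ld3 W3 1354 144 0 = true := lvlRange_strict HeS44.mdata ld3 W3 1354 144 0 (by decide +kernel)
theorem srt3_c : srtRange ld3 143 0 = true := srtRange_strict ld3 143 0 (by decide +kernel)
theorem fix3 : ∀ w ∈ W3, (∀ c ∈ w, c < HeS44.mdata.nc) ∧ ∀ q ∈ [167, 563], mtrace HeS44.mdata w q = q := by decide +kernel
theorem lvl3 : LevelOK HeS44.mdata ld3 W3 1354 := by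
  refine ⟨?_, ?_⟩
  · intro k hk
    have hk' : k < 144 := hk
    exact lvlRange_sound HeS44.mdata ld3 W3 1354 144 0 lvl3_c k (by omega) (by omega)
  · intro k hk
    have hk' : k + 1 < 144 := hk
    exact srtRange_sound ld3 143 0 srt3_c k (by omega) (by omega)

theorem lvl4_c : lvlRange HeS44.mdata ld4 W4 1119 10 0 = true := lvlRange_strict HeS44.mdata ld4 W4 1119 10 0 (by decide +kernel)
theorem srt4_c : srtRange ld4 9 0 = true := srtRange_strict ld4 9 0 (by decide +kernel)
theorem fix4 : ∀ w ∈ W4, (∀ c ∈ w, c < HeS44.mdata.nc) ∧ ∀ q ∈ [1354, 167, 563], mtrace HeS44.mdata w q = q := by decide +kernel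
theorem lvl4 : LevelOK HeS44.mdata ld4 W4 1119 := by
  refine ⟨?_, ?_⟩
  · intro k hk
    have hk' : k < 10 := hk
    exact lvlRange_sound HeS44.mdata ld4 W4 1119 10 0 lvl4_c k (by omega) (by omega)
  · intro k hk
    have hk' : k + 1 < 10 := hk
    exact srtRange_sound ld4 9 0 srt4_c k (by omega) (by omega)

theorem lvl5_c : lvlRange HeS44.mdata ld5 W5 606 1 0 = true := lvlRange_strict HeS44.mdata ld5 W5 606 1 0 (by decide +kernel)
theorem srt5_c : srtRange ld5 0 0 = true := srtRange_strict ld5 0 0 (by decide +kernel)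
theorem fix5 : ∀ w ∈ W5, (∀ c ∈ w, c < HeS44.mdata.nc) ∧ ∀ q ∈ [1119, 1354, 167, 563], mtrace HeS44.mdata w q = q := by decide +kernel
theorem lvl5 : LevelOK HeS44.mdata ld5 W5 606 := by
  refine ⟨?_, ?_⟩
  · intro k hk
    have hk' : k < 1 := hk
    exact lvlRange_sound HeS44.mdata ld5 W5 606 1 0 lvl5_c k (by omega) (by omega)
  · intro k hk
    have hk' : k + 1 < 1 := hk
    exact srtRange_sound ld5 0 0 srt5_c k (by omega) (by omega)

theorem levels_ok : LevelsOK HeS44.mdata [] specs := by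
  exact (levelsOK_cons _ _ ⟨ld1, W1, 563⟩ _ lvl1 (by decide) fix1 (levelsOK_cons _ _ ⟨ld2, W2, 167⟩ _ lvl2 (by decide) fix2 (levelsOK_cons _ _ ⟨ld3, W3, 1354⟩ _ lvl3 (by decide) fix3 (levelsOK_cons _ _ ⟨ld4, W4, 1119⟩ _ lvl4 (by decide) fix4 (levelsOK_cons _ _ ⟨ld5, W5, 606⟩ _ lvl5 (by decide) fix5 (levelsOK_nil _ _))))))

end Cfsg.Agent.Lib.Helper29.HeOut
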