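import Cfsg.Agent.Lib.Helper29.HeOutData
import Cfsg.Agent.Lib.Helper4.TC.Trans
import Cfsg.Prelude.Def_Spor_He

set_option autoImplicit false
set_option maxRecDepth 100000
set_option linter.unusedVariables false

/-! Words for the outer automorphism group of the Held group: relations between the elements
`a` of order 17, `d` of order 8 normalising it, and the involutions `y` and `z`; the generators
as words in them; the symmetry of the diagram. -/

namespace Cfsg.Agent.Lib.Helper29.HeOut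

open Cfsg.Agent.Helper4.TC

/-- the letters of a word are letters -/
def wok (w : List ℕ) : Bool := w.all fun c => Nat.blt c 14

/-- the base of the chain of the model -/
def hbPts : List ℕ := [0, 1, 7, 11, 6]
def esA : List ℕ := [0, 1, 2, 4, 8]
def esD : List ℕ := [0, 1, 2, 3]
/-- the powers of a word -/
def wsOf (w : List ℕ) (es : List ℕ) : List (List ℕ) := es.map (wpow w)

def cyc17 : List ℕ := [563, 167, 1354, 156, 1119, 1644, 1670, 1189, 606, 995, 620, 501, 158, 809, 1604, 1984, 1833]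
def good563 : List ℕ := [167, 59, 1354, 1697, 1119, 1592, 606, 1034, 1833, 1619, 1984, 912, 809, 878, 995, 641]
def good578 : List ℕ := []
def lw (i j : ℕ) : List ℕ := wpow dw i ++ wpow zw j
def Lw : List (List ℕ) := [lw 0 0, lw 0 1, lw 1 0, lw 1 1, lw 2 0, lw 2 1, lw 3 0, lw 3 1, lw 4 0, lw 4 1, lw 5 0, lw 5 1, lw 6 0, lw 6 1, lw 7 0, lw 7 1]
def pieceL : List (List ℕ) := [aw, invW aw, dw, invW dw, yw]
def genData : List (ℕ × List (List ℕ)) := [
  (0, [dw, aw, dw, yw, invW aw, yw, aw, invW dw, yw, aw, invW dw, yw, aw, invW dw, yw, aw, yw, invW aw, yw, aw, invW dw, invW dw, invW aw]),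
  (2, [dw, dw, yw, invW aw, invW dw, yw, invW aw, invW dw, yw, invW aw, invW dw, yw, invW aw, dw, dw, yw, aw, yw, aw]),
  (4, [yw, invW aw, dw, dw, yw, aw, invW dw, yw, aw, invW dw, yw, aw, invW dw, yw, aw, yw, invW dw, invW dw, invW aw]),
  (6, [aw, aw, yw, aw, aw, yw, invW aw, invW dw, yw, invW aw, yw, invW aw, dw, dw, yw, aw, aw, yw, invW aw, yw, invW dw, invW aw, invW aw]),
  (8, [dw, aw, dw, yw, aw, yw, invW aw, yw, aw, aw, aw, yw, invW aw, dw, invW aw, yw, aw, yw, invW aw, yw, invW dw, invW aw, invW dw]),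
  (10, [yw, invW aw, dw, invW aw, dw, yw, aw, aw, aw, yw, aw, yw, invW aw, invW aw, yw, invW aw, yw, aw, yw, dw, invW aw, yw, dw, invW aw, dw]),
  (12, [aw, aw, aw, yw, aw, aw, yw, invW aw, invW dw, yw, invW aw, yw, invW aw, dw, dw, yw, aw, aw, yw, invW aw, yw, invW dw, invW aw, invW aw, invW aw])]
def relA17 : List ℕ := wpow aw 17
def relDAD : List ℕ := invW (wpow aw 2) ++ invW dw ++ aw ++ dw
def relYDY : List ℕ := dw ++ invW yw ++ dw ++ yw
def relZD : List ℕ := invW dw ++ invW zw ++ dw ++ zw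
def relYA12 : List ℕ := wpow (aw ++ yw) 12
def relYA21 : List ℕ := wpow (wpow aw 2 ++ yw) 21
def relTau : List ℕ := invW (wpow aw 3) ++ invW cw ++ taw ++ cw
def dist12 (w : List ℕ) : List ℕ := wpow (aw ++ w ++ yw) 12
def dist21 (w : List ℕ) : List ℕ := wpow (wpow aw 2 ++ w ++ yw) 21

/-- the symmetry of the diagram -/
def sigma : Cfsg.Spor.He.Gen → List ℕ
  | .a => [0]
  | .b => [2]
  | .c => [4]
  | .d => [6]
  | .e => [8]
  | .f => [12]
  | .g => [10]

end Cfsg.Agent.Lib.Helper29.HeOut
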