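import Cfsg.Agent.Lib.Helper4.TC.HeSpMain
import Cfsg.Agent.Lib.Helper29.HeOutChain
import Cfsg.Agent.Lib.Helper29.HeOutExcl
import Cfsg.Agent.Lib.Helper29.HeOutWords

set_option autoImplicit false
set_option maxRecDepth 100000
set_option linter.unusedVariables false
set_option linter.unusedSectionVars false
set_option linter.style.haveILetI false

/-!
# The presented Held group: elements of words, their action on the 2058 points, sifting
-/

namespace Cfsg.Agent.Lib.Helper29.HeOut

open Cfsg.Agent.Helper4.TC

/-- the presented Held group -/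
abbrev HeP : Type := PresentedGroup HeS.Rset

/-- the permutation representation on the 2058 points -/
noncomputable abbrev PhiHe : HeP →* Equiv.Perm (Fin HeS44.mdata.n) :=
  modelHom HeS44.coding HeS44.hR1 HeS44.model_ok

/-- the element of a word -/
noncomputable def el (w : List ℕ) : HeP := PresentedGroup.mk HeS.Rset (wordF HeS44.dec w)

theorem el_append (u v : List ℕ) : el (u ++ v) = el v * el u := by
  unfold el
  rw [← evc_of, ← evc_of, ← evc_of, evc_append]

theorem el_nil : el [] = 1 := by
  unfold el
  rw [← evc_of]
  rfl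

theorem el_invW (w : List ℕ) : el (invW w) = (el w)⁻¹ :=
  mk_invW (R := HeS.Rset) (m := HeS44.mdata) HeS44.coding w

theorem el_wpow (w : List ℕ) (t : ℕ) : el (wpow w t) = (el w) ^ t := mk_wordF_wpow w t

theorem wok_sound {w : List ℕ} (h : wok w = true) : ∀ c ∈ w, c < HeS44.mdata.nc := by
  intro c hc
  unfold wok at h
  rw [List.all_eq_true] at h
  have := h c hc
  rw [Nat.blt_eq] at this
  exact this

/-- the action on the numbers of the points -/
noncomputable def act (g : HeP) (k : ℕ) : ℕ := (PhiHe g (mkPt HeS44.model_ok k)).val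

theorem act_lt (g : HeP) (k : ℕ) : act g k < 2058 := (PhiHe g (mkPt HeS44.model_ok k)).2

theorem mkPt_act (g : HeP) (k : ℕ) :
    mkPt HeS44.model_ok (act g k) = PhiHe g (mkPt HeS44.model_ok k) := by
  apply Fin.ext
  exact Nat.mod_eq_of_lt (PhiHe g (mkPt HeS44.model_ok k)).2

theorem act_mul (g h : HeP) (k : ℕ) : act (g * h) k = act g (act h k) := by
  unfold act
  rw [map_mul, Equiv.Perm.mul_apply]
  congr 2
  exact (mkPt_act h k).symm

theorem act_one (k : ℕ) (hk : k < 2058) : act 1 k = k := by
  unfold act
  rw [map_one, Equiv.Perm.one_apply]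
  exact Nat.mod_eq_of_lt hk

theorem act_el (w : List ℕ) (hw : wok w = true) (k : ℕ) (hk : k < 2058) :
    act (el w) k = mtrace HeS44.mdata w k := by
  unfold act el
  rw [mkPt_of_lt HeS44.model_ok k hk]
  exact modelHom_word HeS44.coding HeS44.hR1 HeS44.model_ok w (wok_sound hw) ⟨k, hk⟩

theorem act_inv_of (g : HeP) (k l : ℕ) (hk : k < 2058) (h : act g k = l) : act g⁻¹ l = k := by
  rw [← h, ← act_mul, inv_mul_cancel, act_one k hk]

/-- a word fixing the base of the model is trivial -/
theorem el_eq_one_of_fixesB (w : List ℕ) (h : fixesB HeS44.mdata hbPts w = true) :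
    el w = 1 := by
  obtain ⟨h1, h2⟩ := fixesB_sound h
  refine word_eq_one_of_base HeS44.coding HeS44.hR1 HeS44.model_ok 4030387200 (by norm_num)
    HeS.card_top HeS.specs HeS.levels_ok (by decide) w h1 ?_ ?_
  · exact h2 0 (by decide)
  · intro s hs
    have hpts : hbPts = 0 :: HeS.specs.map fun s => s.b := rfl
    exact h2 s.b (by rw [hpts]; exact List.mem_cons_of_mem _ (List.mem_map_of_mem hs))

/-- a word moving a point is not trivial -/
theorem el_ne_one_of_moves (w : List ℕ) (hw : wok w = true) (k : ℕ) (hk : k < 2058)
    (h : mtrace HeS44.mdata w k ≠ k) : el w ≠ 1 := by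
  intro h1
  apply h
  rw [← act_el w hw k hk, h1, act_one k hk]

instance finite_HeP : Finite HeP := HeS.card_top.1

instance simple_HeP : IsSimpleGroup HeP := HeS.main.1

theorem card_HeP : Nat.card HeP = 4030387200 := HeS.main.2

theorem card_range : Nat.card PhiHe.range = 4030387200 := by
  have h := range_facts (by decide : 2 ≤ HeS44.mdata.n) PhiHe ⟨0, HeS44.model_ok.npos⟩
    (modelHom_trans HeS44.coding HeS44.hR1 HeS44.model_ok)
  rw [h.2.1, card_HeP]

instance finite_range : Finite PhiHe.range := Set.finite_range _

/-- the base of the chain -/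
def basePts : List ℕ := [563, 167, 1354, 1119, 606]

theorem specs_base : (specs.map fun s => s.b) = basePts := rfl

/-- the images of the base under an element sift through the levels -/
theorem sift (g : HeP) : excl HeS44.mdata specs (basePts.map (act g)) = false := by
  have hcard : Nat.card (fixSub PhiHe.range (([] : List ℕ).map (mkPt HeS44.model_ok))) =
      (specs.map fun s => s.d.cnt).prod := by
    rw [List.map_nil, fixSub_nil, card_range]
    decide
  have h := excl_sound HeS44.coding HeS44.hR1 HeS44.model_ok specs [] (by simp) levels_ok hcard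
    (specs.map fun s => PhiHe g (mkPt HeS44.model_ok s.b)) (PhiHe g)
    (by rw [List.map_nil, fixSub_nil]; exact ⟨g, rfl⟩)
    (by rw [List.forall₂_map_right_iff]; exact List.forall₂_same.mpr (fun _ _ => rfl))
  rw [List.map_map] at h
  rw [← specs_base, List.map_map]
  exact h

/-- an element fixing the base is trivial -/
theorem base_faithful (g : HeP) (h : ∀ b ∈ basePts, act g b = b) : g = 1 := by
  have hchain := chainOK_of_levels HeS44.coding HeS44.hR1 HeS44.model_ok specs [] (by simp)
    levels_ok
  rw [List.map_nil, fixSub_nil] at hchain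
  refine eq_one_of_fixes_base PhiHe 4030387200 (by norm_num) HeS.card_top _ hchain (by decide) g ?_
  intro bn hbn
  obtain ⟨s, hs, rfl⟩ := List.mem_map.mp hbn
  have hb : s.b ∈ basePts := by
    rw [← specs_base]
    exact List.mem_map_of_mem hs
  have hlt : s.b < 2058 := by
    revert hb
    generalize s.b = q
    intro hb
    simp only [basePts, List.mem_cons, List.not_mem_nil, or_false] at hb
    omega
  apply Fin.ext
  show act g s.b = (mkPt HeS44.model_ok s.b).val
  rw [h s.b hb]
  exact (Nat.mod_eq_of_lt hlt).symm

/-- the action of elements intertwined by a third one -/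
theorem act_semiconj (g A B : HeP) (h : g * A = B * g) (e k : ℕ) :
    act g (act (A ^ e) k) = act (B ^ e) (act g k) := by
  rw [← act_mul, ← act_mul]
  congr 1
  exact (SemiconjBy.pow_right (show SemiconjBy g A B from h) e)

theorem act_pow_el (w : List ℕ) (hw : wok w = true) (e k : ℕ) (hk : k < 2058) :
    act (el w ^ e) k = mtrace HeS44.mdata (wpow w e) k := by
  rw [← el_wpow, act_el _ _ k hk]
  unfold wok
  rw [List.all_eq_true]
  intro c hc
  rw [Nat.blt_eq]
  exact wpow_letters w e 14 (wok_sound hw) c hc

end Cfsg.Agent.Lib.Helper29.HeOut
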