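import Cfsg.Agent.Lib.Helper29.HeOutPreds

set_option autoImplicit false
set_option maxRecDepth 100000
set_option linter.unusedVariables false
set_option Elab.async false

/-! The centraliser of the element of order 17: the images of the base which sift through.
(In chunks, which keeps the memory of the kernel small.) -/

namespace Cfsg.Agent.Lib.Helper29.HeOut

open Cfsg.Agent.Helper4.TC

theorem chkA_0 : rangeS predA 128 0 = true := by decide +kernel
theorem chkA_1 : rangeS predA 128 128 = true := by decide +kernel
theorem chkA_2 : rangeS predA 128 256 = true := by decide +kernel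
theorem chkA_3 : rangeS predA 128 384 = true := by decide +kernel
theorem chkA_4 : rangeS predA 128 512 = true := by decide +kernel
theorem chkA_5 : rangeS predA 128 640 = true := by decide +kernel
theorem chkA_6 : rangeS predA 128 768 = true := by decide +kernel
theorem chkA_7 : rangeS predA 128 896 = true := by decide +kernel
theorem chkA_8 : rangeS predA 128 1024 = true := by decide +kernel
theorem chkA_9 : rangeS predA 128 1152 = true := by decide +kernel
theorem chkA_10 : rangeS predA 128 1280 = true := by decide +kernel
theorem chkA_11 : rangeS predA 128 1408 = true := by decide +kernel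
theorem chkA_12 : rangeS predA 128 1536 = true := by decide +kernel
theorem chkA_13 : rangeS predA 128 1664 = true := by decide +kernel
theorem chkA_14 : rangeS predA 128 1792 = true := by decide +kernel
theorem chkA_15 : rangeS predA 128 1920 = true := by decide +kernel
theorem chkA_16 : rangeS predA 10 2048 = true := by decide +kernel

theorem chkA : ∀ j, j < 2058 → predA j = true := by
  intro j hj
  by_cases h0 : j < 128
  · exact rangeS_sound' predA 128 0 chkA_0 j (by omega) (by omega)
  by_cases h1 : j < 256
  · exact rangeS_sound' predA 128 128 chkA_1 j (by omega) (by omega)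
  by_cases h2 : j < 384
  · exact rangeS_sound' predA 128 256 chkA_2 j (by omega) (by omega)
  by_cases h3 : j < 512
  · exact rangeS_sound' predA 128 384 chkA_3 j (by omega) (by omega)
  by_cases h4 : j < 640
  · exact rangeS_sound' predA 128 512 chkA_4 j (by omega) (by omega)
  by_cases h5 : j < 768
  · exact rangeS_sound' predA 128 640 chkA_5 j (by omega) (by omega)
  by_cases h6 : j < 896
  · exact rangeS_sound' predA 128 768 chkA_6 j (by omega) (by omega)
  by_cases h7 : j < 1024
  · exact rangeS_sound' predA 128 896 chkA_7 j (by omega) (by omega)
  by_cases h8 : j < 1152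
  · exact rangeS_sound' predA 128 1024 chkA_8 j (by omega) (by omega)
  by_cases h9 : j < 1280
  · exact rangeS_sound' predA 128 1152 chkA_9 j (by omega) (by omega)
  by_cases h10 : j < 1408
  · exact rangeS_sound' predA 128 1280 chkA_10 j (by omega) (by omega)
  by_cases h11 : j < 1536
  · exact rangeS_sound' predA 128 1408 chkA_11 j (by omega) (by omega)
  by_cases h12 : j < 1664
  · exact rangeS_sound' predA 128 1536 chkA_12 j (by omega) (by omega)
  by_cases h13 : j < 1792
  · exact rangeS_sound' predA 128 1664 chkA_13 j (by omega) (by omega)
  by_cases h14 : j < 1920
  · exact rangeS_sound' predA 128 1792 chkA_14 j (by omega) (by omega)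
  by_cases h15 : j < 2048
  · exact rangeS_sound' predA 128 1920 chkA_15 j (by omega) (by omega)
  exact rangeS_sound' predA 10 2048 chkA_16 j (by omega) (by omega)

end Cfsg.Agent.Lib.Helper29.HeOut
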