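import Cfsg.Agent.Lib.Helper29.HeOutPreds

set_option autoImplicit false
set_option maxRecDepth 100000
set_option linter.unusedVariables false
set_option Elab.async false

/-! No element conjugates the element of order 17 to its cube: no image of the base sifts through.
(In chunks, which keeps the memory of the kernel small.) -/

namespace Cfsg.Agent.Lib.Helper29.HeOut

open Cfsg.Agent.Helper4.TC

theorem chkA3_0 : rangeS predA3 128 0 = true := by decide +kernel
theorem chkA3_1 : rangeS predA3 128 128 = true := by decide +kernel
theorem chkA3_2 : rangeS predA3 128 256 = true := by decide +kernel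
theorem chkA3_3 : rangeS predA3 128 384 = true := by decide +kernel
theorem chkA3_4 : rangeS predA3 128 512 = true := by decide +kernel
theorem chkA3_5 : rangeS predA3 128 640 = true := by decide +kernel
theorem chkA3_6 : rangeS predA3 128 768 = true := by decide +kernel
theorem chkA3_7 : rangeS predA3 128 896 = true := by decide +kernel
theorem chkA3_8 : rangeS predA3 128 1024 = true := by decide +kernel
theorem chkA3_9 : rangeS predA3 128 1152 = true := by decide +kernel
theorem chkA3_10 : rangeS predA3 128 1280 = true := by decide +kernel
theorem chkA3_11 : rangeS predA3 128 1408 = true := by decide +kernel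
theorem chkA3_12 : rangeS predA3 128 1536 = true := by decide +kernel
theorem chkA3_13 : rangeS predA3 128 1664 = true := by decide +kernel
theorem chkA3_14 : rangeS predA3 128 1792 = true := by decide +kernel
theorem chkA3_15 : rangeS predA3 128 1920 = true := by decide +kernel
theorem chkA3_16 : rangeS predA3 10 2048 = true := by decide +kernel

theorem chkA3 : ∀ j, j < 2058 → predA3 j = true := by
  intro j hj
  by_cases h0 : j < 128
  · exact rangeS_sound' predA3 128 0 chkA3_0 j (by omega) (by omega)
  by_cases h1 : j < 256
  · exact rangeS_sound' predA3 128 128 chkA3_1 j (by omega) (by omega)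
  by_cases h2 : j < 384
  · exact rangeS_sound' predA3 128 256 chkA3_2 j (by omega) (by omega)
  by_cases h3 : j < 512
  · exact rangeS_sound' predA3 128 384 chkA3_3 j (by omega) (by omega)
  by_cases h4 : j < 640
  · exact rangeS_sound' predA3 128 512 chkA3_4 j (by omega) (by omega)
  by_cases h5 : j < 768
  · exact rangeS_sound' predA3 128 640 chkA3_5 j (by omega) (by omega)
  by_cases h6 : j < 896
  · exact rangeS_sound' predA3 128 768 chkA3_6 j (by omega) (by omega)
  by_cases h7 : j < 1024
  · exact rangeS_sound' predA3 128 896 chkA3_7 j (by omega) (by omega)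
  by_cases h8 : j < 1152
  · exact rangeS_sound' predA3 128 1024 chkA3_8 j (by omega) (by omega)
  by_cases h9 : j < 1280
  · exact rangeS_sound' predA3 128 1152 chkA3_9 j (by omega) (by omega)
  by_cases h10 : j < 1408
  · exact rangeS_sound' predA3 128 1280 chkA3_10 j (by omega) (by omega)
  by_cases h11 : j < 1536
  · exact rangeS_sound' predA3 128 1408 chkA3_11 j (by omega) (by omega)
  by_cases h12 : j < 1664
  · exact rangeS_sound' predA3 128 1536 chkA3_12 j (by omega) (by omega)
  by_cases h13 : j < 1792
  · exact rangeS_sound' predA3 128 1664 chkA3_13 j (by omega) (by omega)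
  by_cases h14 : j < 1920
  · exact rangeS_sound' predA3 128 1792 chkA3_14 j (by omega) (by omega)
  by_cases h15 : j < 2048
  · exact rangeS_sound' predA3 128 1920 chkA3_15 j (by omega) (by omega)
  exact rangeS_sound' predA3 10 2048 chkA3_16 j (by omega) (by omega)

end Cfsg.Agent.Lib.Helper29.HeOut
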