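import Cfsg.Agent.Lib.Helper29.HeOutPreds

set_option autoImplicit false
set_option maxRecDepth 100000
set_option linter.unusedVariables false
set_option Elab.async false

/-! The centraliser of the element of order 8: the images of the base which sift through, when the first base point is fixed.
(In chunks, which keeps the memory of the kernel small.) -/

namespace Cfsg.Agent.Lib.Helper29.HeOut

open Cfsg.Agent.Helper4.TC

theorem chkD563_0 : rangeS predD563 128 0 = true := by decide +kernel
theorem chkD563_1 : rangeS predD563 128 128 = true := by decide +kernel
theorem chkD563_2 : rangeS predD563 128 256 = true := by decide +kernel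
theorem chkD563_3 : rangeS predD563 128 384 = true := by decide +kernel
theorem chkD563_4 : rangeS predD563 128 512 = true := by decide +kernel
theorem chkD563_5 : rangeS predD563 128 640 = true := by decide +kernel
theorem chkD563_6 : rangeS predD563 128 768 = true := by decide +kernel
theorem chkD563_7 : rangeS predD563 128 896 = true := by decide +kernel
theorem chkD563_8 : rangeS predD563 128 1024 = true := by decide +kernel
theorem chkD563_9 : rangeS predD563 128 1152 = true := by decide +kernel
theorem chkD563_10 : rangeS predD563 128 1280 = true := by decide +kernel
theorem chkD563_11 : rangeS predD563 128 1408 = true := by decide +kernel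
theorem chkD563_12 : rangeS predD563 128 1536 = true := by decide +kernel
theorem chkD563_13 : rangeS predD563 128 1664 = true := by decide +kernel
theorem chkD563_14 : rangeS predD563 128 1792 = true := by decide +kernel
theorem chkD563_15 : rangeS predD563 128 1920 = true := by decide +kernel
theorem chkD563_16 : rangeS predD563 10 2048 = true := by decide +kernel

theorem chkD563 : ∀ j, j < 2058 → predD563 j = true := by
  intro j hj
  by_cases h0 : j < 128
  · exact rangeS_sound' predD563 128 0 chkD563_0 j (by omega) (by omega)
  by_cases h1 : j < 256
  · exact rangeS_sound' predD563 128 128 chkD563_1 j (by omega) (by omega)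
  by_cases h2 : j < 384
  · exact rangeS_sound' predD563 128 256 chkD563_2 j (by omega) (by omega)
  by_cases h3 : j < 512
  · exact rangeS_sound' predD563 128 384 chkD563_3 j (by omega) (by omega)
  by_cases h4 : j < 640
  · exact rangeS_sound' predD563 128 512 chkD563_4 j (by omega) (by omega)
  by_cases h5 : j < 768
  · exact rangeS_sound' predD563 128 640 chkD563_5 j (by omega) (by omega)
  by_cases h6 : j < 896
  · exact rangeS_sound' predD563 128 768 chkD563_6 j (by omega) (by omega)
  by_cases h7 : j < 1024
  · exact rangeS_sound' predD563 128 896 chkD563_7 j (by omega) (by omega)
  by_cases h8 : j < 1152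
  · exact rangeS_sound' predD563 128 1024 chkD563_8 j (by omega) (by omega)
  by_cases h9 : j < 1280
  · exact rangeS_sound' predD563 128 1152 chkD563_9 j (by omega) (by omega)
  by_cases h10 : j < 1408
  · exact rangeS_sound' predD563 128 1280 chkD563_10 j (by omega) (by omega)
  by_cases h11 : j < 1536
  · exact rangeS_sound' predD563 128 1408 chkD563_11 j (by omega) (by omega)
  by_cases h12 : j < 1664
  · exact rangeS_sound' predD563 128 1536 chkD563_12 j (by omega) (by omega)
  by_cases h13 : j < 1792
  · exact rangeS_sound' predD563 128 1664 chkD563_13 j (by omega) (by omega)
  by_cases h14 : j < 1920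
  · exact rangeS_sound' predD563 128 1792 chkD563_14 j (by omega) (by omega)
  by_cases h15 : j < 2048
  · exact rangeS_sound' predD563 128 1920 chkD563_15 j (by omega) (by omega)
  exact rangeS_sound' predD563 10 2048 chkD563_16 j (by omega) (by omega)

end Cfsg.Agent.Lib.Helper29.HeOut
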