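import Cfsg.Agent.Lib.Helper29.HeOutPreds

set_option autoImplicit false
set_option maxRecDepth 100000
set_option linter.unusedVariables false
set_option Elab.async false

/-! The centraliser of the element of order 8: no image of the base sifts through when the first base point goes to the other fixed point.
(In chunks, which keeps the memory of the kernel small.) -/

namespace Cfsg.Agent.Lib.Helper29.HeOut

open Cfsg.Agent.Helper4.TC

theorem chkD578_0 : rangeS predD578 128 0 = true := by decide +kernel
theorem chkD578_1 : rangeS predD578 128 128 = true := by decide +kernel
theorem chkD578_2 : rangeS predD578 128 256 = true := by decide +kernel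
theorem chkD578_3 : rangeS predD578 128 384 = true := by decide +kernel
theorem chkD578_4 : rangeS predD578 128 512 = true := by decide +kernel
theorem chkD578_5 : rangeS predD578 128 640 = true := by decide +kernel
theorem chkD578_6 : rangeS predD578 128 768 = true := by decide +kernel
theorem chkD578_7 : rangeS predD578 128 896 = true := by decide +kernel
theorem chkD578_8 : rangeS predD578 128 1024 = true := by decide +kernel
theorem chkD578_9 : rangeS predD578 128 1152 = true := by decide +kernel
theorem chkD578_10 : rangeS predD578 128 1280 = true := by decide +kernel
theorem chkD578_11 : rangeS predD578 128 1408 = true := by decide +kernel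
theorem chkD578_12 : rangeS predD578 128 1536 = true := by decide +kernel
theorem chkD578_13 : rangeS predD578 128 1664 = true := by decide +kernel
theorem chkD578_14 : rangeS predD578 128 1792 = true := by decide +kernel
theorem chkD578_15 : rangeS predD578 128 1920 = true := by decide +kernel
theorem chkD578_16 : rangeS predD578 10 2048 = true := by decide +kernel

theorem chkD578 : ∀ j, j < 2058 → predD578 j = true := by
  intro j hj
  by_cases h0 : j < 128
  · exact rangeS_sound' predD578 128 0 chkD578_0 j (by omega) (by omega)
  by_cases h1 : j < 256
  · exact rangeS_sound' predD578 128 128 chkD578_1 j (by omega) (by omega)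
  by_cases h2 : j < 384
  · exact rangeS_sound' predD578 128 256 chkD578_2 j (by omega) (by omega)
  by_cases h3 : j < 512
  · exact rangeS_sound' predD578 128 384 chkD578_3 j (by omega) (by omega)
  by_cases h4 : j < 640
  · exact rangeS_sound' predD578 128 512 chkD578_4 j (by omega) (by omega)
  by_cases h5 : j < 768
  · exact rangeS_sound' predD578 128 640 chkD578_5 j (by omega) (by omega)
  by_cases h6 : j < 896
  · exact rangeS_sound' predD578 128 768 chkD578_6 j (by omega) (by omega)
  by_cases h7 : j < 1024
  · exact rangeS_sound' predD578 128 896 chkD578_7 j (by omega) (by omega)
  by_cases h8 : j < 1152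
  · exact rangeS_sound' predD578 128 1024 chkD578_8 j (by omega) (by omega)
  by_cases h9 : j < 1280
  · exact rangeS_sound' predD578 128 1152 chkD578_9 j (by omega) (by omega)
  by_cases h10 : j < 1408
  · exact rangeS_sound' predD578 128 1280 chkD578_10 j (by omega) (by omega)
  by_cases h11 : j < 1536
  · exact rangeS_sound' predD578 128 1408 chkD578_11 j (by omega) (by omega)
  by_cases h12 : j < 1664
  · exact rangeS_sound' predD578 128 1536 chkD578_12 j (by omega) (by omega)
  by_cases h13 : j < 1792
  · exact rangeS_sound' predD578 128 1664 chkD578_13 j (by omega) (by omega)
  by_cases h14 : j < 1920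
  · exact rangeS_sound' predD578 128 1792 chkD578_14 j (by omega) (by omega)
  by_cases h15 : j < 2048
  · exact rangeS_sound' predD578 128 1920 chkD578_15 j (by omega) (by omega)
  exact rangeS_sound' predD578 10 2048 chkD578_16 j (by omega) (by omega)

end Cfsg.Agent.Lib.Helper29.HeOut
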