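import Cfsg.Agent.Lib.Helper29.HeOutChain
import Cfsg.Agent.Lib.Helper29.HeOutExcl
import Cfsg.Agent.Lib.Helper29.HeOutWords
import Cfsg.Agent.Lib.Helper4.TC.Embed

set_option autoImplicit false
set_option maxRecDepth 100000
set_option linter.unusedVariables false
set_option Elab.async false

/-! Relations between the words, checked on the base of the model. -/

namespace Cfsg.Agent.Lib.Helper29.HeOut

open Cfsg.Agent.Helper4.TC

theorem wok_words : wok aw = true ∧ wok dw = true ∧ wok yw = true ∧ wok zw = true ∧
    wok cw = true ∧ wok taw = true := by decide +kernel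

theorem chkRels : fixesB HeS44.mdata hbPts relA17 = true ∧ fixesB HeS44.mdata hbPts relDAD = true ∧
    fixesB HeS44.mdata hbPts relYDY = true ∧ fixesB HeS44.mdata hbPts relZD = true ∧
    fixesB HeS44.mdata hbPts relYA12 = true ∧ fixesB HeS44.mdata hbPts relYA21 = true ∧
    fixesB HeS44.mdata hbPts relTau = true := by decide +kernel

theorem chkAmoves : mtrace HeS44.mdata aw 563 ≠ 563 := by decide +kernel

theorem chkFixD : rangeS (fun t => !(Nat.beq (mtrace HeS44.mdata dw t) t) || memB t [563, 578])
    2058 0 = true := by decide +kernel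

theorem chkDfix : mtrace HeS44.mdata dw 563 = 563 := by decide +kernel

theorem base_a : [563, 167, 1354, 1119, 606] =
    (wsOf aw esA).map (fun w => mtrace HeS44.mdata w 563) := by decide +kernel

theorem base_d : [563, 167, 1354, 1119, 606] =
    563 :: (wsOf dw esD).map (fun w => mtrace HeS44.mdata w 167) := by decide +kernel

theorem cyc_ok : cyc17 = (List.range 17).map (fun i => mtrace HeS44.mdata (wpow aw i) 563) := by
  decide +kernel

theorem good_ok : good563 = Lw.map (fun w => mtrace HeS44.mdata w 167) ∧
    ∀ w ∈ Lw, wok w = true ∧ mtrace HeS44.mdata w 563 = 563 := by decide +kernel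

theorem chkDist : ∀ w ∈ Lw, w = [] ∨ (wok (dist12 w) = true ∧ mtrace HeS44.mdata (dist12 w) 0 ≠ 0) ∨
    (wok (dist21 w) = true ∧ mtrace HeS44.mdata (dist21 w) 0 ≠ 0) := by decide +kernel

theorem chkGen : ∀ p ∈ genData, fixesB HeS44.mdata hbPts (p.2.flatten ++ [Nat.xor p.1 1]) = true ∧
    ∀ b ∈ p.2, b ∈ pieceL := by decide +kernel

theorem chkTau : ∀ b ∈ HeS44.bases, fixesB HeS44.mdata hbPts (substW sigma HeS44.dec b) = true := by
  decide +kernel

theorem chkTauA : substW sigma HeS44.dec aw = taw := by decide +kernel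

end Cfsg.Agent.Lib.Helper29.HeOut
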