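import Cfsg.Agent.Lib.Helper29.HeOutBase
import Cfsg.Agent.Lib.Helper29.HeOutChkA
import Cfsg.Agent.Lib.Helper29.HeOutChkB
import Cfsg.Agent.Lib.Helper29.HeOutChkC
import Cfsg.Agent.Lib.Helper29.HeOutChkD
import Cfsg.Agent.Lib.Helper29.HeOutChkE
import Cfsg.Agent.Lib.Helper29.HeOutAbs
import Cfsg.Agent.Lib.Helper17.HeOutP1

set_option autoImplicit false
set_option maxRecDepth 100000
set_option linter.unusedVariables false
set_option linter.unusedSectionVars false
set_option linter.style.haveILetI false

/-!
# The outer automorphism group of the presented Held group has order two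
-/

namespace Cfsg.Agent.Lib.Helper29.HeOut

open Cfsg.Agent.Helper4.TC

theorem one_of_fixes (w : List ℕ) (h : fixesB HeS44.mdata hbPts w = true) : el w = 1 :=
  el_eq_one_of_fixesB w h

/-! ### the relations -/

theorem relA : (el aw) ^ 17 = 1 := by
  rw [← el_wpow]
  exact one_of_fixes _ chkRels.1

theorem A_ne_one : el aw ≠ 1 :=
  el_ne_one_of_moves aw wok_words.1 563 (by norm_num) chkAmoves

theorem orderA : orderOf (el aw) = 17 := orderOf_eq_prime_of (by norm_num) relA A_ne_one

theorem relD : el dw * el aw * (el dw)⁻¹ = (el aw) ^ 2 := by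
  have h := one_of_fixes _ chkRels.2.1
  unfold relDAD at h
  rw [el_append, el_append, el_append, el_invW, el_invW, el_wpow, ← mul_assoc, ← mul_assoc] at h
  exact mul_inv_eq_one.mp h

theorem relY : el yw * el dw * (el yw)⁻¹ = (el dw)⁻¹ := by
  have h := one_of_fixes _ chkRels.2.2.1
  unfold relYDY at h
  rw [el_append, el_append, el_append, el_invW, ← mul_assoc, ← mul_assoc] at h
  exact mul_eq_one_iff_eq_inv.mp h

theorem relZ : el zw * el dw = el dw * el zw := by
  have h := one_of_fixes _ chkRels.2.2.2.1
  unfold relZD at h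
  rw [el_append, el_append, el_append, el_invW, el_invW, ← mul_assoc, ← mul_inv_rev] at h
  exact mul_inv_eq_one.mp h

theorem thmYA12 : (el yw * el aw) ^ 12 = 1 := by
  have h := one_of_fixes _ chkRels.2.2.2.2.1
  unfold relYA12 at h
  rw [el_wpow, el_append] at h
  exact h

theorem thmYA21 : (el yw * (el aw) ^ 2) ^ 21 = 1 := by
  have h := one_of_fixes _ chkRels.2.2.2.2.2.1
  unfold relYA21 at h
  rw [el_wpow, el_append, el_wpow] at h
  exact h

theorem relT : el cw * el taw * (el cw)⁻¹ = (el aw) ^ 3 := by
  have h := one_of_fixes _ chkRels.2.2.2.2.2.2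
  unfold relTau at h
  rw [el_append, el_append, el_append, el_invW, el_invW, el_wpow, ← mul_assoc, ← mul_assoc] at h
  exact mul_inv_eq_one.mp h

/-! ### images of the base under elements intertwining two words -/

theorem map_base_of_semiconj (g : HeP) (u v : List ℕ) (hu : wok u = true) (hv : wok v = true)
    (h : g * el u = el v * g) (x : ℕ) (hx : x < 2058) (es : List ℕ) :
    ((wsOf u es).map fun w => mtrace HeS44.mdata w x).map (act g) =
      imgsF HeS44.mdata (act g x) (wsOf v es) := by
  rw [imgsF_eq]
  unfold wsOf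
  rw [List.map_map, List.map_map, List.map_map]
  apply List.map_congr_left
  intro e _
  show act g (mtrace HeS44.mdata (wpow u e) x) = mtrace HeS44.mdata (wpow v e) (act g x)
  rw [← act_pow_el u hu e x hx, act_semiconj g (el u) (el v) h e x,
    act_pow_el v hv e _ (act_lt g x)]

theorem forall_of_map_eq_self {f : ℕ → ℕ} : ∀ {l : List ℕ}, l.map f = l → ∀ b ∈ l, f b = b := by
  intro l
  induction l with
  | nil => intro _ b hb; cases hb
  | cons x xs ih =>
    intro h b hb
    rw [List.map_cons, List.cons.injEq] at h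
    rcases List.mem_cons.mp hb with rfl | hb
    · exact h.1
    · exact ih h.2 b hb

theorem map_base_a (g : HeP) (v : List ℕ) (hv : wok v = true) (h : g * el aw = el v * g) :
    basePts.map (act g) = imgsF HeS44.mdata (act g 563) (wsOf v esA) := by
  have hb := map_base_of_semiconj g aw v wok_words.1 hv h 563 (by norm_num) esA
  rw [← base_a] at hb
  exact hb

theorem map_base_d (g : HeP) (h : g * el dw = el dw * g) :
    basePts.map (act g) = act g 563 :: imgsF HeS44.mdata (act g 167) (wsOf dw esD) := by
  have hb := map_base_of_semiconj g dw dw wok_words.2.1 wok_words.2.1 h 167 (by norm_num) esD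
  show ([563, 167, 1354, 1119, 606] : List ℕ).map (act g) = _
  rw [base_d, List.map_cons, hb]

theorem fix_of_commute_a (g : HeP) (h : g * el aw = el aw * g) (h1 : act g 563 = 563) :
    g = 1 := by
  apply base_faithful
  have hb := map_base_a g aw wok_words.1 h
  rw [h1, imgsF_eq, ← base_a] at hb
  exact forall_of_map_eq_self hb

theorem fix_of_commute_d (g : HeP) (h : g * el dw = el dw * g) (h1 : act g 563 = 563)
    (h2 : act g 167 = 167) : g = 1 := by
  apply base_faithful
  have hb := map_base_d g h
  rw [h1, h2, imgsF_eq, ← base_d] at hb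
  exact forall_of_map_eq_self hb

/-! ### the centraliser of the element of order 17 -/

theorem hCa : ∀ c : HeP, c * el aw = el aw * c → c ∈ Subgroup.zpowers (el aw) := by
  intro c hc
  have hs := sift c
  rw [map_base_a c aw wok_words.1 hc] at hs
  have hchk : (memB (act c 563) cyc17 ||
      excl HeS44.mdata specs (imgsF HeS44.mdata (act c 563) (wsOf aw esA))) = true :=
    chkA _ (act_lt c 563)
  rw [hs, Bool.or_false] at hchk
  have hmem := memB_sound hchk
  rw [cyc_ok, List.mem_map] at hmem
  obtain ⟨i, _, hi⟩ := hmem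
  have hi' : act ((el aw) ^ i) 563 = act c 563 := by
    rw [act_pow_el aw wok_words.1 i 563 (by norm_num)]
    exact hi
  have hcomm : Commute (((el aw) ^ i)⁻¹ * c) (el aw) :=
    Commute.mul_left (Commute.inv_left (Commute.pow_left (Commute.refl _) i)) hc
  have hg : ((el aw) ^ i)⁻¹ * c = 1 := by
    apply fix_of_commute_a _ hcomm.eq
    rw [act_mul, ← hi']
    exact act_inv_of _ 563 _ (by norm_num) rfl
  have : c = (el aw) ^ i := by
    rw [inv_mul_eq_one] at hg
    exact hg.symm
  rw [this]
  exact Subgroup.npow_mem_zpowers _ _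

/-! ### no element conjugates the element of order 17 to its cube -/

theorem wok_a3 : wok (wpow aw 3) = true := by decide

theorem hno : ∀ g : HeP, g * el aw * g⁻¹ ≠ (el aw) ^ 3 := by
  intro g hg
  have h : g * el aw = el (wpow aw 3) * g := by
    rw [el_wpow, ← hg]
    group
  have hs := sift g
  rw [map_base_a g (wpow aw 3) wok_a3 h] at hs
  have hchk : excl HeS44.mdata specs
      (imgsF HeS44.mdata (act g 563) (wsOf (wpow aw 3) esA)) = true :=
    chkA3 _ (act_lt g 563)
  rw [hchk] at hs
  cases hs

/-! ### the centraliser of the element of order 8 -/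

theorem fixD_of_commute (c : HeP) (hc : c * el dw = el dw * c) :
    act c 563 = 563 ∨ act c 563 = 578 := by
  have h1 : mtrace HeS44.mdata dw (act c 563) = act c 563 := by
    rw [← act_el dw wok_words.2.1 _ (act_lt c 563), ← act_mul, ← hc, act_mul,
      act_el dw wok_words.2.1 563 (by norm_num), chkDfix]
  have hchk : (!(Nat.beq (mtrace HeS44.mdata dw (act c 563)) (act c 563)) ||
      memB (act c 563) [563, 578]) = true :=
    rangeS_sound _ 2058 chkFixD _ (act_lt c 563)
  rw [h1, Nat.beq_refl] at hchk
  simp only [Bool.not_true, Bool.false_or] at hchk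
  have := memB_sound hchk
  simpa using this

theorem comm_lw (i j : ℕ) : el (lw i j) * el dw = el dw * el (lw i j) := by
  unfold lw
  rw [el_append, el_wpow, el_wpow]
  have hzd : Commute (el zw) (el dw) := relZ
  exact ((hzd.pow_left j).mul_left (Commute.pow_left (Commute.refl _) i)).eq

theorem Lw_form : ∀ w ∈ Lw, ∃ i j, w = lw i j := by
  intro w hw
  simp only [Lw, List.mem_cons, List.not_mem_nil, or_false] at hw
  rcases hw with rfl | rfl | rfl | rfl | rfl | rfl | rfl | rfl | rfl | rfl | rfl | rfl | rfl |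
    rfl | rfl | rfl <;> exact ⟨_, _, rfl⟩

theorem hCd : ∀ c : HeP, c * el dw = el dw * c → c ∈ Lw.map el := by
  intro c hc
  have hs := sift c
  rw [map_base_d c hc] at hs
  have h563 : act c 563 = 563 := by
    rcases fixD_of_commute c hc with h | h
    · exact h
    · exfalso
      rw [h] at hs
      have hchk : excl HeS44.mdata specs
          (578 :: imgsF HeS44.mdata (act c 167) (wsOf dw esD)) = true :=
        chkD578 _ (act_lt c 167)
      rw [hchk] at hs
      cases hs
  rw [h563] at hs
  have hchk : (memB (act c 167) good563 || excl HeS44.mdata specs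
      (563 :: imgsF HeS44.mdata (act c 167) (wsOf dw esD))) = true :=
    chkD563 _ (act_lt c 167)
  rw [hs, Bool.or_false] at hchk
  have hmem := memB_sound hchk
  rw [good_ok.1, List.mem_map] at hmem
  obtain ⟨w, hw, hw167⟩ := hmem
  obtain ⟨hwok, hw563⟩ := good_ok.2 w hw
  have hcomm : Commute (el w) (el dw) := by
    obtain ⟨i, j, rfl⟩ := Lw_form w hw
    exact comm_lw i j
  have hcomm2 : Commute ((el w)⁻¹ * c) (el dw) := Commute.mul_left (Commute.inv_left hcomm) hc
  have hg : (el w)⁻¹ * c = 1 := by
    apply fix_of_commute_d _ hcomm2.eq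
    · rw [act_mul, h563]
      exact act_inv_of (el w) 563 563 (by norm_num)
        (by rw [act_el w hwok 563 (by norm_num)]; exact hw563)
    · rw [act_mul, ← hw167]
      exact act_inv_of (el w) 167 _ (by norm_num) (act_el w hwok 167 (by norm_num))
  have : c = el w := by
    rw [inv_mul_eq_one] at hg
    exact hg.symm
  rw [this]
  exact List.mem_map_of_mem hw

/-! ### automorphisms fixing `a` and `d` fix `y` -/

theorem hy : ∀ ψ : MulAut HeP, ψ (el aw) = el aw → ψ (el dw) = el dw → ψ (el yw) = el yw := by
  refine rigid_of_centralizer (Lw.map el) hCd relY 12 21 thmYA12 thmYA21 ?_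
  intro c hc
  obtain ⟨w, hw, rfl⟩ := List.mem_map.mp hc
  rcases chkDist w hw with h | ⟨h1, h2⟩ | ⟨h1, h2⟩
  · left
    rw [h, el_nil]
  · right; left
    have h3 := el_ne_one_of_moves _ h1 0 (by norm_num) h2
    unfold dist12 at h3
    rw [el_wpow, el_append, el_append, ← mul_assoc] at h3
    exact h3
  · right; right
    have h3 := el_ne_one_of_moves _ h1 0 (by norm_num) h2
    unfold dist21 at h3
    rw [el_wpow, el_append, el_append, el_wpow, ← mul_assoc] at h3
    exact h3

/-! ### generation -/

theorem gen_mem (p : ℕ × List (List ℕ)) (hp : p ∈ genData) :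
    el [p.1] ∈ Subgroup.closure ({el aw, el dw, el yw} : Set HeP) := by
  obtain ⟨h1, h2⟩ := chkGen p hp
  have h3 := one_of_fixes _ h1
  rw [el_append] at h3
  have h4 : el [Nat.xor p.1 1] = (el [p.1])⁻¹ := el_invW [p.1]
  rw [h4, inv_mul_eq_one] at h3
  rw [h3]
  have hA : el aw ∈ Subgroup.closure ({el aw, el dw, el yw} : Set HeP) :=
    Subgroup.subset_closure (by simp)
  have hD : el dw ∈ Subgroup.closure ({el aw, el dw, el yw} : Set HeP) :=
    Subgroup.subset_closure (by simp)
  have hY : el yw ∈ Subgroup.closure ({el aw, el dw, el yw} : Set HeP) :=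
    Subgroup.subset_closure (by simp)
  show PresentedGroup.mk HeS.Rset (wordF HeS44.dec p.2.flatten) ∈ _
  apply mk_flatten_mem
  intro b hb
  have hb' := h2 b hb
  simp only [pieceL, List.mem_cons, List.not_mem_nil, or_false] at hb'
  rcases hb' with rfl | rfl | rfl | rfl | rfl
  · exact hA
  · have : PresentedGroup.mk HeS.Rset (wordF HeS44.dec (invW aw)) = (el aw)⁻¹ := el_invW aw
    rw [this]
    exact Subgroup.inv_mem _ hA
  · exact hD
  · have : PresentedGroup.mk HeS.Rset (wordF HeS44.dec (invW dw)) = (el dw)⁻¹ := el_invW dw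
    rw [this]
    exact Subgroup.inv_mem _ hD
  · exact hY

theorem gen_codes : ∀ c ∈ [0, 2, 4, 6, 8, 10, 12],
    el [c] ∈ Subgroup.closure ({el aw, el dw, el yw} : Set HeP) := by
  intro c hc
  have hm : c ∈ genData.map Prod.fst := by
    have : genData.map Prod.fst = [0, 2, 4, 6, 8, 10, 12] := rfl
    rw [this]
    exact hc
  obtain ⟨p, hp, rfl⟩ := List.mem_map.mp hm
  exact gen_mem p hp

theorem of_eq_el (x : Cfsg.Spor.He.Gen) :
    (PresentedGroup.of x : HeP) = el [HeS44.enc x] := by
  cases x <;> rfl

theorem hgen : Subgroup.closure ({el aw, el dw, el yw} : Set HeP) = ⊤ := by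
  rw [eq_top_iff, ← PresentedGroup.closure_range_of, Subgroup.closure_le]
  rintro _ ⟨x, rfl⟩
  rw [SetLike.mem_coe, of_eq_el]
  apply gen_codes
  cases x <;> decide

/-! ### the symmetry of the diagram -/

theorem exists_tau : ∃ ψ : HeP →* HeP, ∀ x, ψ (PresentedGroup.of x) = el (sigma x) :=
  exists_hom_of_subst HeS44.coding HeS44.hR1 HeS44.model_ok 4030387200 (by norm_num) HeS.card_top
    HeS.specs HeS.levels_ok (by decide) HeS.Rset HeS44.bases HeS44.hR1 sigma hbPts rfl chkTau

theorem map_gl {P Q : Type*} [Group P] [Group Q] {α : Type} (ψ : P →* Q) (γ : α → P)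
    (l : Letter α) : ψ (gl γ l) = gl (fun x => ψ (γ x)) l := by
  unfold gl
  split_ifs <;> simp

theorem map_evc {P Q : Type*} [Group P] [Group Q] {α : Type} (ψ : P →* Q) (γ : α → P)
    (dec : ℕ → Letter α) (w : List ℕ) : ψ (evc γ dec w) = evc (fun x => ψ (γ x)) dec w := by
  induction w with
  | nil => rw [evc_nil, evc_nil, map_one]
  | cons c u ih => rw [evc_cons, evc_cons, map_mul, ih, map_gl]

theorem tau_el (ψ : HeP →* HeP) (hψ : ∀ x, ψ (PresentedGroup.of x) = el (sigma x))
    (w : List ℕ) : ψ (el w) = el (substW sigma HeS44.dec w) := by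
  unfold el
  rw [← evc_of, map_evc, ← evc_of, evc_substW _ HeS44.coding]
  congr 1
  funext x
  rw [hψ x]
  unfold el
  rw [evc_of]

theorem tau_invol (ψ : HeP →* HeP) (hψ : ∀ x, ψ (PresentedGroup.of x) = el (sigma x)) :
    ∀ g, ψ (ψ g) = g := by
  have h : ψ.comp ψ = MonoidHom.id HeP := by
    apply PresentedGroup.ext
    intro x
    show ψ (ψ (PresentedGroup.of x)) = PresentedGroup.of x
    rw [hψ x, tau_el ψ hψ]
    cases x <;> rfl
  intro g
  exact DFunLike.congr_fun h g

/-! ### the main theorem -/

theorem hfac : (Nat.card HeP).factorization 17 = 1 := by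
  rw [card_HeP, show (4030387200 : ℕ) = 17 * 237081600 from by norm_num,
    Nat.factorization_mul (by norm_num) (by norm_num)]
  simp only [Finsupp.coe_add, Pi.add_apply]
  rw [Nat.Prime.factorization_self (by norm_num),
    Nat.factorization_eq_zero_of_not_dvd (by norm_num)]

theorem out_He : Nat.card (Cfsg.Out HeP) = 2 := by
  obtain ⟨ψ, hψ⟩ := exists_tau
  haveI : Fact (Nat.Prime 17) := ⟨by norm_num⟩
  refine out_card_two_of_rigid (p := 17) (r := 2) (t := 3) orderA hfac relD (by norm_num) arith17
    hCa hgen hy hno (MulAut.conj (el cw) * autOfInvolutive ψ (tau_invol ψ hψ)) ?_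
  show el cw * ψ (el aw) * (el cw)⁻¹ = (el aw) ^ 3
  rw [tau_el ψ hψ, chkTauA]
  exact relT

end Cfsg.Agent.Lib.Helper29.HeOut
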