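import Cfsg.Agent.Lib.Helper29.HeOutChain
import Cfsg.Agent.Lib.Helper29.HeOutExcl
import Cfsg.Agent.Lib.Helper29.HeOutWords

set_option autoImplicit false
set_option maxRecDepth 100000
set_option linter.unusedVariables false

/-! The tests on the images of the base, for the centralisers of the elements of orders 17
and 8 of the Held group. -/

namespace Cfsg.Agent.Lib.Helper29.HeOut

open Cfsg.Agent.Helper4.TC

/-- the image `t` of the first base point under an element commuting with `a` lies in the cycle
of the base point, or the images of the base do not sift through -/
noncomputable def predA (t : ℕ) : Bool :=
  memB t cyc17 || excl HeS44.mdata specs (imgsF HeS44.mdata t (wsOf aw esA))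

/-- the images of the base under an element conjugating `a` to its cube do not sift through -/
noncomputable def predA3 (t : ℕ) : Bool :=
  excl HeS44.mdata specs (imgsF HeS44.mdata t (wsOf (wpow aw 3) esA))

/-- the image `t` of the second base point under an element commuting with `d` and fixing the
first base point is one of sixteen points, or the images of the base do not sift through -/
noncomputable def predD563 (t : ℕ) : Bool :=
  memB t good563 || excl HeS44.mdata specs (563 :: imgsF HeS44.mdata t (wsOf dw esD))

/-- the images of the base under an element commuting with `d` and moving the first base point
do not sift through -/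
noncomputable def predD578 (t : ℕ) : Bool :=
  excl HeS44.mdata specs (578 :: imgsF HeS44.mdata t (wsOf dw esD))

theorem rangeS_sound' (P : ℕ → Bool) (f k : ℕ) (h : rangeS P f k = true) :
    ∀ j, k ≤ j → j < k + f → P j = true := by
  rw [rangeS_eq] at h
  exact range_sound P (rangeL P) (fun _ => rfl) (rangeL_succ P) f k h

end Cfsg.Agent.Lib.Helper29.HeOut
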