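import Mathlib

/-!
# Invariant partitions for involutive maps (helper29)

For an involutive map `π` on `Fin n`, `n = a * t`, there is a partition of `Fin n` into `t` blocks of size `a`
that `π` permutes (`exists_partition_fin`).
-/

set_option autoImplicit false

namespace Cfsg.Agent.Helper29.InvolPart

variable {I : Type*} [LinearOrder I]

theorem pi_injective (π : I → I) (hπ : ∀ k, π (π k) = k) : Function.Injective π :=
  fun x y h => by rw [← hπ x, ← hπ y, h]

theorem block_props (π : I → I) (hπ : ∀ k, π (π k) = k) (A' F' : Finset I)
    (hA' : ∀ k ∈ A', k < π k) (hF' : ∀ k ∈ F', π k = k) :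
    (A' ∪ A'.image π ∪ F').card = 2 * A'.card + F'.card ∧
    ∀ k ∈ A' ∪ A'.image π ∪ F', π k ∈ A' ∪ A'.image π ∪ F' := by
  constructor
  · have hd1 : Disjoint A' (A'.image π) := by
      rw [Finset.disjoint_left]
      intro l hl hl'
      obtain ⟨k, hk, rfl⟩ := Finset.mem_image.mp hl'
      have h1 := hA' k hk
      have h2 := hA' (π k) hl
      rw [hπ k] at h2
      exact lt_asymm h1 h2
    have hd2 : Disjoint (A' ∪ A'.image π) F' := by
      rw [Finset.disjoint_left]
      intro l hl hl'
      have hfix := hF' l hl'
      rcases Finset.mem_union.mp hl with h | h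
      · have := hA' l h
        rw [hfix] at this
        exact lt_irrefl _ this
      · obtain ⟨k, hk, rfl⟩ := Finset.mem_image.mp h
        have := hA' k hk
        rw [hπ k] at hfix
        rw [← hfix] at this
        exact lt_irrefl _ this
    rw [Finset.card_union_of_disjoint hd2, Finset.card_union_of_disjoint hd1,
      Finset.card_image_of_injective _ (pi_injective π hπ)]
    ring
  · intro k hk
    rcases Finset.mem_union.mp hk with h | h
    · rcases Finset.mem_union.mp h with h' | h'
      · exact Finset.mem_union_left _ (Finset.mem_union_right _ (Finset.mem_image_of_mem π h'))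
      · obtain ⟨l, hl, rfl⟩ := Finset.mem_image.mp h'
        rw [hπ l]
        exact Finset.mem_union_left _ (Finset.mem_union_left _ hl)
    · rw [hF' k h]
      exact Finset.mem_union_right _ h

theorem decomp (π : I → I) (hπ : ∀ k, π (π k) = k) (S : Finset I) (hS : ∀ k ∈ S, π k ∈ S) :
    S = S.filter (fun k => k < π k) ∪ (S.filter (fun k => k < π k)).image π
      ∪ S.filter (fun k => π k = k) := by
  ext l
  simp only [Finset.mem_union, Finset.mem_filter, Finset.mem_image]
  constructor
  · intro hl
    rcases lt_trichotomy l (π l) with h | h | h
    · exact Or.inl (Or.inl ⟨hl, h⟩)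
    · exact Or.inr ⟨hl, h.symm⟩
    · refine Or.inl (Or.inr ⟨π l, ⟨hS l hl, ?_⟩, hπ l⟩)
      rw [hπ l]
      exact h
  · rintro ((⟨hl, -⟩ | ⟨k, ⟨hk, -⟩, rfl⟩) | ⟨hl, -⟩)
    · exact hl
    · exact hS k hk
    · exact hl

theorem peel (π : I → I) (hπ : ∀ k, π (π k) = k) (a : ℕ) (ha : 1 ≤ a) (S : Finset I)
    (hS : ∀ k ∈ S, π k ∈ S) (hle : a ≤ S.card) (hdvd : a ∣ S.card) :
    (∃ B ⊆ S, B.card = a ∧ ∀ k ∈ B, π k ∈ B) ∨
    (2 * a ≤ S.card ∧ ∃ B ⊆ S, B.card = a ∧ ∀ k ∈ B, π k ∉ B) := by
  obtain ⟨A, hAdef⟩ : ∃ A, A = S.filter (fun k => k < π k) := ⟨_, rfl⟩
  obtain ⟨Fx, hFdef⟩ : ∃ Fx, Fx = S.filter (fun k => π k = k) := ⟨_, rfl⟩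
  have hAlt : ∀ k ∈ A, k < π k := by
    intro k hk
    rw [hAdef] at hk
    exact (Finset.mem_filter.mp hk).2
  have hAS : A ⊆ S := by rw [hAdef]; exact Finset.filter_subset _ _
  have hFx : ∀ k ∈ Fx, π k = k := by
    intro k hk
    rw [hFdef] at hk
    exact (Finset.mem_filter.mp hk).2
  have hFS : Fx ⊆ S := by rw [hFdef]; exact Finset.filter_subset _ _
  have hdec : S = A ∪ A.image π ∪ Fx := by
    rw [hAdef, hFdef]
    exact decomp π hπ S hS
  have hcardS : S.card = 2 * A.card + Fx.card := by
    have h := (block_props π hπ A Fx hAlt hFx).1
    rw [← hdec] at h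
    exact h
  have mk : ∀ A' F' : Finset I, A' ⊆ A → F' ⊆ Fx → 2 * A'.card + F'.card = a →
      ∃ B ⊆ S, B.card = a ∧ ∀ k ∈ B, π k ∈ B := by
    intro A' F' hA' hF' hc
    have hp := block_props π hπ A' F' (fun k hk => hAlt k (hA' hk)) (fun k hk => hFx k (hF' hk))
    refine ⟨A' ∪ A'.image π ∪ F', ?_, by rw [hp.1, hc], hp.2⟩
    intro k hk
    rcases Finset.mem_union.mp hk with h | h
    · rcases Finset.mem_union.mp h with h' | h'
      · exact hAS (hA' h')
      · obtain ⟨l, hl, rfl⟩ := Finset.mem_image.mp h'
        exact hS l (hAS (hA' hl))
    · exact hFS (hF' h)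
  by_cases h1 : a / 2 ≤ A.card
  · rcases Nat.mod_two_eq_zero_or_one a with h2 | h2
    · left
      obtain ⟨A', hA', hA'c⟩ := Finset.exists_subset_card_eq h1
      exact mk A' ∅ hA' (Finset.empty_subset _) (by rw [hA'c, Finset.card_empty]; omega)
    · by_cases h3 : 1 ≤ Fx.card
      · left
        obtain ⟨A', hA', hA'c⟩ := Finset.exists_subset_card_eq h1
        obtain ⟨F', hF', hF'c⟩ := Finset.exists_subset_card_eq h3
        exact mk A' F' hA' hF' (by rw [hA'c, hF'c]; omega)
      · right
        have hF0 : Fx.card = 0 := by omega
        obtain ⟨m, hm⟩ := hdvd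
        have hm2 : m % 2 = 0 := by
          have h4 : (a * m) % 2 = 0 := by rw [← hm, hcardS, hF0]; omega
          rw [Nat.mul_mod, h2, one_mul, Nat.mod_mod] at h4
          exact h4
        have hm0 : m ≠ 0 := by
          rintro rfl
          rw [mul_zero] at hm
          omega
        have hm2' : 2 ≤ m := by omega
        have h2a : 2 * a ≤ S.card := by
          rw [hm, mul_comm 2 a]
          exact Nat.mul_le_mul_left a hm2'
        refine ⟨h2a, ?_⟩
        have hAa : a ≤ A.card := by omega
        obtain ⟨B, hB, hBc⟩ := Finset.exists_subset_card_eq hAa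
        refine ⟨B, fun k hk => hAS (hB hk), hBc, ?_⟩
        intro k hk hk'
        have h5 := hAlt k (hB hk)
        have h6 := hAlt (π k) (hB hk')
        rw [hπ k] at h6
        exact lt_asymm h5 h6
  · left
    have h4 : a - 2 * A.card ≤ Fx.card := by omega
    obtain ⟨F', hF', hF'c⟩ := Finset.exists_subset_card_eq h4
    exact mk A F' (Finset.Subset.refl _) hF' (by rw [hF'c]; omega)

theorem exists_partition (π : I → I) (hπ : ∀ k, π (π k) = k) (a : ℕ) (ha : 1 ≤ a) :
    ∀ (t : ℕ) (S : Finset I), (∀ k ∈ S, π k ∈ S) → S.card = a * t →
      ∃ (f : I → ℕ) (σ : ℕ → ℕ), (∀ k ∈ S, f k < t) ∧ (∀ j < t, σ j < t ∧ σ (σ j) = j) ∧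
        (∀ j < t, (S.filter (fun k => f k = j)).card = a) ∧ (∀ k ∈ S, f (π k) = σ (f k)) := by
  intro t
  induction t using Nat.strong_induction_on with
  | _ t ih =>
    intro S hS hcard
    rcases Nat.eq_zero_or_pos t with ht0 | htpos
    · subst ht0
      have hS0 : S = ∅ := by
        rw [← Finset.card_eq_zero, hcard, mul_zero]
      subst hS0
      exact ⟨fun _ => 0, id, by simp, by simp, by simp, by simp⟩
    · have hle : a ≤ S.card := by
        rw [hcard]
        exact Nat.le_mul_of_pos_right a htpos
      rcases peel π hπ a ha S hS hle ⟨t, hcard⟩ with ⟨B, hBS, hBc, hBinv⟩ | ⟨h2a, B, hBS, hBc, hBn⟩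
      · -- an invariant block
        obtain ⟨t', rfl⟩ : ∃ t', t = t' + 1 := ⟨t - 1, by omega⟩
        have hS'inv : ∀ k ∈ S \ B, π k ∈ S \ B := by
          intro k hk
          rw [Finset.mem_sdiff] at hk ⊢
          refine ⟨hS k hk.1, fun h => hk.2 ?_⟩
          have := hBinv _ h
          rwa [hπ k] at this
        have hS'c : (S \ B).card = a * t' := by
          rw [Finset.card_sdiff_of_subset hBS, hcard, hBc, mul_add, mul_one, Nat.add_sub_cancel]
        obtain ⟨f', σ', hf', hσ', hfib', heq'⟩ := ih t' (by omega) (S \ B) hS'inv hS'c
        refine ⟨fun k => if k ∈ B then t' else f' k, fun j => if j = t' then t' else σ' j, ?_, ?_, ?_, ?_⟩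
        · intro k hk
          by_cases hkB : k ∈ B
          · simp only [hkB, if_true]; omega
          · simp only [hkB, if_false]
            have := hf' k (Finset.mem_sdiff.mpr ⟨hk, hkB⟩)
            omega
        · intro j hj
          by_cases hjt : j = t'
          · subst hjt
            simp
          · have hj' : j < t' := by omega
            have h1 := hσ' j hj'
            have h2 : σ' j ≠ t' := by omega
            simp only [hjt, if_false, h2]
            exact ⟨by omega, h1.2⟩
        · intro j hj
          by_cases hjt : j = t'
          · subst hjt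
            have : S.filter (fun k => (if k ∈ B then j else f' k) = j) = B := by
              ext k
              rw [Finset.mem_filter]
              constructor
              · rintro ⟨hkS, hk⟩
                by_contra hkB
                simp only [hkB, if_false] at hk
                have := hf' k (Finset.mem_sdiff.mpr ⟨hkS, hkB⟩)
                omega
              · intro hkB
                exact ⟨hBS hkB, by simp only [hkB, if_true]⟩
            rw [this, hBc]
          · have hj' : j < t' := by omega
            have : S.filter (fun k => (if k ∈ B then t' else f' k) = j)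
                = (S \ B).filter (fun k => f' k = j) := by
              ext k
              rw [Finset.mem_filter, Finset.mem_filter, Finset.mem_sdiff]
              constructor
              · rintro ⟨hkS, hk⟩
                by_cases hkB : k ∈ B
                · simp only [hkB, if_true] at hk
                  omega
                · simp only [hkB, if_false] at hk
                  exact ⟨⟨hkS, hkB⟩, hk⟩
              · rintro ⟨⟨hkS, hkB⟩, hk⟩
                refine ⟨hkS, ?_⟩
                simp only [hkB, if_false]
                exact hk
            rw [this, hfib' j hj']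
        · intro k hk
          by_cases hkB : k ∈ B
          · have hπkB := hBinv k hkB
            simp only [hkB, hπkB, if_true]
          · have hkS' : k ∈ S \ B := Finset.mem_sdiff.mpr ⟨hk, hkB⟩
            have hπkS' := hS'inv k hkS'
            have hπkB : π k ∉ B := (Finset.mem_sdiff.mp hπkS').2
            have h1 := hf' k hkS'
            have h2 : f' k ≠ t' := by omega
            simp only [hkB, hπkB, if_false, h2]
            exact heq' k hkS'
      · -- a swapped pair of blocks
        have ht2 : 2 ≤ t := by
          by_contra hlt
          have : t = 1 := by omega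
          subst this
          rw [mul_one] at hcard
          omega
        obtain ⟨t', rfl⟩ : ∃ t', t = t' + 2 := ⟨t - 2, by omega⟩
        have hB'S : B.image π ⊆ S := by
          intro l hl
          obtain ⟨k, hk, rfl⟩ := Finset.mem_image.mp hl
          exact hS k (hBS hk)
        have hB'c : (B.image π).card = a := by
          rw [Finset.card_image_of_injective _ (pi_injective π hπ), hBc]
        have hdisj : Disjoint B (B.image π) := by
          rw [Finset.disjoint_left]
          intro l hl hl'
          obtain ⟨k, hk, rfl⟩ := Finset.mem_image.mp hl'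
          exact hBn k hk hl
        have hUS : B ∪ B.image π ⊆ S := Finset.union_subset hBS hB'S
        have hUc : (B ∪ B.image π).card = 2 * a := by
          rw [Finset.card_union_of_disjoint hdisj, hBc, hB'c]; ring
        have hmemB' : ∀ k, k ∈ B.image π ↔ π k ∈ B := by
          intro k
          constructor
          · intro hk
            obtain ⟨l, hl, rfl⟩ := Finset.mem_image.mp hk
            rwa [hπ l]
          · intro hk
            exact Finset.mem_image.mpr ⟨π k, hk, hπ k⟩
        have hS'inv : ∀ k ∈ S \ (B ∪ B.image π), π k ∈ S \ (B ∪ B.image π) := by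
          intro k hk
          rw [Finset.mem_sdiff, Finset.mem_union, not_or] at hk ⊢
          refine ⟨hS k hk.1, fun h => hk.2.2 ((hmemB' k).mpr h), fun h => hk.2.1 ?_⟩
          have := (hmemB' (π k)).mp h
          rwa [hπ k] at this
        have hS'c : (S \ (B ∪ B.image π)).card = a * t' := by
          rw [Finset.card_sdiff_of_subset hUS, hcard, hUc]
          have : a * (t' + 2) = a * t' + 2 * a := by ring
          omega
        obtain ⟨f', σ', hf', hσ', hfib', heq'⟩ := ih t' (by omega) _ hS'inv hS'c
        refine ⟨fun k => if k ∈ B then t' else if k ∈ B.image π then t' + 1 else f' k,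
          fun j => if j = t' then t' + 1 else if j = t' + 1 then t' else σ' j, ?_, ?_, ?_, ?_⟩
        · intro k hk
          by_cases hkB : k ∈ B
          · simp only [hkB, if_true]; omega
          · by_cases hkB' : k ∈ B.image π
            · simp only [hkB, hkB', if_true, if_false]; omega
            · simp only [hkB, hkB', if_false]
              have := hf' k (Finset.mem_sdiff.mpr ⟨hk, by
                rw [Finset.mem_union, not_or]; exact ⟨hkB, hkB'⟩⟩)
              omega
        · intro j hj
          by_cases hjt : j = t'
          · subst hjt
            simp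
          · by_cases hjt1 : j = t' + 1
            · subst hjt1
              simp
            · have hj' : j < t' := by omega
              have h1 := hσ' j hj'
              have h2 : σ' j ≠ t' := by omega
              have h3 : σ' j ≠ t' + 1 := by omega
              simp only [hjt, hjt1, if_false, h2, h3]
              exact ⟨by omega, h1.2⟩
        · intro j hj
          by_cases hjt : j = t'
          · subst hjt
            have : S.filter (fun k => (if k ∈ B then j else if k ∈ B.image π then j + 1 else f' k) = j)
                = B := by
              ext k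
              rw [Finset.mem_filter]
              constructor
              · rintro ⟨hkS, hk⟩
                by_contra hkB
                by_cases hkB' : k ∈ B.image π
                · simp only [hkB, hkB', if_true, if_false] at hk
                  omega
                · simp only [hkB, hkB', if_false] at hk
                  have := hf' k (Finset.mem_sdiff.mpr ⟨hkS, by
                    rw [Finset.mem_union, not_or]; exact ⟨hkB, hkB'⟩⟩)
                  omega
              · intro hkB
                exact ⟨hBS hkB, by simp only [hkB, if_true]⟩
            rw [this, hBc]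
          · by_cases hjt1 : j = t' + 1
            · subst hjt1
              have : S.filter (fun k => (if k ∈ B then t' else if k ∈ B.image π then t' + 1 else f' k)
                  = t' + 1) = B.image π := by
                ext k
                rw [Finset.mem_filter]
                constructor
                · rintro ⟨hkS, hk⟩
                  by_contra hkB'
                  by_cases hkB : k ∈ B
                  · simp only [hkB, if_true] at hk
                    omega
                  · simp only [hkB, hkB', if_false] at hk
                    have := hf' k (Finset.mem_sdiff.mpr ⟨hkS, by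
                      rw [Finset.mem_union, not_or]; exact ⟨hkB, hkB'⟩⟩)
                    omega
                · intro hkB'
                  have hkB : k ∉ B := fun h => (Finset.disjoint_left.mp hdisj) h hkB'
                  exact ⟨hB'S hkB', by simp only [hkB, hkB', if_true, if_false]⟩
              rw [this, hB'c]
            · have hj' : j < t' := by omega
              have : S.filter (fun k => (if k ∈ B then t' else if k ∈ B.image π then t' + 1 else f' k) = j)
                  = (S \ (B ∪ B.image π)).filter (fun k => f' k = j) := by
                ext k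
                rw [Finset.mem_filter, Finset.mem_filter, Finset.mem_sdiff, Finset.mem_union, not_or]
                constructor
                · rintro ⟨hkS, hk⟩
                  by_cases hkB : k ∈ B
                  · simp only [hkB, if_true] at hk
                    omega
                  · by_cases hkB' : k ∈ B.image π
                    · simp only [hkB, hkB', if_true, if_false] at hk
                      omega
                    · simp only [hkB, hkB', if_false] at hk
                      exact ⟨⟨hkS, hkB, hkB'⟩, hk⟩
                · rintro ⟨⟨hkS, hkB, hkB'⟩, hk⟩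
                  refine ⟨hkS, ?_⟩
                  simp only [hkB, hkB', if_false]
                  exact hk
              rw [this, hfib' j hj']
        · intro k hk
          by_cases hkB : k ∈ B
          · have h1 : π k ∉ B := hBn k hkB
            have h2 : π k ∈ B.image π := Finset.mem_image_of_mem π hkB
            simp only [hkB, h1, h2, if_true, if_false]
          · by_cases hkB' : k ∈ B.image π
            · have h1 : π k ∈ B := (hmemB' k).mp hkB'
              have h2 : t' + 1 ≠ t' := by omega
              simp only [hkB, hkB', h1, if_true, if_false, h2]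
            · have hkS' : k ∈ S \ (B ∪ B.image π) := Finset.mem_sdiff.mpr ⟨hk, by
                rw [Finset.mem_union, not_or]; exact ⟨hkB, hkB'⟩⟩
              have hπkS' := hS'inv k hkS'
              rw [Finset.mem_sdiff, Finset.mem_union, not_or] at hπkS'
              have h1 := hf' k hkS'
              have h2 : f' k ≠ t' := by omega
              have h3 : f' k ≠ t' + 1 := by omega
              simp only [hkB, hkB', hπkS'.2.1, hπkS'.2.2, if_false, h2, h3]
              exact heq' k hkS'

theorem exists_partition_fin (n a t : ℕ) (hat : n = a * t) (ha : 1 ≤ a)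
    (π : Fin n → Fin n) (hπ : ∀ k, π (π k) = k) :
    ∃ (f : Fin n → Fin t) (σ : Equiv.Perm (Fin t)), (∀ j, Nat.card {k : Fin n // f k = j} = a) ∧
      (∀ k, f (π k) = σ (f k)) ∧ ∀ j, σ (σ j) = j := by
  obtain ⟨f₀, σ₀, hf, hσ, hfib, heq⟩ := exists_partition π hπ a ha t Finset.univ
    (fun k _ => Finset.mem_univ _) (by rw [Finset.card_univ, Fintype.card_fin, hat])
  refine ⟨fun k => ⟨f₀ k, hf k (Finset.mem_univ _)⟩,
    ⟨fun j => ⟨σ₀ j, (hσ j j.2).1⟩, fun j => ⟨σ₀ j, (hσ j j.2).1⟩,
      fun j => Fin.ext (hσ j j.2).2, fun j => Fin.ext (hσ j j.2).2⟩, ?_, ?_, ?_⟩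
  · intro j
    rw [Nat.card_eq_fintype_card, Fintype.card_subtype, ← hfib j j.2]
    congr 1
    ext k
    simp only [Finset.mem_filter, Finset.mem_univ, true_and]
    exact Fin.ext_iff
  · intro k
    apply Fin.ext
    exact heq k (Finset.mem_univ _)
  · intro j
    exact Fin.ext (hσ j j.2).2

end Cfsg.Agent.Helper29.InvolPart
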