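import Mathlib
set_option autoImplicit false

/-!
# A combinatorial inequality for the number of classes of `GL_n(q)`

`cc q m` is the number of monic polynomials of degree `m` with nonzero constant term over a
field with `q` elements; `aa q N n` is the number of tuples `(f_1, …, f_N)` of such polynomials
with `∑ j · deg f_j = n`.  We prove `aa q n n ≤ q ^ n`.
-/

namespace Cfsg.Agent.Lib.Helper29.KGL

/-- `q ^ m - q ^ (m - 1)` for `m ≥ 1`, and `1` for `m = 0`. -/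
def cc (q : ℕ) : ℕ → ℕ
  | 0 => 1
  | (m + 1) => q ^ (m + 1) - q ^ m

/-- the number of tuples `(f_1, …, f_N)` with `∑ j deg f_j = n`. -/
def aa (q : ℕ) : ℕ → ℕ → ℕ
  | 0, n => if n = 0 then 1 else 0
  | (N + 1), n => ∑ m ∈ Finset.range (n / (N + 1) + 1), cc q m * aa q N (n - (N + 1) * m)

theorem aa_zero_right (q N : ℕ) : aa q N 0 = 1 := by
  induction N with
  | zero => simp [aa]
  | succ N ih => simp [aa, ih, cc]

/-- the weights `γ_m`. -/
noncomputable def gam (ρ : ℚ) (N : ℕ) (m : ℕ) : ℚ := if m = 0 then 1 else (1 - ρ) * ρ ^ (N * m)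

theorem gam_nonneg {ρ : ℚ} (h0 : 0 ≤ ρ) (h1 : ρ ≤ 1) (N m : ℕ) : 0 ≤ gam ρ N m := by
  unfold gam
  split_ifs
  · norm_num
  · exact mul_nonneg (by linarith) (pow_nonneg h0 _)

theorem sum_gam (ρ : ℚ) (N M : ℕ) :
    (1 - ρ ^ N) * ∑ m ∈ Finset.range (M + 1), gam ρ N m
      = 1 - ρ ^ (N + 1) - (1 - ρ) * ρ ^ (N * (M + 1)) := by
  induction M with
  | zero =>
    simp [gam]
    ring
  | succ M ih =>
    rw [Finset.sum_range_succ, mul_add, ih]
    simp only [gam, Nat.add_eq_zero_iff, one_ne_zero, and_false, if_false]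
    have h1 : ρ ^ (N * (M + 1 + 1)) = ρ ^ (N * (M + 1)) * ρ ^ N := by
      rw [← pow_add]; congr 1
    rw [h1]
    ring

theorem step_bound {ρ : ℚ} (h0 : 0 ≤ ρ) (h1 : ρ ≤ 1) (N : ℕ) (x : ℕ → ℚ) (hx0 : x 0 = 1)
    (hx : ∀ r, 1 ≤ r → x r ≤ 1 - ρ ^ N) (n : ℕ) (hn : 1 ≤ n) :
    ∑ m ∈ Finset.range (n / (N + 1) + 1), gam ρ N m * x (n - (N + 1) * m) ≤ 1 - ρ ^ (N + 1) := by
  set k := N + 1 with hk
  set M := n / k with hM
  have hkpos : 0 < k := Nat.succ_pos N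
  have hlow : ∀ m, m < M → gam ρ N m * x (n - k * m) ≤ gam ρ N m * (1 - ρ ^ N) := by
    intro m hm
    apply mul_le_mul_of_nonneg_left _ (gam_nonneg h0 h1 N m)
    apply hx
    have h2 : k * (m + 1) ≤ n := by
      calc k * (m + 1) ≤ k * M := Nat.mul_le_mul_left k hm
        _ ≤ n := Nat.mul_div_le n k
    have : k * m + k ≤ n := by rw [Nat.mul_succ] at h2; exact h2
    omega
  rw [Finset.sum_range_succ]
  have hsum : ∑ m ∈ Finset.range M, gam ρ N m * x (n - k * m)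
      ≤ ∑ m ∈ Finset.range M, gam ρ N m * (1 - ρ ^ N) :=
    Finset.sum_le_sum (fun m hm => hlow m (Finset.mem_range.mp hm))
  have hρN : 0 ≤ ρ ^ (N * (M + 1)) := pow_nonneg h0 _
  by_cases hdiv : n % k = 0
  · -- `k ∣ n`
    have hMpos : 1 ≤ M := by
      have : k * M = n := by
        have := Nat.div_add_mod n k
        rw [hdiv, add_zero] at this
        exact this
      rcases Nat.eq_zero_or_pos M with h | h
      · rw [h, mul_zero] at this; omega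
      · exact h
    have hlast : n - k * M = 0 := by
      have := Nat.div_add_mod n k
      rw [hdiv, add_zero] at this
      rw [← hM] at this
      rw [this]
      exact Nat.sub_self n
    rw [hlast, hx0, mul_one]
    obtain ⟨M', hM'⟩ : ∃ M', M = M' + 1 := ⟨M - 1, by omega⟩
    have hs := sum_gam ρ N M'
    rw [← hM'] at hs
    have hs2 : ∑ m ∈ Finset.range M, gam ρ N m * (1 - ρ ^ N)
        = 1 - ρ ^ (N + 1) - (1 - ρ) * ρ ^ (N * M) := by
      rw [← Finset.sum_mul, mul_comm, hs]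
    have hg : gam ρ N M = (1 - ρ) * ρ ^ (N * M) := by
      unfold gam
      rw [if_neg (by omega)]
    rw [hg]
    linarith
  · -- `k ∤ n`
    have hlast : 1 ≤ n - k * M := by
      have := Nat.div_add_mod n k
      rw [← hM] at this
      have h3 : 0 < n % k := Nat.pos_of_ne_zero hdiv
      apply Nat.le_sub_of_add_le
      omega
    have hl := mul_le_mul_of_nonneg_left (hx _ hlast) (gam_nonneg h0 h1 N M)
    have hs := sum_gam ρ N M
    have hs2 : ∑ m ∈ Finset.range M, gam ρ N m * (1 - ρ ^ N) + gam ρ N M * (1 - ρ ^ N)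
        = 1 - ρ ^ (N + 1) - (1 - ρ) * ρ ^ (N * (M + 1)) := by
      rw [← Finset.sum_range_succ, ← Finset.sum_mul, mul_comm, hs]
    have : 0 ≤ (1 - ρ) * ρ ^ (N * (M + 1)) := mul_nonneg (by linarith) hρN
    linarith

theorem cc_cast (q : ℕ) (hq : 1 ≤ q) (m : ℕ) :
    ((cc q (m + 1) : ℕ) : ℚ) = (q : ℚ) ^ (m + 1) - (q : ℚ) ^ m := by
  show ((q ^ (m + 1) - q ^ m : ℕ) : ℚ) = _
  rw [Nat.cast_sub (Nat.pow_le_pow_right hq (by omega : m ≤ m + 1))]
  push_cast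
  ring

theorem cc_mul_pow (q : ℕ) (hq : 2 ≤ q) (N m : ℕ) :
    ((cc q m : ℕ) : ℚ) * ((q : ℚ)⁻¹) ^ ((N + 1) * m) = gam ((q : ℚ)⁻¹) N m := by
  have hQ : (q : ℚ) ≠ 0 := by
    have : (0 : ℚ) < q := by exact_mod_cast (by omega : 0 < q)
    exact this.ne'
  cases m with
  | zero => simp [cc, gam]
  | succ m =>
    rw [cc_cast q (by omega)]
    unfold gam
    rw [if_neg (Nat.succ_ne_zero m)]
    have h1 : ((q : ℚ)⁻¹) ^ ((N + 1) * (m + 1)) = ((q : ℚ)⁻¹) ^ (N * (m + 1)) * ((q : ℚ)⁻¹) ^ (m + 1) := by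
      rw [← pow_add]; congr 1; ring
    rw [h1]
    have h2 : (q : ℚ) ^ (m + 1) * ((q : ℚ)⁻¹) ^ (m + 1) = 1 := by
      rw [← mul_pow, mul_inv_cancel₀ hQ, one_pow]
    have h3 : (q : ℚ) ^ m * ((q : ℚ)⁻¹) ^ (m + 1) = (q : ℚ)⁻¹ := by
      rw [pow_succ ((q : ℚ)⁻¹), ← mul_assoc, ← mul_pow, mul_inv_cancel₀ hQ, one_pow, one_mul]
    calc ((q : ℚ) ^ (m + 1) - (q : ℚ) ^ m) * (((q : ℚ)⁻¹) ^ (N * (m + 1)) * ((q : ℚ)⁻¹) ^ (m + 1))
        = ((q : ℚ) ^ (m + 1) * ((q : ℚ)⁻¹) ^ (m + 1) - (q : ℚ) ^ m * ((q : ℚ)⁻¹) ^ (m + 1))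
            * ((q : ℚ)⁻¹) ^ (N * (m + 1)) := by ring
      _ = (1 - (q : ℚ)⁻¹) * ((q : ℚ)⁻¹) ^ (N * (m + 1)) := by rw [h2, h3]

theorem aa_bound (q : ℕ) (hq : 2 ≤ q) (N : ℕ) :
    ∀ n, 1 ≤ n → ((aa q N n : ℕ) : ℚ) * ((q : ℚ)⁻¹) ^ n ≤ 1 - ((q : ℚ)⁻¹) ^ N := by
  have hQ : (0 : ℚ) < q := by exact_mod_cast (by omega : 0 < q)
  have h0 : (0 : ℚ) ≤ (q : ℚ)⁻¹ := inv_nonneg.mpr hQ.le
  have h1 : (q : ℚ)⁻¹ ≤ 1 := by
    apply inv_le_one_of_one_le₀
    exact_mod_cast (by omega : 1 ≤ q)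
  induction N with
  | zero =>
    intro n hn
    have : aa q 0 n = 0 := by
      unfold aa
      rw [if_neg (by omega)]
    simp [this]
  | succ N ih =>
    intro n hn
    have key : ((aa q (N + 1) n : ℕ) : ℚ) * ((q : ℚ)⁻¹) ^ n
        = ∑ m ∈ Finset.range (n / (N + 1) + 1), gam ((q : ℚ)⁻¹) N m *
            (fun r => ((aa q N r : ℕ) : ℚ) * ((q : ℚ)⁻¹) ^ r) (n - (N + 1) * m) := by
      have : aa q (N + 1) n
          = ∑ m ∈ Finset.range (n / (N + 1) + 1), cc q m * aa q N (n - (N + 1) * m) := by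
        rw [aa]
      rw [this]
      push_cast
      rw [Finset.sum_mul]
      apply Finset.sum_congr rfl
      intro m hm
      have hm' : (N + 1) * m ≤ n := by
        have := Finset.mem_range.mp hm
        calc (N + 1) * m ≤ (N + 1) * (n / (N + 1)) := Nat.mul_le_mul_left _ (by omega)
          _ ≤ n := Nat.mul_div_le n (N + 1)
      have hsplit : ((q : ℚ)⁻¹) ^ n = ((q : ℚ)⁻¹) ^ ((N + 1) * m) * ((q : ℚ)⁻¹) ^ (n - (N + 1) * m) := by
        rw [← pow_add]; congr 1; omega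
      rw [hsplit, ← cc_mul_pow q hq N m]
      ring
    rw [key]
    apply step_bound h0 h1 N _ _ ih n hn
    simp [aa_zero_right]

theorem aa_le (q : ℕ) (hq : 2 ≤ q) (n : ℕ) (hn : 1 ≤ n) : aa q n n ≤ q ^ n := by
  have hQ : (0 : ℚ) < q := by exact_mod_cast (by omega : 0 < q)
  have h := aa_bound q hq n n hn
  have h2 : ((aa q n n : ℕ) : ℚ) * ((q : ℚ)⁻¹) ^ n ≤ 1 := by
    have : (0 : ℚ) ≤ ((q : ℚ)⁻¹) ^ n := pow_nonneg (inv_nonneg.mpr hQ.le) _
    linarith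
  have h3 : ((aa q n n : ℕ) : ℚ) ≤ (q : ℚ) ^ n := by
    have hpos : (0 : ℚ) < (q : ℚ) ^ n := pow_pos hQ n
    have := mul_le_mul_of_nonneg_right h2 hpos.le
    rw [mul_assoc, ← mul_pow, inv_mul_cancel₀ hQ.ne', one_pow, mul_one, one_mul] at this
    exact this
  exact_mod_cast h3

end Cfsg.Agent.Lib.Helper29.KGL
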