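import Mathlib
import Cfsg.Agent.Lib.Helper29.KGL1
set_option autoImplicit false

/-!
# Counting tuples of monic polynomials with nonzero constant term
-/

namespace Cfsg.Agent.Lib.Helper29.KGL

open Polynomial

variable (F : Type*) [Field F] [Fintype F]

/-- monic polynomials of degree `m` with nonzero constant term. -/
def PP (m : ℕ) : Type _ := {g : F[X] // g.Monic ∧ g.natDegree = m ∧ g.coeff 0 ≠ 0}

/-- vectors with first coordinate zero. -/
def zeroHeadEquiv (m : ℕ) : {v : Fin (m + 1) → F // v 0 = 0} ≃ (Fin m → F) where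
  toFun v := Fin.tail v.1
  invFun w := ⟨Fin.cons 0 w, by simp⟩
  left_inv := by
    rintro ⟨v, hv⟩
    apply Subtype.ext
    simp only
    rw [← hv]
    exact Fin.cons_self_tail v
  right_inv := by
    intro w
    simp

theorem card_nonzeroHead (m : ℕ) :
    Nat.card {v : Fin (m + 1) → F // ¬ v 0 = 0} = Fintype.card F ^ (m + 1) - Fintype.card F ^ m := by
  classical
  rw [Nat.card_eq_fintype_card, Fintype.card_subtype_compl, Fintype.card_congr (zeroHeadEquiv F m)]
  simp

theorem coeff_zero_monicEquiv (m : ℕ) (p : {p : F[X] // p.Monic ∧ p.natDegree = m + 1}) :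
    (degreeLTEquiv F (m + 1)) (monicEquivDegreeLT (m + 1) p) 0 = p.1.coeff 0 := by
  simp only [degreeLTEquiv, monicEquivDegreeLT, LinearEquiv.coe_mk, LinearMap.coe_mk,
    AddHom.coe_mk, Equiv.coe_fn_mk, Fin.val_zero]
  rw [eraseLead_coeff_of_ne]
  rw [p.2.2]
  exact (Nat.succ_ne_zero m).symm

/-- reassociate the subtype. -/
def ppAssoc (m : ℕ) : PP F m ≃
    {p : {p : F[X] // p.Monic ∧ p.natDegree = m} // ¬ p.1.coeff 0 = 0} where
  toFun g := ⟨⟨g.1, g.2.1, g.2.2.1⟩, g.2.2.2⟩
  invFun x := ⟨x.1.1, x.1.2.1, x.1.2.2, x.2⟩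
  left_inv := fun _ => rfl
  right_inv := fun _ => rfl

/-- `PP F (m+1)` is in bijection with vectors with nonzero head. -/
noncomputable def ppEquiv (m : ℕ) : PP F (m + 1) ≃ {v : Fin (m + 1) → F // ¬ v 0 = 0} :=
  (ppAssoc F (m + 1)).trans
    (Equiv.subtypeEquiv ((monicEquivDegreeLT (m + 1)).trans (degreeLTEquiv F (m + 1)).toEquiv)
      (by
        intro p
        simp only [Equiv.trans_apply, LinearEquiv.coe_toEquiv]
        rw [coeff_zero_monicEquiv]))

theorem PP_zero_subsingleton : Subsingleton (PP F 0) := by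
  constructor
  rintro ⟨g, hg, hd, _⟩ ⟨g', hg', hd', _⟩
  apply Subtype.ext
  simp only
  rw [hg.natDegree_eq_zero.mp hd, hg'.natDegree_eq_zero.mp hd']

instance (m : ℕ) : Finite (PP F m) := by
  cases m with
  | zero =>
    have := PP_zero_subsingleton F
    exact Finite.of_subsingleton
  | succ m => exact Finite.of_equiv _ (ppEquiv F m).symm

theorem card_PP (m : ℕ) : Nat.card (PP F m) = cc (Fintype.card F) m := by
  classical
  cases m with
  | zero =>
    have := PP_zero_subsingleton F
    have hne : Nonempty (PP F 0) := ⟨⟨1, monic_one, natDegree_one, by simp⟩⟩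
    obtain ⟨x⟩ := hne
    have : Unique (PP F 0) := ⟨⟨x⟩, fun y => Subsingleton.elim _ _⟩
    rw [Nat.card_unique]
    rfl
  | succ m =>
    rw [Nat.card_congr (ppEquiv F m), card_nonzeroHead]
    rfl

/-- tuples `(f_1, …, f_N)` of monic polynomials with nonzero constant terms and
`∑ j deg f_j = n`. -/
def TT (N n : ℕ) : Type _ :=
  {f : Fin N → F[X] // (∀ j, (f j).Monic ∧ (f j).coeff 0 ≠ 0) ∧
    ∑ j : Fin N, ((j : ℕ) + 1) * (f j).natDegree = n}

theorem TT_succ_aux (N n : ℕ) (f : TT F (N + 1) n) :
    (N + 1) * (f.1 (Fin.last N)).natDegree ≤ n ∧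
    ∑ j : Fin N, ((j : ℕ) + 1) * (f.1 (Fin.castSucc j)).natDegree
      = n - (N + 1) * (f.1 (Fin.last N)).natDegree := by
  have h := f.2.2
  rw [Fin.sum_univ_castSucc] at h
  simp only [Fin.val_castSucc, Fin.val_last] at h
  constructor
  · omega
  · omega

/-- the map peeling off the last polynomial. -/
noncomputable def peel (N n : ℕ) (f : TT F (N + 1) n) :
    Σ m : Fin (n / (N + 1) + 1), PP F m × TT F N (n - (N + 1) * m) :=
  ⟨⟨(f.1 (Fin.last N)).natDegree, by
      have h := (TT_succ_aux F N n f).1
      have : (f.1 (Fin.last N)).natDegree ≤ n / (N + 1) := by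
        rw [Nat.le_div_iff_mul_le (Nat.succ_pos N), mul_comm]
        exact h
      omega⟩,
    ⟨f.1 (Fin.last N), (f.2.1 _).1, rfl, (f.2.1 _).2⟩,
    ⟨fun j => f.1 (Fin.castSucc j), fun j => f.2.1 _, (TT_succ_aux F N n f).2⟩⟩

theorem peel_injective (N n : ℕ) : Function.Injective (peel F N n) := by
  intro f g h
  apply Subtype.ext
  funext j
  have h1 : (peel F N n f).1 = (peel F N n g).1 := congrArg Sigma.fst h
  have hlast : f.1 (Fin.last N) = g.1 (Fin.last N) := by
    have h2 := h
    simp only [peel] at h2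
    rw [Sigma.mk.injEq] at h2
    obtain ⟨h3, h4⟩ := h2
    have hd : (f.1 (Fin.last N)).natDegree = (g.1 (Fin.last N)).natDegree := by
      simpa using congrArg Fin.val h3
    -- use heq
    have : ∀ (m m' : Fin (n / (N + 1) + 1)) (x : PP F m × TT F N (n - (N + 1) * m))
        (y : PP F m' × TT F N (n - (N + 1) * m')), m = m' → HEq x y → x.1.1 = y.1.1 := by
      intro m m' x y hm hxy
      subst hm
      rw [eq_of_heq hxy]
    exact this _ _ _ _ h3 h4
  have hinit : ∀ j : Fin N, f.1 (Fin.castSucc j) = g.1 (Fin.castSucc j) := by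
    have h2 := h
    simp only [peel] at h2
    rw [Sigma.mk.injEq] at h2
    obtain ⟨h3, h4⟩ := h2
    have : ∀ (m m' : Fin (n / (N + 1) + 1)) (x : PP F m × TT F N (n - (N + 1) * m))
        (y : PP F m' × TT F N (n - (N + 1) * m')), m = m' → HEq x y → x.2.1 = y.2.1 := by
      intro m m' x y hm hxy
      subst hm
      rw [eq_of_heq hxy]
    have h5 := this _ _ _ _ h3 h4
    intro j
    exact congrFun h5 j
  refine Fin.lastCases ?_ ?_ j
  · exact hlast
  · exact hinit

theorem TT_finite_card (N : ℕ) : ∀ n, Finite (TT F N n) ∧ Nat.card (TT F N n) ≤ aa (Fintype.card F) N n := by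
  classical
  induction N with
  | zero =>
    intro n
    have hsub : Subsingleton (TT F 0 n) := by
      constructor
      rintro ⟨f, hf⟩ ⟨g, hg⟩
      apply Subtype.ext
      funext j
      exact j.elim0
    refine ⟨Finite.of_subsingleton, ?_⟩
    by_cases hn : n = 0
    · subst hn
      simp only [aa, if_true]
      have : Finite (TT F 0 0) := Finite.of_subsingleton
      exact Finite.card_le_one_iff_subsingleton.mpr hsub
    · have : IsEmpty (TT F 0 n) := by
        constructor
        rintro ⟨f, _, hf⟩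
        simp at hf
        exact hn hf.symm
      simp [Nat.card_of_isEmpty]
  | succ N ih =>
    intro n
    have hfin : ∀ m : Fin (n / (N + 1) + 1), Finite (PP F m × TT F N (n - (N + 1) * m)) := by
      intro m
      have := (ih (n - (N + 1) * m)).1
      infer_instance
    have hfinS : Finite (Σ m : Fin (n / (N + 1) + 1), PP F m × TT F N (n - (N + 1) * m)) :=
      inferInstance
    have hF : Finite (TT F (N + 1) n) := Finite.of_injective _ (peel_injective F N n)
    refine ⟨hF, ?_⟩
    calc Nat.card (TT F (N + 1) n)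
        ≤ Nat.card (Σ m : Fin (n / (N + 1) + 1), PP F m × TT F N (n - (N + 1) * m)) :=
          Nat.card_le_card_of_injective _ (peel_injective F N n)
      _ = ∑ m : Fin (n / (N + 1) + 1), Nat.card (PP F m × TT F N (n - (N + 1) * m)) := by
          rw [Nat.card_sigma]
      _ = ∑ m : Fin (n / (N + 1) + 1), cc (Fintype.card F) m * Nat.card (TT F N (n - (N + 1) * m)) := by
          apply Finset.sum_congr rfl
          intro m _
          rw [Nat.card_prod, card_PP]
      _ ≤ ∑ m : Fin (n / (N + 1) + 1), cc (Fintype.card F) m * aa (Fintype.card F) N (n - (N + 1) * m) := by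
          apply Finset.sum_le_sum
          intro m _
          exact Nat.mul_le_mul_left _ (ih _).2
      _ = aa (Fintype.card F) (N + 1) n := by
          rw [aa]
          exact Fin.sum_univ_eq_sum_range
            (fun m => cc (Fintype.card F) m * aa (Fintype.card F) N (n - (N + 1) * m)) _

end Cfsg.Agent.Lib.Helper29.KGL
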