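import Mathlib
import Cfsg.Agent.Lib.Helper29.KGL2
set_option autoImplicit false

/-!
# Lower bound for the class number of `GL_n(q)`: characteristic polynomials
-/

namespace Cfsg.Agent.Lib.Helper29.KGL

open Polynomial Matrix

variable (F : Type*) [Field F] [Fintype F]

theorem exists_charpoly_eq (n : ℕ) (g : F[X]) (hg : g.Monic) (hd : g.natDegree = n)
    (h0 : g.coeff 0 ≠ 0) :
    ∃ A : Matrix.GeneralLinearGroup (Fin n) F, (A : Matrix (Fin n) (Fin n) F).charpoly = g := by
  classical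
  have hg0 : g ≠ 0 := hg.ne_zero
  let pb := AdjoinRoot.powerBasis hg0
  have hdim : pb.dim = n := by
    rw [← hd]
    exact AdjoinRoot.powerBasis_dim hg0
  let M0 := Algebra.leftMulMatrix pb.basis pb.gen
  have hM0 : M0.charpoly = g := by
    rw [charpoly_leftMulMatrix pb]
    show minpoly F (AdjoinRoot.powerBasis hg0).gen = g
    rw [AdjoinRoot.powerBasis_gen, AdjoinRoot.minpoly_root hg0, hg.leadingCoeff]
    simp
  let M : Matrix (Fin n) (Fin n) F := Matrix.reindex (finCongr hdim) (finCongr hdim) M0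
  have hM : M.charpoly = g := by
    rw [Matrix.charpoly_reindex, hM0]
  have hdet : M.det ≠ 0 := by
    rw [Matrix.det_eq_sign_charpoly_coeff, hM]
    exact mul_ne_zero (pow_ne_zero _ (by norm_num)) h0
  exact ⟨Matrix.GeneralLinearGroup.mkOfDetNeZero M hdet, hM⟩

theorem charpoly_eq_of_isConj (n : ℕ) (A B : Matrix.GeneralLinearGroup (Fin n) F)
    (h : IsConj A B) :
    (A : Matrix (Fin n) (Fin n) F).charpoly = (B : Matrix (Fin n) (Fin n) F).charpoly := by
  classical
  rw [isConj_iff] at h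
  obtain ⟨c, hc⟩ := h
  rw [← hc]
  show _ = (c.val * A.val * c⁻¹.val).charpoly
  rw [Matrix.coe_units_inv, Matrix.charpoly_units_conj]

theorem cc_le_card_conjClasses (n : ℕ) :
    cc (Fintype.card F) n ≤ Nat.card (ConjClasses (Matrix.GeneralLinearGroup (Fin n) F)) := by
  classical
  rw [← card_PP F n]
  let Φ : PP F n → ConjClasses (Matrix.GeneralLinearGroup (Fin n) F) := fun g =>
    ConjClasses.mk (Classical.choose (exists_charpoly_eq F n g.1 g.2.1 g.2.2.1 g.2.2.2))
  have hΦ : ∀ g : PP F n, ((Classical.choose (exists_charpoly_eq F n g.1 g.2.1 g.2.2.1 g.2.2.2) :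
      Matrix.GeneralLinearGroup (Fin n) F) : Matrix (Fin n) (Fin n) F).charpoly = g.1 := fun g =>
    Classical.choose_spec (exists_charpoly_eq F n g.1 g.2.1 g.2.2.1 g.2.2.2)
  apply Nat.card_le_card_of_injective Φ
  intro g g' h
  apply Subtype.ext
  have h1 : IsConj (Classical.choose (exists_charpoly_eq F n g.1 g.2.1 g.2.2.1 g.2.2.2))
      (Classical.choose (exists_charpoly_eq F n g'.1 g'.2.1 g'.2.2.1 g'.2.2.2)) :=
    ConjClasses.mk_eq_mk_iff_isConj.mp h
  rw [← hΦ g, ← hΦ g']
  exact charpoly_eq_of_isConj F n _ _ h1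

end Cfsg.Agent.Lib.Helper29.KGL
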