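import Mathlib
set_option autoImplicit false

/-!
# Direct sums of cyclic primary `K[X]`-modules: reindexing lemmas
-/

namespace Cfsg.Agent.Lib.Helper29.KGL

open Polynomial DirectSum

universe u w

/-- two finite families with the same fibre cardinalities are related by a bijection. -/
theorem exists_equiv_of_card_fiber_eq {α α' β : Type*} [Fintype α] [Fintype α'] [DecidableEq β]
    (k : α → β) (k' : α' → β)
    (h : ∀ b, Fintype.card {a // k a = b} = Fintype.card {a' // k' a' = b}) :
    ∃ σ : α ≃ α', ∀ a, k' (σ a) = k a := by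
  classical
  let τ : (Σ b : β, {a // k a = b}) ≃ (Σ b : β, {a' // k' a' = b}) :=
    Equiv.sigmaCongrRight (fun b => Fintype.equivOfCardEq (h b))
  refine ⟨(Equiv.sigmaFiberEquiv k).symm.trans (τ.trans (Equiv.sigmaFiberEquiv k')), ?_⟩
  intro a
  simp only [Equiv.trans_apply]
  have h1 : (Equiv.sigmaFiberEquiv k).symm a = ⟨k a, ⟨a, rfl⟩⟩ := rfl
  rw [h1]
  have h2 : τ ⟨k a, ⟨a, rfl⟩⟩ = ⟨k a, Fintype.equivOfCardEq (h (k a)) ⟨a, rfl⟩⟩ := rfl
  rw [h2]
  exact (Fintype.equivOfCardEq (h (k a)) ⟨a, rfl⟩).2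

variable {K : Type u} [Field K]

/-- the cyclic module `K[X] / (g)`. -/
abbrev Cyc (g : K[X]) : Type u := K[X] ⧸ Submodule.span K[X] {g}

/-- associated generators give isomorphic cyclic modules. -/
noncomputable def cycCongr {g g' : K[X]} (h : Associated g g') : Cyc g ≃ₗ[K[X]] Cyc g' :=
  Submodule.quotEquivOfEq _ _ (by
    have := (Ideal.span_singleton_eq_span_singleton (x := g) (y := g')).mpr h
    exact this)

theorem cyc_pow_zero_subsingleton (p : K[X]) : Subsingleton (Cyc (p ^ 0)) := by
  rw [pow_zero]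
  have htop : Submodule.span K[X] {(1 : K[X])} = ⊤ := by
    have := Ideal.span_singleton_one (α := K[X])
    exact this
  constructor
  intro a b
  obtain ⟨a, rfl⟩ := Submodule.Quotient.mk_surjective _ a
  obtain ⟨b, rfl⟩ := Submodule.Quotient.mk_surjective _ b
  rw [Submodule.Quotient.eq, htop]
  exact Submodule.mem_top

/-- dropping the summands with exponent zero. -/
noncomputable def dropZero {ι : Type u} (p : ι → K[X]) (e : ι → ℕ) :
    (∀ i : ι, Cyc (p i ^ e i)) ≃ₗ[K[X]] (∀ i : {i : ι // e i ≠ 0}, Cyc (p i.1 ^ e i.1)) := by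
  classical
  exact
  { toFun := fun x i => x i.1
    map_add' := fun x y => rfl
    map_smul' := fun c x => rfl
    invFun := fun y i => if h : e i ≠ 0 then y ⟨i, h⟩ else 0
    left_inv := by
      intro x
      funext i
      by_cases h : e i ≠ 0
      · simp [h]
      · simp only [h, dif_neg, not_false_eq_true]
        have h0 : e i = 0 := not_not.mp h
        have : Subsingleton (Cyc (p i ^ e i)) := by
          rw [h0]
          exact cyc_pow_zero_subsingleton (p i)
        exact Subsingleton.elim _ _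
    right_inv := by
      intro y
      funext i
      simp [i.2] }

/-- a decomposition into cyclic primary modules can be chosen with nonzero exponents. -/
theorem exists_decomp_pos {M : Type w} [AddCommGroup M] [Module K[X] M] [Module.Finite K[X] M]
    (hM : Module.IsTorsion K[X] M) :
    ∃ (ι : Type u) (_ : Fintype ι) (p : ι → K[X]) (_ : ∀ i, Irreducible (p i)) (e : ι → ℕ),
      (∀ i, e i ≠ 0) ∧ Nonempty (M ≃ₗ[K[X]] ⨁ i : ι, Cyc (p i ^ e i)) := by
  classical
  obtain ⟨ι, hι, p, hp, e, ⟨E⟩⟩ := Module.equiv_directSum_of_isTorsion hM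
  refine ⟨{i : ι // e i ≠ 0}, inferInstance, fun i => p i.1, fun i => hp i.1, fun i => e i.1,
    fun i => i.2, ⟨?_⟩⟩
  exact E.trans ((DirectSum.linearEquivFunOnFintype K[X] ι (fun i => Cyc (p i ^ e i))).trans
    ((dropZero p e).trans
      (DirectSum.linearEquivFunOnFintype K[X] {i : ι // e i ≠ 0}
        (fun i => Cyc (p i.1 ^ e i.1))).symm))

/-- two families of cyclic primary modules with the same multiplicities have isomorphic sums. -/
theorem nonempty_directSum_equiv {ι ι' : Type u} [Fintype ι] [Fintype ι']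
    (p : ι → K[X]) (e : ι → ℕ) (p' : ι' → K[X]) (e' : ι' → ℕ)
    [DecidableEq K]
    (h : ∀ b : K[X] × ℕ, Fintype.card {i // (normalize (p i), e i) = b}
      = Fintype.card {i' // (normalize (p' i'), e' i') = b}) :
    Nonempty ((⨁ i : ι, Cyc (p i ^ e i)) ≃ₗ[K[X]] (⨁ i' : ι', Cyc (p' i' ^ e' i'))) := by
  classical
  obtain ⟨σ, hσ⟩ := exists_equiv_of_card_fiber_eq
    (fun i => (normalize (p i), e i)) (fun i' => (normalize (p' i'), e' i')) h
  have hass : ∀ i, Associated (p i ^ e i) (p' (σ i) ^ e' (σ i)) := by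
    intro i
    have h1 := hσ i
    simp only [Prod.mk.injEq] at h1
    rw [h1.2]
    exact (normalize_eq_normalize_iff_associated.mp h1.1.symm).pow_pow
  refine ⟨(DirectSum.linearEquivFunOnFintype K[X] ι (fun i => Cyc (p i ^ e i))).trans
    (((LinearEquiv.piCongrRight (fun i => cycCongr (hass i))).trans
      (LinearEquiv.piCongrLeft K[X] (fun i' => Cyc (p' i' ^ e' i')) σ)).trans
      (DirectSum.linearEquivFunOnFintype K[X] ι' (fun i' => Cyc (p' i' ^ e' i'))).symm)⟩

end Cfsg.Agent.Lib.Helper29.KGL
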