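import Mathlib
import Cfsg.Agent.Lib.Helper29.KGL4
set_option autoImplicit false

/-!
# Primary decomposition data of an endomorphism
-/

namespace Cfsg.Agent.Lib.Helper29.KGL

open Polynomial DirectSum

universe u w

variable {K : Type u} [Field K] [DecidableEq K] {V : Type w} [AddCommGroup V] [Module K V]

/-- the product of the (normalized) primes occurring with exponent `k + 1`. -/
noncomputable def dataPoly {ι : Type u} [Fintype ι] (p : ι → K[X]) (e : ι → ℕ) (k : ℕ) : K[X] :=
  ∏ i ∈ Finset.univ.filter (fun i => e i = k + 1), normalize (p i)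

/-- `f` is the tuple of data polynomials of some primary decomposition of `φ`. -/
def HasData (φ : Module.End K V) (n : ℕ) (f : Fin n → K[X]) : Prop :=
  ∃ (ι : Type u) (_ : Fintype ι) (p : ι → K[X]) (_ : ∀ i, Irreducible (p i)) (e : ι → ℕ),
    (∀ i, e i ≠ 0) ∧ Nonempty (Module.AEval' φ ≃ₗ[K[X]] ⨁ i : ι, Cyc (p i ^ e i)) ∧
    ∀ j : Fin n, f j = dataPoly p e j

theorem exists_hasData [FiniteDimensional K V] (φ : Module.End K V) (n : ℕ) :
    ∃ f : Fin n → K[X], HasData φ n f := by
  have h1 : Module.IsTorsion K[X] (Module.AEval' φ) :=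
    Module.AEval.isTorsion_of_finiteDimensional K V φ
  obtain ⟨ι, hι, p, hp, e, he, hE⟩ := exists_decomp_pos h1
  exact ⟨fun j => dataPoly p e j, ι, hι, p, hp, e, he, hE, fun j => rfl⟩

omit [DecidableEq K] in
theorem finrank_eq_sum (φ : Module.End K V) {ι : Type u} [Fintype ι] (p : ι → K[X])
    (hp : ∀ i, Irreducible (p i)) (e : ι → ℕ)
    (E : Module.AEval' φ ≃ₗ[K[X]] ⨁ i : ι, Cyc (p i ^ e i)) :
    Module.finrank K V = ∑ i, e i * (p i).natDegree := by
  classical
  have hfin : ∀ i, Module.Finite K (Cyc (p i ^ e i)) := fun i =>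
    (AdjoinRoot.powerBasis (pow_ne_zero (e i) (hp i).ne_zero)).finite
  have h1 : Module.finrank K V = Module.finrank K (Module.AEval' φ) :=
    LinearEquiv.finrank_eq (Module.AEval'.of φ)
  have h2 : Module.finrank K (Module.AEval' φ) = Module.finrank K (⨁ i : ι, Cyc (p i ^ e i)) :=
    LinearEquiv.finrank_eq (E.restrictScalars K)
  rw [h1, h2, Module.finrank_directSum]
  apply Finset.sum_congr rfl
  intro i _
  rw [finrank_quotient_span_eq_natDegree, natDegree_pow]

omit [DecidableEq K] in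
theorem exp_le_finrank (φ : Module.End K V) {ι : Type u} [Fintype ι] (p : ι → K[X])
    (hp : ∀ i, Irreducible (p i)) (e : ι → ℕ)
    (E : Module.AEval' φ ≃ₗ[K[X]] ⨁ i : ι, Cyc (p i ^ e i)) (i : ι) :
    e i ≤ Module.finrank K V := by
  rw [finrank_eq_sum φ p hp e E]
  have hpos : 0 < (p i).natDegree :=
    natDegree_pos_iff_degree_pos.mpr (degree_pos_of_irreducible (hp i))
  calc e i ≤ e i * (p i).natDegree := Nat.le_mul_of_pos_right _ hpos
    _ ≤ ∑ i, e i * (p i).natDegree :=
      Finset.single_le_sum (f := fun i => e i * (p i).natDegree) (fun _ _ => Nat.zero_le _)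
        (Finset.mem_univ i)

theorem dataPoly_monic {ι : Type u} [Fintype ι] (p : ι → K[X]) (hp : ∀ i, Irreducible (p i))
    (e : ι → ℕ) (k : ℕ) : (dataPoly p e k).Monic := by
  unfold dataPoly
  apply monic_prod_of_monic
  intro i _
  exact monic_normalize (hp i).ne_zero

theorem natDegree_dataPoly {ι : Type u} [Fintype ι] (p : ι → K[X]) (hp : ∀ i, Irreducible (p i))
    (e : ι → ℕ) (k : ℕ) :
    (dataPoly p e k).natDegree = ∑ i ∈ Finset.univ.filter (fun i => e i = k + 1), (p i).natDegree := by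
  unfold dataPoly
  rw [natDegree_prod_of_monic _ _ (fun i _ => monic_normalize (hp i).ne_zero)]
  apply Finset.sum_congr rfl
  intro i _
  exact natDegree_eq_of_degree_eq degree_normalize

theorem sum_dataPoly_natDegree {ι : Type u} [Fintype ι] (p : ι → K[X])
    (hp : ∀ i, Irreducible (p i)) (e : ι → ℕ) (n : ℕ) (he : ∀ i, e i ≠ 0 ∧ e i ≤ n) :
    ∑ j : Fin n, ((j : ℕ) + 1) * (dataPoly p e j).natDegree = ∑ i, e i * (p i).natDegree := by
  classical
  have h1 : ∀ k : ℕ, (k + 1) * (dataPoly p e k).natDegree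
      = ∑ i ∈ Finset.univ.filter (fun i => e i - 1 = k), e i * (p i).natDegree := by
    intro k
    rw [natDegree_dataPoly p hp, Finset.mul_sum]
    have hfilt : Finset.univ.filter (fun i => e i = k + 1) = Finset.univ.filter (fun i => e i - 1 = k) := by
      ext i
      simp only [Finset.mem_filter, Finset.mem_univ, true_and]
      have := (he i).1
      omega
    rw [hfilt]
    apply Finset.sum_congr rfl
    intro i hi
    simp only [Finset.mem_filter, Finset.mem_univ, true_and] at hi
    have := (he i).1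
    have h2 : e i = k + 1 := by omega
    rw [h2]
  rw [Fin.sum_univ_eq_sum_range (fun k => (k + 1) * (dataPoly p e k).natDegree) n]
  rw [Finset.sum_congr rfl (fun k _ => h1 k)]
  apply Finset.sum_fiberwise_of_maps_to
  intro i _
  rw [Finset.mem_range]
  have := he i
  omega

omit [DecidableEq K] in
theorem X_smul_eq_zero (φ : Module.End K V) (hφ : Function.Injective φ) (m : Module.AEval' φ)
    (h : (X : K[X]) • m = 0) : m = 0 := by
  obtain ⟨v, rfl⟩ := (Module.AEval'.of φ).surjective m
  rw [Module.AEval'.X_smul_of] at h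
  have h2 : φ v = 0 := by
    have := (Module.AEval'.of φ).injective (h.trans (map_zero _).symm)
    exact this
  have : v = 0 := hφ (h2.trans (map_zero φ).symm)
  rw [this, map_zero]

theorem coeff_zero_normalize_ne (φ : Module.End K V) (hφ : Function.Injective φ)
    {ι : Type u} [Fintype ι] (p : ι → K[X]) (hp : ∀ i, Irreducible (p i)) (e : ι → ℕ)
    (he : ∀ i, e i ≠ 0)
    (E : Module.AEval' φ ≃ₗ[K[X]] ⨁ i : ι, Cyc (p i ^ e i)) (i : ι) :
    (normalize (p i)).coeff 0 ≠ 0 := by
  classical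
  intro h0
  have hX : (X : K[X]) ∣ normalize (p i) := X_dvd_iff.mpr h0
  have hX2 : (X : K[X]) ∣ p i := ((normalize_associated (p i)).dvd_iff_dvd_right).mp hX
  obtain ⟨r, hr⟩ := hX2
  have hru : IsUnit r := by
    rcases (hp i).isUnit_or_isUnit hr with h | h
    · exact absurd h not_isUnit_X
    · exact h
  -- the element
  let x : Cyc (p i ^ e i) := Submodule.Quotient.mk (r * p i ^ (e i - 1))
  let z : ⨁ i : ι, Cyc (p i ^ e i) := DirectSum.lof K[X] ι (fun i => Cyc (p i ^ e i)) i x
  have hx0 : (X : K[X]) • x = 0 := by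
    show (X : K[X]) • (Submodule.Quotient.mk (r * p i ^ (e i - 1)) : Cyc (p i ^ e i)) = 0
    rw [← Submodule.Quotient.mk_smul, Submodule.Quotient.mk_eq_zero, smul_eq_mul,
      Submodule.mem_span_singleton]
    refine ⟨1, ?_⟩
    rw [smul_eq_mul, one_mul, ← mul_assoc, ← hr]
    conv_lhs => rw [← Nat.sub_add_cancel (Nat.one_le_iff_ne_zero.mpr (he i))]
    rw [pow_succ, mul_comm]
  have hz0 : (X : K[X]) • z = 0 := by
    show (X : K[X]) • DirectSum.lof K[X] ι (fun i => Cyc (p i ^ e i)) i x = 0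
    rw [← map_smul, hx0, map_zero]
  have hm : E.symm z = 0 := by
    apply X_smul_eq_zero φ hφ
    rw [← map_smul, hz0, map_zero]
  have hz : z = 0 := by
    have := congrArg E hm
    rw [LinearEquiv.apply_symm_apply, map_zero] at this
    exact this
  have hx : x = 0 := by
    have := congrArg (DirectSum.component K[X] ι (fun i => Cyc (p i ^ e i)) i) hz
    rw [DirectSum.component.lof_self, map_zero] at this
    exact this
  have hmem : r * p i ^ (e i - 1) ∈ Submodule.span K[X] {p i ^ e i} :=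
    (Submodule.Quotient.mk_eq_zero _).mp hx
  rw [Submodule.mem_span_singleton] at hmem
  obtain ⟨c, hc⟩ := hmem
  have hdvd : p i ^ e i ∣ p i ^ (e i - 1) := by
    obtain ⟨r', hr'⟩ := hru.exists_left_inv
    refine ⟨r' * c, ?_⟩
    have : p i ^ (e i - 1) = r' * (r * p i ^ (e i - 1)) := by
      rw [← mul_assoc, hr', one_mul]
    rw [this, ← hc, smul_eq_mul]
    ring
  have := (pow_dvd_pow_iff (hp i).ne_zero (hp i).not_isUnit).mp hdvd
  have := he i
  omega

theorem dataPoly_coeff_zero_ne (φ : Module.End K V) (hφ : Function.Injective φ)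
    {ι : Type u} [Fintype ι] (p : ι → K[X]) (hp : ∀ i, Irreducible (p i)) (e : ι → ℕ)
    (he : ∀ i, e i ≠ 0)
    (E : Module.AEval' φ ≃ₗ[K[X]] ⨁ i : ι, Cyc (p i ^ e i)) (k : ℕ) :
    (dataPoly p e k).coeff 0 ≠ 0 := by
  unfold dataPoly
  rw [coeff_zero_prod, Finset.prod_ne_zero_iff]
  intro i _
  exact coeff_zero_normalize_ne φ hφ p hp e he E i

/-- the constraints satisfied by a data tuple. -/
theorem HasData.props [FiniteDimensional K V] {φ : Module.End K V} {n : ℕ} {f : Fin n → K[X]}
    (h : HasData φ n f) (hn : Module.finrank K V = n) (hφ : Function.Injective φ) :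
    (∀ j, (f j).Monic ∧ (f j).coeff 0 ≠ 0) ∧
      ∑ j : Fin n, ((j : ℕ) + 1) * (f j).natDegree = n := by
  obtain ⟨ι, hι, p, hp, e, he, ⟨E⟩, hf⟩ := h
  refine ⟨fun j => ?_, ?_⟩
  · rw [hf j]
    exact ⟨dataPoly_monic p hp e j, dataPoly_coeff_zero_ne φ hφ p hp e he E j⟩
  · have h1 : ∀ i, e i ≠ 0 ∧ e i ≤ n := fun i =>
      ⟨he i, hn ▸ exp_le_finrank φ p hp e E i⟩
    rw [Finset.sum_congr rfl (fun j _ => by rw [hf j])]
    rw [sum_dataPoly_natDegree p hp e n h1, ← finrank_eq_sum φ p hp e E, hn]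

end Cfsg.Agent.Lib.Helper29.KGL
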