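import Mathlib
import Cfsg.Agent.Lib.Helper29.KGL5
set_option autoImplicit false

/-!
# Equal data tuples give conjugate endomorphisms
-/

namespace Cfsg.Agent.Lib.Helper29.KGL

open Polynomial DirectSum

universe u w

variable {K : Type u} [Field K] [DecidableEq K] {V : Type w} [AddCommGroup V] [Module K V]

theorem card_fiber_eq_count {ι : Type u} [Fintype ι] (p : ι → K[X]) (hp : ∀ i, Irreducible (p i))
    (e : ι → ℕ) (P : K[X]) (k : ℕ) :
    Fintype.card {i // (normalize (p i), e i) = (P, k + 1)}
      = Multiset.count P (UniqueFactorizationMonoid.normalizedFactors (dataPoly p e k)) := by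
  classical
  set S := Finset.univ.filter (fun i => e i = k + 1) with hS
  have h1 : dataPoly p e k = (Multiset.map (fun i => normalize (p i)) S.val).prod := by
    unfold dataPoly
    rw [Finset.prod_eq_multiset_prod]
  have h2 : UniqueFactorizationMonoid.normalizedFactors (dataPoly p e k)
      = Multiset.map (fun i => normalize (p i)) S.val := by
    rw [h1, UniqueFactorizationMonoid.normalizedFactors_prod_eq]
    · rw [Multiset.map_map]
      apply Multiset.map_congr rfl
      intro i _
      simp only [Function.comp_apply, normalize_idem]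
    · intro a ha
      rw [Multiset.mem_map] at ha
      obtain ⟨i, _, rfl⟩ := ha
      exact (normalize_associated (p i)).symm.irreducible (hp i)
  rw [h2, Multiset.count_map, Fintype.card_subtype, ← Finset.filter_val, ← Finset.card_def,
    hS, Finset.filter_filter]
  congr 1
  ext i
  simp only [Finset.mem_filter, Finset.mem_univ, true_and, Prod.mk.injEq]
  constructor
  · rintro ⟨h3, h4⟩
    exact ⟨h4, h3.symm⟩
  · rintro ⟨h3, h4⟩
    exact ⟨h4.symm, h3⟩

/-- equal data tuples give isomorphic `K[X]`-modules. -/
theorem HasData.iso {φ φ' : Module.End K V} {n : ℕ} {f : Fin n → K[X]}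
    (h : HasData φ n f) (h' : HasData φ' n f) (hn : Module.finrank K V = n) :
    Nonempty (Module.AEval' φ ≃ₗ[K[X]] Module.AEval' φ') := by
  classical
  obtain ⟨ι, hι, p, hp, e, he, ⟨E⟩, hf⟩ := h
  obtain ⟨ι', hι', p', hp', e', he', ⟨E'⟩, hf'⟩ := h'
  have hle : ∀ i, e i ≤ n := fun i => hn ▸ exp_le_finrank φ p hp e E i
  have hle' : ∀ i, e' i ≤ n := fun i => hn ▸ exp_le_finrank φ' p' hp' e' E' i
  have hfib : ∀ b : K[X] × ℕ, Fintype.card {i // (normalize (p i), e i) = b}
      = Fintype.card {i' // (normalize (p' i'), e' i') = b} := by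
    rintro ⟨P, k⟩
    cases k with
    | zero =>
      have h1 : IsEmpty {i // (normalize (p i), e i) = (P, 0)} := by
        constructor
        rintro ⟨i, hi⟩
        rw [Prod.mk.injEq] at hi
        exact he i hi.2
      have h2 : IsEmpty {i' // (normalize (p' i'), e' i') = (P, 0)} := by
        constructor
        rintro ⟨i, hi⟩
        rw [Prod.mk.injEq] at hi
        exact he' i hi.2
      rw [Fintype.card_eq_zero_iff.mpr h1, Fintype.card_eq_zero_iff.mpr h2]
    | succ k =>
      by_cases hk : k < n
      · rw [card_fiber_eq_count p hp e P k, card_fiber_eq_count p' hp' e' P k]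
        have := (hf ⟨k, hk⟩).symm.trans (hf' ⟨k, hk⟩)
        simp only at this
        rw [this]
      · have h1 : IsEmpty {i // (normalize (p i), e i) = (P, k + 1)} := by
          constructor
          rintro ⟨i, hi⟩
          rw [Prod.mk.injEq] at hi
          have := hle i
          omega
        have h2 : IsEmpty {i' // (normalize (p' i'), e' i') = (P, k + 1)} := by
          constructor
          rintro ⟨i, hi⟩
          rw [Prod.mk.injEq] at hi
          have := hle' i
          omega
        rw [Fintype.card_eq_zero_iff.mpr h1, Fintype.card_eq_zero_iff.mpr h2]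
  obtain ⟨Ψ⟩ := nonempty_directSum_equiv p e p' e' hfib
  exact ⟨E.trans (Ψ.trans E'.symm)⟩

omit [DecidableEq K] in
/-- isomorphic `K[X]`-modules give conjugate endomorphisms. -/
theorem exists_conj_of_iso {φ φ' : Module.End K V}
    (Ψ : Module.AEval' φ ≃ₗ[K[X]] Module.AEval' φ') :
    ∃ g : V ≃ₗ[K] V, ∀ v, g (φ v) = φ' (g v) := by
  refine ⟨(Module.AEval'.of φ).trans ((Ψ.restrictScalars K).trans (Module.AEval'.of φ').symm), ?_⟩
  intro v
  simp only [LinearEquiv.trans_apply, LinearEquiv.restrictScalars_apply]
  rw [← Module.AEval'.X_smul_of, map_smul, Module.AEval'.of_symm_X_smul]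

end Cfsg.Agent.Lib.Helper29.KGL
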