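import Mathlib
import Cfsg.Agent.Lib.Helper29.KGL3
import Cfsg.Agent.Lib.Helper29.KGL6
set_option autoImplicit false

/-!
# Upper bound for the class number of `GL_n(q)`
-/

namespace Cfsg.Agent.Lib.Helper29.KGL

open Polynomial DirectSum Matrix

universe u

variable (F : Type u) [Field F] [Fintype F]

theorem toLin'_injective (n : ℕ) (A : Matrix.GeneralLinearGroup (Fin n) F) :
    Function.Injective (Matrix.toLin' (A : Matrix (Fin n) (Fin n) F)) := by
  classical
  intro v w h
  have h2 := congrArg (Matrix.toLin' ((A⁻¹ : Matrix.GeneralLinearGroup (Fin n) F) : Matrix (Fin n) (Fin n) F)) h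
  rw [← Matrix.toLin'_mul_apply, ← Matrix.toLin'_mul_apply] at h2
  have h3 : ((A⁻¹ : Matrix.GeneralLinearGroup (Fin n) F) : Matrix (Fin n) (Fin n) F)
      * (A : Matrix (Fin n) (Fin n) F) = 1 := by
    rw [← Units.val_mul, inv_mul_cancel, Units.val_one]
  rw [h3, Matrix.toLin'_one] at h2
  exact h2

theorem isConj_of_linearEquiv (n : ℕ) (A B : Matrix.GeneralLinearGroup (Fin n) F)
    (g : (Fin n → F) ≃ₗ[F] (Fin n → F))
    (hg : ∀ v, g (Matrix.toLin' (A : Matrix (Fin n) (Fin n) F) v)
      = Matrix.toLin' (B : Matrix (Fin n) (Fin n) F) (g v)) :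
    IsConj A B := by
  classical
  let G : Matrix (Fin n) (Fin n) F := LinearMap.toMatrix' g.toLinearMap
  let G' : Matrix (Fin n) (Fin n) F := LinearMap.toMatrix' g.symm.toLinearMap
  have h1 : G * G' = 1 := by
    show LinearMap.toMatrix' g.toLinearMap * LinearMap.toMatrix' g.symm.toLinearMap = 1
    rw [← LinearMap.toMatrix'_comp]
    have : g.toLinearMap ∘ₗ g.symm.toLinearMap = LinearMap.id := by
      apply LinearMap.ext
      intro v
      simp
    rw [this, LinearMap.toMatrix'_id]
  have h2 : G' * G = 1 := by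
    show LinearMap.toMatrix' g.symm.toLinearMap * LinearMap.toMatrix' g.toLinearMap = 1
    rw [← LinearMap.toMatrix'_comp]
    have : g.symm.toLinearMap ∘ₗ g.toLinearMap = LinearMap.id := by
      apply LinearMap.ext
      intro v
      simp
    rw [this, LinearMap.toMatrix'_id]
  let C : Matrix.GeneralLinearGroup (Fin n) F := ⟨G, G', h1, h2⟩
  have h3 : G * (A : Matrix (Fin n) (Fin n) F) = (B : Matrix (Fin n) (Fin n) F) * G := by
    have hA : (A : Matrix (Fin n) (Fin n) F)
        = LinearMap.toMatrix' (Matrix.toLin' (A : Matrix (Fin n) (Fin n) F)) :=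
      (LinearMap.toMatrix'_toLin' _).symm
    have hB : (B : Matrix (Fin n) (Fin n) F)
        = LinearMap.toMatrix' (Matrix.toLin' (B : Matrix (Fin n) (Fin n) F)) :=
      (LinearMap.toMatrix'_toLin' _).symm
    show LinearMap.toMatrix' g.toLinearMap * (A : Matrix (Fin n) (Fin n) F)
      = (B : Matrix (Fin n) (Fin n) F) * LinearMap.toMatrix' g.toLinearMap
    conv_lhs => rw [hA]
    conv_rhs => rw [hB]
    rw [← LinearMap.toMatrix'_comp, ← LinearMap.toMatrix'_comp]
    congr 1
    apply LinearMap.ext
    intro v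
    exact hg v
  have h4 : C * A = B * C := by
    apply Units.ext
    exact h3
  rw [isConj_iff]
  exact ⟨C, by rw [h4, mul_inv_cancel_right]⟩

theorem card_conjClasses_le (n : ℕ) (hn : 1 ≤ n) :
    Nat.card (ConjClasses (Matrix.GeneralLinearGroup (Fin n) F)) ≤ Fintype.card F ^ n := by
  classical
  have hfr : Module.finrank F (Fin n → F) = n := Module.finrank_fin_fun F
  have hex : ∀ A : Matrix.GeneralLinearGroup (Fin n) F,
      ∃ f : Fin n → F[X], HasData (Matrix.toLin' (A : Matrix (Fin n) (Fin n) F)) n f :=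
    fun A => exists_hasData _ n
  let dat : ConjClasses (Matrix.GeneralLinearGroup (Fin n) F) → TT F n n := fun c =>
    ⟨Classical.choose (hex (Quotient.out c)),
      (Classical.choose_spec (hex (Quotient.out c))).props hfr (toLin'_injective F n _)⟩
  have hinj : Function.Injective dat := by
    intro c c' h
    have h1 : Classical.choose (hex (Quotient.out c)) = Classical.choose (hex (Quotient.out c')) :=
      congrArg Subtype.val h
    have hd := Classical.choose_spec (hex (Quotient.out c))
    have hd' := Classical.choose_spec (hex (Quotient.out c'))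
    rw [← h1] at hd'
    obtain ⟨Ψ⟩ := hd.iso hd' hfr
    obtain ⟨g, hg⟩ := exists_conj_of_iso Ψ
    have hc : IsConj (Quotient.out c) (Quotient.out c') := isConj_of_linearEquiv F n _ _ g hg
    have : ConjClasses.mk (Quotient.out c) = ConjClasses.mk (Quotient.out c') :=
      ConjClasses.mk_eq_mk_iff_isConj.mpr hc
    have e1 : ConjClasses.mk (Quotient.out c) = c := Quotient.out_eq c
    have e2 : ConjClasses.mk (Quotient.out c') = c' := Quotient.out_eq c'
    rw [← e1, ← e2, this]
  have hT := TT_finite_card F n n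
  have := hT.1
  have hq : 2 ≤ Fintype.card F := Fintype.one_lt_card
  calc Nat.card (ConjClasses (Matrix.GeneralLinearGroup (Fin n) F))
      ≤ Nat.card (TT F n n) := Nat.card_le_card_of_injective dat hinj
    _ ≤ aa (Fintype.card F) n n := hT.2
    _ ≤ Fintype.card F ^ n := aa_le _ hq n hn

end Cfsg.Agent.Lib.Helper29.KGL
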