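import Mathlib
import Cfsg.Agent.Lib.Helper29.LO12
import Cfsg.Agent.Lib.Helper14.OrthOrd1
import Cfsg.Agent.Lib.Helper15.PSub4

/-!
# Orthogonal-type subgroups of `SL_n(q)`, `q` odd: the exceptional cases `n = r ∈ {3, 5}`
-/

set_option autoImplicit false

namespace Cfsg.Agent.Lib.Helper29.LO

open Module Submodule Matrix QuadraticMap Polynomial Cfsg.Agent.Lib.Helper13
  Cfsg.Agent.Lib.Helper15.PSub

section witt
universe u
variable {F : Type u} [Field F] [Fintype F] {n : ℕ}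

local notation "VV" => (Fin n → F)
local notation "MM" => Matrix (Fin n) (Fin n) F
local notation "GG" => GL (Fin n) F

omit [Fintype F] in
/-- two endomorphisms with eigenbases having the same eigenvalues are conjugate -/
theorem good_of_intertwine {Q : VV → F} (x : GG) (μ : F) (hμ : μ ≠ 0)
    (hss : Module.End.IsSemisimple (Matrix.toLin' (x : MM))) {ι : Type} [Nonempty ι]
    (bX bY : Basis ι F VV) (d : ι → F) (Y : VV →ₗ[F] VV)
    (hbX : ∀ i, Matrix.toLin' (x : MM) (bX i) = d i • bX i)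
    (hbY : ∀ i, Y (bY i) = d i • bY i) (hY : ∀ w, Q (Y w) = μ * Q w) :
    ∃ g ∈ Cfsg.Geo.specialLinear (Fin n) F, g⁻¹ * x * g ∈ Cfsg.Geo.quadSimilarityGroup Q := by
  obtain ⟨h, hh⟩ : ∃ h : VV ≃ₗ[F] VV, h = bY.equiv bX (Equiv.refl _) := ⟨_, rfl⟩
  have hhb : ∀ i, h (bY i) = bX i := by
    intro i
    rw [hh, Basis.equiv_apply]
    rfl
  have hcomm : Matrix.toLin' (x : MM) ∘ₗ (h : VV →ₗ[F] VV) = (h : VV →ₗ[F] VV) ∘ₗ Y := by
    apply bY.ext
    intro i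
    rw [LinearMap.comp_apply, LinearMap.comp_apply, LinearEquiv.coe_coe, hhb, hbX, hbY, map_smul,
      hhb]
  apply assembly x h μ hμ
  · intro w
    have h1 : Matrix.toLin' (x : MM) (h w) = h (Y w) := LinearMap.congr_fun hcomm w
    rw [h1, LinearEquiv.symm_apply_apply]
    exact hY w
  · intro δ _
    obtain ⟨i0⟩ := ‹Nonempty ι›
    exact cent_of_eigenvector _ hss (d i0) (bX i0) (hbX i0) (bX.ne_zero i0) δ

/-- a diagonalisable element whose eigenvalues are `η` and pairs with product `η²` is conjugate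
into the orthogonal-type subgroup in odd dimension -/
theorem good_of_witt (k : ℕ) (hnk : n = 2 * k + 1) {Q : VV → F}
    (hQ : Cfsg.Geo.IsNondegenerateQuadraticForm Q) (h2 : (2 : F) ≠ 0) (x : GG)
    (hss : Module.End.IsSemisimple (Matrix.toLin' (x : MM)))
    (b : Basis (Unit ⊕ (Fin k ⊕ Fin k)) F VV) (d : Unit ⊕ (Fin k ⊕ Fin k) → F)
    (hb : ∀ i, Matrix.toLin' (x : MM) (b i) = d i • b i) (η : F) (hη : η ≠ 0)
    (hd0 : d (Sum.inl ()) = η)
    (hdp : ∀ j, d (Sum.inr (Sum.inl j)) * d (Sum.inr (Sum.inr j)) = η * η) :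
    ∃ g ∈ Cfsg.Geo.specialLinear (Fin n) F, g⁻¹ * x * g ∈ Cfsg.Geo.quadSimilarityGroup Q := by
  classical
  obtain ⟨c, hc, Ψ, hΨ⟩ := Cfsg.Agent.Lib.Helper14.OrthOrd.classify_odd h2
    (toQF hQ) (nondeg_toQF hQ) k (by rw [Module.finrank_fin_fun, hnk])
  obtain ⟨Y₀, hY₀def⟩ : ∃ Y₀ : (Unit ⊕ (Fin k ⊕ Fin k) → F) →ₗ[F] (Unit ⊕ (Fin k ⊕ Fin k) → F),
      Y₀ = LinearMap.pi (fun i => d i • LinearMap.proj i) := ⟨_, rfl⟩
  have hY₀ : ∀ u i, Y₀ u i = d i * u i := by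
    intro u i
    rw [hY₀def]
    rfl
  have hY₀s : ∀ i, Y₀ (Pi.single i 1) = d i • Pi.single i (1 : F) := by
    intro i
    funext j
    rw [hY₀, Pi.smul_apply, smul_eq_mul]
    by_cases hij : j = i
    · rw [hij]
    · rw [Pi.single_eq_of_ne hij, mul_zero, mul_zero]
  have hY₀Q : ∀ u, Cfsg.quadFormOdd k F (Y₀ u) = (η * η) * Cfsg.quadFormOdd k F u := by
    intro u
    unfold Cfsg.quadFormOdd
    rw [mul_add, Finset.mul_sum, hY₀, hd0]
    congr 1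
    · ring
    · apply Finset.sum_congr rfl
      intro j _
      rw [hY₀, hY₀, ← hdp j]
      ring
  obtain ⟨Y, hYdef⟩ : ∃ Y : VV →ₗ[F] VV,
      Y = (Ψ : (Unit ⊕ (Fin k ⊕ Fin k) → F) →ₗ[F] VV) ∘ₗ Y₀ ∘ₗ
        (Ψ.symm : VV →ₗ[F] (Unit ⊕ (Fin k ⊕ Fin k) → F)) := ⟨_, rfl⟩
  have hYapp : ∀ w, Y w = Ψ (Y₀ (Ψ.symm w)) := fun w => by rw [hYdef]; rfl
  haveI : Nonempty (Unit ⊕ (Fin k ⊕ Fin k)) := ⟨Sum.inl ()⟩
  apply good_of_intertwine x (η * η) (mul_ne_zero hη hη) hss b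
    ((Pi.basisFun F (Unit ⊕ (Fin k ⊕ Fin k))).map Ψ) d Y hb
  · intro i
    rw [Basis.map_apply, Pi.basisFun_apply, hYapp, LinearEquiv.symm_apply_apply, hY₀s, map_smul]
  · intro w
    have h1 := hΨ (Y₀ (Ψ.symm w))
    have h3 := hΨ (Ψ.symm w)
    rw [LinearEquiv.apply_symm_apply] at h3
    rw [toQF_apply] at h1 h3
    rw [hYapp, h1, hY₀Q, h3]
    ring

end witt

end Cfsg.Agent.Lib.Helper29.LO
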