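import Mathlib
import Cfsg.Agent.Lib.Helper29.LO13

/-!
# Orthogonal-type subgroups of `SL_n(q)`, `q` odd: the exceptional cases `n = r ∈ {3, 5}`,
conclusion
-/

set_option autoImplicit false

namespace Cfsg.Agent.Lib.Helper29.LO

open Module Submodule Matrix QuadraticMap Polynomial Cfsg.Agent.Lib.Helper13
  Cfsg.Agent.Lib.Helper15.PSub

section comb

/-- the matching of the eigenvalues with a Witt basis in dimension five -/
def sg5 (z : Fin 5) (k : Fin 3) : Unit ⊕ (Fin 2 ⊕ Fin 2) → Fin 5
  | Sum.inl _ => z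
  | Sum.inr (Sum.inl j) => z + (![![1, 3], ![1, 2], ![1, 2]] k) j
  | Sum.inr (Sum.inr j) => z + (![![2, 4], ![3, 4], ![4, 3]] k) j

theorem sg5_bij : ∀ (z : Fin 5) (k : Fin 3), Function.Bijective (sg5 z k) := by decide

set_option maxRecDepth 100000 in
theorem comb5 : ∀ a0 a1 a2 a3 a4 : Fin 5, a0 + a1 + a2 + a3 + a4 = 0 →
    ∃ (z : Fin 5) (k : Fin 3), ∀ j : Fin 2,
      ![a0, a1, a2, a3, a4] (sg5 z k (Sum.inr (Sum.inl j))) +
        ![a0, a1, a2, a3, a4] (sg5 z k (Sum.inr (Sum.inr j))) =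
      2 * ![a0, a1, a2, a3, a4] (sg5 z k (Sum.inl ())) := by decide

/-- the matching in dimension three -/
def sg3 : Unit ⊕ (Fin 1 ⊕ Fin 1) → Fin 3
  | Sum.inl _ => 0
  | Sum.inr (Sum.inl _) => 1
  | Sum.inr (Sum.inr _) => 2

theorem sg3_bij : Function.Bijective sg3 := by decide

end comb

section aux

variable {F V : Type*} [Field F] [AddCommGroup V] [Module F V] [FiniteDimensional F V]

theorem det_of_eigenbasis {ι : Type*} [Fintype ι] [DecidableEq ι] (b : Basis ι F V)
    (X : V →ₗ[F] V) (d : ι → F) (hb : ∀ i, X (b i) = d i • b i) :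
    LinearMap.det X = ∏ i, d i := by
  rw [← LinearMap.det_toMatrix b]
  have : LinearMap.toMatrix b b X = Matrix.diagonal d := by
    ext i j
    rw [LinearMap.toMatrix_apply, hb, map_smul, Basis.repr_self, Finsupp.smul_apply,
      Finsupp.single_apply, Matrix.diagonal_apply, smul_eq_mul]
    by_cases hij : i = j
    · rw [if_pos hij, if_pos hij.symm, mul_one, hij]
    · rw [if_neg hij, if_neg (Ne.symm hij), mul_zero]
  rw [this, Matrix.det_diagonal]

/-- in the exceptional case the scalar is trivial -/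
theorem scalar_eq_one_exc [Fintype F] (r : ℕ) [hr : Fact r.Prime] (hr2 : r ≠ 2)
    (hv : padicValNat r (Fintype.card F - 1) = 1) (X : V →ₗ[F] V) (hV : finrank F V = r)
    (z : F) (hX : X ^ r = z • (1 : V →ₗ[F] V)) (hdet : LinearMap.det X = 1) : z = 1 := by
  have hrpos : 0 < r := hr.out.pos
  have hzr : z ^ r = 1 := by
    have h1 := congrArg LinearMap.det hX
    rw [map_pow, hdet, one_pow, LinearMap.det_smul, map_one, mul_one, hV] at h1
    exact h1.symm
  have hz0 : z ≠ 0 := by
    rintro rfl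
    rw [zero_pow hrpos.ne'] at hzr
    exact zero_ne_one hzr
  by_contra hz1
  have hq1 : Fintype.card F - 1 ≠ 0 := by
    have := Fintype.one_lt_card (α := F)
    omega
  have hc : ∀ b : F, b ^ r ≠ z := by
    intro b hb
    apply hz1
    have hb0 : b ≠ 0 := by
      rintro rfl
      rw [zero_pow hrpos.ne'] at hb
      exact hz0 hb.symm
    have h1 : b ^ (r * r) = 1 := by rw [pow_mul, hb, hzr]
    have h3 : b ^ (Fintype.card F - 1) = 1 := FiniteField.pow_card_sub_one_eq_one b hb0
    have h4 : b ^ Nat.gcd (r * r) (Fintype.card F - 1) = 1 := pow_gcd_eq_one.mpr ⟨h1, h3⟩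
    obtain ⟨t, ht⟩ : r ∣ Fintype.card F - 1 := by
      have := pow_padicValNat_dvd (p := r) (n := Fintype.card F - 1)
      rwa [hv, pow_one] at this
    have hrt : ¬ r ∣ t := by
      intro h
      obtain ⟨t', rfl⟩ := h
      have := pow_succ_padicValNat_not_dvd (p := r) hq1
      rw [hv] at this
      apply this
      rw [ht]
      exact ⟨t', by ring⟩
    have hg : Nat.gcd (r * r) (Fintype.card F - 1) = r := by
      rw [ht, Nat.gcd_mul_left, (Nat.Prime.coprime_iff_not_dvd hr.out).mpr hrt, mul_one]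
    rw [hg] at h4
    rw [← hb, h4]
  obtain ⟨-, h5⟩ := det_of_not_pow r hr.out z hc X hX
  rw [hV, Nat.div_self hrpos, pow_one, hdet] at h5
  have hodd : Odd r := hr.out.odd_of_ne_two hr2
  have heven : Even (r + 1) := hodd.add_one
  rw [heven.neg_one_pow, one_mul] at h5
  exact hz1 h5.symm

end aux

end Cfsg.Agent.Lib.Helper29.LO
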