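import Mathlib
import Cfsg.Agent.Lib.Helper29.LO14

/-!
# Orthogonal-type subgroups of `SL_n(q)`, `q` odd: the exceptional cases `n = r ∈ {3, 5}`,
every element of order `r` is conjugate into the subgroup
-/

set_option autoImplicit false

namespace Cfsg.Agent.Lib.Helper29.LO

open Module Submodule Matrix QuadraticMap Polynomial Cfsg.Agent.Lib.Helper13
  Cfsg.Agent.Lib.Helper15.PSub

section exc
universe u
variable {F : Type u} [Field F] [Fintype F] {n : ℕ}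

local notation "VV" => (Fin n → F)
local notation "MM" => Matrix (Fin n) (Fin n) F
local notation "GG" => GL (Fin n) F

/-- common part: an eigenbasis -/
theorem exc_eigenbasis (p : ℕ) [Fact p.Prime] [CharP F p] (r : ℕ) [hr : Fact r.Prime]
    (hr2 : r ≠ 2) (hnr : n = r) (hv : padicValNat r (Fintype.card F - 1) = 1) (x : GG)
    (hx : x ∈ Cfsg.Geo.specialLinear (Fin n) F) (z : F)
    (hxr : ((x ^ r : GG) : MM) = z • (1 : MM)) :
    ∃ (ζ : F) (b : Basis (Fin n) F VV) (d : Fin n → F), IsPrimitiveRoot ζ r ∧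
      Module.End.IsSemisimple (Matrix.toLin' (x : MM)) ∧
      (∀ i, Matrix.toLin' (x : MM) (b i) = d i • b i) ∧ (∀ i, d i ^ r = 1) ∧ ∏ i, d i = 1 := by
  classical
  set X := Matrix.toLin' (x : MM) with hXdef
  have hXr : X ^ r = z • (1 : VV →ₗ[F] VV) := toLin_pow_of_coe x r z hxr
  have hdetX : LinearMap.det X = 1 := det_toLin_of_mem x hx
  have hV : finrank F VV = n := Module.finrank_fin_fun F
  have hz1 : z = 1 := scalar_eq_one_exc r hr2 hv X (by rw [hV, hnr]) z hXr hdetX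
  have hX1 : X ^ r = 1 := by rw [hXr, hz1, one_smul]
  have hrq : r ∣ Fintype.card F - 1 := by
    have := pow_padicValNat_dvd (p := r) (n := Fintype.card F - 1)
    rwa [hv, pow_one] at this
  have hcu : r ∣ Nat.card Fˣ := by
    rw [Nat.card_units, Nat.card_eq_fintype_card]
    exact hrq
  obtain ⟨u, hu⟩ := exists_prime_orderOf_dvd_card' r hcu
  have hζ : IsPrimitiveRoot ((u : Fˣ) : F) r := by
    rw [IsPrimitiveRoot.coe_units_iff, ← hu]
    exact IsPrimitiveRoot.orderOf u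
  have hrp : r ≠ p := by
    intro h
    obtain ⟨⟨k, hk0⟩, -, hk⟩ := FiniteField.card F p
    have h1 : p ∣ Fintype.card F := by
      rw [hk]
      exact dvd_pow_self p (by exact_mod_cast hk0.ne')
    rw [h] at hrq
    have h3 : p ∣ 1 := by
      have h4 := Nat.dvd_sub h1 hrq
      have h5 : Fintype.card F - (Fintype.card F - 1) = 1 := by
        have := Fintype.card_pos (α := F)
        omega
      rwa [h5] at h4
    exact (Fact.out : p.Prime).one_lt.ne' (Nat.dvd_one.mp h3)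
  have hr0 : (r : F) ≠ 0 := ne_zero_of_ne p r hr.out hrp
  have hss : Module.End.IsSemisimple X :=
    isSemisimple_of_pow_eq_smul X r hr0 1 one_ne_zero (by rw [hX1, one_smul])
  have htop := iSup_eigenspace_of_pow_eq_one X r hr.out.pos _ hζ hX1
  obtain ⟨b₀, d₀, hb₀⟩ := exists_eigenbasis X htop
  obtain ⟨b, hbdef⟩ : ∃ b : Basis (Fin n) F VV, b = b₀.reindex (finCongr hV) := ⟨_, rfl⟩
  obtain ⟨d, hddef⟩ : ∃ d : Fin n → F, d = fun i => d₀ ((finCongr hV).symm i) := ⟨_, rfl⟩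
  have hb : ∀ i, X (b i) = d i • b i := by
    intro i
    rw [hbdef, hddef, Basis.reindex_apply]
    exact hb₀ _
  have hpow : ∀ (k : ℕ) (i : Fin n), (X ^ k) (b i) = d i ^ k • b i := by
    intro k
    induction k with
    | zero => intro i; simp
    | succ k ih =>
      intro i
      rw [pow_succ, Module.End.mul_apply, hb, map_smul, ih, smul_smul, pow_succ, mul_comm]
  have hd : ∀ i, d i ^ r = 1 := by
    intro i
    have h1 := hpow r i
    rw [hX1, Module.End.one_apply] at h1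
    have h3 : (d i ^ r - 1) • b i = 0 := by rw [sub_smul, ← h1, one_smul, sub_self]
    rcases smul_eq_zero.mp h3 with h4 | h4
    · exact sub_eq_zero.mp h4
    · exact absurd h4 (b.ne_zero i)
  refine ⟨_, b, d, hζ, hss, hb, hd, ?_⟩
  rw [← det_of_eigenbasis b X d hb, hdetX]

end exc

section exc3
universe u
variable {F : Type u} [Field F] [Fintype F]

theorem good_exc3 (p : ℕ) [Fact p.Prime] [CharP F p] {Q : (Fin 3 → F) → F}
    (hQ : Cfsg.Geo.IsNondegenerateQuadraticForm Q) (h2 : (2 : F) ≠ 0)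
    (hv : padicValNat 3 (Fintype.card F - 1) = 1) (x : GL (Fin 3) F)
    (hx : x ∈ Cfsg.Geo.specialLinear (Fin 3) F) (z : F)
    (hxr : ((x ^ 3 : GL (Fin 3) F) : Matrix (Fin 3) (Fin 3) F) =
      z • (1 : Matrix (Fin 3) (Fin 3) F)) :
    ∃ g ∈ Cfsg.Geo.specialLinear (Fin 3) F, g⁻¹ * x * g ∈ Cfsg.Geo.quadSimilarityGroup Q := by
  haveI : Fact (Nat.Prime 3) := ⟨Nat.prime_three⟩
  obtain ⟨ζ, b, d, -, hss, hb, hd, hprod⟩ := exc_eigenbasis p 3 (by norm_num) rfl hv x hx z hxr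
  rw [Fin.prod_univ_three] at hprod
  have hd00 : d 0 ≠ 0 := by
    intro h
    have := hd 0
    rw [h, zero_pow (by norm_num)] at this
    exact zero_ne_one this
  obtain ⟨σ, hσ⟩ : ∃ σ : Unit ⊕ (Fin 1 ⊕ Fin 1) ≃ Fin 3, ∀ i, σ i = sg3 i :=
    ⟨Equiv.ofBijective sg3 sg3_bij, fun i => rfl⟩
  apply good_of_witt 1 rfl hQ h2 x hss (b.reindex σ.symm) (fun i => d (σ i)) _ (d 0) hd00
  · show d (σ (Sum.inl ())) = d 0
    rw [hσ]
    rfl
  · intro j
    show d (σ (Sum.inr (Sum.inl j))) * d (σ (Sum.inr (Sum.inr j))) = d 0 * d 0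
    rw [hσ, hσ]
    show d 1 * d 2 = d 0 * d 0
    apply mul_left_cancel₀ hd00
    have h3 := hd 0
    calc d 0 * (d 1 * d 2) = d 0 * d 1 * d 2 := by ring
      _ = 1 := hprod
      _ = d 0 ^ 3 := h3.symm
      _ = d 0 * (d 0 * d 0) := by ring
  · intro i
    rw [Basis.reindex_apply, Equiv.symm_symm]
    exact hb _

end exc3

section exc5
universe u
variable {F : Type u} [Field F] [Fintype F]

theorem good_exc5 (p : ℕ) [Fact p.Prime] [CharP F p] {Q : (Fin 5 → F) → F}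
    (hQ : Cfsg.Geo.IsNondegenerateQuadraticForm Q) (h2 : (2 : F) ≠ 0)
    (hv : padicValNat 5 (Fintype.card F - 1) = 1) (x : GL (Fin 5) F)
    (hx : x ∈ Cfsg.Geo.specialLinear (Fin 5) F) (z : F)
    (hxr : ((x ^ 5 : GL (Fin 5) F) : Matrix (Fin 5) (Fin 5) F) =
      z • (1 : Matrix (Fin 5) (Fin 5) F)) :
    ∃ g ∈ Cfsg.Geo.specialLinear (Fin 5) F, g⁻¹ * x * g ∈ Cfsg.Geo.quadSimilarityGroup Q := by
  haveI : Fact (Nat.Prime 5) := ⟨Nat.prime_five⟩
  obtain ⟨ζ, b, d, hζ, hss, hb, hd, hprod⟩ := exc_eigenbasis p 5 (by norm_num) rfl hv x hx z hxr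
  have hζ5 : ζ ^ 5 = 1 := hζ.pow_eq_one
  have hζ0 : ζ ≠ 0 := hζ.ne_zero (by norm_num)
  -- discrete logarithms
  have hlog : ∀ i, ∃ a : Fin 5, d i = ζ ^ (a : ℕ) := by
    intro i
    obtain ⟨k, hk, hk'⟩ := hζ.eq_pow_of_pow_eq_one (hd i)
    exact ⟨⟨k, hk⟩, hk'.symm⟩
  choose a ha using hlog
  have hχadd : ∀ s t : Fin 5, ζ ^ ((s + t : Fin 5) : ℕ) = ζ ^ (s : ℕ) * ζ ^ (t : ℕ) := by
    intro s t
    rw [Fin.val_add, ← pow_eq_pow_mod _ hζ5, pow_add]
  have hsum : a 0 + a 1 + a 2 + a 3 + a 4 = 0 := by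
    have h1 : ζ ^ ((a 0 + a 1 + a 2 + a 3 + a 4 : Fin 5) : ℕ) = 1 := by
      rw [hχadd, hχadd, hχadd, hχadd, ← ha, ← ha, ← ha, ← ha, ← ha, ← hprod,
        Fin.prod_univ_five]
    have h3 := (hζ.pow_eq_one_iff_dvd _).mp h1
    have h4 := (a 0 + a 1 + a 2 + a 3 + a 4 : Fin 5).isLt
    apply Fin.ext
    have := Nat.eq_zero_of_dvd_of_lt h3 h4
    rw [this]
    rfl
  obtain ⟨z₀, k, hzk⟩ := comb5 (a 0) (a 1) (a 2) (a 3) (a 4) hsum
  have hA : ![a 0, a 1, a 2, a 3, a 4] = a := by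
    funext i
    fin_cases i <;> rfl
  rw [hA] at hzk
  obtain ⟨σ, hσ⟩ : ∃ σ : Unit ⊕ (Fin 2 ⊕ Fin 2) ≃ Fin 5, ∀ i, σ i = sg5 z₀ k i :=
    ⟨Equiv.ofBijective (sg5 z₀ k) (sg5_bij z₀ k), fun i => rfl⟩
  have hη0 : d (σ (Sum.inl ())) ≠ 0 := by
    rw [ha]
    exact pow_ne_zero _ hζ0
  apply good_of_witt 2 rfl hQ h2 x hss (b.reindex σ.symm) (fun i => d (σ i)) _
    (d (σ (Sum.inl ()))) hη0 rfl
  · intro j
    show d (σ (Sum.inr (Sum.inl j))) * d (σ (Sum.inr (Sum.inr j))) =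
      d (σ (Sum.inl ())) * d (σ (Sum.inl ()))
    have h2a : ∀ t : Fin 5, 2 * t = t + t := by decide
    rw [hσ, hσ, hσ, ha, ha, ha, ← hχadd, ← hχadd, hzk j, h2a]
  · intro i
    rw [Basis.reindex_apply, Equiv.symm_symm]
    exact hb _

end exc5

end Cfsg.Agent.Lib.Helper29.LO
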