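import Mathlib
import Cfsg.Agent.Lib.Helper29.LO6

/-!
# Orthogonal-type subgroups of `SL_n(q)`, `q` odd: derangements of odd prime order `r` with
`r ≠ p`, `r ∤ q - 1`
-/

set_option autoImplicit false

namespace Cfsg.Agent.Lib.Helper29.LO

open Module Matrix QuadraticMap Cfsg.Agent.Lib.Helper13 Cfsg.Agent.Lib.Helper15.PSub
  Cfsg.Agent.Lib.Helper15.PSp Cfsg.Agent.Lib.Helper15.PDec Cfsg.Agent.Lib.Helper15
  Cfsg.Agent.Lib.Helper29.NSM

section fpf
universe u
variable {F : Type u} [Field F] [Fintype F] {n : ℕ}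

local notation "VV" => (Fin n → F)
local notation "MM" => Matrix (Fin n) (Fin n) F
local notation "GG" => GL (Fin n) F

omit [Fintype F] in
theorem sim_pow {Q : VV → F} (h : GG) (c : F) (hc : ∀ v, Q ((h : MM) *ᵥ v) = c * Q v) (k : ℕ)
    (v : VV) : Q (((h ^ k : GG) : MM) *ᵥ v) = c ^ k * Q v := by
  induction k generalizing v with
  | zero => simp
  | succ k ih =>
    rw [pow_succ, Units.val_mul, ← Matrix.mulVec_mulVec, ih, hc, pow_succ]
    ring

omit [Fintype F] in
theorem exists_Q_ne_zero (hn : 0 < n) {Q : VV → F}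
    (hQ : Cfsg.Geo.IsNondegenerateQuadraticForm Q) : ∃ v, Q v ≠ 0 := by
  obtain ⟨u, v, huv⟩ := polB_exists_ne_zero hn hQ
  by_contra hall
  push Not at hall
  apply huv
  rw [polB_apply]
  unfold QuadraticMap.polar
  rw [hall, hall, hall]
  ring

/-- a fixed-point-free element of order `r` gives a derangement when `r` does not divide the
number of vectors of norm one -/
theorem bad_of_fpf (hn : 0 < n) {Q : VV → F} (hQ : Cfsg.Geo.IsNondegenerateQuadraticForm Q)
    (r : ℕ) (hr : r.Prime) (hrq : ¬ r ∣ Fintype.card F - 1) (y : VV →ₗ[F] VV)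
    (hdet : LinearMap.det y = 1) (hyr : y ^ r = 1) (hns : ∀ z : F, y ≠ z • (1 : VV →ₗ[F] VV))
    (hfix : ∀ v, y v = v → v = 0) (hcard : ¬ r ∣ Nat.card {v : VV // Q v = 1}) : Bad Q r := by
  classical
  haveI : Fact r.Prime := ⟨hr⟩
  have hdetM : (LinearMap.toMatrix' y).det = 1 := by rw [LinearMap.det_toMatrix']; exact hdet
  obtain ⟨x, hxdef⟩ : ∃ x : GG, x = mkGL (LinearMap.toMatrix' y) hdetM := ⟨_, rfl⟩
  have hxcoe : (x : MM) = LinearMap.toMatrix' y := by rw [hxdef, mkGL_coe]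
  have hxv : ∀ v, (x : MM) *ᵥ v = y v := by
    intro v
    rw [hxcoe, ← Matrix.toLin'_apply, Matrix.toLin'_toMatrix']
  have hxr : x ^ r = 1 := by
    apply Units.ext
    rw [Units.val_pow_eq_pow_val, hxcoe, Units.val_one]
    apply Matrix.toLin'.injective
    rw [Matrix.toLin'_pow, Matrix.toLin'_toMatrix', hyr, Matrix.toLin'_one]
    rfl
  refine ⟨x, by rw [hxdef]; exact mkGL_mem _ _, ⟨1, ?_⟩, ?_, ?_⟩
  · rw [one_smul, hxr, Units.val_one]
  · intro z hz
    rw [hxcoe] at hz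
    apply hns z
    rw [← Matrix.toLin'_toMatrix' y, hz, toLin'_smul_one]
  · intro g hg
    apply hcard
    obtain ⟨c, hc⟩ := hg
    have hhr : (g⁻¹ * x * g) ^ r = 1 := by
      have h1 : g⁻¹ * x * g = g⁻¹ * x * g⁻¹⁻¹ := by rw [inv_inv]
      rw [h1, conj_pow, hxr, mul_one, mul_inv_cancel]
    obtain ⟨v₀, hv₀⟩ := exists_Q_ne_zero hn hQ
    have hcr : (c : F) ^ r = 1 := by
      have h1 := sim_pow (g⁻¹ * x * g) c hc r v₀
      rw [hhr, Units.val_one, Matrix.one_mulVec] at h1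
      have h2 : ((c : F) ^ r - 1) * Q v₀ = 0 := by linear_combination -h1
      rcases mul_eq_zero.mp h2 with h3 | h3
      · exact sub_eq_zero.mp h3
      · exact absurd h3 hv₀
    have hc1 : (c : F) = 1 := eq_one_of_pow_eq_one r hr hrq c hcr
    have hy : g⁻¹ * x * g ∈ Cfsg.isometryGroup F Q := by
      rw [mem_isometryGroup_iff]
      intro v
      rw [hc v, hc1, one_mul]
    let t := isoEquiv Q (toQF hQ) (fun v => rfl) ⟨g⁻¹ * x * g, hy⟩
    have ht : t ^ r = 1 := by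
      rw [← map_pow]
      have : (⟨g⁻¹ * x * g, hy⟩ : Cfsg.isometryGroup F Q) ^ r = 1 := by
        apply Subtype.ext
        rw [SubgroupClass.coe_pow]
        exact hhr
      rw [this, map_one]
    have hfp : ∀ v, t.1 v = v → v = 0 := by
      intro v hv
      change ((g⁻¹ * x * g : GG) : MM) *ᵥ v = v at hv
      rw [Units.val_mul, Units.val_mul, ← Matrix.mulVec_mulVec, ← Matrix.mulVec_mulVec] at hv
      have h1 : (x : MM) *ᵥ ((g : MM) *ᵥ v) = (g : MM) *ᵥ v := by
        have := congrArg (fun w => (g : MM) *ᵥ w) hv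
        beta_reduce at this
        rw [Matrix.mulVec_mulVec, ← Units.val_mul, mul_inv_cancel, Units.val_one,
          Matrix.one_mulVec] at this
        exact this
      rw [hxv] at h1
      have h2 := hfix _ h1
      have := congrArg (fun w => ((g⁻¹ : GG) : MM) *ᵥ w) h2
      beta_reduce at this
      rw [Matrix.mulVec_mulVec, ← Units.val_mul, inv_mul_cancel, Units.val_one, Matrix.one_mulVec,
        Matrix.mulVec_zero] at this
      exact this
    exact dvd_card_normOne (toQF hQ) r t ht hfp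

theorem card_normOne_plus' {Q : VV → F} (m : ℕ) (g : VV ≃ₗ[F] (Fin m ⊕ Fin m → F))
    (hg : ∀ v, Q v = Cfsg.quadFormPlus m F (g v)) :
    Nat.card {v : VV // Q v = 1} = (Fintype.card F ^ m - 1) * Fintype.card F ^ (m - 1) := by
  classical
  have h1 := card_plus_value (F := F) m 1
  rw [if_neg one_ne_zero, add_zero] at h1
  rw [← h1]
  apply Nat.card_congr
  exact g.toEquiv.subtypeEquiv (fun v => by rw [hg]; rfl)

theorem card_normOne_minus' {Q : VV → F} (m : ℕ) (hm : 2 ≤ m) (ζ : F)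
    (hζ : ∀ t : F, t ^ 2 + t + ζ ≠ 0)
    (g : VV ≃ₗ[F] ((Fin (m - 1) ⊕ Fin (m - 1)) ⊕ Fin 2 → F))
    (hg : ∀ v, Q v = Cfsg.quadFormMinus (m - 1) F 1 ζ (g v)) :
    Nat.card {v : VV // Q v = 1} = Fintype.card F ^ (m - 1) * (Fintype.card F ^ m + 1) := by
  classical
  have h1 := card_minus_shape (F := F) (m - 1) (κ := Fin 2)
    (fun w => w 0 ^ 2 + 1 * w 0 * w 1 + ζ * w 1 ^ 2) 1
  have h2 : Nat.card {w : Fin 2 → F // (fun w : Fin 2 → F => w 0 ^ 2 + 1 * w 0 * w 1 + ζ * w 1 ^ 2) w = 1} =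
      Fintype.card F + 1 := by
    rw [← card_binForm_one 1 ζ (Cfsg.Agent.Lib.Helper16.MinusType.aniso_of_irred ζ hζ)]
    apply Nat.card_congr
    exact Equiv.subtypeEquivRight (fun w => by rw [binForm_apply])
  rw [h2, Fintype.card_fin] at h1
  have h3 : Nat.card {v : VV // Q v = 1} = Nat.card {v : (Fin (m - 1) ⊕ Fin (m - 1)) ⊕ Fin 2 → F //
      (∑ i : Fin (m - 1), v (Sum.inl (Sum.inl i)) * v (Sum.inl (Sum.inr i))) +
        (fun w : Fin 2 → F => w 0 ^ 2 + 1 * w 0 * w 1 + ζ * w 1 ^ 2) (fun i => v (Sum.inr i)) = 1} := by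
    apply Nat.card_congr
    exact g.toEquiv.subtypeEquiv (fun v => by rw [hg]; rfl)
  rw [h3, h1]
  obtain ⟨k, rfl⟩ : ∃ k, m = k + 2 := ⟨m - 2, by omega⟩
  have e1 : k + 2 - 1 = k + 1 := by omega
  have e2 : k + 1 - 1 = k := by omega
  rw [e1, e2]
  have hq : 1 ≤ Fintype.card F ^ (k + 1) := Nat.one_le_pow _ _ Fintype.card_pos
  obtain ⟨a, ha⟩ : ∃ a, Fintype.card F ^ (k + 1) = a + 1 := ⟨_, (Nat.sub_add_cancel hq).symm⟩
  have e3 : Fintype.card F ^ (k + 2) = (a + 1) * Fintype.card F := by rw [← ha]; ring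
  have e4 : Fintype.card F ^ k * Fintype.card F ^ 2 = (a + 1) * Fintype.card F := by
    rw [← ha]; ring
  rw [e3, ha, Nat.add_sub_cancel, mul_assoc, e4]
  ring

end fpf

section caseC
universe u
variable {F : Type u} [Field F] [Fintype F] {n : ℕ}

local notation "VV" => (Fin n → F)

/-- a fixed-point-free element of order `r` when the multiplicative order divides `n` -/
theorem exists_fpf_of_dvd (p : ℕ) [Fact p.Prime] [CharP F p] (hn : 0 < n) (r : ℕ)
    [hr : Fact r.Prime] (hrp : r ≠ p) (hrq : ¬ r ∣ Fintype.card F - 1)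
    (hdvd : orderOf ((Fintype.card F : ℕ) : ZMod r) ∣ n) :
    ∃ y : VV →ₗ[F] VV, LinearMap.det y = 1 ∧ y ^ r = 1 ∧
      (∀ z : F, y ≠ z • (1 : VV →ₗ[F] VV)) ∧ ∀ v, y v = v → v = 0 := by
  obtain ⟨s, hs⟩ := hdvd
  have hs0 : 1 ≤ s := by
    rcases Nat.eq_zero_or_pos s with h | h
    · rw [h, mul_zero] at hs
      omega
    · exact h
  obtain ⟨y, hdet, hyr, hns, hfix⟩ := exists_bad p r hrp hrq n s hs0 (by rw [mul_comm, ← hs])
  refine ⟨y, hdet, hyr, hns, fun v hv => ?_⟩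
  have h0 : finrank F (Module.End.eigenspace y 1) = 0 := by
    rw [hfix, mul_comm, ← hs, Nat.sub_self]
  have hbot : Module.End.eigenspace y 1 = ⊥ := Submodule.finrank_eq_zero.mp h0
  have hmem : v ∈ Module.End.eigenspace y 1 := by
    rw [Module.End.mem_eigenspace_iff, one_smul]
    exact hv
  rw [hbot] at hmem
  exact (Submodule.mem_bot F).mp hmem

/-- derangements of odd prime order `r ≠ p` not dividing `q - 1` -/
theorem bad_caseC (p : ℕ) [hp : Fact p.Prime] [CharP F p] (hn : 3 ≤ n) {Q : VV → F}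
    (hQ : Cfsg.Geo.IsNondegenerateQuadraticForm Q) (hodd : Odd (Fintype.card F)) (r : ℕ)
    [hr : Fact r.Prime] (hr2 : r ≠ 2) (hrp : r ≠ p) (hrq : ¬ r ∣ Fintype.card F - 1)
    (hΩ : r ∣ (Cfsg.Geo.quadSimilarityGroup Q).relIndex (Cfsg.Geo.specialLinear (Fin n) F)) :
    Bad Q r := by
  have hq1 : 1 ≤ Fintype.card F := Fintype.card_pos
  have hrcard : ¬ r ∣ Fintype.card F := by
    obtain ⟨⟨k, _⟩, -, hk⟩ := FiniteField.card F p
    rw [hk]
    intro h
    have h1 := hr.out.dvd_of_dvd_pow h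
    exact hrp ((Nat.prime_dvd_prime_iff_eq hr.out hp.out).mp h1)
  have hd2 : ¬ r ∣ 2 := fun h => hr2 ((Nat.prime_dvd_prime_iff_eq hr.out Nat.prime_two).mp h)
  rcases caseC_split hn hQ hodd r hr.out hrcard hΩ with
    ⟨j, hj2, hj3, hjn, hjr⟩ | ⟨m, hnm, hrm, g, hg⟩ | ⟨m, hnm, hrm, ζ, hζ, g, hg⟩
  · -- odd multiplicative order
    have hcj : orderOf ((Fintype.card F : ℕ) : ZMod r) ∣ j :=
      (orderOf_zmod_dvd_iff _ r j hq1).mpr hjr
    have hcodd : Odd (orderOf ((Fintype.card F : ℕ) : ZMod r)) := by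
      obtain ⟨d, hd⟩ := hcj
      rcases Nat.even_or_odd (orderOf ((Fintype.card F : ℕ) : ZMod r)) with he | ho
      · exfalso
        obtain ⟨e, he⟩ := he
        rw [hd, he] at hj2
        have : (e + e) * d = 2 * (e * d) := by ring
        rw [this] at hj2
        omega
      · exact ho
    have hcle : orderOf ((Fintype.card F : ℕ) : ZMod r) ≤ n :=
      le_trans (Nat.le_of_dvd (by omega) hcj) hjn
    exact bad_caseC_odd p (by omega) hQ (two_ne_zero_of_odd hodd) r hr2 hrp hrq hcodd hcle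
  · -- plus type, `r ∣ q ^ m + 1`
    have hx1 : 1 ≤ Fintype.card F ^ m := Nat.one_le_pow _ _ hq1
    have hdvd : orderOf ((Fintype.card F : ℕ) : ZMod r) ∣ n := by
      rw [orderOf_zmod_dvd_iff _ r n hq1, hnm, mul_comm 2 m, pow_mul, sq_sub_one _ hx1]
      exact Dvd.dvd.mul_left hrm _
    obtain ⟨y, hdet, hyr, hns, hfix⟩ := exists_fpf_of_dvd p (by omega) r hrp hrq hdvd
    apply bad_of_fpf (by omega) hQ r hr.out hrq y hdet hyr hns hfix
    rw [card_normOne_plus' m g hg]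
    intro h
    rcases (Nat.Prime.dvd_mul hr.out).mp h with h' | h'
    · apply hd2
      have h3 : r ∣ (Fintype.card F ^ m + 1) - (Fintype.card F ^ m - 1) := Nat.dvd_sub hrm h'
      have h4 : (Fintype.card F ^ m + 1) - (Fintype.card F ^ m - 1) = 2 := by omega
      rwa [h4] at h3
    · exact hrcard (hr.out.dvd_of_dvd_pow h')
  · -- minus type, `r ∣ q ^ m - 1`
    have hx1 : 1 ≤ Fintype.card F ^ m := Nat.one_le_pow _ _ hq1
    have hdvd : orderOf ((Fintype.card F : ℕ) : ZMod r) ∣ n := by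
      rw [orderOf_zmod_dvd_iff _ r n hq1, hnm, mul_comm 2 m, pow_mul, sq_sub_one _ hx1]
      exact Dvd.dvd.mul_right hrm _
    obtain ⟨y, hdet, hyr, hns, hfix⟩ := exists_fpf_of_dvd p (by omega) r hrp hrq hdvd
    apply bad_of_fpf (by omega) hQ r hr.out hrq y hdet hyr hns hfix
    rw [card_normOne_minus' m (by omega) ζ hζ g hg]
    intro h
    rcases (Nat.Prime.dvd_mul hr.out).mp h with h' | h'
    · exact hrcard (hr.out.dvd_of_dvd_pow h')
    · apply hd2
      have h3 : r ∣ (Fintype.card F ^ m + 1) - (Fintype.card F ^ m - 1) := Nat.dvd_sub h' hrm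
      have h4 : (Fintype.card F ^ m + 1) - (Fintype.card F ^ m - 1) = 2 := by omega
      rwa [h4] at h3

end caseC

end Cfsg.Agent.Lib.Helper29.LO
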