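import Mathlib
import Cfsg.Prelude.Def_Solvable
import Cfsg.Prelude.Def_Transfer
import Cfsg.Agent.Lib.Helper17.Basic

/-!
# Large extraspecial 2-subgroups: orthogonality of singular involutions (helper29)

`Q x = O₂(C_G(x))`, `Q z` extraspecial and self-centralising.
-/

set_option autoImplicit false

namespace Cfsg.Agent.Helper29.LargeExtra

open Cfsg
open scoped commutatorElement

variable {G : Type*} [Group G]

theorem mem_cent_singleton {x p : G} :
    p ∈ Subgroup.centralizer ({x} : Set G) ↔ p * x = x * p := by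
  rw [Subgroup.mem_centralizer_iff]
  constructor
  · intro h; exact (h x (Set.mem_singleton x)).symm
  · intro h y hy; rw [Set.mem_singleton_iff.mp hy]; exact h.symm

/-- abstract properties of the function `x ↦ O₂(C_G(x))` -/
structure QSys (Q : G → Subgroup G) : Prop where
  le_cent : ∀ a, ∀ q ∈ Q a, q * a = a * q
  pgroup : ∀ a, IsPGroup 2 (Q a)
  normal : ∀ a h, h * a = a * h → ∀ q ∈ Q a, h * q * h⁻¹ ∈ Q a
  max : ∀ a (N : Subgroup G), (∀ n ∈ N, n * a = a * n) →
    (∀ h, h * a = a * h → ∀ n ∈ N, h * n * h⁻¹ ∈ N) → IsPGroup 2 N → N ≤ Q a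

theorem qsys_of_def [Finite G] (Q : G → Subgroup G)
    (hQ : ∀ x : G, Q x = (Cfsg.pCore 2 ↥(Subgroup.centralizer ({x} : Set G))).map
      (Subgroup.centralizer ({x} : Set G)).subtype) : QSys Q := by
  have : Fact (Nat.Prime 2) := ⟨Nat.prime_two⟩
  refine ⟨?_, ?_, ?_, ?_⟩
  · intro a q hq
    rw [hQ a] at hq
    obtain ⟨q', _, rfl⟩ := hq
    exact mem_cent_singleton.mp q'.2
  · intro a
    rw [hQ a]
    exact (Cfsg.Agent.Lib.Helper17.pCore_isPGroup).map _
  · intro a h hh q hq
    rw [hQ a] at hq ⊢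
    obtain ⟨q', hq', rfl⟩ := hq
    have hmem : h ∈ Subgroup.centralizer ({a} : Set G) := mem_cent_singleton.mpr hh
    have hn : (Cfsg.pCore 2 ↥(Subgroup.centralizer ({a} : Set G))).Normal := inferInstance
    refine ⟨⟨h, hmem⟩ * q' * ⟨h, hmem⟩⁻¹, hn.conj_mem q' hq' ⟨h, hmem⟩, ?_⟩
    simp
  · intro a N hNc hNn hNp
    have hNK : Subgroup.centralizer ({a} : Set G) ≤ Subgroup.normalizer (N : Set G) := by
      intro h hh
      have hh' : h * a = a * h := mem_cent_singleton.mp hh
      rw [Subgroup.mem_normalizer_iff]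
      intro n
      constructor
      · intro hn; exact hNn h hh' n hn
      · intro hn
        have hh'' : h⁻¹ * a = a * h⁻¹ := ((show Commute h a from hh').inv_left).eq
        have := hNn h⁻¹ hh'' _ hn
        have e : h⁻¹ * (h * n * h⁻¹) * h⁻¹⁻¹ = n := by group
        rwa [e] at this
    have h1 := Cfsg.Agent.Lib.Helper17.subgroupOf_le_pCore (p := 2) hNK hNp
    intro n hn
    rw [hQ a]
    have hnc : n ∈ Subgroup.centralizer ({a} : Set G) := mem_cent_singleton.mpr (hNc n hn)
    refine ⟨⟨n, hnc⟩, h1 ?_, rfl⟩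
    exact Subgroup.mem_subgroupOf.mpr hn

theorem QSys.conj {Q : G → Subgroup G} (hS : QSys Q) (a d q : G) (hq : q ∈ Q a) :
    d * q * d⁻¹ ∈ Q (d * a * d⁻¹) := by
  have hle : (Q a).map (MulAut.conj d).toMonoidHom ≤ Q (d * a * d⁻¹) := by
    apply hS.max
    · rintro n ⟨q0, hq0, rfl⟩
      have := hS.le_cent a q0 hq0
      simp only [MulEquiv.coe_toMonoidHom, MulAut.conj_apply]
      calc d * q0 * d⁻¹ * (d * a * d⁻¹) = d * (q0 * a) * d⁻¹ := by group
        _ = d * (a * q0) * d⁻¹ := by rw [this]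
        _ = d * a * d⁻¹ * (d * q0 * d⁻¹) := by group
    · rintro h hh n ⟨q0, hq0, rfl⟩
      have hh' : (d⁻¹ * h * d) * a = a * (d⁻¹ * h * d) := by
        calc (d⁻¹ * h * d) * a = d⁻¹ * (h * (d * a * d⁻¹)) * d := by group
          _ = d⁻¹ * ((d * a * d⁻¹) * h) * d := by rw [hh]
          _ = a * (d⁻¹ * h * d) := by group
      have := hS.normal a _ hh' q0 hq0
      refine ⟨(d⁻¹ * h * d) * q0 * (d⁻¹ * h * d)⁻¹, this, ?_⟩
      simp only [MulEquiv.coe_toMonoidHom, MulAut.conj_apply]
      group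
    · exact (hS.pgroup a).map _
  exact hle ⟨q, hq, by simp⟩

theorem QSys.mem_conj_iff {Q : G → Subgroup G} (hS : QSys Q) (a d q : G) :
    q ∈ Q (d * a * d⁻¹) ↔ d⁻¹ * q * d ∈ Q a := by
  constructor
  · intro hq
    have := hS.conj (d * a * d⁻¹) d⁻¹ q hq
    have e : d⁻¹ * (d * a * d⁻¹) * d⁻¹⁻¹ = a := by group
    rw [e, inv_inv] at this
    exact this
  · intro hq
    have := hS.conj a d _ hq
    have e : d * (d⁻¹ * q * d) * d⁻¹ = q := by group
    rwa [e] at this

/-- element-level facts about an extraspecial self-centralising `Qa` with centre `⟨a⟩` -/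
structure Facts (Qa : Subgroup G) (a : G) : Prop where
  two : a * a = 1
  ne : a ≠ 1
  mem : a ∈ Qa
  cent : ∀ q ∈ Qa, q * a = a * q
  cen : ∀ c ∈ Qa, (∀ q ∈ Qa, q * c = c * q) → c = 1 ∨ c = a
  comm : ∀ u ∈ Qa, ∀ v ∈ Qa, u * v * u⁻¹ * v⁻¹ = 1 ∨ u * v * u⁻¹ * v⁻¹ = a
  self : ∀ c : G, (∀ q ∈ Qa, q * c = c * q) → c ∈ Qa

theorem facts_of [Finite G] {Q : G → Subgroup G} (hS : QSys Q) (z : G) (hz : orderOf z = 2)
    (hE : Cfsg.IsExtraspecial 2 ↥(Q z))
    (hC : Subgroup.centralizer ((Q z : Subgroup G) : Set G) ≤ Q z) : Facts (Q z) z := by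
  have hz2 : z * z = 1 := by
    have := pow_orderOf_eq_one z
    rwa [hz, pow_two] at this
  have hz1 : z ≠ 1 := by
    intro h; rw [h, orderOf_one] at hz; norm_num at hz
  have hmem : z ∈ Q z := by
    have : Subgroup.zpowers z ≤ Q z := by
      apply hS.max
      · intro n hn
        obtain ⟨k, rfl⟩ := Subgroup.mem_zpowers_iff.mp hn
        exact ((Commute.refl z).zpow_left k).eq
      · intro h hh n hn
        obtain ⟨k, rfl⟩ := Subgroup.mem_zpowers_iff.mp hn
        have hc : Commute h (z ^ k) := (show Commute h z from hh).zpow_right k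
        have : h * z ^ k * h⁻¹ = z ^ k := by rw [hc.eq, mul_inv_cancel_right]
        rw [this]; exact hn
      · apply IsPGroup.of_card (n := 1)
        rw [Nat.card_zpowers, hz, pow_one]
    exact this (Subgroup.mem_zpowers z)
  obtain ⟨⟨_, _, hcm⟩, hcard⟩ := hE
  have hzc : (⟨z, hmem⟩ : ↥(Q z)) ∈ Subgroup.center ↥(Q z) := by
    rw [Subgroup.mem_center_iff]
    intro q
    apply Subtype.ext
    simp only [Subgroup.coe_mul]
    exact hS.le_cent z q.1 q.2
  have hcen : ∀ c : ↥(Q z), c ∈ Subgroup.center ↥(Q z) → c = 1 ∨ c = ⟨z, hmem⟩ := by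
    intro c hc
    obtain ⟨y, _, huniq⟩ := (Nat.card_eq_two_iff' (1 : ↥(Subgroup.center ↥(Q z)))).mp hcard
    by_cases h1 : c = 1
    · exact Or.inl h1
    · right
      have e1 : (⟨c, hc⟩ : ↥(Subgroup.center ↥(Q z))) = y := huniq _ (by
        intro h; apply h1
        exact congrArg (fun t : ↥(Subgroup.center ↥(Q z)) => (t : ↥(Q z))) h)
      have e2 : (⟨⟨z, hmem⟩, hzc⟩ : ↥(Subgroup.center ↥(Q z))) = y := huniq _ (by
        intro h
        have := congrArg (fun t : ↥(Subgroup.center ↥(Q z)) => ((t : ↥(Q z)) : G)) h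
        exact hz1 this)
      have := e1.trans e2.symm
      exact congrArg (fun t : ↥(Subgroup.center ↥(Q z)) => (t : ↥(Q z))) this
  refine ⟨hz2, hz1, hmem, hS.le_cent z, ?_, ?_, ?_⟩
  · intro c hc hcq
    have : (⟨c, hc⟩ : ↥(Q z)) ∈ Subgroup.center ↥(Q z) := by
      rw [Subgroup.mem_center_iff]
      intro q
      apply Subtype.ext
      simp only [Subgroup.coe_mul]
      exact hcq q.1 q.2
    rcases hcen _ this with h | h
    · left; exact congrArg Subtype.val h
    · right; exact congrArg Subtype.val h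
  · intro u hu v hv
    have : ⁅(⟨u, hu⟩ : ↥(Q z)), ⟨v, hv⟩⁆ ∈ Subgroup.center ↥(Q z) := by
      rw [← hcm, commutator_def]
      exact Subgroup.commutator_mem_commutator (Subgroup.mem_top _) (Subgroup.mem_top _)
    rcases hcen _ this with h | h
    · left
      have := congrArg Subtype.val h
      simpa [commutatorElement_def] using this
    · right
      have := congrArg Subtype.val h
      simpa [commutatorElement_def] using this
  · intro c hc
    apply hC
    rw [Subgroup.mem_centralizer_iff]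
    intro q hq
    exact hc q hq

theorem facts_conj {Q : G → Subgroup G} (hS : QSys Q) {a : G} (F : Facts (Q a) a) (d : G) :
    Facts (Q (d * a * d⁻¹)) (d * a * d⁻¹) := by
  have hiff := hS.mem_conj_iff a d
  have tr : ∀ c : G, (∀ q ∈ Q (d * a * d⁻¹), q * c = c * q) →
      ∀ q ∈ Q a, q * (d⁻¹ * c * d) = (d⁻¹ * c * d) * q := by
    intro c hcq q hq
    have h1 := hcq (d * q * d⁻¹) (hS.conj a d q hq)
    calc q * (d⁻¹ * c * d) = d⁻¹ * ((d * q * d⁻¹) * c) * d := by group
      _ = d⁻¹ * (c * (d * q * d⁻¹)) * d := by rw [h1]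
      _ = (d⁻¹ * c * d) * q := by group
  refine ⟨?_, ?_, ?_, ?_, ?_, ?_, ?_⟩
  · calc d * a * d⁻¹ * (d * a * d⁻¹) = d * (a * a) * d⁻¹ := by group
      _ = d * 1 * d⁻¹ := by rw [F.two]
      _ = 1 := by group
  · intro h
    exact F.ne (conj_eq_one_iff.mp h)
  · exact hS.conj a d a F.mem
  · exact hS.le_cent _
  · intro c hc hcq
    have hc0 : d⁻¹ * c * d ∈ Q a := (hiff c).mp hc
    rcases F.cen _ hc0 (tr c hcq) with h | h
    · left
      calc c = d * (d⁻¹ * c * d) * d⁻¹ := by group
        _ = d * 1 * d⁻¹ := by rw [h]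
        _ = 1 := by group
    · right
      calc c = d * (d⁻¹ * c * d) * d⁻¹ := by group
        _ = d * a * d⁻¹ := by rw [h]
  · intro u hu v hv
    have hu0 := (hiff u).mp hu
    have hv0 := (hiff v).mp hv
    have e : u * v * u⁻¹ * v⁻¹ = d * ((d⁻¹ * u * d) * (d⁻¹ * v * d) * (d⁻¹ * u * d)⁻¹
        * (d⁻¹ * v * d)⁻¹) * d⁻¹ := by group
    rcases F.comm _ hu0 _ hv0 with h | h
    · left; rw [e, h]; group
    · right; rw [e, h]
  · intro c hc
    rw [hiff]
    exact F.self _ (tr c hc)

theorem Facts.swap {Qa : Subgroup G} {a : G} (F : Facts Qa a) {v : G} (hv : v ∈ Qa)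
    (hv1 : v ≠ 1) (hva : v ≠ a) : ∃ q ∈ Qa, q * v * q⁻¹ = a * v := by
  by_contra hcon
  push Not at hcon
  have : ∀ q ∈ Qa, q * v = v * q := by
    intro q hq
    rcases F.comm q hq v hv with h | h
    · calc q * v = (q * v * q⁻¹ * v⁻¹) * v * q := by group
        _ = v * q := by rw [h, one_mul]
    · exfalso
      apply hcon q hq
      calc q * v * q⁻¹ = (q * v * q⁻¹ * v⁻¹) * v := by group
        _ = a * v := by rw [h]
  rcases F.cen v hv this with h | h
  · exact hv1 h
  · exact hva h

theorem mem_sup_of_normalizes {H K : Subgroup G} (hHK : ∀ h ∈ H, ∀ k ∈ K, h * k * h⁻¹ ∈ K)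
    {t : G} (ht : t ∈ H ⊔ K) : ∃ h ∈ H, ∃ k ∈ K, t = h * k := by
  rw [Subgroup.sup_eq_closure] at ht
  induction ht using Subgroup.closure_induction with
  | mem t ht =>
    rcases ht with ht | ht
    · exact ⟨t, ht, 1, K.one_mem, (mul_one t).symm⟩
    · exact ⟨1, H.one_mem, t, ht, (one_mul t).symm⟩
  | one => exact ⟨1, H.one_mem, 1, K.one_mem, (mul_one 1).symm⟩
  | mul a b _ _ iha ihb =>
    obtain ⟨h1, hh1, k1, hk1, rfl⟩ := iha
    obtain ⟨h2, hh2, k2, hk2, rfl⟩ := ihb
    refine ⟨h1 * h2, H.mul_mem hh1 hh2, (h2⁻¹ * k1 * h2⁻¹⁻¹) * k2,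
      K.mul_mem (hHK _ (H.inv_mem hh2) _ hk1) hk2, ?_⟩
    group
  | inv a _ iha =>
    obtain ⟨h1, hh1, k1, hk1, rfl⟩ := iha
    refine ⟨h1⁻¹, H.inv_mem hh1, h1 * k1⁻¹ * h1⁻¹, hHK _ hh1 _ (K.inv_mem hk1), ?_⟩
    group

/-- membership in the four-group `{1, x, z, xz}` -/
def InD (x z c : G) : Prop := c = 1 ∨ c = x ∨ c = z ∨ c = x * z

/-- the centraliser in `G` of `P = C_{Q_z}(x)` is `{1, x, z, xz}` -/
theorem cent_P {Q : G → Subgroup G} (hS : QSys Q) {z x y : G} (Fz : Facts (Q z) z)
    (hx : x ∈ Q z) (hxx : x * x = 1) (hy : y ∈ Q z) (hyx : y * x * y⁻¹ = z * x) :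
    ∀ c : G, (∀ p ∈ Q z, p * x = x * p → p * c = c * p) → InD x z c := by
  have hzz : z * z = 1 := Fz.two
  have hz1 : z ≠ 1 := Fz.ne
  have hxinv : x⁻¹ = x := inv_eq_of_mul_eq_one_left hxx
  have hxzc : x * z = z * x := Fz.cent x hx
  have hyz : y * z = z * y := Fz.cent y hy
  have hyz' : y * z * y⁻¹ = z := by rw [hyz, mul_inv_cancel_right]
  have hyz3 : y⁻¹ * z * y = z := by
    calc y⁻¹ * z * y = y⁻¹ * (z * y) := by group
      _ = y⁻¹ * (y * z) := by rw [hyz]
      _ = z := by group
  have hyx' : y⁻¹ * x * y = z * x := by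
    calc y⁻¹ * x * y = y⁻¹ * (z * z * x) * y := by rw [hzz, one_mul]
      _ = y⁻¹ * (z * (z * x)) * y := by group
      _ = y⁻¹ * (z * (y * x * y⁻¹)) * y := by rw [hyx]
      _ = (y⁻¹ * (z * y)) * x := by group
      _ = (y⁻¹ * (y * z)) * x := by rw [hyz]
      _ = z * x := by group
  have hyx2 : y * x = z * x * y := by
    calc y * x = (y * x * y⁻¹) * y := by group
      _ = z * x * y := by rw [hyx]
  have hxy : x * y = z * (y * x) := by
    calc x * y = (z * z) * x * y := by rw [hzz, one_mul]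
      _ = z * (z * x * y) := by group
      _ = z * (y * x) := by rw [hyx2]
  -- B1: the coset decomposition
  have B1 : ∀ q ∈ Q z, q * x ≠ x * q → (y⁻¹ * q) * x = x * (y⁻¹ * q) := by
    intro q hq hne
    obtain h | h := Fz.comm q hq x hx
    · exfalso; apply hne
      calc q * x = (q * x * q⁻¹ * x⁻¹) * x * q := by group
        _ = x * q := by rw [h, one_mul]
    · have h1 : q * x = z * x * q := by
        calc q * x = (q * x * q⁻¹ * x⁻¹) * x * q := by group
          _ = z * x * q := by rw [h]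
      have hyz2 : y⁻¹ * z = z * y⁻¹ := ((show Commute y z from hyz).inv_left).eq
      calc y⁻¹ * q * x = y⁻¹ * (q * x) := by rw [mul_assoc]
        _ = y⁻¹ * (z * x * q) := by rw [h1]
        _ = (y⁻¹ * z) * x * q := by group
        _ = (z * y⁻¹) * x * q := by rw [hyz2]
        _ = z * (y⁻¹ * x * y) * (y⁻¹ * q) := by group
        _ = z * (z * x) * (y⁻¹ * q) := by rw [hyx']
        _ = (z * z) * x * (y⁻¹ * q) := by group
        _ = x * (y⁻¹ * q) := by rw [hzz, one_mul]
  -- B2': commuting with P and y means commuting with Q z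
  have B2' : ∀ t : G, (∀ p ∈ Q z, p * x = x * p → p * t = t * p) → y * t = t * y →
      ∀ q ∈ Q z, q * t = t * q := by
    intro t htP hty q hq
    by_cases hqx : q * x = x * q
    · exact htP q hq hqx
    · have h1 := B1 q hq hqx
      have h2 := htP (y⁻¹ * q) ((Q z).mul_mem ((Q z).inv_mem hy) hq) h1
      calc q * t = y * ((y⁻¹ * q) * t) := by group
        _ = y * (t * (y⁻¹ * q)) := by rw [h2]
        _ = (y * t) * (y⁻¹ * q) := by group
        _ = (t * y) * (y⁻¹ * q) := by rw [hty]
        _ = t * q := by group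
  have B2 : ∀ t : G, (∀ p ∈ Q z, p * x = x * p → p * t = t * p) → y * t = t * y →
      t = 1 ∨ t = z := by
    intro t htP hty
    have hall := B2' t htP hty
    exact Fz.cen t (Fz.self t hall) hall
  -- B3: elements of Q z centralising P
  have B3 : ∀ t ∈ Q z, (∀ p ∈ Q z, p * x = x * p → p * t = t * p) → InD x z t := by
    intro t ht htP
    obtain h | h := Fz.comm y hy t ht
    · have hty : y * t = t * y := by
        calc y * t = (y * t * y⁻¹ * t⁻¹) * t * y := by group
          _ = t * y := by rw [h, one_mul]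
      rcases B2 t htP hty with e | e
      · exact Or.inl e
      · exact Or.inr (Or.inr (Or.inl e))
    · have hyt : y * t = z * t * y := by
        calc y * t = (y * t * y⁻¹ * t⁻¹) * t * y := by group
          _ = z * t * y := by rw [h]
      have hzt : z * t = t * z := (Fz.cent t ht).symm
      have ht'P : ∀ p ∈ Q z, p * x = x * p → p * (t * x) = (t * x) * p := by
        intro p hp hpx
        calc p * (t * x) = (p * t) * x := by group
          _ = (t * p) * x := by rw [htP p hp hpx]
          _ = t * (p * x) := by group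
          _ = t * (x * p) := by rw [hpx]
          _ = (t * x) * p := by group
      have hyt' : y * (t * x) = (t * x) * y := by
        calc y * (t * x) = (y * t) * x := by rw [mul_assoc]
          _ = (z * t * y) * x := by rw [hyt]
          _ = z * t * (y * x) := by group
          _ = z * t * (z * x * y) := by rw [hyx2]
          _ = (z * t) * z * x * y := by group
          _ = (t * z) * z * x * y := by rw [hzt]
          _ = t * (z * z) * x * y := by group
          _ = (t * x) * y := by rw [hzz, mul_one]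
      rcases B2 (t * x) ht'P hyt' with e | e
      · right; left
        have : t = x⁻¹ := eq_inv_of_mul_eq_one_left e
        rw [this, hxinv]
      · right; right; right
        have : t = z * x⁻¹ := eq_mul_inv_of_mul_eq e
        rw [this, hxinv, hxzc]
  -- B4
  intro c hc
  have hcz : c * z = z * c := (hc z Fz.mem hxzc.symm).symm
  have h2' : y * (z * x) * y⁻¹ = x := by
    calc y * (z * x) * y⁻¹ = (y * z * y⁻¹) * (y * x * y⁻¹) := by group
      _ = z * (z * x) := by rw [hyz', hyx]
      _ = (z * z) * x := by group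
      _ = x := by rw [hzz, one_mul]
  have hPy : ∀ p ∈ Q z, p * x = x * p → (y * p * y⁻¹) * x = x * (y * p * y⁻¹) := by
    intro p hp hpx
    have hpz : p * z = z * p := Fz.cent p hp
    have h1 : p * (z * x) = (z * x) * p := by
      calc p * (z * x) = (p * z) * x := by group
        _ = (z * p) * x := by rw [hpz]
        _ = z * (p * x) := by group
        _ = z * (x * p) := by rw [hpx]
        _ = (z * x) * p := by group
    calc (y * p * y⁻¹) * x = y * (p * (y⁻¹ * x * y)) * y⁻¹ := by group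
      _ = y * (p * (z * x)) * y⁻¹ := by rw [hyx']
      _ = y * ((z * x) * p) * y⁻¹ := by rw [h1]
      _ = (y * (z * x) * y⁻¹) * (y * p * y⁻¹) := by group
      _ = x * (y * p * y⁻¹) := by rw [h2']
  have hcyc : c * y * c⁻¹ ∈ Q z := hS.normal z c hcz y hy
  obtain ⟨c', hc'def⟩ : ∃ c', c' = y⁻¹ * (c * y * c⁻¹) := ⟨_, rfl⟩
  have hc'mem : c' ∈ Q z := by
    rw [hc'def]; exact (Q z).mul_mem ((Q z).inv_mem hy) hcyc
  have hc'P : ∀ p ∈ Q z, p * x = x * p → p * c' = c' * p := by
    intro p hp hpx
    have hp1 : y * p * y⁻¹ ∈ Q z := (Q z).mul_mem ((Q z).mul_mem hy hp) ((Q z).inv_mem hy)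
    have hcp : p * c = c * p := hc p hp hpx
    have hcp'' : p * c⁻¹ = c⁻¹ * p := ((show Commute p c from hcp).inv_right).eq
    have hcp1 : (y * p * y⁻¹) * c = c * (y * p * y⁻¹) := hc _ hp1 (hPy p hp hpx)
    rw [hc'def]
    calc p * (y⁻¹ * (c * y * c⁻¹)) = y⁻¹ * ((y * p * y⁻¹) * c) * y * c⁻¹ := by group
      _ = y⁻¹ * (c * (y * p * y⁻¹)) * y * c⁻¹ := by rw [hcp1]
      _ = y⁻¹ * c * y * (p * c⁻¹) := by group
      _ = y⁻¹ * c * y * (c⁻¹ * p) := by rw [hcp'']
      _ = (y⁻¹ * (c * y * c⁻¹)) * p := by group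
  have hD := B3 c' hc'mem hc'P
  have hcy : c * y * c⁻¹ = y * c' := by rw [hc'def]; group
  have hyy : (y * y) * x = x * (y * y) := by
    calc (y * y) * x = y * (y * x) := by group
      _ = y * (z * x * y) := by rw [hyx2]
      _ = (y * z) * x * y := by group
      _ = (z * y) * x * y := by rw [hyz]
      _ = z * (y * x) * y := by group
      _ = z * (z * x * y) * y := by rw [hyx2]
      _ = (z * z) * x * (y * y) := by group
      _ = x * (y * y) := by rw [hzz, one_mul]
  have hcyy : (y * y) * c = c * (y * y) := hc _ ((Q z).mul_mem hy hy) hyy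
  have hsq : (y * c') * (y * c') = y * y := by
    rw [← hcy]
    calc (c * y * c⁻¹) * (c * y * c⁻¹) = c * (y * y) * c⁻¹ := by group
      _ = (y * y) * c * c⁻¹ := by rw [hcyy]
      _ = y * y := by group
  have hyxsq : (y * x) * (y * x) = z * (y * y) := by
    calc (y * x) * (y * x) = y * (x * y) * x := by group
      _ = y * (z * (y * x)) * x := by rw [hxy]
      _ = (y * z) * y * (x * x) := by group
      _ = (z * y) * y * (x * x) := by rw [hyz]
      _ = (z * y) * y * 1 := by rw [hxx]
      _ = z * (y * y) := by group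
  rcases hD with e | e | e | e
  · -- c' = 1 : c commutes with y
    rw [e, mul_one] at hcy
    have hcy' : y * c = c * y := by
      calc y * c = (c * y * c⁻¹) * c := by rw [hcy]
        _ = c * y := by group
    rcases B2 c hc hcy' with e' | e'
    · exact Or.inl e'
    · exact Or.inr (Or.inr (Or.inl e'))
  · -- c' = x : impossible
    exfalso
    rw [e] at hsq
    rw [hyxsq] at hsq
    apply hz1
    have : z * (y * y) = 1 * (y * y) := by rw [one_mul]; exact hsq
    exact mul_right_cancel this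
  · -- c' = z
    rw [e] at hcy
    have hcy2 : c * y = y * z * c := by
      calc c * y = (c * y * c⁻¹) * c := by group
        _ = y * z * c := by rw [hcy]
    have hxcP : ∀ p ∈ Q z, p * x = x * p → p * (x * c) = (x * c) * p := by
      intro p hp hpx
      have hcp : p * c = c * p := hc p hp hpx
      calc p * (x * c) = (p * x) * c := by group
        _ = (x * p) * c := by rw [hpx]
        _ = x * (p * c) := by group
        _ = x * (c * p) := by rw [hcp]
        _ = (x * c) * p := by group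
    have hxcy : y * (x * c) = (x * c) * y := by
      symm
      calc (x * c) * y = x * (c * y) := by group
        _ = x * (y * z * c) := by rw [hcy2]
        _ = (x * y) * z * c := by group
        _ = (z * (y * x)) * z * c := by rw [hxy]
        _ = z * y * (x * z) * c := by group
        _ = z * y * (z * x) * c := by rw [hxzc]
        _ = (z * y) * z * x * c := by group
        _ = (y * z) * z * x * c := by rw [hyz]
        _ = y * (z * z) * (x * c) := by group
        _ = y * (x * c) := by rw [hzz, mul_one]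
    rcases B2 (x * c) hxcP hxcy with e' | e'
    · -- x c = 1 ⇒ c = x
      right; left
      have : c = x⁻¹ := eq_inv_of_mul_eq_one_right e'
      rw [this, hxinv]
    · -- x c = z ⇒ c = x z
      right; right; right
      calc c = x⁻¹ * (x * c) := by group
        _ = x * z := by rw [e', hxinv]
  · -- c' = x z : impossible
    exfalso
    rw [e] at hsq
    have hzyx : z * (y * x) = (y * x) * z := by
      calc z * (y * x) = (z * y) * x := by group
        _ = (y * z) * x := by rw [hyz]
        _ = y * (z * x) := by group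
        _ = y * (x * z) := by rw [hxzc]
        _ = (y * x) * z := by group
    have h1 : (y * (x * z)) * (y * (x * z)) = (y * x) * (y * x) := by
      calc (y * (x * z)) * (y * (x * z)) = (y * x) * (z * (y * x)) * z := by group
        _ = (y * x) * ((y * x) * z) * z := by rw [hzyx]
        _ = (y * x) * (y * x) * (z * z) := by group
        _ = (y * x) * (y * x) := by rw [hzz, mul_one]
    rw [h1, hyxsq] at hsq
    apply hz1
    have : z * (y * y) = 1 * (y * y) := by rw [one_mul]; exact hsq
    exact mul_right_cancel this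

/-- Orthogonality of singular involutions is symmetric. -/
theorem orth_symm [Finite G] {Q : G → Subgroup G} (hS : QSys Q) {z : G} (Fz : Facts (Q z) z)
    (g : G) (hx : g * z * g⁻¹ ∈ Q z) : z ∈ Q (g * z * g⁻¹) := by
  classical
  obtain ⟨x, hxdef⟩ : ∃ x, x = g * z * g⁻¹ := ⟨_, rfl⟩
  have Fx : Facts (Q x) x := by rw [hxdef]; exact facts_conj hS Fz g
  rw [← hxdef] at hx ⊢
  by_cases hxz : x = z
  · rw [hxz]; exact Fz.mem
  have hx1 : x ≠ 1 := Fx.ne
  have hxx : x * x = 1 := Fx.two
  have hzz : z * z = 1 := Fz.two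
  have hz1 : z ≠ 1 := Fz.ne
  have hxzc : x * z = z * x := Fz.cent x hx
  obtain ⟨y, hy, hyx⟩ := Fz.swap hx hx1 hxz
  have hyz : y * z = z * y := Fz.cent y hy
  have hyz' : y * z * y⁻¹ = z := by rw [hyz, mul_inv_cancel_right]
  have hyz3 : y⁻¹ * z * y = z := by
    calc y⁻¹ * z * y = y⁻¹ * (z * y) := by group
      _ = y⁻¹ * (y * z) := by rw [hyz]
      _ = z := by group
  have B4 := cent_P hS Fz hx hxx hy hyx
  by_cases hex : ∃ q ∈ Q x, q * z * q⁻¹ = x * z
  · -- Step D
    obtain ⟨q, hq, hqz⟩ := hex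
    have hqx : q * x = x * q := Fx.cent q hq
    have hdz : (y * q) * z * (y * q)⁻¹ = x := by
      calc (y * q) * z * (y * q)⁻¹ = y * (q * z * q⁻¹) * y⁻¹ := by group
        _ = y * (x * z) * y⁻¹ := by rw [hqz]
        _ = (y * x * y⁻¹) * (y * z * y⁻¹) := by group
        _ = (z * x) * z := by rw [hyx, hyz']
        _ = (x * z) * z := by rw [← hxzc]
        _ = x * (z * z) := by group
        _ = x := by rw [hzz, mul_one]
    have hq1 : q⁻¹ * x * q = x := by
      calc q⁻¹ * x * q = q⁻¹ * (x * q) := by group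
        _ = q⁻¹ * (q * x) := by rw [hqx]
        _ = x := by group
    have hqinvz : q⁻¹ * z * q = x * z := by
      calc q⁻¹ * z * q = (x * x) * (q⁻¹ * z * q) := by rw [hxx, one_mul]
        _ = x * (x * (q⁻¹ * z * q)) := by group
        _ = x * ((q⁻¹ * x * q) * (q⁻¹ * z * q)) := by rw [hq1]
        _ = x * (q⁻¹ * (x * z) * q) := by group
        _ = x * (q⁻¹ * (q * z * q⁻¹) * q) := by rw [hqz]
        _ = x * z := by group
    have hw : (y * q)⁻¹ * z * (y * q) = x * z := by
      calc (y * q)⁻¹ * z * (y * q) = q⁻¹ * (y⁻¹ * z * y) * q := by group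
        _ = q⁻¹ * z * q := by rw [hyz3]
        _ = x * z := hqinvz
    have hiff := hS.mem_conj_iff z (y * q) z
    rw [hdz, hw] at hiff
    exact hiff.mpr ((Q z).mul_mem hx Fz.mem)
  · -- Step C
    push Not at hex
    obtain ⟨P, hPdef⟩ : ∃ P : Subgroup G, P = Q z ⊓ Subgroup.centralizer ({x} : Set G) :=
      ⟨_, rfl⟩
    obtain ⟨R, hRdef⟩ : ∃ R : Subgroup G, R = Q x ⊓ Subgroup.centralizer ({z} : Set G) :=
      ⟨_, rfl⟩
    have hPmem : ∀ p, p ∈ P ↔ (p ∈ Q z ∧ p * x = x * p) := by
      intro p; rw [hPdef, Subgroup.mem_inf, mem_cent_singleton]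
    have hRmem : ∀ r, r ∈ R ↔ (r ∈ Q x ∧ r * z = z * r) := by
      intro r; rw [hRdef, Subgroup.mem_inf, mem_cent_singleton]
    have hnormPQ : ∀ h ∈ P, ∀ k ∈ Q x, h * k * h⁻¹ ∈ Q x := by
      intro h hh k hk
      exact hS.normal x h ((hPmem h).mp hh).2 k hk
    have hPnorm : P ≤ Subgroup.normalizer ((Q x : Subgroup G) : Set G) := by
      intro p hp
      rw [Subgroup.mem_normalizer_iff]
      intro q
      have hpx := ((hPmem p).mp hp).2
      constructor
      · intro hq; exact hS.normal x p hpx q hq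
      · intro hq
        have hpx' : p⁻¹ * x = x * p⁻¹ := ((show Commute p x from hpx).inv_left).eq
        have := hS.normal x p⁻¹ hpx' _ hq
        have e : p⁻¹ * (p * q * p⁻¹) * p⁻¹⁻¹ = q := by group
        rwa [e] at this
    have hPp : IsPGroup 2 ↥P := (hS.pgroup z).to_le (by rw [hPdef]; exact inf_le_left)
    have hT2 : IsPGroup 2 ↥(P ⊔ Q x) :=
      IsPGroup.to_sup_of_normal_right' hPp (hS.pgroup x) hPnorm
    have hJle : P ⊔ R ≤ Subgroup.centralizer ({z} : Set G) := by
      apply sup_le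
      · intro p hp; rw [mem_cent_singleton]; exact Fz.cent p ((hPmem p).mp hp).1
      · intro r hr; rw [mem_cent_singleton]; exact ((hRmem r).mp hr).2
    have hJT : P ⊔ R ≤ P ⊔ Q x :=
      sup_le le_sup_left (le_trans (by rw [hRdef]; exact inf_le_left) le_sup_right)
    have htop : (P ⊔ R).subgroupOf (P ⊔ Q x) = ⊤ := by
      by_contra hne
      have : Fact (Nat.Prime 2) := ⟨Nat.prime_two⟩
      have : Group.IsNilpotent ↥(P ⊔ Q x) := hT2.isNilpotent
      have hlt := Group.normalizerCondition_of_isNilpotent (G := ↥(P ⊔ Q x)) _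
        (lt_top_iff_ne_top.mpr hne)
      obtain ⟨t, htn, htJ⟩ := SetLike.exists_of_lt hlt
      apply htJ
      rw [Subgroup.mem_subgroupOf]
      obtain ⟨p, hp, q, hq, htpq⟩ := mem_sup_of_normalizes hnormPQ t.2
      have hpP := (hPmem p).mp hp
      have htn' := Subgroup.mem_normalizer_iff''.mp htn
      have hnorm : ∀ j ∈ P ⊔ R, (t : G)⁻¹ * j * (t : G) ∈ P ⊔ R := by
        intro j hj
        have hjT : j ∈ P ⊔ Q x := hJT hj
        have h1 := (htn' ⟨j, hjT⟩).mp (Subgroup.mem_subgroupOf.mpr hj)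
        rw [Subgroup.mem_subgroupOf] at h1
        simpa only [Subgroup.coe_mul, Subgroup.coe_inv] using h1
      -- t z t⁻¹ centralises P
      have hcP : ∀ p' ∈ Q z, p' * x = x * p' →
          p' * ((t : G) * z * (t : G)⁻¹) = ((t : G) * z * (t : G)⁻¹) * p' := by
        intro p' hp' hp'x
        have hp'P : p' ∈ P := (hPmem p').mpr ⟨hp', hp'x⟩
        have h1 := hnorm p' (Subgroup.mem_sup_left hp'P)
        have h2 : ((t : G)⁻¹ * p' * (t : G)) * z = z * ((t : G)⁻¹ * p' * (t : G)) :=
          mem_cent_singleton.mp (hJle h1)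
        calc p' * ((t : G) * z * (t : G)⁻¹)
            = (t : G) * (((t : G)⁻¹ * p' * (t : G)) * z) * (t : G)⁻¹ := by group
          _ = (t : G) * (z * ((t : G)⁻¹ * p' * (t : G))) * (t : G)⁻¹ := by rw [h2]
          _ = ((t : G) * z * (t : G)⁻¹) * p' := by group
      have hD := B4 _ hcP
      -- conjugate back by p
      have hpz : p * z = z * p := Fz.cent p hpP.1
      have hpx : p * x = x * p := hpP.2
      have hqx : q * x = x * q := Fx.cent q hq
      have e1 : (t : G) * z * (t : G)⁻¹ = p * (q * z * q⁻¹) * p⁻¹ := by rw [htpq]; group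
      have hqz : q * z * q⁻¹ = p⁻¹ * ((t : G) * z * (t : G)⁻¹) * p := by rw [e1]; group
      have hpz' : p⁻¹ * z * p = z := by
        calc p⁻¹ * z * p = p⁻¹ * (z * p) := by group
          _ = p⁻¹ * (p * z) := by rw [hpz]
          _ = z := by group
      have hpx' : p⁻¹ * x * p = x := by
        calc p⁻¹ * x * p = p⁻¹ * (x * p) := by group
          _ = p⁻¹ * (p * x) := by rw [hpx]
          _ = x := by group
      have hqR : q ∈ R := by
        rw [hRmem]
        refine ⟨hq, ?_⟩
        rcases hD with e | e | e | e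
        · exfalso
          apply hz1
          exact conj_eq_one_iff.mp e
        · exfalso
          rw [e, hpx'] at hqz
          -- q z q⁻¹ = x = q x q⁻¹
          apply hxz
          have h3 : q * x * q⁻¹ = x := by rw [hqx, mul_inv_cancel_right]
          have h4 : q * z * q⁻¹ = q * x * q⁻¹ := by rw [hqz, h3]
          have := mul_right_cancel h4
          exact (mul_left_cancel this).symm
        · rw [e, hpz'] at hqz
          calc q * z = (q * z * q⁻¹) * q := by group
            _ = z * q := by rw [hqz]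
        · exfalso
          rw [e] at hqz
          apply hex q hq
          rw [hqz]
          calc p⁻¹ * (x * z) * p = (p⁻¹ * x * p) * (p⁻¹ * z * p) := by group
            _ = x * z := by rw [hpx', hpz']
      rw [htpq]
      exact Subgroup.mul_mem _ (Subgroup.mem_sup_left hp) (Subgroup.mem_sup_right hqR)
    -- hence Q x centralises z
    apply Fx.self
    intro q hq
    have hqT : q ∈ P ⊔ Q x := Subgroup.mem_sup_right hq
    have : (⟨q, hqT⟩ : ↥(P ⊔ Q x)) ∈ (P ⊔ R).subgroupOf (P ⊔ Q x) := by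
      rw [htop]; exact Subgroup.mem_top _
    rw [Subgroup.mem_subgroupOf] at this
    exact mem_cent_singleton.mp (hJle this)

/-- the line lemma: `Q a ∩ Q b ≤ Q (ab)` for orthogonal singular `a ≠ b` -/
theorem line_le {Q : G → Subgroup G} (hS : QSys Q) {a b : G} (Fb : Facts (Q b) b)
    (ha1 : a ≠ 1) (hab : a ≠ b) (haQb : a ∈ Q b) (hbQa : b ∈ Q a) :
    Q a ⊓ Q b ≤ Q (a * b) := by
  obtain ⟨q, hq, hqa⟩ := Fb.swap haQb ha1 hab
  have hab' : a * b = b * a := Fb.cent a haQb
  intro e he
  obtain ⟨hea, heb⟩ := Subgroup.mem_inf.mp he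
  have he' : q⁻¹ * e * q ∈ Q a := by
    have hcomm := Fb.comm e⁻¹ ((Q b).inv_mem heb) q⁻¹ ((Q b).inv_mem hq)
    have : q⁻¹ * e * q = e * (e⁻¹ * q⁻¹ * e⁻¹⁻¹ * q⁻¹⁻¹) := by group
    rw [this]
    rcases hcomm with h | h
    · rw [h, mul_one]; exact hea
    · rw [h]; exact (Q a).mul_mem hea hbQa
  have := hS.conj a q _ he'
  have e1 : q * (q⁻¹ * e * q) * q⁻¹ = e := by group
  rw [e1, hqa, ← hab'] at this
  exact this

theorem inf_generators [Finite G] {Q : G → Subgroup G} (hS : QSys Q) {z : G}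
    (Fz : Facts (Q z) z) (U : Subgroup G) (hU2 : ∀ u ∈ U, u * u = 1)
    (hconj : ∀ u ∈ U, u ≠ 1 → ∃ g : G, g * z * g⁻¹ = u)
    (hO : ∀ u ∈ U, ∀ v ∈ U, u ≠ 1 → v ≠ 1 → v ∈ Q u)
    (T : Set G) (hT : Subgroup.closure T = U) (hT1 : (1 : G) ∉ T) :
    (⨅ u ∈ ((U : Set G) \ {1}), Q u) = ⨅ t ∈ T, Q t := by
  have hF : ∀ u ∈ U, u ≠ 1 → Facts (Q u) u := by
    intro u hu hu1
    obtain ⟨g, rfl⟩ := hconj u hu hu1
    exact facts_conj hS Fz g
  apply le_antisymm
  · apply le_iInf; intro t; apply le_iInf; intro ht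
    have htU : t ∈ U := by rw [← hT]; exact Subgroup.subset_closure ht
    have ht1 : t ≠ 1 := fun h => hT1 (h ▸ ht)
    exact iInf₂_le t (⟨htU, ht1⟩ : t ∈ (U : Set G) \ {1})
  · apply le_iInf; intro u; apply le_iInf; intro hu
    obtain ⟨huU, hu1⟩ := hu
    have hu1' : u ≠ 1 := hu1
    have hucl : u ∈ Subgroup.closure T := by rw [hT]; exact huU
    have main : ∀ v (hv : v ∈ Subgroup.closure T), v ≠ 1 → (⨅ t ∈ T, Q t) ≤ Q v := by
      intro v hv
      induction hv using Subgroup.closure_induction with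
      | mem t ht => intro _; exact iInf₂_le t ht
      | one => intro h; exact absurd rfl h
      | mul a b ha hb iha ihb =>
        intro hab1
        have haU : a ∈ U := by rw [← hT]; exact ha
        have hbU : b ∈ U := by rw [← hT]; exact hb
        by_cases ha1 : a = 1
        · rw [ha1, one_mul] at hab1 ⊢; exact ihb hab1
        by_cases hb1 : b = 1
        · rw [hb1, mul_one]; exact iha ha1
        have hab : a ≠ b := by
          intro h; apply hab1; rw [h]; exact hU2 b hbU
        have h1 := line_le hS (hF b hbU hb1) ha1 hab (hO b hbU a haU hb1 ha1)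
          (hO a haU b hbU ha1 hb1)
        exact le_trans (le_inf (iha ha1) (ihb hb1)) h1
      | inv a ha iha =>
        intro h1
        have haU : a ∈ U := by rw [← hT]; exact ha
        have : a⁻¹ = a := inv_eq_of_mul_eq_one_left (hU2 a haU)
        rw [this] at h1 ⊢
        exact iha h1
    exact main u hucl hu1'

end Cfsg.Agent.Helper29.LargeExtra
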