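import Cfsg.Agent.Lib.Helper29.LargeExtra

/-!
# Large extraspecial 2-subgroups II: double centralisers, `L_U` on `Q_U / U` (helper29)
-/

set_option autoImplicit false

namespace Cfsg.Agent.Helper29.LargeExtra

open Cfsg

variable {G : Type*} [Group G]

theorem Facts.dich {Qa : Subgroup G} {a : G} (F : Facts Qa a) {g w : G} (hg : g ∈ Qa)
    (hw : w ∈ Qa) : g * w = w * g ∨ g * w = a * w * g := by
  rcases F.comm g hg w hw with h | h
  · left
    calc g * w = (g * w * g⁻¹ * w⁻¹) * w * g := by group
      _ = w * g := by rw [h, one_mul]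
  · right
    calc g * w = (g * w * g⁻¹ * w⁻¹) * w * g := by group
      _ = a * w * g := by rw [h]

theorem Facts.anti_anti {Qa : Subgroup G} {a : G} (F : Facts Qa a) {g g' w : G} (hg : g ∈ Qa)
    (h1 : g * w = a * w * g) (h2 : g' * w = a * w * g') : (g * g') * w = w * (g * g') := by
  calc (g * g') * w = g * (g' * w) := by group
    _ = g * (a * w * g') := by rw [h2]
    _ = (g * a) * w * g' := by group
    _ = (a * g) * w * g' := by rw [F.cent g hg]
    _ = a * (g * w) * g' := by group
    _ = a * (a * w * g) * g' := by rw [h1]
    _ = (a * a) * w * (g * g') := by group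
    _ = w * (g * g') := by rw [F.two, one_mul]

theorem Facts.both_anti {Qa : Subgroup G} {a : G} (F : Facts Qa a) {g x v : G} (hx : x ∈ Qa)
    (h1 : g * x = a * x * g) (h2 : g * v = a * v * g) : g * (x * v) = (x * v) * g := by
  calc g * (x * v) = (g * x) * v := by group
    _ = (a * x * g) * v := by rw [h1]
    _ = a * x * (g * v) := by group
    _ = a * x * (a * v * g) := by rw [h2]
    _ = a * (x * a) * v * g := by group
    _ = a * (a * x) * v * g := by rw [F.cent x hx]
    _ = (a * a) * (x * v) * g := by group
    _ = (x * v) * g := by rw [F.two, one_mul]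

/-- the double centraliser property in an extraspecial group -/
theorem double_cent [DecidableEq G] {Qa : Subgroup G} {a : G} (F : Facts Qa a) :
    ∀ L : Finset G, (∀ v ∈ L, v ∈ Qa) → ∀ x ∈ Qa,
      (∀ g ∈ Qa, (∀ v ∈ L, g * v = v * g) → g * x = x * g) →
      x ∈ Subgroup.closure (insert a (L : Set G)) := by
  intro L
  induction L using Finset.induction_on with
  | empty =>
    intro _ x hx hc
    have : ∀ g ∈ Qa, g * x = x * g := fun g hg => hc g hg (by simp)
    rcases F.cen x hx this with h | h
    · rw [h]; exact Subgroup.one_mem _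
    · rw [h]; exact Subgroup.subset_closure (Set.mem_insert _ _)
  | insert v L' hv IH =>
    intro hL x hx hc
    have hvQ : v ∈ Qa := hL v (Finset.mem_insert_self v L')
    have hL' : ∀ w ∈ L', w ∈ Qa := fun w hw => hL w (Finset.mem_insert_of_mem hw)
    have hmono : Subgroup.closure (insert a (L' : Set G)) ≤
        Subgroup.closure (insert a ((insert v L' : Finset G) : Set G)) := by
      apply Subgroup.closure_mono
      intro y hy
      rcases hy with hy | hy
      · rw [hy]; exact Set.mem_insert _ _
      · right
        rw [Finset.coe_insert]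
        exact Set.mem_insert_of_mem _ hy
    by_cases hA : ∀ g ∈ Qa, (∀ w ∈ L', g * w = w * g) → g * x = x * g
    · exact hmono (IH hL' x hx hA)
    · push Not at hA
      obtain ⟨g0, hg0, hg0L, hg0x⟩ := hA
      have hg0x' : g0 * x = a * x * g0 := (F.dich hg0 hx).resolve_left hg0x
      have hg0v : g0 * v = a * v * g0 := by
        rcases F.dich hg0 hvQ with h | h
        · exfalso
          apply hg0x
          apply hc g0 hg0
          intro w hw
          rcases Finset.mem_insert.mp hw with hw | hw
          · rw [hw]; exact h
          · exact hg0L w hw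
        · exact h
      have hxv : ∀ g ∈ Qa, (∀ w ∈ L', g * w = w * g) → g * (x * v) = (x * v) * g := by
        intro g hg hgL
        rcases F.dich hg hvQ with h | h
        · have hgx : g * x = x * g := by
            apply hc g hg
            intro w hw
            rcases Finset.mem_insert.mp hw with hw | hw
            · rw [hw]; exact h
            · exact hgL w hw
          calc g * (x * v) = (g * x) * v := by group
            _ = (x * g) * v := by rw [hgx]
            _ = x * (g * v) := by group
            _ = x * (v * g) := by rw [h]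
            _ = (x * v) * g := by group
        · have hgg0v : (g * g0) * v = v * (g * g0) := F.anti_anti hg h hg0v
          have hgg0L : ∀ w ∈ (insert v L' : Finset G), (g * g0) * w = w * (g * g0) := by
            intro w hw
            rcases Finset.mem_insert.mp hw with hw | hw
            · rw [hw]; exact hgg0v
            · calc (g * g0) * w = g * (g0 * w) := by group
                _ = g * (w * g0) := by rw [hg0L w hw]
                _ = (g * w) * g0 := by group
                _ = (w * g) * g0 := by rw [hgL w hw]
                _ = w * (g * g0) := by group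
          have hgg0x : (g * g0) * x = x * (g * g0) := hc _ (Qa.mul_mem hg hg0) hgg0L
          have hgx : g * x = a * x * g := by
            rcases F.dich hg hx with h' | h'
            · exfalso
              have h3 : (g * g0) * x = a * (x * (g * g0)) := by
                calc (g * g0) * x = g * (g0 * x) := by group
                  _ = g * (a * x * g0) := by rw [hg0x']
                  _ = (g * a) * x * g0 := by group
                  _ = (a * g) * x * g0 := by rw [F.cent g hg]
                  _ = a * (g * x) * g0 := by group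
                  _ = a * (x * g) * g0 := by rw [h']
                  _ = a * (x * (g * g0)) := by group
              rw [hgg0x] at h3
              apply F.ne
              have h2 : 1 * (x * (g * g0)) = a * (x * (g * g0)) := by rw [one_mul]; exact h3
              exact (mul_right_cancel h2).symm
            · exact h'
          exact F.both_anti hx hgx h
      have hxvmem : x * v ∈ Subgroup.closure (insert a (L' : Set G)) :=
        IH hL' (x * v) (Qa.mul_mem hx hvQ) hxv
      have hvmem : v ∈ Subgroup.closure (insert a ((insert v L' : Finset G) : Set G)) := by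
        apply Subgroup.subset_closure
        right
        rw [Finset.coe_insert]
        exact Set.mem_insert _ _
      have : x = (x * v) * v⁻¹ := by group
      rw [this]
      exact Subgroup.mul_mem _ (hmono hxvmem) (Subgroup.inv_mem _ hvmem)

theorem lu_qu [Finite G] {Q : G → Subgroup G} (hS : QSys Q) {z : G} (Fz : Facts (Q z) z)
    (U : Subgroup G)
    (hconj : ∀ u ∈ U, u ≠ 1 → ∃ g : G, g * z * g⁻¹ = u)
    (hO : ∀ u ∈ U, ∀ v ∈ U, u ≠ 1 → v ≠ 1 → v ∈ Q u) :
    (∀ g ∈ (⨆ u ∈ ((U : Set G) \ {1}), Q u), ∀ x ∈ (⨅ u ∈ ((U : Set G) \ {1}), Q u),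
      g * x * g⁻¹ * x⁻¹ ∈ U) ∧
    ∀ x ∈ (⨅ u ∈ ((U : Set G) \ {1}), Q u), x ∉ U → ∀ u ∈ U,
      ∃ g ∈ (⨆ u ∈ ((U : Set G) \ {1}), Q u) ⊓ Subgroup.centralizer (U : Set G),
        g * x * g⁻¹ = x * u := by
  classical
  have hF : ∀ u ∈ U, u ≠ 1 → Facts (Q u) u := by
    intro u hu hu1
    obtain ⟨g, rfl⟩ := hconj u hu hu1
    exact facts_conj hS Fz g
  have hUQ : ∀ u ∈ U, u ≠ 1 → ∀ v ∈ U, v ∈ Q u := by
    intro u hu hu1 v hv
    by_cases hv1 : v = 1
    · rw [hv1]; exact (Q u).one_mem
    · exact hO u hu v hv hu1 hv1
  have hQUmem : ∀ x, x ∈ (⨅ u ∈ ((U : Set G) \ {1}), Q u) → ∀ u ∈ U, u ≠ 1 → x ∈ Q u := by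
    intro x hx u hu hu1
    have := (Subgroup.mem_iInf.mp hx) u
    exact (Subgroup.mem_iInf.mp this) ⟨hu, hu1⟩
  constructor
  · intro g hg
    have key : (∀ v ∈ U, g * v * g⁻¹ ∈ U) ∧
        ∀ x ∈ (⨅ u ∈ ((U : Set G) \ {1}), Q u), g * x * g⁻¹ * x⁻¹ ∈ U := by
      refine Subgroup.iSup_induction
        (C := fun g => (∀ v ∈ U, g * v * g⁻¹ ∈ U) ∧
          ∀ x ∈ (⨅ u ∈ ((U : Set G) \ {1}), Q u), g * x * g⁻¹ * x⁻¹ ∈ U) _ hg ?_ ?_ ?_
      · intro u g hg
        by_cases hu : u ∈ (U : Set G) \ {1}
        · rw [iSup_pos hu] at hg
          obtain ⟨huU, hu1⟩ := hu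
          have hu1' : u ≠ 1 := hu1
          have Fu := hF u huU hu1'
          constructor
          · intro v hv
            have e : g * v * g⁻¹ = (g * v * g⁻¹ * v⁻¹) * v := by group
            rcases Fu.comm g hg v (hUQ u huU hu1' v hv) with h | h
            · rw [e, h, one_mul]; exact hv
            · rw [e, h]; exact U.mul_mem huU hv
          · intro x hx
            rcases Fu.comm g hg x (hQUmem x hx u huU hu1') with h | h
            · rw [h]; exact U.one_mem
            · rw [h]; exact huU
        · rw [iSup_neg hu] at hg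
          rw [Subgroup.mem_bot.mp hg]
          constructor
          · intro v hv
            have e : (1 : G) * v * 1⁻¹ = v := by group
            rw [e]; exact hv
          · intro x _
            have e : (1 : G) * x * 1⁻¹ * x⁻¹ = 1 := by group
            rw [e]; exact U.one_mem
      · constructor
        · intro v hv
          have e : (1 : G) * v * 1⁻¹ = v := by group
          rw [e]; exact hv
        · intro x _
          have e : (1 : G) * x * 1⁻¹ * x⁻¹ = 1 := by group
          rw [e]; exact U.one_mem
      · rintro g h ⟨hg1, hg2⟩ ⟨hh1, hh2⟩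
        constructor
        · intro v hv
          have e : (g * h) * v * (g * h)⁻¹ = g * (h * v * h⁻¹) * g⁻¹ := by group
          rw [e]; exact hg1 _ (hh1 v hv)
        · intro x hx
          have e : (g * h) * x * (g * h)⁻¹ * x⁻¹
              = (g * (h * x * h⁻¹ * x⁻¹) * g⁻¹) * (g * x * g⁻¹ * x⁻¹) := by group
          rw [e]; exact U.mul_mem (hg1 _ (hh2 x hx)) (hg2 x hx)
    exact key.2
  · intro x hx hxU u hu
    by_cases hu1 : u = 1
    · refine ⟨1, Subgroup.one_mem _, ?_⟩
      rw [hu1]; group
    · have Fu := hF u hu hu1
      have hxQ : x ∈ Q u := hQUmem x hx u hu hu1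
      have hfin : (U : Set G).Finite := Set.toFinite _
      have hLQ : ∀ v ∈ hfin.toFinset, v ∈ Q u := by
        intro v hv
        exact hUQ u hu hu1 v ((Set.Finite.mem_toFinset hfin).mp hv)
      have hcl : Subgroup.closure (insert u ((hfin.toFinset : Finset G) : Set G)) = U := by
        rw [Set.Finite.coe_toFinset, Set.insert_eq_of_mem (show u ∈ (U : Set G) from hu),
          Subgroup.closure_eq]
      have hnot : ¬ ∀ g ∈ Q u, (∀ v ∈ hfin.toFinset, g * v = v * g) → g * x = x * g := by
        intro hall
        apply hxU
        have := double_cent Fu hfin.toFinset hLQ x hxQ hall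
        rwa [hcl] at this
      push Not at hnot
      obtain ⟨g, hg, hgU, hgx⟩ := hnot
      have hgx' : g * x = u * x * g := (Fu.dich hg hxQ).resolve_left hgx
      refine ⟨g, ⟨?_, ?_⟩, ?_⟩
      · exact (le_iSup₂ (f := fun u (_ : u ∈ (U : Set G) \ {1}) => Q u) u ⟨hu, hu1⟩) hg
      · show g ∈ Subgroup.centralizer (U : Set G)
        rw [Subgroup.mem_centralizer_iff]
        intro v hv
        exact (hgU v ((Set.Finite.mem_toFinset hfin).mpr hv)).symm
      · calc g * x * g⁻¹ = (g * x) * g⁻¹ := by group
          _ = (u * x * g) * g⁻¹ := by rw [hgx']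
          _ = u * x := by group
          _ = x * u := (Fu.cent x hxQ).symm

end Cfsg.Agent.Helper29.LargeExtra
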