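import Cfsg.Agent.Lib.Helper29.LargeExtra2

/-!
# Large extraspecial 2-subgroups III: `L_U` induces `Aut(U)` on a singular subgroup (helper29)
-/

set_option autoImplicit false

namespace Cfsg.Agent.Helper29.LargeExtra

open Cfsg

variable {G : Type*} [Group G]

theorem lu_normalizes {Q : G → Subgroup G} (U : Subgroup G)
    (hF : ∀ u ∈ U, u ≠ 1 → Facts (Q u) u)
    (hUQ : ∀ u ∈ U, u ≠ 1 → ∀ v ∈ U, v ∈ Q u) :
    ∀ g ∈ (⨆ u ∈ ((U : Set G) \ {1}), Q u), ∀ v ∈ U, g * v * g⁻¹ ∈ U := by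
  intro g hg
  refine Subgroup.iSup_induction (C := fun g => ∀ v ∈ U, g * v * g⁻¹ ∈ U) _ hg ?_ ?_ ?_
  · intro u g hg
    by_cases hu : u ∈ (U : Set G) \ {1}
    · rw [iSup_pos hu] at hg
      obtain ⟨huU, hu1⟩ := hu
      have hu1' : u ≠ 1 := hu1
      have Fu := hF u huU hu1'
      intro v hv
      have e : g * v * g⁻¹ = (g * v * g⁻¹ * v⁻¹) * v := by group
      rcases Fu.comm g hg v (hUQ u huU hu1' v hv) with h | h
      · rw [e, h, one_mul]; exact hv
      · rw [e, h]; exact U.mul_mem huU hv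
    · rw [iSup_neg hu] at hg
      rw [Subgroup.mem_bot.mp hg]
      intro v hv
      have e : (1 : G) * v * 1⁻¹ = v := by group
      rw [e]; exact hv
  · intro v hv
    have e : (1 : G) * v * 1⁻¹ = v := by group
    rw [e]; exact hv
  · intro g h hg1 hh1 v hv
    have e : (g * h) * v * (g * h)⁻¹ = g * (h * v * h⁻¹) * g⁻¹ := by group
    rw [e]; exact hg1 _ (hh1 v hv)

theorem ext_closure (U : Subgroup G) (φ : ↥U ≃* ↥U) (g : G) (S : Set G)
    (hS : ∀ s ∈ S, ∃ hs : s ∈ U, g * s * g⁻¹ = ((φ ⟨s, hs⟩ : ↥U) : G)) :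
    ∀ w ∈ Subgroup.closure S, ∃ hw : w ∈ U, g * w * g⁻¹ = ((φ ⟨w, hw⟩ : ↥U) : G) := by
  intro w hw
  induction hw using Subgroup.closure_induction with
  | mem s hs => exact hS s hs
  | one =>
    refine ⟨U.one_mem, ?_⟩
    have e : (⟨1, U.one_mem⟩ : ↥U) = 1 := rfl
    rw [e, map_one]
    simp
  | mul a b _ _ iha ihb =>
    obtain ⟨ha, ea⟩ := iha
    obtain ⟨hb, eb⟩ := ihb
    refine ⟨U.mul_mem ha hb, ?_⟩
    have e : (⟨a * b, U.mul_mem ha hb⟩ : ↥U) = ⟨a, ha⟩ * ⟨b, hb⟩ := rfl
    rw [e, map_mul, Subgroup.coe_mul, ← ea, ← eb]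
    group
  | inv a _ iha =>
    obtain ⟨ha, ea⟩ := iha
    refine ⟨U.inv_mem ha, ?_⟩
    have e : (⟨a⁻¹, U.inv_mem ha⟩ : ↥U) = (⟨a, ha⟩ : ↥U)⁻¹ := rfl
    rw [e, map_inv, Subgroup.coe_inv, ← ea]
    group

theorem induce_aut [DecidableEq G] {Q : G → Subgroup G} (U : Subgroup G)
    (hU2 : ∀ u ∈ U, u * u = 1)
    (hF : ∀ u ∈ U, u ≠ 1 → Facts (Q u) u)
    (hUQ : ∀ u ∈ U, u ≠ 1 → ∀ v ∈ U, v ∈ Q u) (φ : ↥U ≃* ↥U) :
    ∀ L : Finset G, (∀ v ∈ L, v ∈ U) →
      ∃ g ∈ (⨆ u ∈ ((U : Set G) \ {1}), Q u), ∀ w (hw : w ∈ U),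
        w ∈ Subgroup.closure (L : Set G) → g * w * g⁻¹ = ((φ ⟨w, hw⟩ : ↥U) : G) := by
  have hUinv : ∀ a ∈ U, a⁻¹ = a := fun a ha => inv_eq_of_mul_eq_one_left (hU2 a ha)
  have hUcomm : ∀ a ∈ U, ∀ b ∈ U, a * b = b * a := by
    intro a ha b hb
    have h1 := hU2 (a * b) (U.mul_mem ha hb)
    calc a * b = (a * b)⁻¹ := (inv_eq_of_mul_eq_one_left h1).symm
      _ = b⁻¹ * a⁻¹ := mul_inv_rev a b
      _ = b * a := by rw [hUinv b hb, hUinv a ha]
  have hnorm := lu_normalizes U hF hUQ
  intro L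
  induction L using Finset.induction_on with
  | empty =>
    intro _
    refine ⟨1, Subgroup.one_mem _, ?_⟩
    intro w hw hwc
    rw [Finset.coe_empty, Subgroup.closure_empty, Subgroup.mem_bot] at hwc
    subst hwc
    have e : (⟨1, hw⟩ : ↥U) = 1 := rfl
    rw [e, map_one]
    simp
  | insert v L' hv IH =>
    intro hL
    have hvU : v ∈ U := hL v (Finset.mem_insert_self v L')
    have hL' : ∀ w ∈ L', w ∈ U := fun w hw => hL w (Finset.mem_insert_of_mem hw)
    obtain ⟨g0, hg0, hg0W⟩ := IH hL'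
    obtain ⟨φv, hφv⟩ : ∃ φv : G, φv = ((φ ⟨v, hvU⟩ : ↥U) : G) := ⟨_, rfl⟩
    have hφvU : φv ∈ U := by rw [hφv]; exact (φ ⟨v, hvU⟩).2
    obtain ⟨v', hv'def⟩ : ∃ v' : G, v' = g0⁻¹ * φv * g0 := ⟨_, rfl⟩
    have hv'U : v' ∈ U := by
      have := hnorm g0⁻¹ (Subgroup.inv_mem _ hg0) φv hφvU
      rw [inv_inv] at this
      rw [hv'def]; exact this
    have hg0v' : g0 * v' * g0⁻¹ = φv := by rw [hv'def]; group
    have finish : ∀ g ∈ (⨆ u ∈ ((U : Set G) \ {1}), Q u),
        g * v * g⁻¹ = φv → (∀ s ∈ L', g * s * g⁻¹ = g0 * s * g0⁻¹) →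
        ∃ g ∈ (⨆ u ∈ ((U : Set G) \ {1}), Q u), ∀ w (hw : w ∈ U),
          w ∈ Subgroup.closure ((insert v L' : Finset G) : Set G) →
            g * w * g⁻¹ = ((φ ⟨w, hw⟩ : ↥U) : G) := by
      intro g hg hgv hgL
      refine ⟨g, hg, ?_⟩
      intro w hw hwc
      have := ext_closure U φ g ((insert v L' : Finset G) : Set G) (by
        intro s hs
        rw [Finset.coe_insert] at hs
        rcases hs with hs | hs
        · refine ⟨by rw [hs]; exact hvU, ?_⟩
          subst hs
          rw [hgv, hφv]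
        · have hsL : s ∈ L' := hs
          refine ⟨hL' s hsL, ?_⟩
          rw [hgL s hsL]
          exact hg0W s (hL' s hsL) (Subgroup.subset_closure hs)) w hwc
      obtain ⟨_, e⟩ := this
      exact e
    by_cases hvv : v' = v
    · apply finish g0 hg0
      · rw [← hvv]; exact hg0v'
      · intro s _; rfl
    · -- the transvection
      obtain ⟨t, htdef⟩ : ∃ t : G, t = v * v' := ⟨_, rfl⟩
      have htU : t ∈ U := by rw [htdef]; exact U.mul_mem hvU hv'U
      have ht1 : t ≠ 1 := by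
        intro h
        rw [htdef] at h
        apply hvv
        have : v' = v⁻¹ := eq_inv_of_mul_eq_one_right h
        rw [this, hUinv v hvU]
      have Ft := hF t htU ht1
      have htv : t * v = v' := by
        rw [htdef]
        calc v * v' * v = v * (v' * v) := by group
          _ = v * (v * v') := by rw [hUcomm v' hv'U v hvU]
          _ = (v * v) * v' := by group
          _ = v' := by rw [hU2 v hvU, one_mul]
      have hvnot : v ∉ Subgroup.closure (insert t (L' : Set G)) := by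
        intro hvc
        have D : ∀ y ∈ Subgroup.closure (insert t (L' : Set G)),
            y ∈ U ∧ (y ∈ Subgroup.closure (L' : Set G) ∨ t * y ∈ Subgroup.closure (L' : Set G)) := by
          intro y hy
          induction hy using Subgroup.closure_induction with
          | mem s hs =>
            rcases hs with hs | hs
            · rw [hs]
              refine ⟨htU, Or.inr ?_⟩
              rw [hU2 t htU]; exact Subgroup.one_mem _
            · exact ⟨hL' s hs, Or.inl (Subgroup.subset_closure hs)⟩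
          | one => exact ⟨U.one_mem, Or.inl (Subgroup.one_mem _)⟩
          | mul a b _ _ iha ihb =>
            obtain ⟨haU, ha⟩ := iha
            obtain ⟨hbU, hb⟩ := ihb
            refine ⟨U.mul_mem haU hbU, ?_⟩
            rcases ha with ha | ha
            · rcases hb with hb | hb
              · exact Or.inl (Subgroup.mul_mem _ ha hb)
              · right
                have e : t * (a * b) = a * (t * b) := by
                  calc t * (a * b) = (t * a) * b := by group
                    _ = (a * t) * b := by rw [hUcomm t htU a haU]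
                    _ = a * (t * b) := by group
                rw [e]; exact Subgroup.mul_mem _ ha hb
            · rcases hb with hb | hb
              · right
                have e : t * (a * b) = (t * a) * b := by group
                rw [e]; exact Subgroup.mul_mem _ ha hb
              · left
                have e : a * b = (t * a) * (t * b) := by
                  calc a * b = (t * t) * (a * b) := by rw [hU2 t htU, one_mul]
                    _ = t * (t * a) * b := by group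
                    _ = t * (a * t) * b := by rw [hUcomm t htU a haU]
                    _ = (t * a) * (t * b) := by group
                rw [e]; exact Subgroup.mul_mem _ ha hb
          | inv a _ iha =>
            obtain ⟨haU, ha⟩ := iha
            rw [hUinv a haU]
            exact ⟨haU, ha⟩
        rcases (D v hvc).2 with h | h
        · apply hvv
          have h1 := hg0W v hvU h
          rw [← hφv] at h1
          rw [hv'def, ← h1]; group
        · rw [htv] at h
          have h1 := hg0W v' hv'U h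
          rw [hg0v', hφv] at h1
          have h2 : (⟨v, hvU⟩ : ↥U) = ⟨v', hv'U⟩ := φ.injective (Subtype.ext h1)
          apply hvv
          exact (congrArg Subtype.val h2).symm
      have hL'Q : ∀ w ∈ L', w ∈ Q t := fun w hw => hUQ t htU ht1 w (hL' w hw)
      have hvQ : v ∈ Q t := hUQ t htU ht1 v hvU
      have hex : ¬ ∀ g ∈ Q t, (∀ w ∈ L', g * w = w * g) → g * v = v * g := by
        intro hall
        exact hvnot (double_cent Ft L' hL'Q v hvQ hall)
      push Not at hex
      obtain ⟨h, hh, hhL, hhv⟩ := hex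
      have hhv' : h * v = t * v * h := (Ft.dich hh hvQ).resolve_left hhv
      have hhv'' : h * v * h⁻¹ = v' := by
        calc h * v * h⁻¹ = (h * v) * h⁻¹ := by group
          _ = (t * v * h) * h⁻¹ := by rw [hhv']
          _ = t * v := by group
          _ = v' := htv
      apply finish (g0 * h)
        (Subgroup.mul_mem _ hg0
          ((le_iSup₂ (f := fun u (_ : u ∈ (U : Set G) \ {1}) => Q u) t ⟨htU, ht1⟩) hh))
      · calc (g0 * h) * v * (g0 * h)⁻¹ = g0 * (h * v * h⁻¹) * g0⁻¹ := by group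
          _ = g0 * v' * g0⁻¹ := by rw [hhv'']
          _ = φv := hg0v'
      · intro s hs
        have e : h * s * h⁻¹ = s := by rw [hhL s hs, mul_inv_cancel_right]
        calc (g0 * h) * s * (g0 * h)⁻¹ = g0 * (h * s * h⁻¹) * g0⁻¹ := by group
          _ = g0 * s * g0⁻¹ := by rw [e]

theorem singular_main [Finite G] {Q : G → Subgroup G} (hS : QSys Q) {z : G}
    (Fz : Facts (Q z) z) (U : Subgroup G) (hU2 : ∀ u ∈ U, u * u = 1)
    (hconj : ∀ u ∈ U, u ≠ 1 → ∃ g : G, g * z * g⁻¹ = u)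
    (hO : ∀ u ∈ U, ∀ v ∈ U, u ≠ 1 → v ≠ 1 → v ∈ Q u) (hne : ∃ u ∈ U, u ≠ 1) :
    U ≤ (⨅ u ∈ ((U : Set G) \ {1}), Q u) ∧
    (⨅ u ∈ ((U : Set G) \ {1}), Q u) ≤ (⨆ u ∈ ((U : Set G) \ {1}), Q u) ∧
    (⨆ u ∈ ((U : Set G) \ {1}), Q u) ≤ Subgroup.normalizer (U : Set G) ∧
    ∀ φ : ↥U ≃* ↥U, ∃ g ∈ (⨆ u ∈ ((U : Set G) \ {1}), Q u),
      ∀ u : ↥U, g * (u : G) * g⁻¹ = ((φ u : ↥U) : G) := by
  classical
  have hF : ∀ u ∈ U, u ≠ 1 → Facts (Q u) u := by
    intro u hu hu1
    obtain ⟨g, rfl⟩ := hconj u hu hu1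
    exact facts_conj hS Fz g
  have hUQ : ∀ u ∈ U, u ≠ 1 → ∀ v ∈ U, v ∈ Q u := by
    intro u hu hu1 v hv
    by_cases hv1 : v = 1
    · rw [hv1]; exact (Q u).one_mem
    · exact hO u hu v hv hu1 hv1
  have hnorm := lu_normalizes U hF hUQ
  refine ⟨?_, ?_, ?_, ?_⟩
  · intro v hv
    rw [Subgroup.mem_iInf]; intro u
    rw [Subgroup.mem_iInf]; intro hu
    exact hUQ u hu.1 hu.2 v hv
  · obtain ⟨u, hu, hu1⟩ := hne
    exact le_trans (iInf₂_le u (⟨hu, hu1⟩ : u ∈ (U : Set G) \ {1}))
      (le_iSup₂ (f := fun u (_ : u ∈ (U : Set G) \ {1}) => Q u) u ⟨hu, hu1⟩)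
  · intro g hg
    rw [Subgroup.mem_normalizer_iff]
    intro v
    constructor
    · intro hv; exact hnorm g hg v hv
    · intro hv
      have := hnorm g⁻¹ (Subgroup.inv_mem _ hg) _ hv
      have e : g⁻¹ * (g * v * g⁻¹) * g⁻¹⁻¹ = v := by group
      rwa [e] at this
  · intro φ
    have hfin : (U : Set G).Finite := Set.toFinite _
    obtain ⟨g, hg, hgW⟩ := induce_aut U hU2 hF hUQ φ hfin.toFinset
      (fun v hv => (Set.Finite.mem_toFinset hfin).mp hv)
    refine ⟨g, hg, fun u => ?_⟩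
    exact hgW u.1 u.2 (Subgroup.subset_closure (by
      rw [Set.Finite.coe_toFinset]; exact u.2))

end Cfsg.Agent.Helper29.LargeExtra
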