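import Cfsg.Agent.Lib.Helper29.LargeExtra3
import Cfsg.Agent.Lib.Helper1.Frattini

/-!
# Large extraspecial 2-subgroups IV: versions for an explicit subgroup `Q` and its conjugate (helper29)
-/

set_option autoImplicit false

namespace Cfsg.Agent.Helper29.LargeExtra

open Cfsg
open scoped commutatorElement

variable {G : Type*} [Group G]

/-- the centraliser in `G` of `P = C_{Q_z}(x)` is `{1, x, z, xz}` -/
theorem cent_P' {Qz : Subgroup G} {z x y : G} (Fz : Facts Qz z)
    (n1 : ∀ c, c * z = z * c → ∀ q ∈ Qz, c * q * c⁻¹ ∈ Qz)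
    (hx : x ∈ Qz) (hxx : x * x = 1) (hy : y ∈ Qz) (hyx : y * x * y⁻¹ = z * x) :
    ∀ c : G, (∀ p ∈ Qz, p * x = x * p → p * c = c * p) → InD x z c := by
  have hzz : z * z = 1 := Fz.two
  have hz1 : z ≠ 1 := Fz.ne
  have hxinv : x⁻¹ = x := inv_eq_of_mul_eq_one_left hxx
  have hxzc : x * z = z * x := Fz.cent x hx
  have hyz : y * z = z * y := Fz.cent y hy
  have hyz' : y * z * y⁻¹ = z := by rw [hyz, mul_inv_cancel_right]
  have hyz3 : y⁻¹ * z * y = z := by
    calc y⁻¹ * z * y = y⁻¹ * (z * y) := by group
      _ = y⁻¹ * (y * z) := by rw [hyz]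
      _ = z := by group
  have hyx' : y⁻¹ * x * y = z * x := by
    calc y⁻¹ * x * y = y⁻¹ * (z * z * x) * y := by rw [hzz, one_mul]
      _ = y⁻¹ * (z * (z * x)) * y := by group
      _ = y⁻¹ * (z * (y * x * y⁻¹)) * y := by rw [hyx]
      _ = (y⁻¹ * (z * y)) * x := by group
      _ = (y⁻¹ * (y * z)) * x := by rw [hyz]
      _ = z * x := by group
  have hyx2 : y * x = z * x * y := by
    calc y * x = (y * x * y⁻¹) * y := by group
      _ = z * x * y := by rw [hyx]
  have hxy : x * y = z * (y * x) := by
    calc x * y = (z * z) * x * y := by rw [hzz, one_mul]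
      _ = z * (z * x * y) := by group
      _ = z * (y * x) := by rw [hyx2]
  -- B1: the coset decomposition
  have B1 : ∀ q ∈ Qz, q * x ≠ x * q → (y⁻¹ * q) * x = x * (y⁻¹ * q) := by
    intro q hq hne
    obtain h | h := Fz.comm q hq x hx
    · exfalso; apply hne
      calc q * x = (q * x * q⁻¹ * x⁻¹) * x * q := by group
        _ = x * q := by rw [h, one_mul]
    · have h1 : q * x = z * x * q := by
        calc q * x = (q * x * q⁻¹ * x⁻¹) * x * q := by group
          _ = z * x * q := by rw [h]
      have hyz2 : y⁻¹ * z = z * y⁻¹ := ((show Commute y z from hyz).inv_left).eq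
      calc y⁻¹ * q * x = y⁻¹ * (q * x) := by rw [mul_assoc]
        _ = y⁻¹ * (z * x * q) := by rw [h1]
        _ = (y⁻¹ * z) * x * q := by group
        _ = (z * y⁻¹) * x * q := by rw [hyz2]
        _ = z * (y⁻¹ * x * y) * (y⁻¹ * q) := by group
        _ = z * (z * x) * (y⁻¹ * q) := by rw [hyx']
        _ = (z * z) * x * (y⁻¹ * q) := by group
        _ = x * (y⁻¹ * q) := by rw [hzz, one_mul]
  -- B2': commuting with P and y means commuting with Qz
  have B2' : ∀ t : G, (∀ p ∈ Qz, p * x = x * p → p * t = t * p) → y * t = t * y →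
      ∀ q ∈ Qz, q * t = t * q := by
    intro t htP hty q hq
    by_cases hqx : q * x = x * q
    · exact htP q hq hqx
    · have h1 := B1 q hq hqx
      have h2 := htP (y⁻¹ * q) (Qz.mul_mem (Qz.inv_mem hy) hq) h1
      calc q * t = y * ((y⁻¹ * q) * t) := by group
        _ = y * (t * (y⁻¹ * q)) := by rw [h2]
        _ = (y * t) * (y⁻¹ * q) := by group
        _ = (t * y) * (y⁻¹ * q) := by rw [hty]
        _ = t * q := by group
  have B2 : ∀ t : G, (∀ p ∈ Qz, p * x = x * p → p * t = t * p) → y * t = t * y →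
      t = 1 ∨ t = z := by
    intro t htP hty
    have hall := B2' t htP hty
    exact Fz.cen t (Fz.self t hall) hall
  -- B3: elements of Qz centralising P
  have B3 : ∀ t ∈ Qz, (∀ p ∈ Qz, p * x = x * p → p * t = t * p) → InD x z t := by
    intro t ht htP
    obtain h | h := Fz.comm y hy t ht
    · have hty : y * t = t * y := by
        calc y * t = (y * t * y⁻¹ * t⁻¹) * t * y := by group
          _ = t * y := by rw [h, one_mul]
      rcases B2 t htP hty with e | e
      · exact Or.inl e
      · exact Or.inr (Or.inr (Or.inl e))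
    · have hyt : y * t = z * t * y := by
        calc y * t = (y * t * y⁻¹ * t⁻¹) * t * y := by group
          _ = z * t * y := by rw [h]
      have hzt : z * t = t * z := (Fz.cent t ht).symm
      have ht'P : ∀ p ∈ Qz, p * x = x * p → p * (t * x) = (t * x) * p := by
        intro p hp hpx
        calc p * (t * x) = (p * t) * x := by group
          _ = (t * p) * x := by rw [htP p hp hpx]
          _ = t * (p * x) := by group
          _ = t * (x * p) := by rw [hpx]
          _ = (t * x) * p := by group
      have hyt' : y * (t * x) = (t * x) * y := by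
        calc y * (t * x) = (y * t) * x := by rw [mul_assoc]
          _ = (z * t * y) * x := by rw [hyt]
          _ = z * t * (y * x) := by group
          _ = z * t * (z * x * y) := by rw [hyx2]
          _ = (z * t) * z * x * y := by group
          _ = (t * z) * z * x * y := by rw [hzt]
          _ = t * (z * z) * x * y := by group
          _ = (t * x) * y := by rw [hzz, mul_one]
      rcases B2 (t * x) ht'P hyt' with e | e
      · right; left
        have : t = x⁻¹ := eq_inv_of_mul_eq_one_left e
        rw [this, hxinv]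
      · right; right; right
        have : t = z * x⁻¹ := eq_mul_inv_of_mul_eq e
        rw [this, hxinv, hxzc]
  -- B4
  intro c hc
  have hcz : c * z = z * c := (hc z Fz.mem hxzc.symm).symm
  have h2' : y * (z * x) * y⁻¹ = x := by
    calc y * (z * x) * y⁻¹ = (y * z * y⁻¹) * (y * x * y⁻¹) := by group
      _ = z * (z * x) := by rw [hyz', hyx]
      _ = (z * z) * x := by group
      _ = x := by rw [hzz, one_mul]
  have hPy : ∀ p ∈ Qz, p * x = x * p → (y * p * y⁻¹) * x = x * (y * p * y⁻¹) := by
    intro p hp hpx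
    have hpz : p * z = z * p := Fz.cent p hp
    have h1 : p * (z * x) = (z * x) * p := by
      calc p * (z * x) = (p * z) * x := by group
        _ = (z * p) * x := by rw [hpz]
        _ = z * (p * x) := by group
        _ = z * (x * p) := by rw [hpx]
        _ = (z * x) * p := by group
    calc (y * p * y⁻¹) * x = y * (p * (y⁻¹ * x * y)) * y⁻¹ := by group
      _ = y * (p * (z * x)) * y⁻¹ := by rw [hyx']
      _ = y * ((z * x) * p) * y⁻¹ := by rw [h1]
      _ = (y * (z * x) * y⁻¹) * (y * p * y⁻¹) := by group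
      _ = x * (y * p * y⁻¹) := by rw [h2']
  have hcyc : c * y * c⁻¹ ∈ Qz := n1 c hcz y hy
  obtain ⟨c', hc'def⟩ : ∃ c', c' = y⁻¹ * (c * y * c⁻¹) := ⟨_, rfl⟩
  have hc'mem : c' ∈ Qz := by
    rw [hc'def]; exact Qz.mul_mem (Qz.inv_mem hy) hcyc
  have hc'P : ∀ p ∈ Qz, p * x = x * p → p * c' = c' * p := by
    intro p hp hpx
    have hp1 : y * p * y⁻¹ ∈ Qz := Qz.mul_mem (Qz.mul_mem hy hp) (Qz.inv_mem hy)
    have hcp : p * c = c * p := hc p hp hpx
    have hcp'' : p * c⁻¹ = c⁻¹ * p := ((show Commute p c from hcp).inv_right).eq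
    have hcp1 : (y * p * y⁻¹) * c = c * (y * p * y⁻¹) := hc _ hp1 (hPy p hp hpx)
    rw [hc'def]
    calc p * (y⁻¹ * (c * y * c⁻¹)) = y⁻¹ * ((y * p * y⁻¹) * c) * y * c⁻¹ := by group
      _ = y⁻¹ * (c * (y * p * y⁻¹)) * y * c⁻¹ := by rw [hcp1]
      _ = y⁻¹ * c * y * (p * c⁻¹) := by group
      _ = y⁻¹ * c * y * (c⁻¹ * p) := by rw [hcp'']
      _ = (y⁻¹ * (c * y * c⁻¹)) * p := by group
  have hD := B3 c' hc'mem hc'P
  have hcy : c * y * c⁻¹ = y * c' := by rw [hc'def]; group
  have hyy : (y * y) * x = x * (y * y) := by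
    calc (y * y) * x = y * (y * x) := by group
      _ = y * (z * x * y) := by rw [hyx2]
      _ = (y * z) * x * y := by group
      _ = (z * y) * x * y := by rw [hyz]
      _ = z * (y * x) * y := by group
      _ = z * (z * x * y) * y := by rw [hyx2]
      _ = (z * z) * x * (y * y) := by group
      _ = x * (y * y) := by rw [hzz, one_mul]
  have hcyy : (y * y) * c = c * (y * y) := hc _ (Qz.mul_mem hy hy) hyy
  have hsq : (y * c') * (y * c') = y * y := by
    rw [← hcy]
    calc (c * y * c⁻¹) * (c * y * c⁻¹) = c * (y * y) * c⁻¹ := by group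
      _ = (y * y) * c * c⁻¹ := by rw [hcyy]
      _ = y * y := by group
  have hyxsq : (y * x) * (y * x) = z * (y * y) := by
    calc (y * x) * (y * x) = y * (x * y) * x := by group
      _ = y * (z * (y * x)) * x := by rw [hxy]
      _ = (y * z) * y * (x * x) := by group
      _ = (z * y) * y * (x * x) := by rw [hyz]
      _ = (z * y) * y * 1 := by rw [hxx]
      _ = z * (y * y) := by group
  rcases hD with e | e | e | e
  · -- c' = 1 : c commutes with y
    rw [e, mul_one] at hcy
    have hcy' : y * c = c * y := by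
      calc y * c = (c * y * c⁻¹) * c := by rw [hcy]
        _ = c * y := by group
    rcases B2 c hc hcy' with e' | e'
    · exact Or.inl e'
    · exact Or.inr (Or.inr (Or.inl e'))
  · -- c' = x : impossible
    exfalso
    rw [e] at hsq
    rw [hyxsq] at hsq
    apply hz1
    have : z * (y * y) = 1 * (y * y) := by rw [one_mul]; exact hsq
    exact mul_right_cancel this
  · -- c' = z
    rw [e] at hcy
    have hcy2 : c * y = y * z * c := by
      calc c * y = (c * y * c⁻¹) * c := by group
        _ = y * z * c := by rw [hcy]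
    have hxcP : ∀ p ∈ Qz, p * x = x * p → p * (x * c) = (x * c) * p := by
      intro p hp hpx
      have hcp : p * c = c * p := hc p hp hpx
      calc p * (x * c) = (p * x) * c := by group
        _ = (x * p) * c := by rw [hpx]
        _ = x * (p * c) := by group
        _ = x * (c * p) := by rw [hcp]
        _ = (x * c) * p := by group
    have hxcy : y * (x * c) = (x * c) * y := by
      symm
      calc (x * c) * y = x * (c * y) := by group
        _ = x * (y * z * c) := by rw [hcy2]
        _ = (x * y) * z * c := by group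
        _ = (z * (y * x)) * z * c := by rw [hxy]
        _ = z * y * (x * z) * c := by group
        _ = z * y * (z * x) * c := by rw [hxzc]
        _ = (z * y) * z * x * c := by group
        _ = (y * z) * z * x * c := by rw [hyz]
        _ = y * (z * z) * (x * c) := by group
        _ = y * (x * c) := by rw [hzz, mul_one]
    rcases B2 (x * c) hxcP hxcy with e' | e'
    · -- x c = 1 ⇒ c = x
      right; left
      have : c = x⁻¹ := eq_inv_of_mul_eq_one_right e'
      rw [this, hxinv]
    · -- x c = z ⇒ c = x z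
      right; right; right
      calc c = x⁻¹ * (x * c) := by group
        _ = x * z := by rw [e', hxinv]
  · -- c' = x z : impossible
    exfalso
    rw [e] at hsq
    have hzyx : z * (y * x) = (y * x) * z := by
      calc z * (y * x) = (z * y) * x := by group
        _ = (y * z) * x := by rw [hyz]
        _ = y * (z * x) := by group
        _ = y * (x * z) := by rw [hxzc]
        _ = (y * x) * z := by group
    have h1 : (y * (x * z)) * (y * (x * z)) = (y * x) * (y * x) := by
      calc (y * (x * z)) * (y * (x * z)) = (y * x) * (z * (y * x)) * z := by group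
        _ = (y * x) * ((y * x) * z) * z := by rw [hzyx]
        _ = (y * x) * (y * x) * (z * z) := by group
        _ = (y * x) * (y * x) := by rw [hzz, mul_one]
    rw [h1, hyxsq] at hsq
    apply hz1
    have : z * (y * y) = 1 * (y * y) := by rw [one_mul]; exact hsq
    exact mul_right_cancel this


/-- Orthogonality of singular involutions is symmetric (version for two explicit subgroups). -/
theorem orth_symm' [Finite G] {Qz Qx : Subgroup G} {z x : G} (Fz : Facts Qz z) (Fx : Facts Qx x)
    (n1 : ∀ c, c * z = z * c → ∀ q ∈ Qz, c * q * c⁻¹ ∈ Qz)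
    (n2 : ∀ c, c * x = x * c → ∀ q ∈ Qx, c * q * c⁻¹ ∈ Qx)
    (p1 : IsPGroup 2 Qz) (p2 : IsPGroup 2 Qx)
    (tr : ∀ d, d * z * d⁻¹ = x → ∀ q, q ∈ Qx ↔ d⁻¹ * q * d ∈ Qz)
    (hx : x ∈ Qz) : z ∈ Qx := by
  classical
  by_cases hxz : x = z
  · rw [← hxz]; exact Fx.mem
  have hx1 : x ≠ 1 := Fx.ne
  have hxx : x * x = 1 := Fx.two
  have hzz : z * z = 1 := Fz.two
  have hz1 : z ≠ 1 := Fz.ne
  have hxzc : x * z = z * x := Fz.cent x hx
  obtain ⟨y, hy, hyx⟩ := Fz.swap hx hx1 hxz
  have hyz : y * z = z * y := Fz.cent y hy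
  have hyz' : y * z * y⁻¹ = z := by rw [hyz, mul_inv_cancel_right]
  have hyz3 : y⁻¹ * z * y = z := by
    calc y⁻¹ * z * y = y⁻¹ * (z * y) := by group
      _ = y⁻¹ * (y * z) := by rw [hyz]
      _ = z := by group
  have B4 := cent_P' Fz n1 hx hxx hy hyx
  by_cases hex : ∃ q ∈ Qx, q * z * q⁻¹ = x * z
  · -- Step D
    obtain ⟨q, hq, hqz⟩ := hex
    have hqx : q * x = x * q := Fx.cent q hq
    have hdz : (y * q) * z * (y * q)⁻¹ = x := by
      calc (y * q) * z * (y * q)⁻¹ = y * (q * z * q⁻¹) * y⁻¹ := by group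
        _ = y * (x * z) * y⁻¹ := by rw [hqz]
        _ = (y * x * y⁻¹) * (y * z * y⁻¹) := by group
        _ = (z * x) * z := by rw [hyx, hyz']
        _ = (x * z) * z := by rw [← hxzc]
        _ = x * (z * z) := by group
        _ = x := by rw [hzz, mul_one]
    have hq1 : q⁻¹ * x * q = x := by
      calc q⁻¹ * x * q = q⁻¹ * (x * q) := by group
        _ = q⁻¹ * (q * x) := by rw [hqx]
        _ = x := by group
    have hqinvz : q⁻¹ * z * q = x * z := by
      calc q⁻¹ * z * q = (x * x) * (q⁻¹ * z * q) := by rw [hxx, one_mul]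
        _ = x * (x * (q⁻¹ * z * q)) := by group
        _ = x * ((q⁻¹ * x * q) * (q⁻¹ * z * q)) := by rw [hq1]
        _ = x * (q⁻¹ * (x * z) * q) := by group
        _ = x * (q⁻¹ * (q * z * q⁻¹) * q) := by rw [hqz]
        _ = x * z := by group
    have hw : (y * q)⁻¹ * z * (y * q) = x * z := by
      calc (y * q)⁻¹ * z * (y * q) = q⁻¹ * (y⁻¹ * z * y) * q := by group
        _ = q⁻¹ * z * q := by rw [hyz3]
        _ = x * z := hqinvz
    have hiff := tr (y * q) hdz z
    rw [hw] at hiff
    exact hiff.mpr (Qz.mul_mem hx Fz.mem)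
  · -- Step C
    push Not at hex
    obtain ⟨P, hPdef⟩ : ∃ P : Subgroup G, P = Qz ⊓ Subgroup.centralizer ({x} : Set G) :=
      ⟨_, rfl⟩
    obtain ⟨R, hRdef⟩ : ∃ R : Subgroup G, R = Qx ⊓ Subgroup.centralizer ({z} : Set G) :=
      ⟨_, rfl⟩
    have hPmem : ∀ p, p ∈ P ↔ (p ∈ Qz ∧ p * x = x * p) := by
      intro p; rw [hPdef, Subgroup.mem_inf, mem_cent_singleton]
    have hRmem : ∀ r, r ∈ R ↔ (r ∈ Qx ∧ r * z = z * r) := by
      intro r; rw [hRdef, Subgroup.mem_inf, mem_cent_singleton]
    have hnormPQ : ∀ h ∈ P, ∀ k ∈ Qx, h * k * h⁻¹ ∈ Qx := by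
      intro h hh k hk
      exact n2 h ((hPmem h).mp hh).2 k hk
    have hPnorm : P ≤ Subgroup.normalizer ((Qx : Subgroup G) : Set G) := by
      intro p hp
      rw [Subgroup.mem_normalizer_iff]
      intro q
      have hpx := ((hPmem p).mp hp).2
      constructor
      · intro hq; exact n2 p hpx q hq
      · intro hq
        have hpx' : p⁻¹ * x = x * p⁻¹ := ((show Commute p x from hpx).inv_left).eq
        have := n2 p⁻¹ hpx' _ hq
        have e : p⁻¹ * (p * q * p⁻¹) * p⁻¹⁻¹ = q := by group
        rwa [e] at this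
    have hPp : IsPGroup 2 ↥P := p1.to_le (by rw [hPdef]; exact inf_le_left)
    have hT2 : IsPGroup 2 ↥(P ⊔ Qx) :=
      IsPGroup.to_sup_of_normal_right' hPp p2 hPnorm
    have hJle : P ⊔ R ≤ Subgroup.centralizer ({z} : Set G) := by
      apply sup_le
      · intro p hp; rw [mem_cent_singleton]; exact Fz.cent p ((hPmem p).mp hp).1
      · intro r hr; rw [mem_cent_singleton]; exact ((hRmem r).mp hr).2
    have hJT : P ⊔ R ≤ P ⊔ Qx :=
      sup_le le_sup_left (le_trans (by rw [hRdef]; exact inf_le_left) le_sup_right)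
    have htop : (P ⊔ R).subgroupOf (P ⊔ Qx) = ⊤ := by
      by_contra hne
      have : Fact (Nat.Prime 2) := ⟨Nat.prime_two⟩
      have : Group.IsNilpotent ↥(P ⊔ Qx) := hT2.isNilpotent
      have hlt := Group.normalizerCondition_of_isNilpotent (G := ↥(P ⊔ Qx)) _
        (lt_top_iff_ne_top.mpr hne)
      obtain ⟨t, htn, htJ⟩ := SetLike.exists_of_lt hlt
      apply htJ
      rw [Subgroup.mem_subgroupOf]
      obtain ⟨p, hp, q, hq, htpq⟩ := mem_sup_of_normalizes hnormPQ t.2
      have hpP := (hPmem p).mp hp
      have htn' := Subgroup.mem_normalizer_iff''.mp htn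
      have hnorm : ∀ j ∈ P ⊔ R, (t : G)⁻¹ * j * (t : G) ∈ P ⊔ R := by
        intro j hj
        have hjT : j ∈ P ⊔ Qx := hJT hj
        have h1 := (htn' ⟨j, hjT⟩).mp (Subgroup.mem_subgroupOf.mpr hj)
        rw [Subgroup.mem_subgroupOf] at h1
        simpa only [Subgroup.coe_mul, Subgroup.coe_inv] using h1
      -- t z t⁻¹ centralises P
      have hcP : ∀ p' ∈ Qz, p' * x = x * p' →
          p' * ((t : G) * z * (t : G)⁻¹) = ((t : G) * z * (t : G)⁻¹) * p' := by
        intro p' hp' hp'x
        have hp'P : p' ∈ P := (hPmem p').mpr ⟨hp', hp'x⟩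
        have h1 := hnorm p' (Subgroup.mem_sup_left hp'P)
        have h2 : ((t : G)⁻¹ * p' * (t : G)) * z = z * ((t : G)⁻¹ * p' * (t : G)) :=
          mem_cent_singleton.mp (hJle h1)
        calc p' * ((t : G) * z * (t : G)⁻¹)
            = (t : G) * (((t : G)⁻¹ * p' * (t : G)) * z) * (t : G)⁻¹ := by group
          _ = (t : G) * (z * ((t : G)⁻¹ * p' * (t : G))) * (t : G)⁻¹ := by rw [h2]
          _ = ((t : G) * z * (t : G)⁻¹) * p' := by group
      have hD := B4 _ hcP
      -- conjugate back by p
      have hpz : p * z = z * p := Fz.cent p hpP.1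
      have hpx : p * x = x * p := hpP.2
      have hqx : q * x = x * q := Fx.cent q hq
      have e1 : (t : G) * z * (t : G)⁻¹ = p * (q * z * q⁻¹) * p⁻¹ := by rw [htpq]; group
      have hqz : q * z * q⁻¹ = p⁻¹ * ((t : G) * z * (t : G)⁻¹) * p := by rw [e1]; group
      have hpz' : p⁻¹ * z * p = z := by
        calc p⁻¹ * z * p = p⁻¹ * (z * p) := by group
          _ = p⁻¹ * (p * z) := by rw [hpz]
          _ = z := by group
      have hpx' : p⁻¹ * x * p = x := by
        calc p⁻¹ * x * p = p⁻¹ * (x * p) := by group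
          _ = p⁻¹ * (p * x) := by rw [hpx]
          _ = x := by group
      have hqR : q ∈ R := by
        rw [hRmem]
        refine ⟨hq, ?_⟩
        rcases hD with e | e | e | e
        · exfalso
          apply hz1
          exact conj_eq_one_iff.mp e
        · exfalso
          rw [e, hpx'] at hqz
          -- q z q⁻¹ = x = q x q⁻¹
          apply hxz
          have h3 : q * x * q⁻¹ = x := by rw [hqx, mul_inv_cancel_right]
          have h4 : q * z * q⁻¹ = q * x * q⁻¹ := by rw [hqz, h3]
          have := mul_right_cancel h4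
          exact (mul_left_cancel this).symm
        · rw [e, hpz'] at hqz
          calc q * z = (q * z * q⁻¹) * q := by group
            _ = z * q := by rw [hqz]
        · exfalso
          rw [e] at hqz
          apply hex q hq
          rw [hqz]
          calc p⁻¹ * (x * z) * p = (p⁻¹ * x * p) * (p⁻¹ * z * p) := by group
            _ = x * z := by rw [hpx', hpz']
      rw [htpq]
      exact Subgroup.mul_mem _ (Subgroup.mem_sup_left hp) (Subgroup.mem_sup_right hqR)
    -- hence Qx centralises z
    apply Fx.self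
    intro q hq
    have hqT : q ∈ P ⊔ Qx := Subgroup.mem_sup_right hq
    have : (⟨q, hqT⟩ : ↥(P ⊔ Qx)) ∈ (P ⊔ R).subgroupOf (P ⊔ Qx) := by
      rw [htop]; exact Subgroup.mem_top _
    rw [Subgroup.mem_subgroupOf] at this
    exact mem_cent_singleton.mp (hJle this)


end Cfsg.Agent.Helper29.LargeExtra
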