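import Cfsg.Agent.Lib.Helper29.LargeExtra4

/-!
# Large extraspecial 2-subgroups V: the structure of `R = C_{Q^g}(z) C_Q(z^g)` (helper29)
-/

set_option autoImplicit false

namespace Cfsg.Agent.Helper29.LargeExtra

open Cfsg
open scoped commutatorElement

variable {G : Type*} [Group G]

theorem mem_map_conj {Qa : Subgroup G} {d q : G} :
    q ∈ Qa.map (MulAut.conj d).toMonoidHom ↔ d⁻¹ * q * d ∈ Qa := by
  constructor
  · rintro ⟨q0, hq0, rfl⟩
    have e : d⁻¹ * ((MulAut.conj d).toMonoidHom q0) * d = q0 := by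
      simp only [MulEquiv.coe_toMonoidHom, MulAut.conj_apply]; group
    rw [e]; exact hq0
  · intro h
    refine ⟨d⁻¹ * q * d, h, ?_⟩
    simp only [MulEquiv.coe_toMonoidHom, MulAut.conj_apply]; group

theorem conj_mem_map {Qa : Subgroup G} {d q : G} (hq : q ∈ Qa) :
    d * q * d⁻¹ ∈ Qa.map (MulAut.conj d).toMonoidHom := ⟨q, hq, by simp⟩

theorem facts_map {Qa : Subgroup G} {a : G} (F : Facts Qa a) (d : G) :
    Facts (Qa.map (MulAut.conj d).toMonoidHom) (d * a * d⁻¹) := by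
  have hiff : ∀ q, q ∈ Qa.map (MulAut.conj d).toMonoidHom ↔ d⁻¹ * q * d ∈ Qa :=
    fun q => mem_map_conj
  have tr : ∀ c : G, (∀ q ∈ Qa.map (MulAut.conj d).toMonoidHom, q * c = c * q) →
      ∀ q ∈ Qa, q * (d⁻¹ * c * d) = (d⁻¹ * c * d) * q := by
    intro c hcq q hq
    have h1 := hcq (d * q * d⁻¹) (conj_mem_map hq)
    calc q * (d⁻¹ * c * d) = d⁻¹ * ((d * q * d⁻¹) * c) * d := by group
      _ = d⁻¹ * (c * (d * q * d⁻¹)) * d := by rw [h1]
      _ = (d⁻¹ * c * d) * q := by group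
  refine ⟨?_, ?_, ?_, ?_, ?_, ?_, ?_⟩
  · calc d * a * d⁻¹ * (d * a * d⁻¹) = d * (a * a) * d⁻¹ := by group
      _ = d * 1 * d⁻¹ := by rw [F.two]
      _ = 1 := by group
  · intro h
    exact F.ne (conj_eq_one_iff.mp h)
  · exact conj_mem_map F.mem
  · intro q hq
    have h0 := (hiff q).mp hq
    have h1 := F.cent _ h0
    calc q * (d * a * d⁻¹) = d * ((d⁻¹ * q * d) * a) * d⁻¹ := by group
      _ = d * (a * (d⁻¹ * q * d)) * d⁻¹ := by rw [h1]
      _ = (d * a * d⁻¹) * q := by group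
  · intro c hc hcq
    have hc0 : d⁻¹ * c * d ∈ Qa := (hiff c).mp hc
    rcases F.cen _ hc0 (tr c hcq) with h | h
    · left
      calc c = d * (d⁻¹ * c * d) * d⁻¹ := by group
        _ = d * 1 * d⁻¹ := by rw [h]
        _ = 1 := by group
    · right
      calc c = d * (d⁻¹ * c * d) * d⁻¹ := by group
        _ = d * a * d⁻¹ := by rw [h]
  · intro u hu v hv
    have hu0 := (hiff u).mp hu
    have hv0 := (hiff v).mp hv
    have e : u * v * u⁻¹ * v⁻¹ = d * ((d⁻¹ * u * d) * (d⁻¹ * v * d) * (d⁻¹ * u * d)⁻¹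
        * (d⁻¹ * v * d)⁻¹) * d⁻¹ := by group
    rcases F.comm _ hu0 _ hv0 with h | h
    · left; rw [e, h]; group
    · right; rw [e, h]
  · intro c hc
    rw [hiff]
    exact F.self _ (tr c hc)

theorem sq_map {Qa : Subgroup G} {a : G} (hsq : ∀ q ∈ Qa, q * q = 1 ∨ q * q = a) (d : G) :
    ∀ q ∈ Qa.map (MulAut.conj d).toMonoidHom, q * q = 1 ∨ q * q = d * a * d⁻¹ := by
  intro q hq
  have h0 := mem_map_conj.mp hq
  have e : q * q = d * ((d⁻¹ * q * d) * (d⁻¹ * q * d)) * d⁻¹ := by group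
  rcases hsq _ h0 with h | h
  · left; rw [e, h]; group
  · right; rw [e, h]

theorem zpowers_two_cases {z c : G} (hz2 : orderOf z = 2) (hc : c ∈ Subgroup.zpowers z) :
    c = 1 ∨ c = z := by
  obtain ⟨k, rfl⟩ := Subgroup.mem_zpowers_iff.mp hc
  have h1 : z ^ (k % (orderOf z : ℤ)) = z ^ k := zpow_mod_orderOf z k
  rw [hz2] at h1
  rcases Int.emod_two_eq_zero_or_one k with h | h
  · left; rw [← h1]; norm_num [h]
  · right; rw [← h1]; norm_num [h]

theorem facts_of_large [Finite G] {Q : Subgroup G} (hE : Cfsg.IsExtraspecial 2 ↥Q)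
    (hCQ : Subgroup.centralizer (Q : Set G) = (Subgroup.center ↥Q).map Q.subtype) (z : G)
    (hz : (Subgroup.center ↥Q).map Q.subtype = Subgroup.zpowers z) (hz2 : orderOf z = 2) :
    Facts Q z ∧ (∀ q ∈ Q, q * q = 1 ∨ q * q = z) ∧ IsPGroup 2 ↥Q := by
  have : Fact (Nat.Prime 2) := ⟨Nat.prime_two⟩
  obtain ⟨⟨hp, hfr, hcm⟩, _⟩ := hE
  have hzz : z * z = 1 := by
    have := pow_orderOf_eq_one z
    rwa [hz2, pow_two] at this
  have hz1 : z ≠ 1 := by
    intro h; rw [h, orderOf_one] at hz2; norm_num at hz2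
  have hcases : ∀ c : ↥Q, c ∈ Subgroup.center ↥Q → (c : G) = 1 ∨ (c : G) = z := by
    intro c hc
    apply zpowers_two_cases hz2
    rw [← hz]
    exact ⟨c, hc, rfl⟩
  have hzmem' : z ∈ (Subgroup.center ↥Q).map Q.subtype := by
    rw [hz]; exact Subgroup.mem_zpowers z
  obtain ⟨z', hz'c, hz'z⟩ := hzmem'
  have hz'z' : (z' : G) = z := hz'z
  have hzQ : z ∈ Q := by rw [← hz'z']; exact z'.2
  have hcent : ∀ q ∈ Q, q * z = z * q := by
    intro q hq
    have := (Subgroup.mem_center_iff.mp hz'c) ⟨q, hq⟩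
    have h2 := congrArg Subtype.val this
    simp only [Subgroup.coe_mul] at h2
    rw [hz'z'] at h2
    exact h2
  refine ⟨⟨hzz, hz1, hzQ, hcent, ?_, ?_, ?_⟩, ?_, hp⟩
  · intro c hc hcq
    have : (⟨c, hc⟩ : ↥Q) ∈ Subgroup.center ↥Q := by
      rw [Subgroup.mem_center_iff]
      intro q
      apply Subtype.ext
      simp only [Subgroup.coe_mul]
      exact hcq q.1 q.2
    exact hcases _ this
  · intro u hu v hv
    have : ⁅(⟨u, hu⟩ : ↥Q), ⟨v, hv⟩⁆ ∈ Subgroup.center ↥Q := by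
      rw [← hcm, commutator_def]
      exact Subgroup.commutator_mem_commutator (Subgroup.mem_top _) (Subgroup.mem_top _)
    have h := hcases _ this
    simpa [commutatorElement_def] using h
  · intro c hc
    have : c ∈ Subgroup.centralizer (Q : Set G) := by
      rw [Subgroup.mem_centralizer_iff]
      intro q hq
      exact hc q hq
    rw [hCQ] at this
    obtain ⟨c', _, rfl⟩ := this
    exact c'.2
  · intro q hq
    have h1 := Cfsg.Agent.Lib.Helper1.IsPGroup.pow_mem_frattini hp (⟨q, hq⟩ : ↥Q)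
    rw [hfr] at h1
    have h := hcases _ h1
    simpa [pow_two] using h

/-- The structure of `R`. -/
theorem large_R [Finite G] {Q : Subgroup G} {z : G} (Fz : Facts Q z)
    (sqz : ∀ q ∈ Q, q * q = 1 ∨ q * q = z) (pQ : IsPGroup 2 ↥Q)
    (n1 : ∀ c, c * z = z * c → ∀ q ∈ Q, c * q * c⁻¹ ∈ Q)
    (g : G) (hgz : g * z * g⁻¹ ≠ z) (hgQ : g * z * g⁻¹ ∈ Q) :
    (Subgroup.center ↥((Q.map (MulAut.conj g).toMonoidHom ⊓ Subgroup.centralizer ({z} : Set G)) ⊔
        (Q ⊓ Subgroup.centralizer ({g * z * g⁻¹} : Set G)) : Subgroup G)).map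
        ((Q.map (MulAut.conj g).toMonoidHom ⊓ Subgroup.centralizer ({z} : Set G)) ⊔
        (Q ⊓ Subgroup.centralizer ({g * z * g⁻¹} : Set G)) : Subgroup G).subtype
        = Subgroup.closure ({z, g * z * g⁻¹} : Set G) ∧
    Q ⊓ Q.map (MulAut.conj g).toMonoidHom ≤
      (Subgroup.upperCentralSeries ↥((Q.map (MulAut.conj g).toMonoidHom ⊓
        Subgroup.centralizer ({z} : Set G)) ⊔
        (Q ⊓ Subgroup.centralizer ({g * z * g⁻¹} : Set G)) : Subgroup G) 2).map
        ((Q.map (MulAut.conj g).toMonoidHom ⊓ Subgroup.centralizer ({z} : Set G)) ⊔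
        (Q ⊓ Subgroup.centralizer ({g * z * g⁻¹} : Set G)) : Subgroup G).subtype ∧
    Subgroup.upperCentralSeries ↥((Q.map (MulAut.conj g).toMonoidHom ⊓
        Subgroup.centralizer ({z} : Set G)) ⊔
        (Q ⊓ Subgroup.centralizer ({g * z * g⁻¹} : Set G)) : Subgroup G) 3 = ⊤ ∧
    Cfsg.IsElementaryAbelian 2 (Q ⊓ Q.map (MulAut.conj g).toMonoidHom) ∧
    (∀ a ∈ ((Q.map (MulAut.conj g).toMonoidHom ⊓ Subgroup.centralizer ({z} : Set G)) ⊔
        (Q ⊓ Subgroup.centralizer ({g * z * g⁻¹} : Set G)) : Subgroup G),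
      ∀ b ∈ ((Q.map (MulAut.conj g).toMonoidHom ⊓ Subgroup.centralizer ({z} : Set G)) ⊔
        (Q ⊓ Subgroup.centralizer ({g * z * g⁻¹} : Set G)) : Subgroup G),
        a * b * a⁻¹ * b⁻¹ ∈ Q ⊓ Q.map (MulAut.conj g).toMonoidHom ∧
        a ^ 2 ∈ Q ⊓ Q.map (MulAut.conj g).toMonoidHom) ∧
    (Q.map (MulAut.conj g).toMonoidHom ⊓ Subgroup.centralizer ({z} : Set G)) ⊓
        (Q ⊓ Subgroup.centralizer ({g * z * g⁻¹} : Set G))
        = Q ⊓ Q.map (MulAut.conj g).toMonoidHom ∧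
    ⁅Q ⊔ Q.map (MulAut.conj g).toMonoidHom, Q ⊓ Q.map (MulAut.conj g).toMonoidHom⁆
      ≤ Subgroup.closure ({z, g * z * g⁻¹} : Set G) := by
  classical
  obtain ⟨x, hxdef⟩ : ∃ x, x = g * z * g⁻¹ := ⟨_, rfl⟩
  obtain ⟨Q', hQ'def⟩ : ∃ Q' : Subgroup G, Q' = Q.map (MulAut.conj g).toMonoidHom := ⟨_, rfl⟩
  have Fx : Facts Q' x := by rw [hQ'def, hxdef]; exact facts_map Fz g
  have sqx : ∀ q ∈ Q', q * q = 1 ∨ q * q = x := by rw [hQ'def, hxdef]; exact sq_map sqz g
  have pQ' : IsPGroup 2 ↥Q' := by rw [hQ'def]; exact pQ.map _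
  have hQ'mem : ∀ q, q ∈ Q' ↔ g⁻¹ * q * g ∈ Q := by
    intro q; rw [hQ'def]; exact mem_map_conj
  rw [← hxdef] at hgz hgQ ⊢
  rw [← hQ'def]
  have hxz : x ≠ z := hgz
  have hxQ : x ∈ Q := hgQ
  have hzz : z * z = 1 := Fz.two
  have hxx : x * x = 1 := Fx.two
  have hz1 : z ≠ 1 := Fz.ne
  have hx1 : x ≠ 1 := Fx.ne
  have hxzc : x * z = z * x := Fz.cent x hxQ
  -- Q' is normal in C(x)
  have n2 : ∀ c, c * x = x * c → ∀ q ∈ Q', c * q * c⁻¹ ∈ Q' := by
    intro c hc q hq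
    have hq0 := (hQ'mem q).mp hq
    have hc' : (g⁻¹ * c * g) * z = z * (g⁻¹ * c * g) := by
      calc (g⁻¹ * c * g) * z = g⁻¹ * (c * (g * z * g⁻¹)) * g := by group
        _ = g⁻¹ * (c * x) * g := by rw [hxdef]
        _ = g⁻¹ * (x * c) * g := by rw [hc]
        _ = g⁻¹ * ((g * z * g⁻¹) * c) * g := by rw [hxdef]
        _ = z * (g⁻¹ * c * g) := by group
    have := n1 _ hc' _ hq0
    rw [hQ'mem]
    have e : g⁻¹ * (c * q * c⁻¹) * g = (g⁻¹ * c * g) * (g⁻¹ * q * g) * (g⁻¹ * c * g)⁻¹ := by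
      group
    rw [e]; exact this
  -- transport
  have tr : ∀ d, d * z * d⁻¹ = x → ∀ q, q ∈ Q' ↔ d⁻¹ * q * d ∈ Q := by
    intro d hd q
    have hc : (g⁻¹ * d) * z = z * (g⁻¹ * d) := by
      have h1 : (g⁻¹ * d) * z * (g⁻¹ * d)⁻¹ = z := by
        calc (g⁻¹ * d) * z * (g⁻¹ * d)⁻¹ = g⁻¹ * (d * z * d⁻¹) * g := by group
          _ = g⁻¹ * (g * z * g⁻¹) * g := by rw [hd, hxdef]
          _ = z := by group
      calc (g⁻¹ * d) * z = ((g⁻¹ * d) * z * (g⁻¹ * d)⁻¹) * (g⁻¹ * d) := by group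
        _ = z * (g⁻¹ * d) := by rw [h1]
    have hc' : (g⁻¹ * d)⁻¹ * z = z * (g⁻¹ * d)⁻¹ := ((show Commute (g⁻¹ * d) z from hc).inv_left).eq
    rw [hQ'mem]
    constructor
    · intro h
      have := n1 _ hc' _ h
      have e : (g⁻¹ * d)⁻¹ * (g⁻¹ * q * g) * (g⁻¹ * d)⁻¹⁻¹ = d⁻¹ * q * d := by group
      rwa [e] at this
    · intro h
      have := n1 _ hc _ h
      have e : (g⁻¹ * d) * (d⁻¹ * q * d) * (g⁻¹ * d)⁻¹ = g⁻¹ * q * g := by group
      rwa [e] at this
  have hzQ' : z ∈ Q' := orth_symm' Fz Fx n1 n2 pQ pQ' tr hxQ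
  have hzQ : z ∈ Q := Fz.mem
  have hxQ' : x ∈ Q' := Fx.mem
  -- the subgroups
  obtain ⟨P, hPdef⟩ : ∃ P : Subgroup G, P = Q ⊓ Subgroup.centralizer ({x} : Set G) := ⟨_, rfl⟩
  obtain ⟨P', hP'def⟩ : ∃ P' : Subgroup G, P' = Q' ⊓ Subgroup.centralizer ({z} : Set G) :=
    ⟨_, rfl⟩
  obtain ⟨E, hEdef⟩ : ∃ E : Subgroup G, E = Q ⊓ Q' := ⟨_, rfl⟩
  obtain ⟨V, hVdef⟩ : ∃ V : Subgroup G, V = Subgroup.closure ({z, x} : Set G) := ⟨_, rfl⟩
  rw [← hPdef, ← hP'def, ← hEdef, ← hVdef]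
  have hPmem : ∀ p, p ∈ P ↔ (p ∈ Q ∧ p * x = x * p) := by
    intro p; rw [hPdef, Subgroup.mem_inf, mem_cent_singleton]
  have hP'mem : ∀ p, p ∈ P' ↔ (p ∈ Q' ∧ p * z = z * p) := by
    intro p; rw [hP'def, Subgroup.mem_inf, mem_cent_singleton]
  have hEmem : ∀ e, e ∈ E ↔ (e ∈ Q ∧ e ∈ Q') := by
    intro e; rw [hEdef, Subgroup.mem_inf]
  have hzV : z ∈ V := by rw [hVdef]; exact Subgroup.subset_closure (by simp)
  have hxV : x ∈ V := by rw [hVdef]; exact Subgroup.subset_closure (by simp)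
  have hxzV : x * z ∈ V := V.mul_mem hxV hzV
  have hInD : ∀ c, InD x z c → c ∈ V := by
    intro c hc
    rcases hc with h | h | h | h
    · rw [h]; exact V.one_mem
    · rw [h]; exact hxV
    · rw [h]; exact hzV
    · rw [h]; exact hxzV
  have hzE : z ∈ E := (hEmem z).mpr ⟨hzQ, hzQ'⟩
  have hxE : x ∈ E := (hEmem x).mpr ⟨hxQ, hxQ'⟩
  -- R centralises z and x
  have hRz : ∀ r ∈ P' ⊔ P, r * z = z * r := by
    intro r hr
    have : P' ⊔ P ≤ Subgroup.centralizer ({z} : Set G) := by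
      apply sup_le
      · intro p hp; rw [mem_cent_singleton]; exact ((hP'mem p).mp hp).2
      · intro p hp; rw [mem_cent_singleton]; exact Fz.cent p ((hPmem p).mp hp).1
    exact mem_cent_singleton.mp (this hr)
  have hRx : ∀ r ∈ P' ⊔ P, r * x = x * r := by
    intro r hr
    have : P' ⊔ P ≤ Subgroup.centralizer ({x} : Set G) := by
      apply sup_le
      · intro p hp; rw [mem_cent_singleton]; exact Fx.cent p ((hP'mem p).mp hp).1
      · intro p hp; rw [mem_cent_singleton]; exact ((hPmem p).mp hp).2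
    exact mem_cent_singleton.mp (this hr)
  have hEP : E ≤ P := by
    intro e he
    obtain ⟨h1, h2⟩ := (hEmem e).mp he
    exact (hPmem e).mpr ⟨h1, Fx.cent e h2⟩
  have hEP' : E ≤ P' := by
    intro e he
    obtain ⟨h1, h2⟩ := (hEmem e).mp he
    exact (hP'mem e).mpr ⟨h2, Fz.cent e h1⟩
  have hER : E ≤ P' ⊔ P := le_trans hEP le_sup_right
  -- elements commuting with z and x normalise E
  have hEnorm : ∀ r, r * z = z * r → r * x = x * r → ∀ e ∈ E, r * e * r⁻¹ ∈ E := by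
    intro r hrz hrx e he
    obtain ⟨h1, h2⟩ := (hEmem e).mp he
    exact (hEmem _).mpr ⟨n1 r hrz e h1, n2 r hrx e h2⟩
  -- P' normalises P
  have hP'P : ∀ h ∈ P', ∀ k ∈ P, h * k * h⁻¹ ∈ P := by
    intro h hh k hk
    obtain ⟨hh1, hh2⟩ := (hP'mem h).mp hh
    obtain ⟨hk1, hk2⟩ := (hPmem k).mp hk
    refine (hPmem _).mpr ⟨n1 h hh2 k hk1, ?_⟩
    have hhx : h * x = x * h := Fx.cent h hh1
    have hhx' : h⁻¹ * x = x * h⁻¹ := ((show Commute h x from hhx).inv_left).eq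
    calc h * k * h⁻¹ * x = h * k * (h⁻¹ * x) := by group
      _ = h * k * (x * h⁻¹) := by rw [hhx']
      _ = h * (k * x) * h⁻¹ := by group
      _ = h * (x * k) * h⁻¹ := by rw [hk2]
      _ = (h * x) * k * h⁻¹ := by group
      _ = (x * h) * k * h⁻¹ := by rw [hhx]
      _ = x * (h * k * h⁻¹) := by group
  have hdecomp : ∀ r ∈ P' ⊔ P, ∃ p' ∈ P', ∃ p ∈ P, r = p' * p :=
    fun r hr => mem_sup_of_normalizes hP'P hr
  -- commutator values
  have cz : ∀ u ∈ Q, ∀ v ∈ Q, u * v * u⁻¹ * v⁻¹ ∈ E := by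
    intro u hu v hv
    rcases Fz.comm u hu v hv with h | h
    · rw [h]; exact E.one_mem
    · rw [h]; exact hzE
  have cx : ∀ u ∈ Q', ∀ v ∈ Q', u * v * u⁻¹ * v⁻¹ ∈ E := by
    intro u hu v hv
    rcases Fx.comm u hu v hv with h | h
    · rw [h]; exact E.one_mem
    · rw [h]; exact hxE
  have cPP' : ∀ p ∈ P, ∀ p' ∈ P', p * p' * p⁻¹ * p'⁻¹ ∈ E := by
    intro p hp p' hp'
    obtain ⟨hp1, hp2⟩ := (hPmem p).mp hp
    obtain ⟨hp'1, hp'2⟩ := (hP'mem p').mp hp'
    refine (hEmem _).mpr ⟨?_, ?_⟩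
    · have h1 : p' * p⁻¹ * p'⁻¹ ∈ Q := n1 p' hp'2 _ (Q.inv_mem hp1)
      have e : p * p' * p⁻¹ * p'⁻¹ = p * (p' * p⁻¹ * p'⁻¹) := by group
      rw [e]; exact Q.mul_mem hp1 h1
    · have h1 : p * p' * p⁻¹ ∈ Q' := n2 p hp2 _ hp'1
      exact Q'.mul_mem h1 (Q'.inv_mem hp'1)
  have cP'P : ∀ p' ∈ P', ∀ p ∈ P, p' * p * p'⁻¹ * p⁻¹ ∈ E := by
    intro p' hp' p hp
    have := E.inv_mem (cPP' p hp p' hp')
    have e : (p * p' * p⁻¹ * p'⁻¹)⁻¹ = p' * p * p'⁻¹ * p⁻¹ := by group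
    rwa [e] at this
  -- generator commutators
  have G1 : ∀ c, (c ∈ P ∨ c ∈ P') → ∀ d, (d ∈ P ∨ d ∈ P') → c * d * c⁻¹ * d⁻¹ ∈ E := by
    intro c hc d hd
    rcases hc with hc | hc
    · rcases hd with hd | hd
      · exact cz c ((hPmem c).mp hc).1 d ((hPmem d).mp hd).1
      · exact cPP' c hc d hd
    · rcases hd with hd | hd
      · exact cP'P c hc d hd
      · exact cx c ((hP'mem c).mp hc).1 d ((hP'mem d).mp hd).1
  have hgenR : ∀ c, (c ∈ P ∨ c ∈ P') → c ∈ P' ⊔ P := by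
    intro c hc
    rcases hc with hc | hc
    · exact Subgroup.mem_sup_right hc
    · exact Subgroup.mem_sup_left hc
  have G2 : ∀ a ∈ P' ⊔ P, ∀ d, (d ∈ P ∨ d ∈ P') → a * d * a⁻¹ * d⁻¹ ∈ E := by
    intro a ha d hd
    obtain ⟨p', hp', p, hp, rfl⟩ := hdecomp a ha
    have e : (p' * p) * d * (p' * p)⁻¹ * d⁻¹
        = (p' * (p * d * p⁻¹ * d⁻¹) * p'⁻¹) * (p' * d * p'⁻¹ * d⁻¹) := by group
    rw [e]
    have hp'R : p' ∈ P' ⊔ P := Subgroup.mem_sup_left hp'
    exact E.mul_mem (hEnorm p' (hRz p' hp'R) (hRx p' hp'R) _ (G1 p (Or.inl hp) d hd))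
      (G1 p' (Or.inr hp') d hd)
  have G3 : ∀ a ∈ P' ⊔ P, ∀ b ∈ P' ⊔ P, a * b * a⁻¹ * b⁻¹ ∈ E := by
    intro a ha b hb
    obtain ⟨p', hp', p, hp, rfl⟩ := hdecomp b hb
    have e : a * (p' * p) * a⁻¹ * (p' * p)⁻¹
        = (a * p' * a⁻¹ * p'⁻¹) * (p' * (a * p * a⁻¹ * p⁻¹) * p'⁻¹) := by group
    rw [e]
    have hp'R : p' ∈ P' ⊔ P := Subgroup.mem_sup_left hp'
    exact E.mul_mem (G2 a ha p' (Or.inr hp'))
      (hEnorm p' (hRz p' hp'R) (hRx p' hp'R) _ (G2 a ha p (Or.inl hp)))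
  have Gsq : ∀ a ∈ P' ⊔ P, a ^ 2 ∈ E := by
    intro a ha
    obtain ⟨p', hp', p, hp, rfl⟩ := hdecomp a ha
    have e : (p' * p) ^ 2 = (p' * p') * (p'⁻¹ * p * p'⁻¹⁻¹ * p⁻¹) * (p * p) := by
      rw [pow_two]; group
    rw [e]
    have h1 : p' * p' ∈ E := by
      rcases sqx p' ((hP'mem p').mp hp').1 with h | h
      · rw [h]; exact E.one_mem
      · rw [h]; exact hxE
    have h2 : p * p ∈ E := by
      rcases sqz p ((hPmem p).mp hp).1 with h | h
      · rw [h]; exact E.one_mem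
      · rw [h]; exact hzE
    exact E.mul_mem (E.mul_mem h1 (G1 _ (Or.inr (P'.inv_mem hp')) p (Or.inl hp))) h2
  -- [E, R] ≤ V
  have hEV : ∀ e ∈ E, ∀ r ∈ P' ⊔ P, e * r * e⁻¹ * r⁻¹ ∈ V ∧
      ∀ s ∈ P' ⊔ P, s * (e * r * e⁻¹ * r⁻¹) = (e * r * e⁻¹ * r⁻¹) * s := by
    intro e he r hr
    obtain ⟨he1, he2⟩ := (hEmem e).mp he
    obtain ⟨p', hp', p, hp, rfl⟩ := hdecomp r hr
    obtain ⟨hp1, _⟩ := (hPmem p).mp hp
    obtain ⟨hp'1, hp'2⟩ := (hP'mem p').mp hp'
    have e1 : e * (p' * p) * e⁻¹ * (p' * p)⁻¹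
        = (e * p' * e⁻¹ * p'⁻¹) * (p' * (e * p * e⁻¹ * p⁻¹) * p'⁻¹) := by group
    have hp'zinv : p' * z * p'⁻¹ = z := by rw [hp'2, mul_inv_cancel_right]
    have key : ∃ a b : G, (a = 1 ∨ a = x) ∧ (b = 1 ∨ b = z) ∧
        e * (p' * p) * e⁻¹ * (p' * p)⁻¹ = a * b := by
      refine ⟨e * p' * e⁻¹ * p'⁻¹, p' * (e * p * e⁻¹ * p⁻¹) * p'⁻¹, Fx.comm e he2 p' hp'1, ?_, e1⟩
      rcases Fz.comm e he1 p hp1 with h | h
      · left; rw [h]; group
      · right; rw [h]; exact hp'zinv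
    obtain ⟨a, b, ha, hb, hab⟩ := key
    rw [hab]
    constructor
    · apply V.mul_mem
      · rcases ha with h | h
        · rw [h]; exact V.one_mem
        · rw [h]; exact hxV
      · rcases hb with h | h
        · rw [h]; exact V.one_mem
        · rw [h]; exact hzV
    · intro s hs
      have hsa : s * a = a * s := by
        rcases ha with h | h
        · rw [h, mul_one, one_mul]
        · rw [h]; exact hRx s hs
      have hsb : s * b = b * s := by
        rcases hb with h | h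
        · rw [h, mul_one, one_mul]
        · rw [h]; exact hRz s hs
      calc s * (a * b) = (s * a) * b := by group
        _ = (a * s) * b := by rw [hsa]
        _ = a * (s * b) := by group
        _ = a * (b * s) := by rw [hsb]
        _ = (a * b) * s := by group
  -- E inside the second centre
  have hE2 : ∀ e (_ : e ∈ E) (heR : e ∈ P' ⊔ P),
      (⟨e, heR⟩ : ↥(P' ⊔ P)) ∈ Subgroup.upperCentralSeries ↥(P' ⊔ P) 2 := by
    intro e he heR
    apply (Subgroup.mem_upperCentralSeries_succ_iff (n := 1)).mpr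
    intro y
    rw [Subgroup.upperCentralSeries_one, Subgroup.mem_center_iff]
    intro s
    apply Subtype.ext
    have := (hEV e he y.1 y.2).2 s.1 s.2
    simpa [commutatorElement_def] using this
  -- y with y x y⁻¹ = z x
  obtain ⟨y, hy, hyx⟩ := Fz.swap hxQ hx1 hxz
  have B4 := cent_P' Fz n1 hxQ hxx hy hyx
  refine ⟨?_, ?_, ?_, ?_, ?_, ?_, ?_⟩
  · -- centre of R
    ext c
    constructor
    · rintro ⟨c', hc', rfl⟩
      apply hInD
      apply B4
      intro p hp hpx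
      have hpR : p ∈ P' ⊔ P := Subgroup.mem_sup_right ((hPmem p).mpr ⟨hp, hpx⟩)
      have := (Subgroup.mem_center_iff.mp hc') ⟨p, hpR⟩
      have h2 := congrArg Subtype.val this
      show p * (c' : G) = (c' : G) * p
      simpa only [Subgroup.coe_mul] using h2
    · intro hc
      have hVR : V ≤ P' ⊔ P := by
        rw [hVdef, Subgroup.closure_le]
        intro v hv
        rcases hv with hv | hv
        · rw [hv]; exact hER hzE
        · rw [Set.mem_singleton_iff.mp hv]; exact hER hxE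
      have hVc : V ≤ Subgroup.centralizer ((P' ⊔ P : Subgroup G) : Set G) := by
        rw [hVdef, Subgroup.closure_le]
        intro v hv
        rw [SetLike.mem_coe, Subgroup.mem_centralizer_iff]
        intro r hr
        rcases hv with hv | hv
        · rw [hv]; exact hRz r hr
        · rw [Set.mem_singleton_iff.mp hv]; exact hRx r hr
      refine ⟨⟨c, hVR hc⟩, ?_, rfl⟩
      show (⟨c, hVR hc⟩ : ↥(P' ⊔ P)) ∈ Subgroup.center ↥(P' ⊔ P)
      rw [Subgroup.mem_center_iff]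
      intro r
      apply Subtype.ext
      simp only [Subgroup.coe_mul]
      exact (Subgroup.mem_centralizer_iff.mp (hVc hc)) r.1 r.2
  · intro e he
    exact ⟨⟨e, hER he⟩, hE2 e he (hER he), rfl⟩
  · rw [eq_top_iff]
    intro a _
    apply (Subgroup.mem_upperCentralSeries_succ_iff (n := 2)).mpr
    intro b
    have hmem : ((⁅a, b⁆ : ↥(P' ⊔ P)) : G) ∈ E := by
      have := G3 a.1 a.2 b.1 b.2
      simpa [commutatorElement_def] using this
    exact hE2 _ hmem (⁅a, b⁆ : ↥(P' ⊔ P)).2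
  · refine ⟨⟨⟨fun a b => Subtype.ext ?_⟩⟩, ?_⟩
    · obtain ⟨ha1, ha2⟩ := (hEmem a.1).mp a.2
      obtain ⟨hb1, hb2⟩ := (hEmem b.1).mp b.2
      simp only [Subgroup.coe_mul]
      have h1 : (a : G) * b * (a : G)⁻¹ * (b : G)⁻¹ = 1 := by
        rcases Fz.comm _ ha1 _ hb1 with h | h
        · exact h
        · rcases Fx.comm _ ha2 _ hb2 with h' | h'
          · exact h'
          · exfalso; exact hxz (h'.symm.trans h)
      calc (a : G) * b = ((a : G) * b * (a : G)⁻¹ * (b : G)⁻¹) * b * a := by group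
        _ = b * a := by rw [h1, one_mul]
    · intro a ha
      obtain ⟨ha1, ha2⟩ := (hEmem a).mp ha
      rw [pow_two]
      rcases sqz a ha1 with h | h
      · exact h
      · rcases sqx a ha2 with h' | h'
        · exact h'
        · exfalso; exact hxz (h'.symm.trans h)
  · intro a ha b hb
    exact ⟨G3 a ha b hb, Gsq a ha⟩
  · ext e
    rw [hP'def, hPdef] at *
    constructor
    · rintro ⟨⟨h1, _⟩, ⟨h2, _⟩⟩
      exact (hEmem e).mpr ⟨h2, h1⟩
    · intro he
      obtain ⟨h1, h2⟩ := (hEmem e).mp he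
      exact ⟨⟨h2, mem_cent_singleton.mpr (Fz.cent e h1)⟩, ⟨h1, mem_cent_singleton.mpr (Fx.cent e h2)⟩⟩
  · rw [Subgroup.commutator_le]
    have normV : ∀ a : G, a * z * a⁻¹ ∈ V → a * x * a⁻¹ ∈ V → ∀ v ∈ V, a * v * a⁻¹ ∈ V := by
      intro a haz hax v hv
      rw [hVdef] at hv
      induction hv using Subgroup.closure_induction with
      | mem s hs =>
        rcases hs with hs | hs
        · rw [hs]; exact haz
        · rw [Set.mem_singleton_iff.mp hs]; exact hax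
      | one =>
        have e : a * 1 * a⁻¹ = 1 := by group
        rw [e]; exact V.one_mem
      | mul u w _ _ hu hw =>
        have e : a * (u * w) * a⁻¹ = (a * u * a⁻¹) * (a * w * a⁻¹) := by group
        rw [e]; exact V.mul_mem hu hw
      | inv u _ hu =>
        have e : a * u⁻¹ * a⁻¹ = (a * u * a⁻¹)⁻¹ := by group
        rw [e]; exact V.inv_mem hu
    have hXsup : Q ⊔ Q' = ⨆ b : Bool, cond b Q Q' := (iSup_bool_eq (f := fun b => cond b Q Q')).symm
    intro a ha e he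
    rw [hXsup] at ha
    have key : (∀ v ∈ V, a * v * a⁻¹ ∈ V) ∧ ∀ e ∈ E, a * e * a⁻¹ * e⁻¹ ∈ V := by
      refine Subgroup.iSup_induction (fun b => cond b Q Q')
        (C := fun a => (∀ v ∈ V, a * v * a⁻¹ ∈ V) ∧ ∀ e ∈ E, a * e * a⁻¹ * e⁻¹ ∈ V) ha ?_ ?_ ?_
      · intro b a hab
        cases b with
        | false =>
          have haQ' : a ∈ Q' := hab
          constructor
          · apply normV
            · have e1 : a * z * a⁻¹ = (a * z * a⁻¹ * z⁻¹) * z := by group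
              rcases Fx.comm a haQ' z hzQ' with h | h
              · rw [e1, h, one_mul]; exact hzV
              · rw [e1, h]; exact hxzV
            · have : a * x * a⁻¹ = x := by rw [Fx.cent a haQ', mul_inv_cancel_right]
              rw [this]; exact hxV
          · intro e he
            rcases Fx.comm a haQ' e ((hEmem e).mp he).2 with h | h
            · rw [h]; exact V.one_mem
            · rw [h]; exact hxV
        | true =>
          have haQ : a ∈ Q := hab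
          constructor
          · apply normV
            · have : a * z * a⁻¹ = z := by rw [Fz.cent a haQ, mul_inv_cancel_right]
              rw [this]; exact hzV
            · have e1 : a * x * a⁻¹ = (a * x * a⁻¹ * x⁻¹) * x := by group
              rcases Fz.comm a haQ x hxQ with h | h
              · rw [e1, h, one_mul]; exact hxV
              · rw [e1, h, ← hxzc]; exact hxzV
          · intro e he
            rcases Fz.comm a haQ e ((hEmem e).mp he).1 with h | h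
            · rw [h]; exact V.one_mem
            · rw [h]; exact hzV
      · constructor
        · intro v hv
          have e : (1 : G) * v * 1⁻¹ = v := by group
          rw [e]; exact hv
        · intro e _
          have e1 : (1 : G) * e * 1⁻¹ * e⁻¹ = 1 := by group
          rw [e1]; exact V.one_mem
      · rintro a b ⟨ha1, ha2⟩ ⟨hb1, hb2⟩
        constructor
        · intro v hv
          have e : (a * b) * v * (a * b)⁻¹ = a * (b * v * b⁻¹) * a⁻¹ := by group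
          rw [e]; exact ha1 _ (hb1 v hv)
        · intro e he
          have e1 : (a * b) * e * (a * b)⁻¹ * e⁻¹
              = (a * (b * e * b⁻¹ * e⁻¹) * a⁻¹) * (a * e * a⁻¹ * e⁻¹) := by group
          rw [e1]; exact V.mul_mem (ha1 _ (hb2 e he)) (ha2 e he)
    rw [commutatorElement_def]
    exact key.2 e he

end Cfsg.Agent.Helper29.LargeExtra
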