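import Cfsg.Agent.Lib.Helper29.LargeExtra5

/-!
# Large extraspecial 2-subgroups VI: `X = ⟨Q, Q^g⟩` induces `S₃` on `V = ⟨z, z^g⟩` (helper29)
-/

set_option autoImplicit false

namespace Cfsg.Agent.Helper29.LargeExtra

open Cfsg
open scoped commutatorElement

variable {G : Type*} [Group G]

theorem InD_mul {x z a b : G} (hxx : x * x = 1) (hzz : z * z = 1) (hxz : x * z = z * x)
    (ha : InD x z a) (hb : InD x z b) : InD x z (a * b) := by
  rcases ha with ha | ha | ha | ha <;> rcases hb with hb | hb | hb | hb <;> rw [ha, hb]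
  · exact Or.inl (mul_one 1)
  · exact Or.inr (Or.inl (one_mul x))
  · exact Or.inr (Or.inr (Or.inl (one_mul z)))
  · exact Or.inr (Or.inr (Or.inr (one_mul (x * z))))
  · exact Or.inr (Or.inl (mul_one x))
  · exact Or.inl hxx
  · exact Or.inr (Or.inr (Or.inr rfl))
  · refine Or.inr (Or.inr (Or.inl ?_))
    calc x * (x * z) = (x * x) * z := by group
      _ = z := by rw [hxx, one_mul]
  · exact Or.inr (Or.inr (Or.inl (mul_one z)))
  · exact Or.inr (Or.inr (Or.inr hxz.symm))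
  · exact Or.inl hzz
  · refine Or.inr (Or.inl ?_)
    calc z * (x * z) = z * (z * x) := by rw [hxz]
      _ = (z * z) * x := by group
      _ = x := by rw [hzz, one_mul]
  · exact Or.inr (Or.inr (Or.inr (mul_one (x * z))))
  · refine Or.inr (Or.inr (Or.inl ?_))
    calc x * z * x = z * x * x := by rw [hxz]
      _ = z * (x * x) := by group
      _ = z := by rw [hxx, mul_one]
  · refine Or.inr (Or.inl ?_)
    calc x * z * z = x * (z * z) := by group
      _ = x := by rw [hzz, mul_one]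
  · refine Or.inl ?_
    calc x * z * (x * z) = x * (z * x) * z := by group
      _ = x * (x * z) * z := by rw [← hxz]
      _ = (x * x) * (z * z) := by group
      _ = 1 := by rw [hxx, hzz, mul_one]

theorem InD_inv {x z a : G} (hxx : x * x = 1) (hzz : z * z = 1) (hxz : x * z = z * x)
    (ha : InD x z a) : InD x z a⁻¹ := by
  have hsq : a * a = 1 := by
    rcases ha with ha | ha | ha | ha <;> rw [ha]
    · exact mul_one 1
    · exact hxx
    · exact hzz
    · calc x * z * (x * z) = x * (z * x) * z := by group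
        _ = x * (x * z) * z := by rw [← hxz]
        _ = (x * x) * (z * z) := by group
        _ = 1 := by rw [hxx, hzz, mul_one]
  have : a⁻¹ = a := inv_eq_of_mul_eq_one_left hsq
  rw [this]; exact ha

theorem mem_V_iff {x z : G} (hxx : x * x = 1) (hzz : z * z = 1) (hxz : x * z = z * x) (v : G) :
    v ∈ Subgroup.closure ({z, x} : Set G) ↔ InD x z v := by
  constructor
  · intro hv
    induction hv using Subgroup.closure_induction with
    | mem s hs =>
      rcases hs with hs | hs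
      · exact Or.inr (Or.inr (Or.inl hs))
      · exact Or.inr (Or.inl (Set.mem_singleton_iff.mp hs))
    | one => exact Or.inl rfl
    | mul u w _ _ hu hw => exact InD_mul hxx hzz hxz hu hw
    | inv u _ hu => exact InD_inv hxx hzz hxz hu
  · intro hv
    rcases hv with h | h | h | h
    · rw [h]; exact Subgroup.one_mem _
    · rw [h]; exact Subgroup.subset_closure (by simp)
    · rw [h]; exact Subgroup.subset_closure (by simp)
    · rw [h]
      exact Subgroup.mul_mem _ (Subgroup.subset_closure (by simp)) (Subgroup.subset_closure (by simp))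

theorem mem_cent_V_iff {x z c : G} :
    c ∈ Subgroup.centralizer ((Subgroup.closure ({z, x} : Set G) : Subgroup G) : Set G) ↔
      (c * z = z * c ∧ c * x = x * c) := by
  constructor
  · intro h
    rw [Subgroup.mem_centralizer_iff] at h
    exact ⟨(h z (Subgroup.subset_closure (by simp))).symm,
      (h x (Subgroup.subset_closure (by simp))).symm⟩
  · rintro ⟨h1, h2⟩
    rw [Subgroup.mem_centralizer_iff]
    intro v hv
    have hle : Subgroup.closure ({z, x} : Set G) ≤ Subgroup.centralizer ({c} : Set G) := by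
      rw [Subgroup.closure_le]
      intro s hs
      rcases hs with hs | hs
      · rw [hs]; exact mem_cent_singleton.mpr h1.symm
      · rw [Set.mem_singleton_iff.mp hs]; exact mem_cent_singleton.mpr h2.symm
    exact mem_cent_singleton.mp (hle hv)

theorem comm_of_conj {a v : G} (h : a * v * a⁻¹ = v) : a * v = v * a := by
  calc a * v = (a * v * a⁻¹) * a := by group
    _ = v * a := by rw [h]

theorem inv_conj_swap {a v s : G} (haa : a * a = 1) (hsa : s * a = a * s)
    (hsv : s * v * s⁻¹ = a * v) : s⁻¹ * v * s = a * v := by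
  calc s⁻¹ * v * s = s⁻¹ * (a * a * v) * s := by rw [haa, one_mul]
    _ = s⁻¹ * (a * (a * v)) * s := by group
    _ = s⁻¹ * (a * (s * v * s⁻¹)) * s := by rw [hsv]
    _ = (s⁻¹ * (a * s)) * v := by group
    _ = (s⁻¹ * (s * a)) * v := by rw [hsa]
    _ = a * v := by group

/-- `C_{Qa}(v)` has index two in `Qa`, with coset representative `s` -/
theorem coset_two {Qa : Subgroup G} {a v s : G} (F : Facts Qa a) (hv : v ∈ Qa) (hs : s ∈ Qa)
    (hsv : s * v * s⁻¹ = a * v) :
    ∀ u ∈ Qa, u * v ≠ v * u → (s⁻¹ * u) * v = v * (s⁻¹ * u) := by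
  have haa : a * a = 1 := F.two
  have hsa : s * a = a * s := F.cent s hs
  have hsv' : s⁻¹ * v * s = a * v := inv_conj_swap haa hsa hsv
  intro u hu hne
  obtain h | h := F.comm u hu v hv
  · exfalso; apply hne
    calc u * v = (u * v * u⁻¹ * v⁻¹) * v * u := by group
      _ = v * u := by rw [h, one_mul]
  · have h1 : u * v = a * v * u := by
      calc u * v = (u * v * u⁻¹ * v⁻¹) * v * u := by group
        _ = a * v * u := by rw [h]
    have hsa2 : s⁻¹ * a = a * s⁻¹ := ((show Commute s a from hsa).inv_left).eq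
    calc s⁻¹ * u * v = s⁻¹ * (u * v) := by rw [mul_assoc]
      _ = s⁻¹ * (a * v * u) := by rw [h1]
      _ = (s⁻¹ * a) * v * u := by group
      _ = (a * s⁻¹) * v * u := by rw [hsa2]
      _ = a * (s⁻¹ * v * s) * (s⁻¹ * u) := by group
      _ = a * (a * v) * (s⁻¹ * u) := by rw [hsv']
      _ = (a * a) * v * (s⁻¹ * u) := by group
      _ = v * (s⁻¹ * u) := by rw [haa, one_mul]

/-- conjugation by `a ∈ Qz` preserves `C_{Qz}(x)` and moves `C(z) ∩ C(x)` by elements of it -/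
theorem conj_gen {Qz : Subgroup G} {z x : G} (Fz : Facts Qz z)
    (n1 : ∀ c, c * z = z * c → ∀ q ∈ Qz, c * q * c⁻¹ ∈ Qz) (hxQz : x ∈ Qz)
    {a : G} (ha : a ∈ Qz) :
    (∀ p ∈ Qz, p * x = x * p → a * p * a⁻¹ ∈ Qz ∧ (a * p * a⁻¹) * x = x * (a * p * a⁻¹)) ∧
    (∀ c, c * z = z * c → c * x = x * c →
      a * c * a⁻¹ * c⁻¹ ∈ Qz ∧ (a * c * a⁻¹ * c⁻¹) * x = x * (a * c * a⁻¹ * c⁻¹)) := by
  have hxzc : x * z = z * x := Fz.cent x hxQz
  constructor
  · intro p hp hpx
    refine ⟨Qz.mul_mem (Qz.mul_mem ha hp) (Qz.inv_mem ha), ?_⟩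
    rcases Fz.comm a ha p hp with h | h
    · have e : a * p * a⁻¹ = p := by
        calc a * p * a⁻¹ = (a * p * a⁻¹ * p⁻¹) * p := by group
          _ = p := by rw [h, one_mul]
      rw [e]; exact hpx
    · have e : a * p * a⁻¹ = z * p := by
        calc a * p * a⁻¹ = (a * p * a⁻¹ * p⁻¹) * p := by group
          _ = z * p := by rw [h]
      rw [e]
      calc z * p * x = z * (p * x) := by group
        _ = z * (x * p) := by rw [hpx]
        _ = (z * x) * p := by group
        _ = (x * z) * p := by rw [hxzc]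
        _ = x * (z * p) := by group
  · intro c hcz hcx
    have hcxinv : c⁻¹ * x = x * c⁻¹ := ((show Commute c x from hcx).inv_left).eq
    constructor
    · have h1 : c * a⁻¹ * c⁻¹ ∈ Qz := n1 c hcz _ (Qz.inv_mem ha)
      have e : a * c * a⁻¹ * c⁻¹ = a * (c * a⁻¹ * c⁻¹) := by group
      rw [e]; exact Qz.mul_mem ha h1
    · obtain ⟨d, hd, hdx⟩ : ∃ d, (d = 1 ∨ d = z) ∧ a⁻¹ * x * a = d * x := by
        refine ⟨a⁻¹ * x * a⁻¹⁻¹ * x⁻¹, Fz.comm a⁻¹ (Qz.inv_mem ha) x hxQz, ?_⟩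
        group
      have hcd : c * (d * x) = (d * x) * c := by
        rcases hd with h | h
        · rw [h, one_mul]; exact hcx
        · rw [h]
          calc c * (z * x) = (c * z) * x := by group
            _ = (z * c) * x := by rw [hcz]
            _ = z * (c * x) := by group
            _ = z * (x * c) := by rw [hcx]
            _ = (z * x) * c := by group
      calc (a * c * a⁻¹ * c⁻¹) * x = a * c * a⁻¹ * (c⁻¹ * x) := by group
        _ = a * c * a⁻¹ * (x * c⁻¹) := by rw [hcxinv]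
        _ = a * (c * (a⁻¹ * x * a)) * a⁻¹ * c⁻¹ := by group
        _ = a * (c * (d * x)) * a⁻¹ * c⁻¹ := by rw [hdx]
        _ = a * ((d * x) * c) * a⁻¹ * c⁻¹ := by rw [hcd]
        _ = a * ((a⁻¹ * x * a) * c) * a⁻¹ * c⁻¹ := by rw [hdx]
        _ = x * (a * c * a⁻¹ * c⁻¹) := by group

/-! ### `S₃` -/

theorem fin3_forall {P : Fin 3 → Prop} (h0 : P 0) (h1 : P 1) (h2 : P 2) : ∀ i, P i := by
  intro i
  fin_cases i
  · exact h0
  · exact h1
  · exact h2

theorem perm3_cases : ∀ σ : Equiv.Perm (Fin 3), σ = 1 ∨ σ = Equiv.swap 1 2 ∨ σ = Equiv.swap 0 2 ∨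
    σ = Equiv.swap 1 2 * Equiv.swap 0 2 ∨ σ = Equiv.swap 0 2 * Equiv.swap 1 2 ∨
    σ = Equiv.swap 1 2 * Equiv.swap 0 2 * Equiv.swap 1 2 := by decide

theorem perm3_order : ∀ σ : Equiv.Perm (Fin 3), σ * σ = 1 ∨ σ * σ * σ = 1 := by decide

set_option maxRecDepth 100000 in
theorem perm3_conj : ∀ σ : Equiv.Perm (Fin 3), σ * σ = 1 → σ ≠ 1 →
    ∃ ρ : Equiv.Perm (Fin 3), (σ * (ρ * σ * ρ⁻¹)) * (σ * (ρ * σ * ρ⁻¹)) ≠ 1 := by decide

theorem s3_normal_two_eq_bot (H : Subgroup (Equiv.Perm (Fin 3))) (hn : H.Normal)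
    (hH : IsPGroup 2 H) : H = ⊥ := by
  have sq : ∀ σ ∈ H, σ * σ = 1 := by
    intro σ hσ
    obtain ⟨k, hk⟩ := hH ⟨σ, hσ⟩
    have hk' : σ ^ (2 ^ k) = 1 := by
      have := congrArg Subtype.val hk
      simpa using this
    rcases perm3_order σ with h | h
    · exact h
    · have h3 : σ ^ 3 = 1 := by rw [pow_succ, pow_two]; exact h
      have hc : Nat.Coprime 3 (2 ^ k) := Nat.Coprime.pow_right k (by norm_num)
      have hg : σ = 1 := (pow_eq_one_iff_of_coprime hc).mp ⟨h3, hk'⟩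
      rw [hg]; exact mul_one 1
  rw [eq_bot_iff]
  intro σ hσ
  rw [Subgroup.mem_bot]
  by_contra hne
  obtain ⟨ρ, hρ⟩ := perm3_conj σ (sq σ hσ) hne
  exact hρ (sq _ (H.mul_mem hσ (hn.conj_mem σ hσ ρ)))

/-! ### the action of `N(V)` on the nonidentity elements of `V` -/

/-- conjugation by an element of `N(V)` as a permutation of the nonidentity elements of `V` -/
def conjPerm (V : Subgroup G) (n : ↥(Subgroup.normalizer (V : Set G))) :
    Equiv.Perm {v : G // v ∈ V ∧ v ≠ 1} where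
  toFun t := ⟨(n : G) * t.1 * (n : G)⁻¹,
    (Subgroup.mem_normalizer_iff.mp n.2 t.1).mp t.2.1,
    fun h => t.2.2 (conj_eq_one_iff.mp h)⟩
  invFun t := ⟨(n : G)⁻¹ * t.1 * (n : G),
    (Subgroup.mem_normalizer_iff''.mp n.2 t.1).mp t.2.1,
    fun h => t.2.2 (by
      have h2 : t.1 = (n : G) * ((n : G)⁻¹ * t.1 * (n : G)) * (n : G)⁻¹ := by group
      rw [h2, h]; group)⟩
  left_inv t := by
    apply Subtype.ext
    show (n : G)⁻¹ * ((n : G) * t.1 * (n : G)⁻¹) * (n : G) = t.1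
    group
  right_inv t := by
    apply Subtype.ext
    show (n : G) * ((n : G)⁻¹ * t.1 * (n : G)) * (n : G)⁻¹ = t.1
    group

/-- the conjugation action as a homomorphism -/
def conjHom (V : Subgroup G) :
    ↥(Subgroup.normalizer (V : Set G)) →* Equiv.Perm {v : G // v ∈ V ∧ v ≠ 1} :=
  MonoidHom.mk' (conjPerm V) (by
    intro a b
    apply Equiv.ext
    intro t
    apply Subtype.ext
    show ((a * b : ↥(Subgroup.normalizer (V : Set G))) : G) * t.1 *
        ((a * b : ↥(Subgroup.normalizer (V : Set G))) : G)⁻¹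
      = (a : G) * ((b : G) * t.1 * (b : G)⁻¹) * (a : G)⁻¹
    rw [Subgroup.coe_mul]
    group)

theorem conjHom_apply (V : Subgroup G) (n : ↥(Subgroup.normalizer (V : Set G)))
    (t : {v : G // v ∈ V ∧ v ≠ 1}) : ((conjHom V n) t).1 = (n : G) * t.1 * (n : G)⁻¹ := rfl

/-! ### coset representatives -/

abbrev InW (y q w : G) : Prop :=
  w = 1 ∨ w = y ∨ w = q ∨ w = y * q ∨ w = q * y ∨ w = y * q * y

abbrev InWR (y q : G) (R : Subgroup G) (a : G) : Prop :=
  ∃ w, InW y q w ∧ ∃ r ∈ R, a = w * r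

theorem inW1 (y q : G) : InW y q 1 := Or.inl rfl
theorem inW2 (y q : G) : InW y q y := Or.inr (Or.inl rfl)
theorem inW3 (y q : G) : InW y q q := Or.inr (Or.inr (Or.inl rfl))
theorem inW4 (y q : G) : InW y q (y * q) := Or.inr (Or.inr (Or.inr (Or.inl rfl)))
theorem inW5 (y q : G) : InW y q (q * y) := Or.inr (Or.inr (Or.inr (Or.inr (Or.inl rfl))))
theorem inW6 (y q : G) : InW y q (y * q * y) := Or.inr (Or.inr (Or.inr (Or.inr (Or.inr rfl))))

/-- `X = ⟨Q, Q^g⟩` modulo `R` is `S₃`, acting faithfully on `V`. -/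
theorem large_X [Finite G] {Q : Subgroup G} {z : G} (Fz : Facts Q z) (pQ : IsPGroup 2 ↥Q)
    (n1 : ∀ c, c * z = z * c → ∀ q ∈ Q, c * q * c⁻¹ ∈ Q)
    (g : G) (hgz : g * z * g⁻¹ ≠ z) (hgQ : g * z * g⁻¹ ∈ Q) (V X R : Subgroup G)
    (hV : V = Subgroup.closure ({z, g * z * g⁻¹} : Set G))
    (hX : X = Q ⊔ Q.map (MulAut.conj g).toMonoidHom)
    (hR : R = (Q.map (MulAut.conj g).toMonoidHom ⊓ Subgroup.centralizer ({z} : Set G)) ⊔
      (Q ⊓ Subgroup.centralizer ({g * z * g⁻¹} : Set G))) :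
    R = X ⊓ Subgroup.centralizer (V : Set G) ∧
    R = (Cfsg.pCore 2 ↥X).map X.subtype ∧
    (∃ h : (R.subgroupOf X).Normal, Nonempty (↥X ⧸ R.subgroupOf X ≃* Equiv.Perm (Fin 3))) ∧
    Subgroup.normalizer (V : Set G) =
      X ⊔ (Subgroup.centralizer ({z} : Set G) ⊓ Subgroup.centralizer (V : Set G)) ∧
    (∀ n ∈ Subgroup.normalizer (V : Set G), ∀ a ∈ X, n * a * n⁻¹ ∈ X) ∧
    R ≤ Subgroup.centralizer ({z} : Set G) ⊓ Subgroup.centralizer (V : Set G) ∧
    (∀ a ∈ X, ∀ c ∈ Subgroup.centralizer ({z} : Set G) ⊓ Subgroup.centralizer (V : Set G),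
      a * c * a⁻¹ * c⁻¹ ∈ R) ∧
    X ⊓ (Subgroup.centralizer ({z} : Set G) ⊓ Subgroup.centralizer (V : Set G)) = R := by
  classical
  have : Fact (Nat.Prime 2) := ⟨Nat.prime_two⟩
  obtain ⟨x, hxdef⟩ : ∃ x, x = g * z * g⁻¹ := ⟨_, rfl⟩
  obtain ⟨Q', hQ'def⟩ : ∃ Q' : Subgroup G, Q' = Q.map (MulAut.conj g).toMonoidHom := ⟨_, rfl⟩
  have Fx : Facts Q' x := by rw [hQ'def, hxdef]; exact facts_map Fz g
  have pQ' : IsPGroup 2 ↥Q' := by rw [hQ'def]; exact pQ.map _
  have hQ'mem : ∀ q, q ∈ Q' ↔ g⁻¹ * q * g ∈ Q := by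
    intro q; rw [hQ'def]; exact mem_map_conj
  rw [← hxdef] at hgz hgQ hV hR
  rw [← hQ'def] at hX hR
  have hxz : x ≠ z := hgz
  have hxQ : x ∈ Q := hgQ
  have hzz : z * z = 1 := Fz.two
  have hxx : x * x = 1 := Fx.two
  have hz1 : z ≠ 1 := Fz.ne
  have hx1 : x ≠ 1 := Fx.ne
  have hxzc : x * z = z * x := Fz.cent x hxQ
  -- Q' is normal in C(x)
  have n2 : ∀ c, c * x = x * c → ∀ q ∈ Q', c * q * c⁻¹ ∈ Q' := by
    intro c hc q hq
    have hq0 := (hQ'mem q).mp hq
    have hc' : (g⁻¹ * c * g) * z = z * (g⁻¹ * c * g) := by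
      calc (g⁻¹ * c * g) * z = g⁻¹ * (c * (g * z * g⁻¹)) * g := by group
        _ = g⁻¹ * (c * x) * g := by rw [hxdef]
        _ = g⁻¹ * (x * c) * g := by rw [hc]
        _ = g⁻¹ * ((g * z * g⁻¹) * c) * g := by rw [hxdef]
        _ = z * (g⁻¹ * c * g) := by group
    have := n1 _ hc' _ hq0
    rw [hQ'mem]
    have e : g⁻¹ * (c * q * c⁻¹) * g = (g⁻¹ * c * g) * (g⁻¹ * q * g) * (g⁻¹ * c * g)⁻¹ := by
      group
    rw [e]; exact this
  -- transport
  have tr : ∀ d, d * z * d⁻¹ = x → ∀ q, q ∈ Q' ↔ d⁻¹ * q * d ∈ Q := by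
    intro d hd q
    have hc : (g⁻¹ * d) * z = z * (g⁻¹ * d) := by
      have h1 : (g⁻¹ * d) * z * (g⁻¹ * d)⁻¹ = z := by
        calc (g⁻¹ * d) * z * (g⁻¹ * d)⁻¹ = g⁻¹ * (d * z * d⁻¹) * g := by group
          _ = g⁻¹ * (g * z * g⁻¹) * g := by rw [hd, hxdef]
          _ = z := by group
      calc (g⁻¹ * d) * z = ((g⁻¹ * d) * z * (g⁻¹ * d)⁻¹) * (g⁻¹ * d) := by group
        _ = z * (g⁻¹ * d) := by rw [h1]
    have hc' : (g⁻¹ * d)⁻¹ * z = z * (g⁻¹ * d)⁻¹ := ((show Commute (g⁻¹ * d) z from hc).inv_left).eq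
    rw [hQ'mem]
    constructor
    · intro h
      have := n1 _ hc' _ h
      have e : (g⁻¹ * d)⁻¹ * (g⁻¹ * q * g) * (g⁻¹ * d)⁻¹⁻¹ = d⁻¹ * q * d := by group
      rwa [e] at this
    · intro h
      have := n1 _ hc _ h
      have e : (g⁻¹ * d) * (d⁻¹ * q * d) * (g⁻¹ * d)⁻¹ = g⁻¹ * q * g := by group
      rwa [e] at this
  have hzQ' : z ∈ Q' := orth_symm' Fz Fx n1 n2 pQ pQ' tr hxQ
  have hzQ : z ∈ Q := Fz.mem
  have hxQ' : x ∈ Q' := Fx.mem
  -- the subgroups
  obtain ⟨P, hPdef⟩ : ∃ P : Subgroup G, P = Q ⊓ Subgroup.centralizer ({x} : Set G) := ⟨_, rfl⟩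
  obtain ⟨P', hP'def⟩ : ∃ P' : Subgroup G, P' = Q' ⊓ Subgroup.centralizer ({z} : Set G) :=
    ⟨_, rfl⟩
  rw [← hPdef, ← hP'def] at hR
  have hPmem : ∀ p, p ∈ P ↔ (p ∈ Q ∧ p * x = x * p) := by
    intro p; rw [hPdef, Subgroup.mem_inf, mem_cent_singleton]
  have hP'mem : ∀ p, p ∈ P' ↔ (p ∈ Q' ∧ p * z = z * p) := by
    intro p; rw [hP'def, Subgroup.mem_inf, mem_cent_singleton]
  have hVmem : ∀ v, v ∈ V ↔ InD x z v := by
    intro v; rw [hV]; exact mem_V_iff hxx hzz hxzc v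
  have hCVmem : ∀ c, c ∈ Subgroup.centralizer (V : Set G) ↔ (c * z = z * c ∧ c * x = x * c) := by
    intro c; rw [hV]; exact mem_cent_V_iff
  have hCV2 : ∀ c, c ∈ Subgroup.centralizer ({z} : Set G) ⊓ Subgroup.centralizer (V : Set G) ↔
      (c * z = z * c ∧ c * x = x * c) := by
    intro c
    rw [Subgroup.mem_inf, hCVmem, mem_cent_singleton]
    constructor
    · rintro ⟨_, h⟩; exact h
    · intro h; exact ⟨h.1, h⟩
  have hcentV : ∀ c, c * z = z * c → c * x = x * c → ∀ v ∈ V, v * c = c * v := by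
    intro c h1 h2
    have := (hCVmem c).mpr ⟨h1, h2⟩
    rw [Subgroup.mem_centralizer_iff] at this
    exact this
  have hzV : z ∈ V := (hVmem z).mpr (Or.inr (Or.inr (Or.inl rfl)))
  have hxV : x ∈ V := (hVmem x).mpr (Or.inr (Or.inl rfl))
  have hxzV : x * z ∈ V := (hVmem _).mpr (Or.inr (Or.inr (Or.inr rfl)))
  have hQX : Q ≤ X := by rw [hX]; exact le_sup_left
  have hQ'X : Q' ≤ X := by rw [hX]; exact le_sup_right
  have hPR : P ≤ R := by rw [hR]; exact le_sup_right
  have hP'R : P' ≤ R := by rw [hR]; exact le_sup_left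
  have hRz : ∀ r ∈ R, r * z = z * r := by
    intro r hr
    have hle : P' ⊔ P ≤ Subgroup.centralizer ({z} : Set G) := by
      apply sup_le
      · intro p hp; rw [mem_cent_singleton]; exact ((hP'mem p).mp hp).2
      · intro p hp; rw [mem_cent_singleton]; exact Fz.cent p ((hPmem p).mp hp).1
    have hr' : r ∈ P' ⊔ P := by rw [← hR]; exact hr
    exact mem_cent_singleton.mp (hle hr')
  have hRx : ∀ r ∈ R, r * x = x * r := by
    intro r hr
    have hle : P' ⊔ P ≤ Subgroup.centralizer ({x} : Set G) := by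
      apply sup_le
      · intro p hp; rw [mem_cent_singleton]; exact Fx.cent p ((hP'mem p).mp hp).1
      · intro p hp; rw [mem_cent_singleton]; exact ((hPmem p).mp hp).2
    have hr' : r ∈ P' ⊔ P := by rw [← hR]; exact hr
    exact mem_cent_singleton.mp (hle hr')
  have hRX : R ≤ X := by
    have hle : P' ⊔ P ≤ X := by
      apply sup_le
      · intro p hp; exact hQ'X ((hP'mem p).mp hp).1
      · intro p hp; exact hQX ((hPmem p).mp hp).1
    intro r hr
    have hr' : r ∈ P' ⊔ P := by rw [← hR]; exact hr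
    exact hle hr'
  -- P' normalises P
  have hP'P : ∀ h ∈ P', ∀ k ∈ P, h * k * h⁻¹ ∈ P := by
    intro h hh k hk
    obtain ⟨hh1, hh2⟩ := (hP'mem h).mp hh
    obtain ⟨hk1, hk2⟩ := (hPmem k).mp hk
    refine (hPmem _).mpr ⟨n1 h hh2 k hk1, ?_⟩
    have hhx : h * x = x * h := Fx.cent h hh1
    have hhx' : h⁻¹ * x = x * h⁻¹ := ((show Commute h x from hhx).inv_left).eq
    calc h * k * h⁻¹ * x = h * k * (h⁻¹ * x) := by group
      _ = h * k * (x * h⁻¹) := by rw [hhx']
      _ = h * (k * x) * h⁻¹ := by group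
      _ = h * (x * k) * h⁻¹ := by rw [hk2]
      _ = (h * x) * k * h⁻¹ := by group
      _ = (x * h) * k * h⁻¹ := by rw [hhx]
      _ = x * (h * k * h⁻¹) := by group
  -- conjugation by generators preserves R
  have hgenQ : ∀ a ∈ Q, ∀ r ∈ R, a * r * a⁻¹ ∈ R := by
    intro a ha r hr
    obtain ⟨c1, c2⟩ := conj_gen Fz n1 hxQ ha
    have hle : P' ⊔ P ≤ R.comap (MulAut.conj a).toMonoidHom := by
      apply sup_le
      · intro p' hp'
        obtain ⟨hp'1, hp'2⟩ := (hP'mem p').mp hp'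
        rw [Subgroup.mem_comap]
        show a * p' * a⁻¹ ∈ R
        obtain ⟨h1, h2⟩ := c2 p' hp'2 (Fx.cent p' hp'1)
        have e : a * p' * a⁻¹ = (a * p' * a⁻¹ * p'⁻¹) * p' := by group
        rw [e]
        exact R.mul_mem (hPR ((hPmem _).mpr ⟨h1, h2⟩)) (hP'R hp')
      · intro p hp
        obtain ⟨hp1, hp2⟩ := (hPmem p).mp hp
        rw [Subgroup.mem_comap]
        show a * p * a⁻¹ ∈ R
        obtain ⟨h1, h2⟩ := c1 p hp1 hp2
        exact hPR ((hPmem _).mpr ⟨h1, h2⟩)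
    have hr' : r ∈ P' ⊔ P := by rw [← hR]; exact hr
    have := hle hr'
    rw [Subgroup.mem_comap] at this
    exact this
  have hgenQ' : ∀ a ∈ Q', ∀ r ∈ R, a * r * a⁻¹ ∈ R := by
    intro a ha r hr
    obtain ⟨c1, c2⟩ := conj_gen Fx n2 hzQ' ha
    have hle : P' ⊔ P ≤ R.comap (MulAut.conj a).toMonoidHom := by
      apply sup_le
      · intro p' hp'
        obtain ⟨hp'1, hp'2⟩ := (hP'mem p').mp hp'
        rw [Subgroup.mem_comap]
        show a * p' * a⁻¹ ∈ R
        obtain ⟨h1, h2⟩ := c1 p' hp'1 hp'2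
        exact hP'R ((hP'mem _).mpr ⟨h1, h2⟩)
      · intro p hp
        obtain ⟨hp1, hp2⟩ := (hPmem p).mp hp
        rw [Subgroup.mem_comap]
        show a * p * a⁻¹ ∈ R
        obtain ⟨h1, h2⟩ := c2 p hp2 (Fz.cent p hp1)
        have e : a * p * a⁻¹ = (a * p * a⁻¹ * p⁻¹) * p := by group
        rw [e]
        exact R.mul_mem (hP'R ((hP'mem _).mpr ⟨h1, h2⟩)) (hPR hp)
    have hr' : r ∈ P' ⊔ P := by rw [← hR]; exact hr
    have := hle hr'
    rw [Subgroup.mem_comap] at this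
    exact this
  have hXsup : Q ⊔ Q' = ⨆ b : Bool, cond b Q Q' := (iSup_bool_eq (f := fun b => cond b Q Q')).symm
  have hRn : ∀ a ∈ X, ∀ r ∈ R, a * r * a⁻¹ ∈ R := by
    intro a ha
    rw [hX, hXsup] at ha
    refine Subgroup.iSup_induction (fun b => cond b Q Q')
      (C := fun a => ∀ r ∈ R, a * r * a⁻¹ ∈ R) ha ?_ ?_ ?_
    · intro b a hab
      cases b with
      | false => exact hgenQ' a hab
      | true => exact hgenQ a hab
    · intro r hr
      have e : (1 : G) * r * 1⁻¹ = r := by group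
      rw [e]; exact hr
    · intro a b iha ihb r hr
      have e : (a * b) * r * (a * b)⁻¹ = a * (b * r * b⁻¹) * a⁻¹ := by group
      rw [e]; exact iha _ (ihb r hr)
  have hRn' : ∀ a ∈ X, ∀ r ∈ R, a⁻¹ * r * a ∈ R := by
    intro a ha r hr
    have := hRn a⁻¹ (X.inv_mem ha) r hr
    rwa [inv_inv] at this
  -- the two transposition-like elements
  obtain ⟨y, hyQ, hyx⟩ := Fz.swap hxQ hx1 hxz
  obtain ⟨q, hqQ', hqz⟩ := Fx.swap hzQ' hz1 (Ne.symm hxz)
  have hyX : y ∈ X := hQX hyQ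
  have hqX : q ∈ X := hQ'X hqQ'
  have hyz : y * z = z * y := Fz.cent y hyQ
  have hqx : q * x = x * q := Fx.cent q hqQ'
  have hyz' : y * z * y⁻¹ = z := by rw [hyz, mul_inv_cancel_right]
  have hqx' : q * x * q⁻¹ = x := by rw [hqx, mul_inv_cancel_right]
  have hyxz : y * (x * z) * y⁻¹ = x := by
    calc y * (x * z) * y⁻¹ = (y * x * y⁻¹) * (y * z * y⁻¹) := by group
      _ = (z * x) * z := by rw [hyx, hyz']
      _ = (x * z) * z := by rw [← hxzc]
      _ = x * (z * z) := by group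
      _ = x := by rw [hzz, mul_one]
  have hqxz : q * (x * z) * q⁻¹ = z := by
    calc q * (x * z) * q⁻¹ = (q * x * q⁻¹) * (q * z * q⁻¹) := by group
      _ = x * (x * z) := by rw [hqx', hqz]
      _ = (x * x) * z := by group
      _ = z := by rw [hxx, one_mul]
  have hqzx : q * (z * x) * q⁻¹ = z := by rw [← hxzc]; exact hqxz
  have hyinvx : y⁻¹ * x * y = z * x := inv_conj_swap hzz hyz hyx
  have hyinvz : y⁻¹ * z * y = z := by
    calc y⁻¹ * z * y = y⁻¹ * (z * y) := by group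
      _ = y⁻¹ * (y * z) := by rw [hyz]
      _ = z := by group
  have hqinvx : q⁻¹ * x * q = x := by
    calc q⁻¹ * x * q = q⁻¹ * (x * q) := by group
      _ = q⁻¹ * (q * x) := by rw [hqx]
      _ = x := by group
  have hhx : (q * y) * x * (q * y)⁻¹ = z := by
    calc (q * y) * x * (q * y)⁻¹ = q * (y * x * y⁻¹) * q⁻¹ := by group
      _ = q * (z * x) * q⁻¹ := by rw [hyx]
      _ = z := hqzx
  have hhz : (q * y) * z * (q * y)⁻¹ = x * z := by
    calc (q * y) * z * (q * y)⁻¹ = q * (y * z * y⁻¹) * q⁻¹ := by group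
      _ = q * z * q⁻¹ := by rw [hyz']
      _ = x * z := hqz
  have hhinvx : (q * y)⁻¹ * x * (q * y) = z * x := by
    calc (q * y)⁻¹ * x * (q * y) = y⁻¹ * (q⁻¹ * x * q) * y := by group
      _ = y⁻¹ * x * y := by rw [hqinvx]
      _ = z * x := hyinvx
  have hy2 : y * y ∈ R := by
    apply hPR
    rw [hPmem]
    refine ⟨Q.mul_mem hyQ hyQ, ?_⟩
    have h1 : y * x = z * x * y := by
      calc y * x = (y * x * y⁻¹) * y := by group
        _ = z * x * y := by rw [hyx]
    calc (y * y) * x = y * (y * x) := by group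
      _ = y * (z * x * y) := by rw [h1]
      _ = (y * z) * x * y := by group
      _ = (z * y) * x * y := by rw [hyz]
      _ = z * (y * x) * y := by group
      _ = z * (z * x * y) * y := by rw [h1]
      _ = (z * z) * x * (y * y) := by group
      _ = x * (y * y) := by rw [hzz, one_mul]
  have hq2 : q * q ∈ R := by
    apply hP'R
    rw [hP'mem]
    refine ⟨Q'.mul_mem hqQ' hqQ', ?_⟩
    have h1 : q * z = x * z * q := by
      calc q * z = (q * z * q⁻¹) * q := by group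
        _ = x * z * q := by rw [hqz]
    calc (q * q) * z = q * (q * z) := by group
      _ = q * (x * z * q) := by rw [h1]
      _ = (q * x) * z * q := by group
      _ = (x * q) * z * q := by rw [hqx]
      _ = x * (q * z) * q := by group
      _ = x * (x * z * q) * q := by rw [h1]
      _ = (x * x) * z * (q * q) := by group
      _ = z * (q * q) := by rw [hxx, one_mul]
  -- the braid relation
  have hb : (y * q * y)⁻¹ * (q * y * q) ∈ R := by
    have hd : (q * y)⁻¹ * z * ((q * y)⁻¹)⁻¹ = x := by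
      calc (q * y)⁻¹ * z * ((q * y)⁻¹)⁻¹
          = (q * y)⁻¹ * ((q * y) * x * (q * y)⁻¹) * (q * y) := by rw [hhx, inv_inv]
        _ = x := by group
    have hu : (q * y) * q * (q * y)⁻¹ ∈ Q := by
      have := (tr _ hd q).mp hqQ'
      rwa [inv_inv] at this
    have hconj : (y⁻¹ * ((q * y) * q * (q * y)⁻¹)) * x * (y⁻¹ * ((q * y) * q * (q * y)⁻¹))⁻¹ = x := by
      calc (y⁻¹ * ((q * y) * q * (q * y)⁻¹)) * x * (y⁻¹ * ((q * y) * q * (q * y)⁻¹))⁻¹
          = y⁻¹ * ((q * y) * (q * ((q * y)⁻¹ * x * (q * y)) * q⁻¹) * (q * y)⁻¹) * y := by group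
        _ = y⁻¹ * ((q * y) * (q * (z * x) * q⁻¹) * (q * y)⁻¹) * y := by rw [hhinvx]
        _ = y⁻¹ * ((q * y) * z * (q * y)⁻¹) * y := by rw [hqzx]
        _ = y⁻¹ * (x * z) * y := by rw [hhz]
        _ = (y⁻¹ * x * y) * (y⁻¹ * z * y) := by group
        _ = (z * x) * z := by rw [hyinvx, hyinvz]
        _ = (x * z) * z := by rw [← hxzc]
        _ = x * (z * z) := by group
        _ = x := by rw [hzz, mul_one]
    have hmemP : y⁻¹ * ((q * y) * q * (q * y)⁻¹) ∈ P :=
      (hPmem _).mpr ⟨Q.mul_mem (Q.inv_mem hyQ) hu, comm_of_conj hconj⟩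
    have e : (y * q * y)⁻¹ * (q * y * q)
        = (q * y)⁻¹ * (y⁻¹ * ((q * y) * q * (q * y)⁻¹)) * (q * y) := by group
    rw [e]
    exact hRn' _ (X.mul_mem hqX hyX) _ (hPR hmemP)
  -- coset enumeration
  have hWX : ∀ w, InW y q w → w ∈ X := by
    intro w hw
    rcases hw with h | h | h | h | h | h
    · rw [h]; exact X.one_mem
    · rw [h]; exact hyX
    · rw [h]; exact hqX
    · rw [h]; exact X.mul_mem hyX hqX
    · rw [h]; exact X.mul_mem hqX hyX
    · rw [h]; exact X.mul_mem (X.mul_mem hyX hqX) hyX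
  have tabY : ∀ w, InW y q w → ∃ w', InW y q w' ∧ ∃ r ∈ R, y * w = w' * r := by
    intro w hw
    rcases hw with h | h | h | h | h | h
    · exact ⟨y, inW2 y q, 1, R.one_mem, by rw [h]⟩
    · exact ⟨1, inW1 y q, y * y, hy2, by rw [h, one_mul]⟩
    · exact ⟨y * q, inW4 y q, 1, R.one_mem, by rw [h, mul_one]⟩
    · exact ⟨q, inW3 y q, q⁻¹ * (y * y) * q, hRn' q hqX _ hy2, by rw [h]; group⟩
    · exact ⟨y * q * y, inW6 y q, 1, R.one_mem, by rw [h]; group⟩
    · exact ⟨q * y, inW5 y q, (q * y)⁻¹ * (y * y) * (q * y),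
        hRn' (q * y) (X.mul_mem hqX hyX) _ hy2, by rw [h]; group⟩
  have tabQ : ∀ w, InW y q w → ∃ w', InW y q w' ∧ ∃ r ∈ R, q * w = w' * r := by
    intro w hw
    rcases hw with h | h | h | h | h | h
    · exact ⟨q, inW3 y q, 1, R.one_mem, by rw [h]⟩
    · exact ⟨q * y, inW5 y q, 1, R.one_mem, by rw [h, mul_one]⟩
    · exact ⟨1, inW1 y q, q * q, hq2, by rw [h, one_mul]⟩
    · exact ⟨y * q * y, inW6 y q, (y * q * y)⁻¹ * (q * y * q), hb, by rw [h]; group⟩
    · exact ⟨y, inW2 y q, y⁻¹ * (q * q) * y, hRn' y hyX _ hq2, by rw [h]; group⟩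
    · have hmem : y * ((y * q * y)⁻¹ * (q * y * q)) * y ∈ R := by
        have e : y * ((y * q * y)⁻¹ * (q * y * q)) * y
            = (y * y) * (y⁻¹ * ((y * q * y)⁻¹ * (q * y * q)) * y) := by group
        rw [e]
        exact R.mul_mem hy2 (hRn' y hyX _ hb)
      exact ⟨y * q, inW4 y q, y * ((y * q * y)⁻¹ * (q * y * q)) * y, hmem, by rw [h]; group⟩
  have stepY : ∀ a, InWR y q R a → InWR y q R (y * a) := by
    rintro a ⟨w, hw, r0, hr0, rfl⟩
    obtain ⟨w', hw', r, hr, e⟩ := tabY w hw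
    refine ⟨w', hw', r * r0, R.mul_mem hr hr0, ?_⟩
    calc y * (w * r0) = (y * w) * r0 := by group
      _ = (w' * r) * r0 := by rw [e]
      _ = w' * (r * r0) := by group
  have stepQ : ∀ a, InWR y q R a → InWR y q R (q * a) := by
    rintro a ⟨w, hw, r0, hr0, rfl⟩
    obtain ⟨w', hw', r, hr, e⟩ := tabQ w hw
    refine ⟨w', hw', r * r0, R.mul_mem hr hr0, ?_⟩
    calc q * (w * r0) = (q * w) * r0 := by group
      _ = (w' * r) * r0 := by rw [e]
      _ = w' * (r * r0) := by group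
  have stepR : ∀ u ∈ R, ∀ a, InWR y q R a → InWR y q R (u * a) := by
    rintro u hu a ⟨w, hw, r0, hr0, rfl⟩
    refine ⟨w, hw, (w⁻¹ * u * w) * r0, R.mul_mem (hRn' w (hWX w hw) u hu) hr0, ?_⟩
    group
  have stepQa : ∀ u ∈ Q, ∀ a, InWR y q R a → InWR y q R (u * a) := by
    intro u hu a ha
    by_cases hux : u * x = x * u
    · exact stepR u (hPR ((hPmem u).mpr ⟨hu, hux⟩)) a ha
    · have h1 := coset_two Fz hxQ hyQ hyx u hu hux
      have h2 : y⁻¹ * u ∈ R := hPR ((hPmem _).mpr ⟨Q.mul_mem (Q.inv_mem hyQ) hu, h1⟩)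
      have e : u * a = y * ((y⁻¹ * u) * a) := by group
      rw [e]
      exact stepY _ (stepR _ h2 a ha)
  have stepQ'a : ∀ u ∈ Q', ∀ a, InWR y q R a → InWR y q R (u * a) := by
    intro u hu a ha
    by_cases huz : u * z = z * u
    · exact stepR u (hP'R ((hP'mem u).mpr ⟨hu, huz⟩)) a ha
    · have h1 := coset_two Fx hzQ' hqQ' hqz u hu huz
      have h2 : q⁻¹ * u ∈ R := hP'R ((hP'mem _).mpr ⟨Q'.mul_mem (Q'.inv_mem hqQ') hu, h1⟩)
      have e : u * a = q * ((q⁻¹ * u) * a) := by group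
      rw [e]
      exact stepQ _ (stepR _ h2 a ha)
  have henum : ∀ a ∈ X, InWR y q R a := by
    intro a ha
    rw [hX, Subgroup.sup_eq_closure] at ha
    induction ha using Subgroup.closure_induction_left with
    | one => exact ⟨1, inW1 y q, 1, R.one_mem, (mul_one 1).symm⟩
    | mul_left u hu a _ ih =>
      rcases hu with hu | hu
      · exact stepQa u hu a ih
      · exact stepQ'a u hu a ih
    | inv_mul_cancel u hu a _ ih =>
      rcases hu with hu | hu
      · exact stepQa u⁻¹ (Q.inv_mem hu) a ih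
      · exact stepQ'a u⁻¹ (Q'.inv_mem hu) a ih
  -- the centraliser of V in X is R
  have hXC : ∀ a ∈ X, a * z = z * a → a * x = x * a → a ∈ R := by
    intro a ha haz hax
    obtain ⟨w, hw, r, hr, rfl⟩ := henum a ha
    have hwz : Commute w z := by
      have h := (show Commute (w * r) z from haz).mul_left
        ((show Commute r z from hRz r hr).inv_left)
      rwa [mul_inv_cancel_right] at h
    have hwx : Commute w x := by
      have h := (show Commute (w * r) x from hax).mul_left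
        ((show Commute r x from hRx r hr).inv_left)
      rwa [mul_inv_cancel_right] at h
    have hwz' : w * z * w⁻¹ = z := by rw [hwz.eq, mul_inv_cancel_right]
    have hwx' : w * x * w⁻¹ = x := by rw [hwx.eq, mul_inv_cancel_right]
    rcases hw with h | h | h | h | h | h
    · rw [h, one_mul]; exact hr
    · exfalso
      rw [h, hyx] at hwx'
      apply hz1
      have : z * x = 1 * x := by rw [one_mul]; exact hwx'
      exact mul_right_cancel this
    · exfalso
      rw [h, hqz] at hwz'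
      apply hx1
      have : x * z = 1 * z := by rw [one_mul]; exact hwz'
      exact mul_right_cancel this
    · exfalso
      rw [h] at hwz'
      apply hxz
      calc x = y * (x * z) * y⁻¹ := hyxz.symm
        _ = y * (q * z * q⁻¹) * y⁻¹ := by rw [hqz]
        _ = (y * q) * z * (y * q)⁻¹ := by group
        _ = z := hwz'
    · exfalso
      rw [h] at hwx'
      apply hxz
      exact hwx'.symm.trans hhx
    · exfalso
      rw [h] at hwz'
      apply hxz
      calc x = y * (x * z) * y⁻¹ := hyxz.symm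
        _ = y * (q * z * q⁻¹) * y⁻¹ := by rw [hqz]
        _ = y * (q * (y * z * y⁻¹) * q⁻¹) * y⁻¹ := by rw [hyz']
        _ = (y * q * y) * z * (y * q * y)⁻¹ := by group
        _ = z := hwz'
  -- [X, C(V)] ≤ R
  have h7 : ∀ a ∈ X, ∀ c, c * z = z * c → c * x = x * c → a * c * a⁻¹ * c⁻¹ ∈ R := by
    intro a ha c hcz hcx
    rw [hX, hXsup] at ha
    have key : a ∈ X ∧ a * c * a⁻¹ * c⁻¹ ∈ R := by
      refine Subgroup.iSup_induction (fun b => cond b Q Q')
        (C := fun a => a ∈ X ∧ a * c * a⁻¹ * c⁻¹ ∈ R) ha ?_ ?_ ?_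
      · intro b a hab
        cases b with
        | false =>
          have haQ' : a ∈ Q' := hab
          obtain ⟨h1, h2⟩ := (conj_gen Fx n2 hzQ' haQ').2 c hcx hcz
          exact ⟨hQ'X haQ', hP'R ((hP'mem _).mpr ⟨h1, h2⟩)⟩
        | true =>
          have haQ : a ∈ Q := hab
          obtain ⟨h1, h2⟩ := (conj_gen Fz n1 hxQ haQ).2 c hcz hcx
          exact ⟨hQX haQ, hPR ((hPmem _).mpr ⟨h1, h2⟩)⟩
      · refine ⟨X.one_mem, ?_⟩
        have e : (1 : G) * c * 1⁻¹ * c⁻¹ = 1 := by group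
        rw [e]; exact R.one_mem
      · rintro a b ⟨ha1, ha2⟩ ⟨hb1, hb2⟩
        refine ⟨X.mul_mem ha1 hb1, ?_⟩
        have e : (a * b) * c * (a * b)⁻¹ * c⁻¹
            = (a * (b * c * b⁻¹ * c⁻¹) * a⁻¹) * (a * c * a⁻¹ * c⁻¹) := by group
        rw [e]; exact R.mul_mem (hRn a ha1 _ hb2) ha2
    exact key.2
  -- normalisers
  have hVnorm : ∀ a : G, a * z * a⁻¹ ∈ V → a * x * a⁻¹ ∈ V → ∀ v ∈ V, a * v * a⁻¹ ∈ V := by
    intro a haz hax v hv
    rcases (hVmem v).mp hv with h | h | h | h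
    · rw [h]
      have e : a * 1 * a⁻¹ = 1 := by group
      rw [e]; exact V.one_mem
    · rw [h]; exact hax
    · rw [h]; exact haz
    · rw [h]
      have e : a * (x * z) * a⁻¹ = (a * x * a⁻¹) * (a * z * a⁻¹) := by group
      rw [e]; exact V.mul_mem hax haz
  have hNmem : ∀ n, n ∈ Subgroup.normalizer (V : Set G) ↔
      ((∀ v ∈ V, n * v * n⁻¹ ∈ V) ∧ (∀ v ∈ V, n⁻¹ * v * n ∈ V)) := by
    intro n
    rw [Subgroup.mem_normalizer_iff]
    constructor
    · intro h
      refine ⟨fun v hv => (h v).mp hv, fun v hv => ?_⟩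
      apply (h _).mpr
      have e : n * (n⁻¹ * v * n) * n⁻¹ = v := by group
      rw [e]; exact hv
    · rintro ⟨h1, h2⟩ v
      constructor
      · exact h1 v
      · intro hv
        have := h2 _ hv
        have e : n⁻¹ * (n * v * n⁻¹) * n = v := by group
        rwa [e] at this
  have hXnormV : ∀ a ∈ X, ∀ v ∈ V, a * v * a⁻¹ ∈ V := by
    intro a ha
    rw [hX, hXsup] at ha
    refine Subgroup.iSup_induction (fun b => cond b Q Q')
      (C := fun a => ∀ v ∈ V, a * v * a⁻¹ ∈ V) ha ?_ ?_ ?_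
    · intro b a hab
      cases b with
      | false =>
        have haQ' : a ∈ Q' := hab
        apply hVnorm
        · have e1 : a * z * a⁻¹ = (a * z * a⁻¹ * z⁻¹) * z := by group
          rcases Fx.comm a haQ' z hzQ' with h | h
          · rw [e1, h, one_mul]; exact hzV
          · rw [e1, h]; exact hxzV
        · have : a * x * a⁻¹ = x := by rw [Fx.cent a haQ', mul_inv_cancel_right]
          rw [this]; exact hxV
      | true =>
        have haQ : a ∈ Q := hab
        apply hVnorm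
        · have : a * z * a⁻¹ = z := by rw [Fz.cent a haQ, mul_inv_cancel_right]
          rw [this]; exact hzV
        · have e1 : a * x * a⁻¹ = (a * x * a⁻¹ * x⁻¹) * x := by group
          rcases Fz.comm a haQ x hxQ with h | h
          · rw [e1, h, one_mul]; exact hxV
          · rw [e1, h, ← hxzc]; exact hxzV
    · intro v hv
      have e : (1 : G) * v * 1⁻¹ = v := by group
      rw [e]; exact hv
    · intro a b iha ihb v hv
      have e : (a * b) * v * (a * b)⁻¹ = a * (b * v * b⁻¹) * a⁻¹ := by group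
      rw [e]; exact iha _ (ihb v hv)
  have hXN : X ≤ Subgroup.normalizer (V : Set G) := by
    intro a ha
    refine (hNmem a).mpr ⟨hXnormV a ha, fun v hv => ?_⟩
    have := hXnormV a⁻¹ (X.inv_mem ha) v hv
    rwa [inv_inv] at this
  have hCVN : ∀ c, c * z = z * c → c * x = x * c → c ∈ Subgroup.normalizer (V : Set G) := by
    intro c h1 h2
    have hc := hcentV c h1 h2
    refine (hNmem c).mpr ⟨fun v hv => ?_, fun v hv => ?_⟩
    · have e : c * v * c⁻¹ = v := by rw [← hc v hv, mul_inv_cancel_right]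
      rw [e]; exact hv
    · have e : c⁻¹ * v * c = v := by rw [mul_assoc, hc v hv, inv_mul_cancel_left]
      rw [e]; exact hv
  have hCVX : ∀ c, c * z = z * c → c * x = x * c → ∀ a ∈ X, c * a * c⁻¹ ∈ X := by
    intro c hcz hcx a ha
    have hle : Q ⊔ Q' ≤ X.comap (MulAut.conj c).toMonoidHom := by
      apply sup_le
      · intro u hu
        rw [Subgroup.mem_comap]
        show c * u * c⁻¹ ∈ X
        exact hQX (n1 c hcz u hu)
      · intro u hu
        rw [Subgroup.mem_comap]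
        show c * u * c⁻¹ ∈ X
        exact hQ'X (n2 c hcx u hu)
    have ha' : a ∈ Q ⊔ Q' := by rw [← hX]; exact ha
    have := hle ha'
    rw [Subgroup.mem_comap] at this
    exact this
  -- the action on V ∖ {1}
  have hxz1 : x * z ≠ 1 := by
    intro h
    apply hxz
    calc x = x * (z * z) := by rw [hzz, mul_one]
      _ = (x * z) * z := by group
      _ = z := by rw [h, one_mul]
  have d01 : z ≠ x := Ne.symm hxz
  have d02 : z ≠ x * z := by
    intro h
    apply hx1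
    have : x * z = 1 * z := by rw [one_mul]; exact h.symm
    exact mul_right_cancel this
  have d12 : x ≠ x * z := by
    intro h
    apply hz1
    have : x * z = x * 1 := by rw [mul_one]; exact h.symm
    exact mul_left_cancel this
  obtain ⟨f, hf0, hf1, hf2⟩ : ∃ f : Fin 3 → {v : G // v ∈ V ∧ v ≠ 1},
      (f 0).1 = z ∧ (f 1).1 = x ∧ (f 2).1 = x * z :=
    ⟨![⟨z, hzV, hz1⟩, ⟨x, hxV, hx1⟩, ⟨x * z, hxzV, hxz1⟩], rfl, rfl, rfl⟩
  have hfinj : ∀ i j : Fin 3, (f i).1 = (f j).1 → i = j := by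
    intro i j
    fin_cases i <;> fin_cases j
    · intro _; rfl
    · intro h; exact absurd (hf0.symm.trans (h.trans hf1)) d01
    · intro h; exact absurd (hf0.symm.trans (h.trans hf2)) d02
    · intro h; exact absurd (hf1.symm.trans (h.trans hf0)) hxz
    · intro _; rfl
    · intro h; exact absurd (hf1.symm.trans (h.trans hf2)) d12
    · intro h; exact absurd (hf2.symm.trans (h.trans hf0)) (Ne.symm d02)
    · intro h; exact absurd (hf2.symm.trans (h.trans hf1)) (Ne.symm d12)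
    · intro _; rfl
  have hfsurj : Function.Surjective f := by
    intro t
    rcases (hVmem t.1).mp t.2.1 with h | h | h | h
    · exact absurd h t.2.2
    · exact ⟨1, Subtype.ext (hf1.trans h.symm)⟩
    · exact ⟨0, Subtype.ext (hf0.trans h.symm)⟩
    · exact ⟨2, Subtype.ext (hf2.trans h.symm)⟩
  obtain ⟨e, he0, he1, he2⟩ : ∃ e : Fin 3 ≃ {v : G // v ∈ V ∧ v ≠ 1},
      (e 0).1 = z ∧ (e 1).1 = x ∧ (e 2).1 = x * z :=
    ⟨Equiv.ofBijective f ⟨fun i j h => hfinj i j (congrArg Subtype.val h), hfsurj⟩,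
      hf0, hf1, hf2⟩
  obtain ⟨ψ, hψ⟩ : ∃ ψ : ↥(Subgroup.normalizer (V : Set G)) →* Equiv.Perm (Fin 3),
      ∀ n i j, ψ n i = j ↔ (n : G) * (e i).1 * (n : G)⁻¹ = (e j).1 := by
    refine ⟨(e.symm.permCongrHom).toMonoidHom.comp (conjHom V), ?_⟩
    intro n i j
    show e.symm ((conjHom V n) (e i)) = j ↔ _
    rw [Equiv.symm_apply_eq, ← conjHom_apply V n (e i)]
    exact Subtype.ext_iff
  have hψ1 : ∀ n : ↥(Subgroup.normalizer (V : Set G)),
      ψ n = 1 ↔ ((n : G) * z = z * (n : G) ∧ (n : G) * x = x * (n : G)) := by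
    intro n
    constructor
    · intro h
      have h0 : ψ n 0 = 0 := by rw [h]; rfl
      have h1 : ψ n 1 = 1 := by rw [h]; rfl
      have h0' := (hψ n 0 0).mp h0
      have h1' := (hψ n 1 1).mp h1
      rw [he0] at h0'
      rw [he1] at h1'
      exact ⟨comm_of_conj h0', comm_of_conj h1'⟩
    · rintro ⟨h1, h2⟩
      apply Equiv.ext
      intro i
      rw [Equiv.Perm.one_apply, hψ]
      have hc := hcentV (n : G) h1 h2 (e i).1 (e i).2.1
      rw [← hc, mul_inv_cancel_right]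
  have hψy : ψ ⟨y, hXN hyX⟩ = Equiv.swap 1 2 := by
    have h0 : y * (e 0).1 * y⁻¹ = (e (Equiv.swap (1 : Fin 3) 2 0)).1 := by
      have hs : Equiv.swap (1 : Fin 3) 2 0 = 0 := by decide
      rw [hs, he0]; exact hyz'
    have h1 : y * (e 1).1 * y⁻¹ = (e (Equiv.swap (1 : Fin 3) 2 1)).1 := by
      have hs : Equiv.swap (1 : Fin 3) 2 1 = 2 := by decide
      rw [hs, he1, he2, hxzc]; exact hyx
    have h2 : y * (e 2).1 * y⁻¹ = (e (Equiv.swap (1 : Fin 3) 2 2)).1 := by
      have hs : Equiv.swap (1 : Fin 3) 2 2 = 1 := by decide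
      rw [hs, he2, he1]; exact hyxz
    apply Equiv.ext
    intro i
    rw [hψ]
    exact fin3_forall (P := fun i => y * (e i).1 * y⁻¹ = (e (Equiv.swap (1 : Fin 3) 2 i)).1)
      h0 h1 h2 i
  have hψq : ψ ⟨q, hXN hqX⟩ = Equiv.swap 0 2 := by
    have h0 : q * (e 0).1 * q⁻¹ = (e (Equiv.swap (0 : Fin 3) 2 0)).1 := by
      have hs : Equiv.swap (0 : Fin 3) 2 0 = 2 := by decide
      rw [hs, he0, he2]; exact hqz
    have h1 : q * (e 1).1 * q⁻¹ = (e (Equiv.swap (0 : Fin 3) 2 1)).1 := by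
      have hs : Equiv.swap (0 : Fin 3) 2 1 = 1 := by decide
      rw [hs, he1]; exact hqx'
    have h2 : q * (e 2).1 * q⁻¹ = (e (Equiv.swap (0 : Fin 3) 2 2)).1 := by
      have hs : Equiv.swap (0 : Fin 3) 2 2 = 0 := by decide
      rw [hs, he2, he0]; exact hqxz
    apply Equiv.ext
    intro i
    rw [hψ]
    exact fin3_forall (P := fun i => q * (e i).1 * q⁻¹ = (e (Equiv.swap (0 : Fin 3) 2 i)).1)
      h0 h1 h2 i
  obtain ⟨ψX, hψX⟩ : ∃ ψX : ↥X →* Equiv.Perm (Fin 3), ∀ a : ↥X, ψX a = ψ ⟨a.1, hXN a.2⟩ :=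
    ⟨ψ.comp (Subgroup.inclusion hXN), fun a => rfl⟩
  have hsurj : Function.Surjective ψX := by
    have hs : Equiv.swap 1 2 ∈ ψX.range :=
      MonoidHom.mem_range.mpr ⟨⟨y, hyX⟩, by rw [hψX]; exact hψy⟩
    have ht : Equiv.swap 0 2 ∈ ψX.range :=
      MonoidHom.mem_range.mpr ⟨⟨q, hqX⟩, by rw [hψX]; exact hψq⟩
    intro σ
    have : σ ∈ ψX.range := by
      rcases perm3_cases σ with h | h | h | h | h | h <;> rw [h]
      · exact ψX.range.one_mem
      · exact hs
      · exact ht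
      · exact ψX.range.mul_mem hs ht
      · exact ψX.range.mul_mem ht hs
      · exact ψX.range.mul_mem (ψX.range.mul_mem hs ht) hs
    exact MonoidHom.mem_range.mp this
  have hker : ∀ a : ↥X, ψX a = 1 ↔ a.1 ∈ R := by
    intro a
    rw [hψX, hψ1]
    constructor
    · rintro ⟨h1, h2⟩
      exact hXC a.1 a.2 h1 h2
    · intro h
      exact ⟨hRz _ h, hRx _ h⟩
  have hdec : ∀ n ∈ Subgroup.normalizer (V : Set G),
      ∃ a ∈ X, ∃ c, (c * z = z * c ∧ c * x = x * c) ∧ n = a * c := by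
    intro n hn
    obtain ⟨a, ha⟩ := hsurj (ψ ⟨n, hn⟩)
    rw [hψX] at ha
    have h1 : ψ ((⟨a.1, hXN a.2⟩ : ↥(Subgroup.normalizer (V : Set G)))⁻¹ * ⟨n, hn⟩) = 1 := by
      rw [map_mul, map_inv, ha, inv_mul_cancel]
    have h2 := (hψ1 _).mp h1
    exact ⟨a.1, a.2, a.1⁻¹ * n, h2, by group⟩
  refine ⟨?_, ?_, ?_, ?_, ?_, ?_, ?_, ?_⟩
  · -- R = C_X(V)
    apply le_antisymm
    · intro r hr
      exact Subgroup.mem_inf.mpr ⟨hRX hr, (hCVmem r).mpr ⟨hRz r hr, hRx r hr⟩⟩
    · intro a ha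
      obtain ⟨h1, h2⟩ := Subgroup.mem_inf.mp ha
      obtain ⟨h3, h4⟩ := (hCVmem a).mp h2
      exact hXC a h1 h3 h4
  · -- R = O₂(X)
    have hP'norm : P' ≤ Subgroup.normalizer ((P : Subgroup G) : Set G) := by
      intro h hh
      rw [Subgroup.mem_normalizer_iff]
      intro k
      constructor
      · intro hk; exact hP'P h hh k hk
      · intro hk
        have := hP'P h⁻¹ (P'.inv_mem hh) _ hk
        have e : h⁻¹ * (h * k * h⁻¹) * h⁻¹⁻¹ = k := by group
        rwa [e] at this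
    have hRp : IsPGroup 2 ↥R := by
      have := IsPGroup.to_sup_of_normal_right'
        (pQ'.to_le (show P' ≤ Q' by rw [hP'def]; exact inf_le_left))
        (pQ.to_le (show P ≤ Q by rw [hPdef]; exact inf_le_left)) hP'norm
      rwa [← hR] at this
    have hXNR : X ≤ Subgroup.normalizer ((R : Subgroup G) : Set G) := by
      intro a ha
      rw [Subgroup.mem_normalizer_iff]
      intro r
      constructor
      · intro hr; exact hRn a ha r hr
      · intro hr
        have := hRn' a ha _ hr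
        have e : a⁻¹ * (a * r * a⁻¹) * a = r := by group
        rwa [e] at this
    have h1 : R.subgroupOf X ≤ Cfsg.pCore 2 ↥X :=
      Cfsg.Agent.Lib.Helper17.subgroupOf_le_pCore hXNR hRp
    apply le_antisymm
    · intro r hr
      exact ⟨⟨r, hRX hr⟩, h1 (Subgroup.mem_subgroupOf.mpr hr), rfl⟩
    · rintro _ ⟨o, ho, rfl⟩
      have hOp : IsPGroup 2 ↥(Cfsg.pCore 2 ↥X) := Cfsg.Agent.Lib.Helper17.pCore_isPGroup
      have hOn : (Cfsg.pCore 2 ↥X).Normal := Cfsg.Agent.Lib.Helper17.pCore_normal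
      have hmapn : ((Cfsg.pCore 2 ↥X).map ψX).Normal := hOn.map ψX hsurj
      have hmapp : IsPGroup 2 ↥((Cfsg.pCore 2 ↥X).map ψX) := hOp.map ψX
      have hbot := s3_normal_two_eq_bot _ hmapn hmapp
      have hmem : ψX o ∈ (Cfsg.pCore 2 ↥X).map ψX := Subgroup.mem_map_of_mem ψX ho
      rw [hbot, Subgroup.mem_bot] at hmem
      exact (hker o).mp hmem
  · -- X / R ≅ S₃
    have hkerEq : R.subgroupOf X = ψX.ker := by
      ext a
      rw [Subgroup.mem_subgroupOf, MonoidHom.mem_ker]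
      exact (hker a).symm
    have hn : (R.subgroupOf X).Normal := by rw [hkerEq]; exact MonoidHom.normal_ker ψX
    refine ⟨hn, ⟨?_⟩⟩
    exact (QuotientGroup.quotientMulEquivOfEq hkerEq).trans
      (QuotientGroup.quotientKerEquivOfSurjective ψX hsurj)
  · -- N(V) = X C(V)
    apply le_antisymm
    · intro n hn
      obtain ⟨a, ha, c, hc, rfl⟩ := hdec n hn
      exact Subgroup.mul_mem_sup ha ((hCV2 c).mpr hc)
    · apply sup_le hXN
      intro c hc
      obtain ⟨h1, h2⟩ := (hCV2 c).mp hc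
      exact hCVN c h1 h2
  · -- N(V) normalises X
    intro n hn a ha
    obtain ⟨a0, ha0, c, hc, rfl⟩ := hdec n hn
    have e : (a0 * c) * a * (a0 * c)⁻¹ = a0 * (c * a * c⁻¹) * a0⁻¹ := by group
    rw [e]
    exact X.mul_mem (X.mul_mem ha0 (hCVX c hc.1 hc.2 a ha)) (X.inv_mem ha0)
  · intro r hr
    exact (hCV2 r).mpr ⟨hRz r hr, hRx r hr⟩
  · intro a ha c hc
    obtain ⟨h1, h2⟩ := (hCV2 c).mp hc
    exact h7 a ha c h1 h2
  · apply le_antisymm
    · intro a ha
      obtain ⟨h1, h2⟩ := Subgroup.mem_inf.mp ha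
      obtain ⟨h3, h4⟩ := (hCV2 a).mp h2
      exact hXC a h1 h3 h4
    · intro r hr
      exact Subgroup.mem_inf.mpr ⟨hRX hr, (hCV2 r).mpr ⟨hRz r hr, hRx r hr⟩⟩

end Cfsg.Agent.Helper29.LargeExtra
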