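import Mathlib

/-!
# Monomial bases for linear maps with scalar square (helper29)

If `L ∘ L = z • id` on a finite-dimensional space over a field `F` (`z ≠ 0`; in characteristic 2, `z` a square),
then there is a basis `v` permuted up to non-zero scalars by `L`: `L (v k) = c k • v (π k)` with `π` involutive.
-/

set_option autoImplicit false

namespace Cfsg.Agent.Helper29.Monomial

open Module Submodule Polynomial

universe u

variable {F : Type*} [Field F]

/-- `v` is a basis of `W` that `L` permutes up to non-zero scalars, via the involutive map `π`. -/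
def IsMonomialFor {V : Type*} [AddCommGroup V] [Module F V] (L : V →ₗ[F] V) (W : Submodule F V)
    {ι : Type} (v : ι → V) (π : ι → ι) (c : ι → F) : Prop :=
  LinearIndependent F v ∧ span F (Set.range v) = W ∧ (∀ k, π (π k) = k) ∧ (∀ k, c k ≠ 0) ∧
    ∀ k, L (v k) = c k • v (π k)

section step

variable {V : Type*} [AddCommGroup V] [Module F V]

theorem mono_one (L : V →ₗ[F] V) (u : V) (hu : u ≠ 0) (c : F) (hc : c ≠ 0) (hLu : L u = c • u) :
    IsMonomialFor L (span F {u}) (fun _ : Unit => u) id (fun _ => c) := by
  refine ⟨linearIndependent_unique_iff.mpr hu, ?_, fun _ => rfl, fun _ => hc, fun _ => hLu⟩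
  rw [Set.range_const]

theorem mono_two (L : V →ₗ[F] V) (z : F) (hz : z ≠ 0) (hL : ∀ v, L (L v) = z • v)
    (u : V) (hu : u ≠ 0) (hind : ∀ a : F, a • u ≠ L u) :
    IsMonomialFor L (span F (Set.range ![L u, u])) ![L u, u] Fin.rev ![z, 1] := by
  refine ⟨?_, rfl, fun k => Fin.rev_rev k, ?_, ?_⟩
  · rw [linearIndependent_fin2]
    exact ⟨hu, hind⟩
  · rw [Fin.forall_fin_two]
    exact ⟨hz, one_ne_zero⟩
  · rw [Fin.forall_fin_two]
    constructor
    · show L (L u) = z • u
      exact hL u
    · show L u = (1 : F) • L u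
      rw [one_smul]

theorem span_pair_invariant (L : V →ₗ[F] V) (z : F) (hL : ∀ v, L (L v) = z • v) (u : V) :
    ∀ v ∈ span F (Set.range ![L u, u]), L v ∈ span F (Set.range ![L u, u]) := by
  have h0 : L u ∈ span F (Set.range ![L u, u]) := subset_span ⟨0, rfl⟩
  have h1 : u ∈ span F (Set.range ![L u, u]) := subset_span ⟨1, rfl⟩
  have hle : (span F (Set.range ![L u, u])).map L ≤ span F (Set.range ![L u, u]) := by
    rw [Submodule.map_span_le]
    rintro x ⟨k, rfl⟩
    revert k
    rw [Fin.forall_fin_two]
    constructor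
    · show L (L u) ∈ _
      rw [hL u]
      exact Submodule.smul_mem _ _ h1
    · exact h0
  intro v hv
  exact hle (Submodule.mem_map_of_mem hv)

variable [FiniteDimensional F V]

theorem exists_step_odd (L : V →ₗ[F] V) (z : F) (hz : z ≠ 0) (hL : ∀ v, L (L v) = z • v)
    (h2 : (2 : F) ≠ 0) [Nontrivial V] :
    ∃ (W W' : Submodule F V), IsCompl W W' ∧ (∀ v ∈ W', L v ∈ W') ∧ W ≠ ⊥ ∧
      ∃ (ι : Type) (_ : Fintype ι) (v : ι → V) (π : ι → ι) (c : ι → F), IsMonomialFor L W v π c := by
  have hss : Module.End.IsSemisimple L := by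
    apply Module.End.isSemisimple_of_squarefree_aeval_eq_zero (p := X ^ 2 - C z)
    · exact (separable_X_pow_sub_C z (by exact_mod_cast h2) hz).squarefree
    · apply LinearMap.ext
      intro v
      have hae : aeval L (X ^ 2 - C z : F[X]) = L * L - algebraMap F (Module.End F V) z := by
        rw [map_sub, map_pow, aeval_X, aeval_C, pow_two]
      rw [hae, LinearMap.sub_apply, Module.End.mul_apply, Module.algebraMap_end_apply, hL v, sub_self,
        LinearMap.zero_apply]
  obtain ⟨u, hu⟩ := exists_ne (0 : V)
  have key : ∀ W : Submodule F V, (∀ v ∈ W, L v ∈ W) →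
      ∃ W' : Submodule F V, IsCompl W W' ∧ ∀ v ∈ W', L v ∈ W' := by
    intro W hW
    obtain ⟨W', hW', hc⟩ := (Module.End.isSemisimple_iff.mp hss) W (fun v hv => hW v hv)
    exact ⟨W', hc, fun v hv => hW' hv⟩
  by_cases hind : ∃ a : F, a • u = L u
  · obtain ⟨a, ha⟩ := hind
    have ha0 : a ≠ 0 := by
      rintro rfl
      have := hL u
      rw [← ha, zero_smul, map_zero] at this
      exact hu ((smul_eq_zero.mp this.symm).resolve_left hz)
    have hWinv : ∀ v ∈ span F {u}, L v ∈ span F {u} := by
      intro v hv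
      obtain ⟨b, rfl⟩ := Submodule.mem_span_singleton.mp hv
      rw [map_smul, ← ha, smul_smul]
      exact Submodule.smul_mem _ _ (Submodule.mem_span_singleton_self u)
    obtain ⟨W', hc, hW'⟩ := key _ hWinv
    refine ⟨span F {u}, W', hc, hW', ?_, Unit, inferInstance, _, _, _, mono_one L u hu a ha0 ha.symm⟩
    rw [Ne, Submodule.span_singleton_eq_bot]
    exact hu
  · push Not at hind
    obtain ⟨W', hc, hW'⟩ := key _ (span_pair_invariant L z hL u)
    refine ⟨_, W', hc, hW', ?_, Fin 2, inferInstance, _, _, _, mono_two L z hz hL u hu hind⟩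
    intro hbot
    have h1 : u ∈ span F (Set.range ![L u, u]) := subset_span ⟨1, rfl⟩
    rw [hbot, Submodule.mem_bot] at h1
    exact hu h1

theorem exists_step_even (L : V →ₗ[F] V) (z : F) (hz : z ≠ 0) (hL : ∀ v, L (L v) = z • v)
    (h2 : (2 : F) = 0) (w : F) (hw : w * w = z) [Nontrivial V] :
    ∃ (W W' : Submodule F V), IsCompl W W' ∧ (∀ v ∈ W', L v ∈ W') ∧ W ≠ ⊥ ∧
      ∃ (ι : Type) (_ : Fintype ι) (v : ι → V) (π : ι → ι) (c : ι → F), IsMonomialFor L W v π c := by
  have hw0 : w ≠ 0 := by
    rintro rfl
    rw [mul_zero] at hw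
    exact hz hw.symm
  by_cases hsc : ∀ v, L v = w • v
  · obtain ⟨u, hu⟩ := exists_ne (0 : V)
    obtain ⟨W', hc⟩ := Submodule.exists_isCompl (span F {u})
    refine ⟨span F {u}, W', hc, ?_, ?_, Unit, inferInstance, _, _, _, mono_one L u hu w hw0 (hsc u)⟩
    · intro v hv
      rw [hsc v]
      exact Submodule.smul_mem _ _ hv
    · rw [Ne, Submodule.span_singleton_eq_bot]
      exact hu
  · push Not at hsc
    obtain ⟨u, hLu⟩ := hsc
    have hu : u ≠ 0 := by
      rintro rfl
      apply hLu
      rw [map_zero, smul_zero]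
    have hind : ∀ a : F, a • u ≠ L u := by
      intro a ha
      have h1 := hL u
      rw [← ha, map_smul, ← ha, smul_smul] at h1
      have h3 : a * a = z := by
        have h4 : (a * a - z) • u = 0 := by rw [sub_smul, h1, sub_self]
        exact sub_eq_zero.mp ((smul_eq_zero.mp h4).resolve_right hu)
      have h5 : (a - w) * (a - w) = 0 := by
        linear_combination h3 + hw + (z - a * w) * h2
      have h6 : a = w := sub_eq_zero.mp (mul_self_eq_zero.mp h5)
      apply hLu
      rw [← ha, h6]
    -- the nilpotent part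
    obtain ⟨N, hNdef⟩ : ∃ N : V →ₗ[F] V, N = L - w • LinearMap.id := ⟨_, rfl⟩
    have hN : ∀ v, N v = L v - w • v := by
      intro v
      rw [hNdef]
      simp
    have hLN : ∀ v, L v = N v + w • v := by
      intro v
      rw [hN v, sub_add_cancel]
    have hNN : ∀ v, N (N v) = 0 := by
      intro v
      rw [hN (N v), hN v, map_sub, map_smul, hL v, smul_sub, smul_smul, hw]
      have h7 : z • v - w • L v - (w • L v - z • v) = (2 : F) • (z • v - w • L v) := by
        rw [two_smul]; abel
      rw [h7, h2, zero_smul]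
    have hNu : N u ∉ span F {u} := by
      intro h
      obtain ⟨a, ha⟩ := Submodule.mem_span_singleton.mp h
      apply hind (a + w)
      rw [hLN u, ← ha, add_smul]
    obtain ⟨φ, hφ1, hφ2⟩ := Submodule.exists_dual_map_eq_bot_of_notMem hNu inferInstance
    have hφu : φ u = 0 := by
      have : φ u ∈ (span F {u}).map φ :=
        Submodule.mem_map_of_mem (Submodule.mem_span_singleton_self u)
      rw [hφ2, Submodule.mem_bot] at this
      exact this
    obtain ⟨β, hβdef⟩ : ∃ β : V →ₗ[F] F, β = (φ (N u))⁻¹ • φ := ⟨_, rfl⟩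
    have hβu : β u = 0 := by
      rw [hβdef, LinearMap.smul_apply, hφu, smul_zero]
    have hβNu : β (N u) = 1 := by
      rw [hβdef, LinearMap.smul_apply, smul_eq_mul, inv_mul_cancel₀ hφ1]
    obtain ⟨P, hPdef⟩ : ∃ P : V →ₗ[F] V, P = (β.comp N).smulRight u + β.smulRight (N u) := ⟨_, rfl⟩
    have hP : ∀ v, P v = β (N v) • u + β v • N u := by
      intro v
      rw [hPdef]
      simp
    have hPu : P u = u := by
      rw [hP u, hβNu, hβu, one_smul, zero_smul, add_zero]
    have hPNu : P (N u) = N u := by
      rw [hP (N u), hNN u, map_zero, hβNu, zero_smul, one_smul, zero_add]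
    have h0 : L u ∈ span F (Set.range ![L u, u]) := subset_span ⟨0, rfl⟩
    have h1 : u ∈ span F (Set.range ![L u, u]) := subset_span ⟨1, rfl⟩
    have hNuW : N u ∈ span F (Set.range ![L u, u]) := by
      rw [hN u]
      exact Submodule.sub_mem _ h0 (Submodule.smul_mem _ _ h1)
    have hPW : ∀ v, P v ∈ span F (Set.range ![L u, u]) := by
      intro v
      rw [hP v]
      exact Submodule.add_mem _ (Submodule.smul_mem _ _ h1) (Submodule.smul_mem _ _ hNuW)
    have hPfix : ∀ x ∈ span F (Set.range ![L u, u]), P x = x := by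
      have hgen : Set.EqOn P (LinearMap.id : V →ₗ[F] V) (Set.range ![L u, u]) := by
        rintro x ⟨k, rfl⟩
        revert k
        rw [Fin.forall_fin_two]
        constructor
        · show P (L u) = L u
          rw [hLN u, map_add, map_smul, hPNu, hPu]
        · exact hPu
      intro x hx
      exact LinearMap.eqOn_span hgen hx
    have hcompl : IsCompl (span F (Set.range ![L u, u])) (LinearMap.ker P) := by
      have := LinearMap.isCompl_of_proj (f := P.codRestrict (span F (Set.range ![L u, u])) hPW)
        (fun x => Subtype.ext (hPfix x x.2))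
      rwa [LinearMap.ker_codRestrict] at this
    refine ⟨_, LinearMap.ker P, hcompl, ?_, ?_, Fin 2, inferInstance, _, _, _,
      mono_two L z hz hL u hu hind⟩
    · intro v hv
      rw [LinearMap.mem_ker] at hv ⊢
      have hβv : β v = 0 := by
        have := congrArg β hv
        rw [hP v, map_add, map_smul, map_smul, hβu, hβNu, map_zero, smul_zero, zero_add, smul_eq_mul,
          mul_one] at this
        exact this
      have hβNv : β (N v) = 0 := by
        have := hv
        rw [hP v, hβv, zero_smul, add_zero] at this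
        exact (smul_eq_zero.mp this).resolve_right hu
      rw [hLN v, map_add, map_smul, hv, smul_zero, add_zero, hP (N v), hNN v, map_zero, hβNv,
        zero_smul, zero_smul, add_zero]
    · intro hbot
      rw [hbot, Submodule.mem_bot] at h1
      exact hu h1

theorem exists_step (L : V →ₗ[F] V) (z : F) (hz : z ≠ 0) (hL : ∀ v, L (L v) = z • v)
    (hcase : (2 : F) ≠ 0 ∨ ((2 : F) = 0 ∧ ∃ w : F, w * w = z)) [Nontrivial V] :
    ∃ (W W' : Submodule F V), IsCompl W W' ∧ (∀ v ∈ W', L v ∈ W') ∧ W ≠ ⊥ ∧
      ∃ (ι : Type) (_ : Fintype ι) (v : ι → V) (π : ι → ι) (c : ι → F), IsMonomialFor L W v π c := by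
  rcases hcase with h2 | ⟨h2, w, hw⟩
  · exact exists_step_odd L z hz hL h2
  · exact exists_step_even L z hz hL h2 w hw

end step

theorem exists_monomial (z : F) (hz : z ≠ 0)
    (hcase : (2 : F) ≠ 0 ∨ ((2 : F) = 0 ∧ ∃ w : F, w * w = z)) :
    ∀ (n : ℕ) (V : Type u) [AddCommGroup V] [Module F V] [FiniteDimensional F V] (L : V →ₗ[F] V),
      finrank F V = n → (∀ v, L (L v) = z • v) →
      ∃ (ι : Type) (_ : Fintype ι) (v : ι → V) (π : ι → ι) (c : ι → F),
        IsMonomialFor L ⊤ v π c := by
  intro n
  induction n using Nat.strong_induction_on with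
  | _ n ih =>
    intro V _ _ _ L hn hL
    rcases Nat.eq_zero_or_pos n with hn0 | hnpos
    · subst hn0
      have hsub : Subsingleton V := Module.finrank_zero_iff.mp hn
      refine ⟨Empty, inferInstance, fun e => e.elim, id, fun _ => 1, linearIndependent_empty_type, ?_,
        fun k => k.elim, fun k => k.elim, fun k => k.elim⟩
      exact Subsingleton.elim _ _
    · have hnt : Nontrivial V := Module.nontrivial_of_finrank_pos (R := F) (by rw [hn]; exact hnpos)
      obtain ⟨W, W', hc, hW', hWne, ι₀, hι₀, v₀, π₀, c₀, hm₀⟩ := exists_step L z hz hL hcase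
      have hWpos : 0 < finrank F W := by
        rw [Module.finrank_pos_iff]
        exact Submodule.nontrivial_iff_ne_bot.mpr hWne
      have hsum := Submodule.finrank_add_eq_of_isCompl hc
      have hlt : finrank F W' < n := by omega
      have hL' : ∀ v : W', (L.restrict hW') ((L.restrict hW') v) = z • v := by
        intro v
        apply Subtype.ext
        rw [LinearMap.coe_restrict_apply, LinearMap.coe_restrict_apply, hL]
        rfl
      obtain ⟨ι', hι', v', π', c', hm'⟩ := ih (finrank F W') hlt W' (L.restrict hW') rfl hL'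
      obtain ⟨hli₀, hsp₀, hπ₀, hc₀, hL₀⟩ := hm₀
      obtain ⟨hli', hsp', hπ', hc'', hL''⟩ := hm'
      have hsp'V : span F (Set.range (fun k => ((v' k : W') : V))) = W' := by
        have : Set.range (fun k => ((v' k : W') : V)) = W'.subtype '' Set.range v' := by
          rw [← Set.range_comp]
          rfl
        rw [this, Submodule.span_image, hsp', Submodule.map_subtype_top]
      refine ⟨ι₀ ⊕ ι', inferInstance, Sum.elim v₀ (fun k => ((v' k : W') : V)), Sum.map π₀ π',
        Sum.elim c₀ c', ?_, ?_, ?_, ?_, ?_⟩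
      · apply LinearIndependent.sum_type hli₀
        · exact hli'.map' W'.subtype (Submodule.ker_subtype W')
        · rw [hsp₀, hsp'V]
          exact hc.disjoint
      · rw [Set.Sum.elim_range, Submodule.span_union, hsp₀, hsp'V]
        exact hc.sup_eq_top
      · rintro (k | k)
        · simp only [Sum.map_inl, hπ₀ k]
        · simp only [Sum.map_inr, hπ' k]
      · rintro (k | k)
        · exact hc₀ k
        · exact hc'' k
      · rintro (k | k)
        · exact hL₀ k
        · show L ((v' k : W') : V) = c' k • ((v' (π' k) : W') : V)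
          have := congrArg (fun x : W' => (x : V)) (hL'' k)
          simpa using this

end Cfsg.Agent.Helper29.Monomial
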