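import Mathlib
import Cfsg.Prelude.Def_GeometricClasses
import Cfsg.Agent.Lib.Helper29.InvolPartition
import Cfsg.Agent.Lib.Helper29.MonomialBasis

/-!
# Decompositions permuted by a linear map with scalar square (helper29)

`exists_decomposition`: if `L ∘ L = z • id` on `F^n` (`z ≠ 0`, and `z` a square when `2 = 0` in `F`) and `n = a * t`,
then `L` permutes the members of some decomposition of `F^n` into `t` subspaces of dimension `a`.
-/

set_option autoImplicit false

namespace Cfsg.Agent.Helper29.Monomial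

open Module Submodule

variable {F : Type*} [Field F]

theorem decomp_of_monomial {n t a : ℕ} (ht : 2 ≤ t) (ha : 0 < a)
    (L : (Fin n → F) →ₗ[F] (Fin n → F))
    (v : Fin n → (Fin n → F)) (π : Fin n → Fin n) (c : Fin n → F)
    (hli : LinearIndependent F v) (hsp : span F (Set.range v) = ⊤)
    (hπ : ∀ k, π (π k) = k) (hc : ∀ k, c k ≠ 0) (hL : ∀ k, L (v k) = c k • v (π k))
    (f : Fin n → Fin t) (σ : Equiv.Perm (Fin t)) (hfib : ∀ j, Nat.card {k : Fin n // f k = j} = a)
    (hfσ : ∀ k, f (π k) = σ (f k)) (hσ : ∀ j, σ (σ j) = j) :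
    Cfsg.Geo.IsMDecomposition a (fun j : Fin t => span F (v '' {k | f k = j})) ∧
      ∀ j : Fin t, (span F (v '' {k | f k = j})).map L = span F (v '' {k | f k = σ j}) := by
  classical
  refine ⟨⟨ht, ha, ?_, ?_, ?_⟩, ?_⟩
  · intro j
    show finrank F (span F (v '' {k | f k = j})) = a
    rw [Set.image_eq_range]
    have hli' : LinearIndependent F (fun x : ({k | f k = j} : Set (Fin n)) => v x) :=
      hli.comp _ Subtype.val_injective
    haveI : Fintype ({k | f k = j} : Set (Fin n)) := Fintype.ofFinite _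
    rw [finrank_span_eq_card hli', ← Nat.card_eq_fintype_card]
    exact hfib j
  · rw [iSupIndep_def]
    intro j
    have hle : (⨆ (i : Fin t) (_ : i ≠ j), span F (v '' {k | f k = i})) ≤ span F (v '' {k | f k ≠ j}) := by
      apply iSup₂_le
      intro i hi
      apply span_mono
      apply Set.image_mono
      intro k hk
      show f k ≠ j
      rw [Set.mem_setOf_eq] at hk
      rw [hk]
      exact hi
    have hdisj : Disjoint ({k | f k = j} : Set (Fin n)) {k | f k ≠ j} := by
      rw [Set.disjoint_left]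
      intro k hk hk'
      exact hk' hk
    exact (hli.disjoint_span_image hdisj).mono_right hle
  · show (⨆ j : Fin t, span F (v '' {k | f k = j})) = ⊤
    rw [← Submodule.span_iUnion]
    have : (⋃ j : Fin t, v '' {k | f k = j}) = Set.range v := by
      ext x
      simp only [Set.mem_iUnion, Set.mem_image, Set.mem_setOf_eq, Set.mem_range]
      constructor
      · rintro ⟨j, k, -, rfl⟩
        exact ⟨k, rfl⟩
      · rintro ⟨k, rfl⟩
        exact ⟨f k, k, rfl, rfl⟩
    rw [this, hsp]
  · intro j
    rw [Submodule.map_span]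
    apply le_antisymm
    · rw [span_le]
      rintro x ⟨y, ⟨k, hk, rfl⟩, rfl⟩
      rw [Set.mem_setOf_eq] at hk
      rw [hL k]
      apply Submodule.smul_mem
      apply subset_span
      refine ⟨π k, ?_, rfl⟩
      show f (π k) = σ j
      rw [hfσ k, hk]
    · rw [span_le]
      rintro x ⟨l, hl, rfl⟩
      rw [Set.mem_setOf_eq] at hl
      have hk : f (π l) = j := by rw [hfσ l, hl, hσ j]
      have h1 : L (v (π l)) = c (π l) • v l := by rw [hL (π l), hπ l]
      have h2 : v l = (c (π l))⁻¹ • L (v (π l)) := by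
        rw [h1, inv_smul_smul₀ (hc (π l))]
      show v l ∈ span F (L '' (v '' {k | f k = j}))
      rw [h2]
      apply Submodule.smul_mem
      apply subset_span
      exact ⟨v (π l), ⟨π l, hk, rfl⟩, rfl⟩

/-- If `L ∘ L = z • id` on `F^n` and `n = a * t`, then `L` permutes the members of some decomposition of `F^n` into
`t` subspaces of dimension `a`. -/
theorem exists_decomposition {n t a : ℕ} (hat : n = a * t) (ht : 2 ≤ t) (ha : 1 ≤ a)
    (L : (Fin n → F) →ₗ[F] (Fin n → F)) (z : F) (hz : z ≠ 0) (hL : ∀ v, L (L v) = z • v)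
    (hcase : (2 : F) ≠ 0 ∨ ((2 : F) = 0 ∧ ∃ w : F, w * w = z)) :
    ∃ D : Fin t → Submodule F (Fin n → F), Cfsg.Geo.IsMDecomposition a D ∧
      ∃ σ : Equiv.Perm (Fin t), ∀ j, (D j).map L = D (σ j) := by
  obtain ⟨ι, hι, v, π, c, hli, hsp, hπ, hc, hLv⟩ :=
    exists_monomial z hz hcase n (Fin n → F) L (Module.finrank_fin_fun F) hL
  have hcard : Fintype.card ι = n := by
    have h1 := finrank_span_eq_card hli
    rw [hsp, finrank_top, Module.finrank_fin_fun] at h1
    exact h1.symm
  obtain ⟨e⟩ : Nonempty (ι ≃ Fin n) := ⟨Fintype.equivFinOfCardEq hcard⟩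
  have hπ₁ : ∀ k : Fin n, e (π (e.symm (e (π (e.symm k))))) = k := by
    intro k
    rw [Equiv.symm_apply_apply, hπ, Equiv.apply_symm_apply]
  obtain ⟨f, σ, hfib, hfσ, hσ⟩ := InvolPart.exists_partition_fin n a t hat ha
    (fun k => e (π (e.symm k))) hπ₁
  have hmain := decomp_of_monomial ht ha L (fun k => v (e.symm k)) (fun k => e (π (e.symm k)))
    (fun k => c (e.symm k)) (hli.comp _ e.symm.injective)
    (by
      have : Set.range (fun k => v (e.symm k)) = Set.range v :=
        e.symm.surjective.range_comp v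
      rw [this, hsp])
    hπ₁ (fun k => hc _)
    (fun k => by
      show L (v (e.symm k)) = c (e.symm k) • v (e.symm (e (π (e.symm k))))
      rw [Equiv.symm_apply_apply]
      exact hLv _)
    f σ hfib hfσ hσ
  exact ⟨_, hmain.1, σ, hmain.2⟩

end Cfsg.Agent.Helper29.Monomial
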