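import Mathlib

/-!
# Orthogonal bases of pairs `(e, X e)` for an isometry `X` with `X² = -1`
-/

set_option autoImplicit false
set_option linter.unusedSectionVars false

namespace Cfsg.Agent.Lib.Helper29.OF

open Module Submodule

section otb

variable {F V : Type*} [Field F] [AddCommGroup V] [Module F V]

/-- `W` has an orthogonal basis of pairs `(e j, X (e j))` -/
def OTB (B : V →ₗ[F] V →ₗ[F] F) (X : V →ₗ[F] V) (W : Submodule F V) (κ : Type) : Prop :=
  ∃ e : κ → V, LinearIndependent F (Sum.elim e (fun j => X (e j))) ∧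
    span F (Set.range (Sum.elim e (fun j => X (e j)))) = W ∧
    ∀ i j, i ≠ j → B (Sum.elim e (fun j => X (e j)) i) (Sum.elim e (fun j => X (e j)) j) = 0

theorem OTB.empty (B : V →ₗ[F] V →ₗ[F] F) (X : V →ₗ[F] V) : OTB B X ⊥ Empty := by
  refine ⟨fun e => e.elim, linearIndependent_empty_type, ?_, ?_⟩
  · rw [Set.range_eq_empty, span_empty]
  · intro i
    rcases i with i | i <;> exact i.elim

theorem OTB.series {κ₁ κ₂ : Type} {B : V →ₗ[F] V →ₗ[F] F} {X : V →ₗ[F] V}
    {W₁ W₂ : Submodule F V} (h₁ : OTB B X W₁ κ₁) (h₂ : OTB B X W₂ κ₂) (hd : Disjoint W₁ W₂)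
    (hperp : ∀ u ∈ W₁, ∀ v ∈ W₂, B u v = 0) (hsymm : ∀ u v, B u v = B v u) :
    OTB B X (W₁ ⊔ W₂) (κ₁ ⊕ κ₂) := by
  obtain ⟨e₁, hli₁, hsp₁, ho₁⟩ := h₁
  obtain ⟨e₂, hli₂, hsp₂, ho₂⟩ := h₂
  have hmem₁ : ∀ i, Sum.elim e₁ (fun j => X (e₁ j)) i ∈ W₁ := by
    intro i
    rw [← hsp₁]
    exact subset_span ⟨i, rfl⟩
  have hmem₂ : ∀ i, Sum.elim e₂ (fun j => X (e₂ j)) i ∈ W₂ := by
    intro i
    rw [← hsp₂]
    exact subset_span ⟨i, rfl⟩
  have hcomp : Sum.elim (Sum.elim e₁ e₂) (fun j => X (Sum.elim e₁ e₂ j)) =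
      Sum.elim (Sum.elim e₁ (fun j => X (e₁ j))) (Sum.elim e₂ (fun j => X (e₂ j))) ∘
        (Equiv.sumSumSumComm κ₁ κ₂ κ₁ κ₂) := by
    funext i
    rcases i with (i | i) | (i | i) <;> rfl
  refine ⟨Sum.elim e₁ e₂, ?_, ?_, ?_⟩
  · have hg : LinearIndependent F
        (Sum.elim (Sum.elim e₁ (fun j => X (e₁ j))) (Sum.elim e₂ (fun j => X (e₂ j)))) := by
      apply LinearIndependent.sum_type hli₁ hli₂
      rw [hsp₁, hsp₂]
      exact hd
    rw [hcomp]
    exact hg.comp _ (Equiv.injective _)
  · rw [hcomp, Set.range_comp, Equiv.range_eq_univ, Set.image_univ, Set.Sum.elim_range, span_union,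
      hsp₁, hsp₂]
  · intro i j hij
    rw [hcomp]
    simp only [Function.comp_apply]
    have hij' : Equiv.sumSumSumComm κ₁ κ₂ κ₁ κ₂ i ≠ Equiv.sumSumSumComm κ₁ κ₂ κ₁ κ₂ j :=
      fun h => hij ((Equiv.sumSumSumComm κ₁ κ₂ κ₁ κ₂).injective h)
    generalize Equiv.sumSumSumComm κ₁ κ₂ κ₁ κ₂ i = a at hij'
    generalize Equiv.sumSumSumComm κ₁ κ₂ κ₁ κ₂ j = c at hij'
    rcases a with a | a <;> rcases c with c | c
    · exact ho₁ a c (fun h => hij' (by rw [h]))
    · exact hperp _ (hmem₁ a) _ (hmem₂ c)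
    · rw [hsymm]
      exact hperp _ (hmem₁ c) _ (hmem₂ a)
    · exact ho₂ a c (fun h => hij' (by rw [h]))

variable [FiniteDimensional F V]

/-- orthogonal bases of pairs on nondegenerate invariant subspaces -/
theorem exists_OTB (h2 : (2 : F) ≠ 0) (B : V →ₗ[F] V →ₗ[F] F) (hsymm : ∀ u v, B u v = B v u)
    (X : V →ₗ[F] V) (hiso : ∀ u v, B (X u) (X v) = B u v) (hX2 : ∀ v, X (X v) = -v) (k : ℕ) :
    ∀ W : Submodule F V, (∀ w ∈ W, X w ∈ W) → (∀ u ∈ W, (∀ w ∈ W, B u w = 0) → u = 0) →
      finrank F W = 2 * k → ∃ (κ : Type) (_ : Fintype κ), Fintype.card κ = k ∧ OTB B X W κ := by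
  have hskew : ∀ u v, B (X u) v = -B u (X v) := by
    intro u v
    have := hiso u (X v)
    rw [hX2, map_neg] at this
    linear_combination -this
  induction k with
  | zero =>
    intro W _ _ hdim
    have hW0 : W = ⊥ := Submodule.finrank_eq_zero.mp (by omega)
    subst hW0
    exact ⟨Empty, inferInstance, by simp, OTB.empty B X⟩
  | succ k ih =>
    intro W hW hWnd hdim
    have hWne : W ≠ ⊥ := by
      intro h0
      rw [h0, finrank_bot] at hdim
      omega
    -- a non-isotropic vector of `W`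
    obtain ⟨v, hvW, hvv⟩ : ∃ v ∈ W, B v v ≠ 0 := by
      by_contra hcon
      push Not at hcon
      obtain ⟨u, huW, hu0⟩ := Submodule.exists_mem_ne_zero_of_ne_bot hWne
      apply hu0
      apply hWnd u huW
      intro w hw
      have h1 := hcon (u + w) (W.add_mem huW hw)
      simp only [map_add, LinearMap.add_apply] at h1
      rw [hcon u huW, hcon w hw, hsymm w u] at h1
      have h3 : (2 : F) * B u w = 0 := by linear_combination h1
      exact (mul_eq_zero.mp h3).resolve_left h2
    have hvXv : B v (X v) = 0 := by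
      have h1 := hskew v v
      rw [hsymm (X v) v] at h1
      have h3 : (2 : F) * B v (X v) = 0 := by linear_combination h1
      exact (mul_eq_zero.mp h3).resolve_left h2
    have hXvXv : B (X v) (X v) = B v v := hiso v v
    have hXvW : X v ∈ W := hW v hvW
    obtain ⟨P, hP⟩ : ∃ P : Submodule F V, P = span F {v, X v} := ⟨_, rfl⟩
    have hPW : P ≤ W := by
      rw [hP, span_le]
      rintro x (rfl | hx)
      · exact hvW
      · rw [Set.mem_singleton_iff.mp hx]
        exact hXvW
    have hPmem : ∀ p ∈ P, ∃ a c : F, p = a • v + c • X v := by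
      intro p hp
      rw [hP] at hp
      obtain ⟨a, c, rfl⟩ := Submodule.mem_span_pair.mp hp
      exact ⟨a, c, rfl⟩
    obtain ⟨W', hW'⟩ : ∃ W' : Submodule F V, W' = W ⊓
        (LinearMap.ker (B v) ⊓ LinearMap.ker (B (X v))) := ⟨_, rfl⟩
    have hW'mem : ∀ u, u ∈ W' ↔ u ∈ W ∧ B v u = 0 ∧ B (X v) u = 0 := by
      intro u
      rw [hW']
      simp [Submodule.mem_inf, LinearMap.mem_ker]
    have hPW'perp : ∀ p ∈ P, ∀ u ∈ W', B p u = 0 := by
      intro p hp u hu
      obtain ⟨a, c, rfl⟩ := hPmem p hp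
      obtain ⟨-, h1, h3⟩ := (hW'mem u).mp hu
      rw [map_add, map_smul, map_smul, LinearMap.add_apply, LinearMap.smul_apply,
        LinearMap.smul_apply, h1, h3]
      simp
    have hinf : P ⊓ W' = ⊥ := by
      rw [eq_bot_iff]
      intro p hp
      obtain ⟨hpP, hpW'⟩ := Submodule.mem_inf.mp hp
      obtain ⟨a, c, rfl⟩ := hPmem p hpP
      obtain ⟨-, h1, h3⟩ := (hW'mem _).mp hpW'
      rw [map_add, map_smul, map_smul, hvXv, smul_eq_mul, smul_eq_mul, mul_zero, add_zero] at h1
      rw [map_add, map_smul, map_smul, hsymm (X v) v, hvXv, hXvXv, smul_eq_mul, smul_eq_mul,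
        mul_zero, zero_add] at h3
      have ha : a = 0 := (mul_eq_zero.mp h1).resolve_right hvv
      have hc : c = 0 := (mul_eq_zero.mp h3).resolve_right hvv
      rw [ha, hc]
      simp
    have hsup : P ⊔ W' = W := by
      apply le_antisymm
      · apply sup_le hPW
        intro u hu
        exact ((hW'mem u).mp hu).1
      · intro w hw
        obtain ⟨p, hp⟩ : ∃ p : V, p = (B v w / B v v) • v + (B (X v) w / B v v) • X v := ⟨_, rfl⟩
        have hpP : p ∈ P := by
          rw [hp, hP]
          exact Submodule.mem_span_pair.mpr ⟨_, _, rfl⟩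
        have hw' : w - p ∈ W' := by
          rw [hW'mem]
          refine ⟨W.sub_mem hw (hPW hpP), ?_, ?_⟩
          · rw [hp, map_sub, map_add, map_smul, map_smul, hvXv, smul_eq_mul, smul_eq_mul,
              mul_zero, add_zero, div_mul_cancel₀ _ hvv, sub_self]
          · rw [hp, map_sub, map_add, map_smul, map_smul, hsymm (X v) v, hvXv, hXvXv, smul_eq_mul,
              smul_eq_mul, mul_zero, zero_add, div_mul_cancel₀ _ hvv, sub_self]
        have : w = p + (w - p) := by abel
        rw [this]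
        exact Submodule.add_mem_sup hpP hw'
    have hW'inv : ∀ u ∈ W', X u ∈ W' := by
      intro u hu
      obtain ⟨huW, h1, h3⟩ := (hW'mem u).mp hu
      rw [hW'mem]
      refine ⟨hW u huW, ?_, ?_⟩
      · have := hskew v u
        rw [h3] at this
        have h5 : B v (X u) = 0 := by linear_combination this
        exact h5
      · rw [hiso, h1]
    have hW'nd : ∀ u ∈ W', (∀ w ∈ W', B u w = 0) → u = 0 := by
      intro u hu hall
      apply hWnd u ((hW'mem u).mp hu).1
      intro w hw
      rw [← hsup] at hw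
      obtain ⟨p, hp, w', hw', rfl⟩ := Submodule.mem_sup.mp hw
      rw [map_add, hall w' hw', add_zero, hsymm]
      exact hPW'perp p hp u hu
    have hrange : Set.range (Sum.elim (fun _ : Unit => v) (fun _ : Unit => X v)) = {v, X v} := by
      rw [Set.Sum.elim_range, Set.range_const, Set.range_const]
      rfl
    have hli : LinearIndependent F (Sum.elim (fun _ : Unit => v) (fun _ : Unit => X v)) := by
      have hli2 : LinearIndependent F ![v, X v] := by
        rw [LinearIndependent.pair_iff]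
        intro a c hac
        have h1 : B v (a • v + c • X v) = 0 := by rw [hac, map_zero]
        have h3 : B (X v) (a • v + c • X v) = 0 := by rw [hac, map_zero]
        rw [map_add, map_smul, map_smul, hvXv, smul_eq_mul, smul_eq_mul, mul_zero, add_zero] at h1
        rw [map_add, map_smul, map_smul, hsymm (X v) v, hvXv, hXvXv, smul_eq_mul, smul_eq_mul,
          mul_zero, zero_add] at h3
        exact ⟨(mul_eq_zero.mp h1).resolve_right hvv, (mul_eq_zero.mp h3).resolve_right hvv⟩
      have e : Sum.elim (fun _ : Unit => v) (fun _ : Unit => X v) =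
          ![v, X v] ∘ (Sum.elim (fun _ : Unit => (0 : Fin 2)) (fun _ : Unit => (1 : Fin 2))) := by
        funext i
        rcases i with i | i <;> rfl
      rw [e]
      apply hli2.comp
      intro a c hac
      rcases a with ⟨⟩ | ⟨⟩ <;> rcases c with ⟨⟩ | ⟨⟩
      · rfl
      · exact absurd (show (0 : Fin 2) = 1 from hac) (by decide)
      · exact absurd (show (1 : Fin 2) = 0 from hac) (by decide)
      · rfl
    have hdimP : finrank F P = 2 := by
      rw [hP, ← hrange, finrank_span_eq_card hli]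
      simp
    have hP₁ : OTB B X P Unit := by
      refine ⟨fun _ => v, hli, by rw [hrange, hP], ?_⟩
      intro i j hij
      rcases i with ⟨⟩ | ⟨⟩ <;> rcases j with ⟨⟩ | ⟨⟩
      · exact absurd rfl hij
      · exact hvXv
      · show B (X v) v = 0
        rw [hsymm]; exact hvXv
      · exact absurd rfl hij
    have hW'dim : finrank F W' = 2 * k := by
      have h1 := Submodule.finrank_sup_add_finrank_inf_eq P W'
      rw [hsup, hinf, finrank_bot, hdim, hdimP] at h1
      omega
    obtain ⟨κ, hκ, hcard, hP₂⟩ := ih W' hW'inv hW'nd hW'dim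
    have hser := hP₁.series hP₂ (disjoint_iff.mpr hinf) hPW'perp hsymm
    rw [hsup] at hser
    refine ⟨Unit ⊕ κ, inferInstance, ?_, hser⟩
    rw [Fintype.card_sum, Fintype.card_unit, hcard, add_comm]

end otb

end Cfsg.Agent.Lib.Helper29.OF
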