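import Mathlib

/-!
# Self-adjoint maps with a prescribed scalar square from a paired orthogonal basis
-/

set_option autoImplicit false
set_option linter.unusedSectionVars false

namespace Cfsg.Agent.Lib.Helper29.OF

open Module

section binary

variable {F : Type*} [Field F] [Fintype F]

theorem exists_binary (h2 : (2 : F) ≠ 0) (c : F) (hc : c ≠ 0) (z : F) :
    ∃ s t : F, s * s + c * (t * t) = z := by
  have hchar : ringChar F ≠ 2 := by
    intro h
    apply h2
    have := ringChar.Nat.cast_ringChar (R := F)
    rw [h] at this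
    exact_mod_cast this
  have hf2 : (Polynomial.X ^ 2 - Polynomial.C z : Polynomial F).degree = 2 :=
    Polynomial.degree_X_pow_sub_C (by norm_num) z
  have hg2 : (Polynomial.C c * Polynomial.X ^ 2 : Polynomial F).degree = 2 := by
    rw [Polynomial.degree_C_mul hc, Polynomial.degree_X_pow]
    rfl
  obtain ⟨a, b, h⟩ := FiniteField.exists_root_sum_quadratic hf2 hg2
    (FiniteField.odd_card_of_char_ne_two hchar)
  refine ⟨a, b, ?_⟩
  simp only [Polynomial.eval_sub, Polynomial.eval_pow, Polynomial.eval_X, Polynomial.eval_C,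
    Polynomial.eval_mul] at h
  linear_combination h

end binary

section paired

variable {F V : Type*} [Field F] [Fintype F] [AddCommGroup V] [Module F V]

/-- from an orthogonal basis arranged in pairs: a self-adjoint map with square `z` preserving the
planes spanned by the pairs -/
theorem exists_selfadjoint_of_paired (h2 : (2 : F) ≠ 0) (B : V →ₗ[F] V →ₗ[F] F)
    (hsymm : ∀ u v, B u v = B v u) {κ : Type*} [Fintype κ] [DecidableEq κ]
    (b : Basis (κ ⊕ κ) F V) (horth : ∀ i j, i ≠ j → B (b i) (b j) = 0)
    (hne : ∀ i, B (b i) (b i) ≠ 0) (z : F) :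
    ∃ (J : V →ₗ[F] V) (s t t' : κ → F), (∀ v, J (J v) = z • v) ∧
      (∀ u v, B (J u) v = B u (J v)) ∧
      (∀ j, J (b (Sum.inl j)) = s j • b (Sum.inl j) + t' j • b (Sum.inr j)) ∧
      (∀ j, J (b (Sum.inr j)) = t j • b (Sum.inl j) - s j • b (Sum.inr j)) ∧
      (∀ j, t' j * B (b (Sum.inr j)) (b (Sum.inr j)) = t j * B (b (Sum.inl j)) (b (Sum.inl j))) := by
  classical
  have hex : ∀ j : κ, ∃ st : F × F, st.1 * st.1 +
      (B (b (Sum.inl j)) (b (Sum.inl j)) / B (b (Sum.inr j)) (b (Sum.inr j))) *
        (st.2 * st.2) = z := by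
    intro j
    obtain ⟨s, t, hst⟩ := exists_binary h2 _ (div_ne_zero (hne (Sum.inl j)) (hne (Sum.inr j))) z
    exact ⟨(s, t), hst⟩
  choose st hst using hex
  obtain ⟨s, hs⟩ : ∃ s : κ → F, s = fun j => (st j).1 := ⟨_, rfl⟩
  obtain ⟨t, ht⟩ : ∃ t : κ → F, t = fun j => (st j).2 := ⟨_, rfl⟩
  obtain ⟨t', ht'⟩ : ∃ t' : κ → F, t' = fun j => t j *
      (B (b (Sum.inl j)) (b (Sum.inl j)) / B (b (Sum.inr j)) (b (Sum.inr j))) := ⟨_, rfl⟩
  have hst' : ∀ j, s j * s j + t' j * t j = z := by
    intro j
    rw [hs, ht', ht]
    simp only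
    rw [← hst j]
    ring
  have htt : ∀ j, t' j * B (b (Sum.inr j)) (b (Sum.inr j)) =
      t j * B (b (Sum.inl j)) (b (Sum.inl j)) := by
    intro j
    rw [ht']
    simp only
    have := hne (Sum.inr j)
    field_simp
  obtain ⟨J, hJ⟩ : ∃ J : V →ₗ[F] V, J = b.constr F (Sum.elim
      (fun j => s j • b (Sum.inl j) + t' j • b (Sum.inr j))
      (fun j => t j • b (Sum.inl j) - s j • b (Sum.inr j))) := ⟨_, rfl⟩
  have hJl : ∀ j, J (b (Sum.inl j)) = s j • b (Sum.inl j) + t' j • b (Sum.inr j) := by
    intro j
    rw [hJ, Basis.constr_basis]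
    rfl
  have hJr : ∀ j, J (b (Sum.inr j)) = t j • b (Sum.inl j) - s j • b (Sum.inr j) := by
    intro j
    rw [hJ, Basis.constr_basis]
    rfl
  refine ⟨J, s, t, t', ?_, ?_, hJl, hJr, htt⟩
  · have hJJ : J ∘ₗ J = z • LinearMap.id := by
      apply b.ext
      intro i
      rw [LinearMap.comp_apply, LinearMap.smul_apply, LinearMap.id_apply]
      rcases i with j | j
      · rw [hJl, map_add, map_smul, map_smul, hJl, hJr, ← hst' j]
        module
      · rw [hJr, map_sub, map_smul, map_smul, hJl, hJr, ← hst' j]
        module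
    intro v
    have := LinearMap.congr_fun hJJ v
    rw [LinearMap.comp_apply, LinearMap.smul_apply, LinearMap.id_apply] at this
    exact this
  · have hB' : B.compl₁₂ J LinearMap.id = B.compl₁₂ LinearMap.id J := by
      apply b.ext
      intro i
      apply b.ext
      intro i'
      rw [LinearMap.compl₁₂_apply, LinearMap.compl₁₂_apply, LinearMap.id_apply,
        LinearMap.id_apply]
      rcases i with j | j <;> rcases i' with j' | j'
      · rw [hJl, hJl]
        simp only [map_add, map_smul, LinearMap.add_apply, LinearMap.smul_apply, smul_eq_mul]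
        by_cases hjj : j = j'
        · subst hjj
          rw [horth (Sum.inr j) (Sum.inl j) (by simp), horth (Sum.inl j) (Sum.inr j) (by simp)]
        · rw [horth (Sum.inl j) (Sum.inl j') (by simpa using hjj),
            horth (Sum.inr j) (Sum.inl j') (by simp), horth (Sum.inl j) (Sum.inr j') (by simp)]
          ring
      · rw [hJl, hJr]
        simp only [map_add, map_sub, map_smul, LinearMap.add_apply, LinearMap.smul_apply,
          smul_eq_mul]
        by_cases hjj : j = j'
        · subst hjj
          rw [horth (Sum.inl j) (Sum.inr j) (by simp), htt j]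
          ring
        · rw [horth (Sum.inl j) (Sum.inr j') (by simp),
            horth (Sum.inr j) (Sum.inr j') (by simpa using hjj),
            horth (Sum.inl j) (Sum.inl j') (by simpa using hjj)]
          ring
      · rw [hJr, hJl]
        simp only [map_add, map_sub, map_smul, LinearMap.add_apply, LinearMap.sub_apply,
          LinearMap.smul_apply, smul_eq_mul]
        by_cases hjj : j = j'
        · subst hjj
          rw [horth (Sum.inr j) (Sum.inl j) (by simp), htt j]
          ring
        · rw [horth (Sum.inr j) (Sum.inl j') (by simp),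
            horth (Sum.inr j) (Sum.inr j') (by simpa using hjj),
            horth (Sum.inl j) (Sum.inl j') (by simpa using hjj)]
          ring
      · rw [hJr, hJr]
        simp only [map_sub, map_smul, LinearMap.sub_apply, LinearMap.smul_apply, smul_eq_mul]
        by_cases hjj : j = j'
        · subst hjj
          rw [horth (Sum.inr j) (Sum.inl j) (by simp), horth (Sum.inl j) (Sum.inr j) (by simp)]
        · rw [horth (Sum.inr j) (Sum.inr j') (by simpa using hjj),
            horth (Sum.inl j) (Sum.inr j') (by simp), horth (Sum.inr j) (Sum.inl j') (by simp)]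
          ring
    intro u v
    have := LinearMap.congr_fun (LinearMap.congr_fun hB' u) v
    rw [LinearMap.compl₁₂_apply, LinearMap.compl₁₂_apply, LinearMap.id_apply,
      LinearMap.id_apply] at this
    exact this

end paired

end Cfsg.Agent.Lib.Helper29.OF
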