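import Mathlib
import Cfsg.Agent.Lib.Helper29.OF9
import Cfsg.Agent.Lib.Helper29.OF10

/-!
# Isometries with square `-1`: an anticommuting self-adjoint map with prescribed square
-/

set_option autoImplicit false
set_option linter.unusedSectionVars false

namespace Cfsg.Agent.Lib.Helper29.OF

open Module Submodule

section anti

variable {F V : Type*} [Field F] [Fintype F] [AddCommGroup V] [Module F V] [FiniteDimensional F V]

/-- the reflection in a vector `u`, for a bilinear form -/
noncomputable def reflB (B : V →ₗ[F] V →ₗ[F] F) (u : V) : V →ₗ[F] V :=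
  LinearMap.id - (2 / B u u) • (B u).smulRight u

theorem reflB_apply (B : V →ₗ[F] V →ₗ[F] F) (u v : V) :
    reflB B u v = v - (2 * B u v / B u u) • u := by
  unfold reflB
  rw [LinearMap.sub_apply, LinearMap.smul_apply, LinearMap.smulRight_apply, LinearMap.id_apply,
    smul_smul]
  congr 2
  ring

/-- for an isometry `X` with `X² = -1`: a self-adjoint `J` with `J² = z` anticommuting with `X`
and with the conjugate of `X` by a reflection -/
theorem exists_anticommuting (h2 : (2 : F) ≠ 0) (B : V →ₗ[F] V →ₗ[F] F)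
    (hsymm : ∀ u v, B u v = B v u) (hnd : ∀ u, (∀ v, B u v = 0) → u = 0)
    (X : V →ₗ[F] V) (hiso : ∀ u v, B (X u) (X v) = B u v) (hX2 : ∀ v, X (X v) = -v)
    (k : ℕ) (hdim : finrank F V = 2 * (k + 1)) (z : F) :
    ∃ (J : V →ₗ[F] V) (u : V), (∀ v, J (J v) = z • v) ∧ (∀ v w, B (J v) w = B v (J w)) ∧
      (∀ v, X (J v) = -J (X v)) ∧ B u u ≠ 0 ∧
      (∀ v, reflB B u (X (reflB B u (J v))) = -J (reflB B u (X (reflB B u v)))) := by
  classical
  obtain ⟨κ, hκ, hcard, e, hli, hsp, horth⟩ := exists_OTB h2 B hsymm X hiso hX2 (k + 1) ⊤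
    (fun _ _ => Submodule.mem_top) (fun u _ hu => hnd u (fun w => hu w Submodule.mem_top))
    (by rw [finrank_top, hdim])
  let b : Basis (κ ⊕ κ) F V := Basis.mk hli (by rw [hsp])
  have hb : ∀ i, b i = Sum.elim e (fun j => X (e j)) i := fun i => Basis.mk_apply hli _ i
  have hbl : ∀ j, b (Sum.inl j) = e j := fun j => hb _
  have hbr : ∀ j, b (Sum.inr j) = X (e j) := fun j => hb _
  have horth' : ∀ i j, i ≠ j → B (b i) (b j) = 0 := by
    intro i j hij
    rw [hb, hb]
    exact horth i j hij
  have hne : ∀ i, B (b i) (b i) ≠ 0 := by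
    intro i h0
    apply b.ne_zero i
    apply hnd
    intro v
    have hv := b.sum_repr v
    rw [← hv, map_sum]
    apply Finset.sum_eq_zero
    intro i' _
    rw [map_smul]
    by_cases hii : i = i'
    · subst hii
      rw [h0, smul_zero]
    · rw [horth' i i' hii, smul_zero]
  obtain ⟨J, s, t, t', hJJ, hJsa, hJl, hJr, htt⟩ :=
    exists_selfadjoint_of_paired h2 B hsymm b horth' hne z
  have ht' : ∀ j, t' j = t j := by
    intro j
    have h1 := htt j
    rw [hbr, hiso, ← hbl] at h1
    exact mul_right_cancel₀ (hne (Sum.inl j)) h1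
  have hXl : ∀ j, X (b (Sum.inl j)) = b (Sum.inr j) := fun j => by rw [hbl, hbr]
  have hXr : ∀ j, X (b (Sum.inr j)) = -b (Sum.inl j) := fun j => by rw [hbr, hX2, hbl]
  -- a general anticommutation criterion
  have hanti : ∀ (Y : V →ₗ[F] V) (ε : κ → F), (∀ j, Y (b (Sum.inl j)) = ε j • b (Sum.inr j)) →
      (∀ j, Y (b (Sum.inr j)) = -(ε j • b (Sum.inl j))) → ∀ v, Y (J v) = -J (Y v) := by
    intro Y ε hYl hYr
    have hcomp : Y ∘ₗ J = -(J ∘ₗ Y) := by
      apply b.ext
      intro i
      rw [LinearMap.comp_apply, LinearMap.neg_apply, LinearMap.comp_apply]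
      rcases i with j | j
      · rw [hJl, map_add, map_smul, map_smul, hYl, hYr, map_smul, hJr, ht']
        module
      · rw [hJr, map_sub, map_smul, map_smul, hYl, hYr, map_neg, map_smul, hJl, ht']
        module
    intro v
    have := LinearMap.congr_fun hcomp v
    rw [LinearMap.comp_apply, LinearMap.neg_apply, LinearMap.comp_apply] at this
    exact this
  have hκne : Nonempty κ := by
    rw [← Fintype.card_pos_iff, hcard]
    omega
  obtain ⟨j₀⟩ := hκne
  obtain ⟨u, hu⟩ : ∃ u : V, u = b (Sum.inr j₀) := ⟨_, rfl⟩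
  have huu : B u u ≠ 0 := by rw [hu]; exact hne _
  have hτfix : ∀ i, i ≠ Sum.inr j₀ → reflB B u (b i) = b i := by
    intro i hi
    rw [reflB_apply, hu, horth' (Sum.inr j₀) i (fun h => hi h.symm)]
    simp
  have hτu : reflB B u u = -u := by
    rw [reflB_apply, mul_div_assoc, div_self huu]
    module
  refine ⟨J, u, hJJ, hJsa, ?_, huu, ?_⟩
  · apply hanti X (fun _ => 1)
    · intro j; rw [hXl, one_smul]
    · intro j; rw [hXr, one_smul]
  · let Y : V →ₗ[F] V := reflB B u ∘ₗ X ∘ₗ reflB B u
    have hY : ∀ v, Y v = reflB B u (X (reflB B u v)) := fun v => rfl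
    have := hanti Y (fun j => if j = j₀ then -1 else 1) (by
      intro j
      rw [hY, hτfix (Sum.inl j) (by simp), hXl]
      by_cases hj : j = j₀
      · rw [hj, if_pos rfl, ← hu, hτu]
        simp
      · rw [if_neg hj, one_smul, hτfix (Sum.inr j) (by simpa using hj)]) (by
      intro j
      by_cases hj : j = j₀
      · have hXu : X u = -b (Sum.inl j₀) := by rw [hu, hXr]
        rw [hj, if_pos rfl, hY, ← hu, hτu, map_neg, hXu, neg_neg, hτfix (Sum.inl j₀) (by simp)]
        simp
      · rw [hY, hτfix (Sum.inr j) (by simpa using hj), hXr, map_neg,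
          hτfix (Sum.inl j) (by simp), if_neg hj, one_smul])
    intro v
    exact this v

end anti

end Cfsg.Agent.Lib.Helper29.OF
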