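import Mathlib
import Cfsg.Agent.Lib.Helper29.OF9
import Cfsg.Agent.Lib.Helper29.LO14
import Cfsg.Agent.Lib.Helper6.Discr

/-!
# Isometric involutions of determinant one: a commuting self-adjoint map with prescribed square
-/

set_option autoImplicit false
set_option linter.unusedSectionVars false

namespace Cfsg.Agent.Lib.Helper29.OF

open Module Submodule Cfsg.Agent.Lib.Helper6

section comm

variable {F V : Type*} [Field F] [Fintype F] [AddCommGroup V] [Module F V] [FiniteDimensional F V]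

/-- a paired orthogonal eigenbasis for an isometric involution of determinant one -/
theorem exists_paired_eigenbasis (h2 : (2 : F) ≠ 0) (B : V →ₗ[F] V →ₗ[F] F)
    (hsymm : ∀ u v, B u v = B v u) (hnd : ∀ u, (∀ v, B u v = 0) → u = 0)
    (X : V →ₗ[F] V) (hiso : ∀ u v, B (X u) (X v) = B u v) (hX2 : ∀ v, X (X v) = v)
    (hdet : LinearMap.det X = 1) (k : ℕ) (hdim : finrank F V = 2 * k) :
    ∃ (κ : Type) (_ : Fintype κ) (_ : DecidableEq κ) (b : Basis (κ ⊕ κ) F V) (ε : κ → F),
      Fintype.card κ = k ∧ (∀ i j, i ≠ j → B (b i) (b j) = 0) ∧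
      (∀ j, X (b (Sum.inl j)) = ε j • b (Sum.inl j)) ∧
      (∀ j, X (b (Sum.inr j)) = ε j • b (Sum.inr j)) := by
  classical
  haveI : Invertible (2 : F) := invertibleOfNonzero h2
  obtain ⟨Vp, hVp⟩ : ∃ Vp : Submodule F V, Vp = Module.End.eigenspace X 1 := ⟨_, rfl⟩
  obtain ⟨Vm, hVm⟩ : ∃ Vm : Submodule F V, Vm = Module.End.eigenspace X (-1) := ⟨_, rfl⟩
  have hmemp : ∀ v, v ∈ Vp ↔ X v = v := by
    intro v
    rw [hVp, Module.End.mem_eigenspace_iff, one_smul]
  have hmemm : ∀ v, v ∈ Vm ↔ X v = -v := by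
    intro v
    rw [hVm, Module.End.mem_eigenspace_iff, neg_one_smul]
  have hcompl : IsCompl Vp Vm := by
    constructor
    · rw [disjoint_iff, eq_bot_iff]
      intro v hv
      obtain ⟨h1, h3⟩ := Submodule.mem_inf.mp hv
      rw [hmemp] at h1
      rw [hmemm] at h3
      have h5 : (2 : F) • v = 0 := by
        rw [two_smul]
        nth_rewrite 1 [← h1]
        rw [h3, neg_add_cancel]
      exact (smul_eq_zero.mp h5).resolve_left h2
    · rw [codisjoint_iff, eq_top_iff]
      intro v _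
      have hv : v = (⅟(2 : F)) • (v + X v) + (⅟(2 : F)) • (v - X v) := by
        rw [← smul_add, add_add_sub_cancel, ← two_smul F v, smul_smul, invOf_mul_self, one_smul]
      rw [hv]
      apply Submodule.add_mem_sup
      · apply Submodule.smul_mem
        rw [hmemp, map_add, hX2, add_comm]
      · apply Submodule.smul_mem
        rw [hmemm, map_sub, hX2]
        abel
  have hperp : ∀ u ∈ Vp, ∀ w ∈ Vm, B u w = 0 := by
    intro u hu w hw
    rw [hmemp] at hu
    rw [hmemm] at hw
    have h1 := hiso u w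
    rw [hu, hw, map_neg] at h1
    have h3 : (2 : F) * B u w = 0 := by linear_combination -h1
    exact (mul_eq_zero.mp h3).resolve_left h2
  have hSp : LinearMap.IsSymm (LinearMap.BilinForm.restrict B Vp) :=
    ⟨fun x y => by rw [RingHom.id_apply]; exact hsymm x y⟩
  have hSm : LinearMap.IsSymm (LinearMap.BilinForm.restrict B Vm) :=
    ⟨fun x y => by rw [RingHom.id_apply]; exact hsymm x y⟩
  obtain ⟨np, bp, hbp⟩ : ∃ (np : ℕ) (bp : Basis (Fin np) F Vp),
      ∀ i j, i ≠ j → B (bp i) (bp j) = 0 := by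
    obtain ⟨v, hv⟩ := LinearMap.BilinForm.exists_orthogonal_basis hSp
    exact ⟨_, v, fun i j hij => hv hij⟩
  obtain ⟨nm, bm, hbm⟩ : ∃ (nm : ℕ) (bm : Basis (Fin nm) F Vm),
      ∀ i j, i ≠ j → B (bm i) (bm j) = 0 := by
    obtain ⟨v, hv⟩ := LinearMap.BilinForm.exists_orthogonal_basis hSm
    exact ⟨_, v, fun i j hij => hv hij⟩
  have hnp : finrank F Vp = np := by rw [Module.finrank_eq_card_basis bp, Fintype.card_fin]
  have hnm : finrank F Vm = nm := by rw [Module.finrank_eq_card_basis bm, Fintype.card_fin]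
  have hsum : np + nm = 2 * k := by
    rw [← hnp, ← hnm, Submodule.finrank_add_eq_of_isCompl hcompl, hdim]
  let b₀ : Basis (Fin np ⊕ Fin nm) F V := complBasis hcompl bp bm
  let d : Fin np ⊕ Fin nm → F := Sum.elim (fun _ => 1) (fun _ => -1)
  have hb₀l : ∀ i, b₀ (Sum.inl i) = (bp i : V) := fun i => complBasis_inl hcompl bp bm i
  have hb₀r : ∀ i, b₀ (Sum.inr i) = (bm i : V) := fun i => complBasis_inr hcompl bp bm i
  have hX₀ : ∀ i, X (b₀ i) = d i • b₀ i := by
    intro i
    rcases i with i | i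
    · rw [hb₀l]
      show X (bp i : V) = (1 : F) • (bp i : V)
      rw [one_smul]
      exact (hmemp _).mp (bp i).2
    · rw [hb₀r]
      show X (bm i : V) = (-1 : F) • (bm i : V)
      rw [neg_one_smul]
      exact (hmemm _).mp (bm i).2
  have horth₀ : ∀ i j, i ≠ j → B (b₀ i) (b₀ j) = 0 := by
    intro i j hij
    rcases i with i | i <;> rcases j with j | j
    · rw [hb₀l, hb₀l]
      exact hbp i j (fun h => hij (by rw [h]))
    · rw [hb₀l, hb₀r]
      exact hperp _ (bp i).2 _ (bm j).2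
    · rw [hb₀r, hb₀l, hsymm]
      exact hperp _ (bp j).2 _ (bm i).2
    · rw [hb₀r, hb₀r]
      exact hbm i j (fun h => hij (by rw [h]))
  have hdetX := Cfsg.Agent.Lib.Helper29.LO.det_of_eigenbasis b₀ X d hX₀
  rw [hdet, Fintype.prod_sum_type] at hdetX
  simp only [d, Sum.elim_inl, Sum.elim_inr, Finset.prod_const, Finset.card_univ, Fintype.card_fin,
    one_pow, one_mul] at hdetX
  have hne1 : (-1 : F) ≠ 1 := by
    intro h
    apply h2
    have : (2 : F) = 1 - (-1) := by ring
    rw [this, h, sub_self]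
  have hevm : Even nm := (neg_one_pow_eq_one_iff_even hne1).mp hdetX.symm
  obtain ⟨mm, hmm⟩ := hevm
  have hevp : Even np := by
    rw [Nat.even_iff]
    omega
  obtain ⟨mp, hmp⟩ := hevp
  subst hmm
  subst hmp
  let e : Fin (mp + mp) ⊕ Fin (mm + mm) ≃ (Fin mp ⊕ Fin mm) ⊕ (Fin mp ⊕ Fin mm) :=
    (Equiv.sumCongr finSumFinEquiv.symm finSumFinEquiv.symm).trans
      (Equiv.sumSumSumComm (Fin mp) (Fin mp) (Fin mm) (Fin mm))
  let ε : Fin mp ⊕ Fin mm → F := Sum.elim (fun _ => 1) (fun _ => -1)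
  have hde : ∀ j, d (e.symm (Sum.inl j)) = ε j ∧ d (e.symm (Sum.inr j)) = ε j := by
    intro j
    rcases j with a | a <;> exact ⟨rfl, rfl⟩
  refine ⟨Fin mp ⊕ Fin mm, inferInstance, inferInstance, b₀.reindex e, ε, ?_, ?_, ?_, ?_⟩
  · rw [Fintype.card_sum, Fintype.card_fin, Fintype.card_fin]
    omega
  · intro i j hij
    rw [Basis.reindex_apply, Basis.reindex_apply]
    exact horth₀ _ _ (fun h => hij (e.symm.injective h))
  · intro j
    rw [Basis.reindex_apply, hX₀, (hde j).1]
  · intro j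
    rw [Basis.reindex_apply, hX₀, (hde j).2]

/-- for an isometric involution `X` of determinant one: a self-adjoint `J` with `J² = z`
commuting with `X`, and eigenvectors of `X` with prescribed norms -/
theorem exists_commuting (h2 : (2 : F) ≠ 0) (B : V →ₗ[F] V →ₗ[F] F)
    (hsymm : ∀ u v, B u v = B v u) (hnd : ∀ u, (∀ v, B u v = 0) → u = 0)
    (X : V →ₗ[F] V) (hiso : ∀ u v, B (X u) (X v) = B u v) (hX2 : ∀ v, X (X v) = v)
    (hdet : LinearMap.det X = 1) (k : ℕ) (hdim : finrank F V = 2 * (k + 1)) (z : F) :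
    ∃ (J : V →ₗ[F] V), (∀ v, J (J v) = z • v) ∧ (∀ v w, B (J v) w = B v (J w)) ∧
      (∀ v, X (J v) = J (X v)) ∧
      ∀ c : F, c ≠ 0 → ∃ (u : V) (ε : F), B u u = c ∧ X u = ε • u := by
  classical
  obtain ⟨κ, hκ, hκd, b, ε, hcard, horth, hXl, hXr⟩ :=
    exists_paired_eigenbasis h2 B hsymm hnd X hiso hX2 hdet (k + 1) hdim
  have hne : ∀ i, B (b i) (b i) ≠ 0 := by
    intro i h0
    apply b.ne_zero i
    apply hnd
    intro v
    have hv := b.sum_repr v
    rw [← hv, map_sum]
    apply Finset.sum_eq_zero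
    intro i' _
    rw [map_smul]
    by_cases hii : i = i'
    · subst hii
      rw [h0, smul_zero]
    · rw [horth i i' hii, smul_zero]
  obtain ⟨J, s, t, t', hJJ, hJsa, hJl, hJr, -⟩ :=
    exists_selfadjoint_of_paired h2 B hsymm b horth hne z
  refine ⟨J, hJJ, hJsa, ?_, ?_⟩
  · have hcomp : X ∘ₗ J = J ∘ₗ X := by
      apply b.ext
      intro i
      rw [LinearMap.comp_apply, LinearMap.comp_apply]
      rcases i with j | j
      · rw [hJl, map_add, map_smul, map_smul, hXl, hXr, map_smul, hJl]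
        module
      · rw [hJr, map_sub, map_smul, map_smul, hXl, hXr, map_smul, hJr]
        module
    intro v
    have := LinearMap.congr_fun hcomp v
    rw [LinearMap.comp_apply, LinearMap.comp_apply] at this
    exact this
  · intro c hc
    have hκne : Nonempty κ := by
      rw [← Fintype.card_pos_iff, hcard]
      omega
    obtain ⟨j⟩ := hκne
    obtain ⟨α, hα⟩ : ∃ α : F, α = B (b (Sum.inl j)) (b (Sum.inl j)) := ⟨_, rfl⟩
    obtain ⟨α', hα'⟩ : ∃ α' : F, α' = B (b (Sum.inr j)) (b (Sum.inr j)) := ⟨_, rfl⟩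
    have hα0 : α ≠ 0 := by rw [hα]; exact hne _
    have hα'0 : α' ≠ 0 := by rw [hα']; exact hne _
    obtain ⟨s₀, t₀, hst⟩ := exists_binary h2 (α' / α) (div_ne_zero hα'0 hα0) (c / α)
    refine ⟨s₀ • b (Sum.inl j) + t₀ • b (Sum.inr j), ε j, ?_, ?_⟩
    · simp only [map_add, map_smul, LinearMap.add_apply, LinearMap.smul_apply, smul_eq_mul]
      rw [horth (Sum.inl j) (Sum.inr j) (by simp), horth (Sum.inr j) (Sum.inl j) (by simp),
        ← hα, ← hα']
      have h5 : c = α * (s₀ * s₀ + α' / α * (t₀ * t₀)) := by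
        rw [hst]
        field_simp
      rw [h5]
      field_simp
      ring
    · rw [map_add, map_smul, map_smul, hXl, hXr]
      module

end comm

end Cfsg.Agent.Lib.Helper29.OF
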