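import Mathlib
import Cfsg.Agent.Lib.Helper29.OF2
import Cfsg.Agent.Lib.Helper29.OF5
import Cfsg.Agent.Lib.Helper6.Spinor3
import Cfsg.Agent.Lib.Helper6.OmegaList

/-!
# Adjusting a conjugating isometry into `Ω` by reflections
-/

set_option autoImplicit false
set_option linter.unusedSectionVars false

namespace Cfsg.Agent.Lib.Helper29.OF

open Module Matrix QuadraticMap

section adjust

variable {F : Type*} [Field F] [Fintype F] {ι : Type} [Fintype ι] [DecidableEq ι]

local notation "VV" => (ι → F)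
local notation "MM" => Matrix ι ι F

/-- the product of the reflections of a list -/
noncomputable def rprod (Q : QuadraticForm F VV) (vs : List VV) : MM :=
  (vs.map (fun v => Cfsg.reflectionMatrix ⇑Q v)).prod

/-- the product of the values of a list -/
noncomputable def qprod (Q : QuadraticForm F VV) (vs : List VV) : F :=
  (vs.map (fun v => Q v)).prod

theorem rprod_append (Q : QuadraticForm F VV) (ws vs : List VV) :
    rprod Q (ws ++ vs) = rprod Q ws * rprod Q vs := by
  unfold rprod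
  rw [List.map_append, List.prod_append]

theorem qprod_append (Q : QuadraticForm F VV) (ws vs : List VV) :
    qprod Q (ws ++ vs) = qprod Q ws * qprod Q vs := by
  unfold qprod
  rw [List.map_append, List.prod_append]

/-- a product of reflections as an element of the isometry group -/
theorem exists_refl_list (Q : QuadraticForm F VV) (vs : List VV) (hvs : ∀ v ∈ vs, Q v ≠ 0) :
    ∃ R : GL ι F, R ∈ Cfsg.isometryGroup F ⇑Q ∧ (R : MM) = rprod Q vs := by
  classical
  obtain ⟨g, hg⟩ := Cfsg.Agent.Lib.Helper6.exists_of_list' Q vs hvs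
  exact ⟨g.1, g.2, hg⟩

/-- the spinor norm criterion in `GL` -/
theorem mem_omegaGL_iff_list (Q : QuadraticForm F VV) (h2 : (2 : F) ≠ 0)
    (hQ : (polarBilin Q).Nondegenerate) (hcard : 2 ≤ Fintype.card ι) (g : GL ι F)
    (hg : g ∈ Cfsg.isometryGroup F ⇑Q) (vs : List VV) (hvs : ∀ v ∈ vs, Q v ≠ 0)
    (hgv : (g : MM) = rprod Q vs) :
    g ∈ Cfsg.Geo.omegaGL ⇑Q ↔ (Even vs.length ∧ IsSquare (qprod Q vs)) := by
  classical
  rw [qprod, ← Cfsg.Agent.Lib.Helper6.mem_Omega_iff_list' Q h2 hQ hcard ⟨g, hg⟩ vs hvs hgv]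
  constructor
  · intro h
    obtain ⟨y, hy, hyg⟩ := Subgroup.mem_map.mp h
    have : y = ⟨g, hg⟩ := Subtype.ext hyg
    rw [← this]
    exact hy
  · intro h
    exact Subgroup.mem_map.mpr ⟨⟨g, hg⟩, h, rfl⟩

/-- every isometry is a product of reflections -/
theorem exists_list_GL (Q : QuadraticForm F VV) (hQ : (polarBilin Q).Nondegenerate)
    (h : Fintype.card F ≠ 2 ∨ Fintype.card ι ≠ 4) (g : GL ι F)
    (hg : g ∈ Cfsg.isometryGroup F ⇑Q) :
    ∃ vs : List VV, (∀ v ∈ vs, Q v ≠ 0) ∧ (g : MM) = rprod Q vs := by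
  classical
  exact Cfsg.Agent.Lib.Helper6.exists_list' Q hQ h ⟨g, hg⟩

/-- a reflection in an eigenvector of an isometry commutes with it -/
theorem refl_comm_of_eigen (Q : QuadraticForm F VV) (x : GL ι F)
    (hx : x ∈ Cfsg.isometryGroup F ⇑Q) (u : VV) (hu : Q u ≠ 0) (ε : F)
    (hxu : (x : MM) *ᵥ u = ε • u) :
    (x : MM) * Cfsg.reflectionMatrix ⇑Q u = Cfsg.reflectionMatrix ⇑Q u * (x : MM) := by
  have hiso := (Cfsg.Agent.Lib.Helper15.mem_isometryGroup_iff ⇑Q x).mp hx
  have hεε : ε * ε = 1 := by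
    have h1 := hiso u
    rw [hxu, QuadraticMap.map_smul, smul_eq_mul] at h1
    have h3 : (ε * ε - 1) * Q u = 0 := by linear_combination h1
    rcases mul_eq_zero.mp h3 with h4 | h4
    · exact sub_eq_zero.mp h4
    · exact absurd h4 hu
  apply Cfsg.Agent.Lib.Helper6.matrix_ext_mulVec
  intro w
  have hp : polar ⇑Q u ((x : MM) *ᵥ w) = ε * polar ⇑Q u w := by
    have h1 := polar_isometry ⇑Q x hx u w
    rw [hxu, polar_smul_left, smul_eq_mul] at h1
    calc polar ⇑Q u ((x : MM) *ᵥ w) = (ε * ε) * polar ⇑Q u ((x : MM) *ᵥ w) := by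
          rw [hεε, one_mul]
      _ = ε * polar ⇑Q u w := by rw [← h1]; ring
  rw [← Matrix.mulVec_mulVec, ← Matrix.mulVec_mulVec,
    Cfsg.Agent.Lib.Helper6.reflectionMatrix_mulVec, Cfsg.Agent.Lib.Helper6.reflectionMatrix_mulVec,
    Matrix.mulVec_sub, Matrix.mulVec_smul, hxu, hp, smul_smul]
  congr 2
  ring

theorem rprod_comm_of_eigen (Q : QuadraticForm F VV) (x : GL ι F)
    (hx : x ∈ Cfsg.isometryGroup F ⇑Q) (ws : List VV)
    (hws : ∀ v ∈ ws, Q v ≠ 0 ∧ ∃ ε : F, (x : MM) *ᵥ v = ε • v) :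
    (x : MM) * rprod Q ws = rprod Q ws * (x : MM) := by
  induction ws with
  | nil => simp [rprod]
  | cons w ws ih =>
    obtain ⟨hw, ε, hε⟩ := hws w List.mem_cons_self
    have ih' := ih (fun v hv => hws v (List.mem_cons_of_mem _ hv))
    have h1 : rprod Q (w :: ws) = Cfsg.reflectionMatrix ⇑Q w * rprod Q ws := by
      simp [rprod]
    rw [h1, ← Matrix.mul_assoc, refl_comm_of_eigen Q x hx w hw ε hε, Matrix.mul_assoc, ih',
      Matrix.mul_assoc]

theorem det_reflectionMatrix (Q : QuadraticForm F VV) (h2 : (2 : F) ≠ 0) (v : VV)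
    (hv : Q v ≠ 0) : (Cfsg.reflectionMatrix ⇑Q v).det = -1 := by
  unfold Cfsg.reflectionMatrix
  rw [sub_eq_add_neg, ← neg_smul, Cfsg.Agent.Lib.Helper6.det_one_add_smul_vecMulVec,
    Cfsg.Agent.Lib.Helper6.polarVec_dot, QuadraticMap.polar_self, nsmul_eq_mul]
  push_cast
  field_simp
  ring

/-- product of two non-squares -/
theorem isSquare_mul_of_not (h2 : (2 : F) ≠ 0) (c ζ : F) (hc : ¬ IsSquare c)
    (hζ : ¬ IsSquare ζ) : IsSquare (c * ζ) := by
  have hc0 : c ≠ 0 := by
    rintro rfl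
    exact hc ⟨0, by simp⟩
  have hζ0 : ζ ≠ 0 := by
    rintro rfl
    exact hζ ⟨0, by simp⟩
  obtain ⟨t, ht⟩ := isSquare_div_of_not h2 c ζ hc0 hc hζ
  refine ⟨t * ζ, ?_⟩
  have : c = t * t * ζ := by
    rw [← ht]
    field_simp
  rw [this]
  ring

/-- adjusting on the left by reflections in eigenvectors of `x` -/
theorem conj_adjust_invol (Q : QuadraticForm F VV) (h2 : (2 : F) ≠ 0)
    (hQ : (polarBilin Q).Nondegenerate) (hcard : 2 ≤ Fintype.card ι)
    (hF : Fintype.card F ≠ 2 ∨ Fintype.card ι ≠ 4) (x : GL ι F)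
    (hx : x ∈ Cfsg.isometryGroup F ⇑Q) (u₁ u₂ : VV) (ε₁ ε₂ : F)
    (hu₁ : (x : MM) *ᵥ u₁ = ε₁ • u₁) (hu₂ : (x : MM) *ᵥ u₂ = ε₂ • u₂)
    (hQ1 : IsSquare (Q u₁)) (hQ1' : Q u₁ ≠ 0) (hQ2 : ¬ IsSquare (Q u₂))
    (g : GL ι F) (hg : g ∈ Cfsg.isometryGroup F ⇑Q) :
    ∃ g₂ ∈ Cfsg.Geo.omegaGL ⇑Q, g₂⁻¹ * x * g₂ = g⁻¹ * x * g := by
  classical
  have hQ2' : Q u₂ ≠ 0 := by
    intro h
    apply hQ2
    rw [h]
    exact ⟨0, by simp⟩
  obtain ⟨vs, hvs, hgv⟩ := exists_list_GL Q hQ hF g hg
  have key : ∀ ws : List VV, (∀ v ∈ ws, Q v ≠ 0 ∧ ∃ ε : F, (x : MM) *ᵥ v = ε • v) →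
      Even (ws ++ vs).length → IsSquare (qprod Q (ws ++ vs)) →
      ∃ g₂ ∈ Cfsg.Geo.omegaGL ⇑Q, g₂⁻¹ * x * g₂ = g⁻¹ * x * g := by
    intro ws hws hev hsq
    obtain ⟨R, hR, hRw⟩ := exists_refl_list Q ws (fun v hv => (hws v hv).1)
    have hcomm : x * R = R * x := by
      apply Units.ext
      rw [Units.val_mul, Units.val_mul, hRw]
      exact rprod_comm_of_eigen Q x hx ws hws
    refine ⟨R * g, ?_, ?_⟩
    · rw [mem_omegaGL_iff_list Q h2 hQ hcard (R * g) (Subgroup.mul_mem _ hR hg) (ws ++ vs)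
        (by
          intro v hv
          rcases List.mem_append.mp hv with h | h
          · exact (hws v h).1
          · exact hvs v h)
        (by rw [Units.val_mul, hRw, hgv, rprod_append])]
      exact ⟨hev, hsq⟩
    · rw [_root_.mul_inv_rev]
      calc g⁻¹ * R⁻¹ * x * (R * g) = g⁻¹ * (R⁻¹ * (x * R)) * g := by group
        _ = g⁻¹ * (R⁻¹ * (R * x)) * g := by rw [hcomm]
        _ = g⁻¹ * x * g := by group
  have he1 : ∀ v, (v = u₁ ∨ v = u₂) → Q v ≠ 0 ∧ ∃ ε : F, (x : MM) *ᵥ v = ε • v := by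
    rintro v (rfl | rfl)
    · exact ⟨hQ1', ε₁, hu₁⟩
    · exact ⟨hQ2', ε₂, hu₂⟩
  by_cases hev : Even vs.length
  · by_cases hsq : IsSquare (qprod Q vs)
    · exact key [] (by simp) (by simpa using hev) (by simpa using hsq)
    · refine key [u₁, u₂] (fun v hv => he1 v (by simpa using hv)) ?_ ?_
      · rw [List.length_append]
        simp only [List.length_cons, List.length_nil]
        exact Even.add (by decide) hev
      · rw [qprod_append]
        have h1 : qprod Q [u₁, u₂] = Q u₁ * Q u₂ := by simp [qprod]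
        rw [h1]
        obtain ⟨t, ht⟩ := hQ1
        obtain ⟨s, hs⟩ := isSquare_mul_of_not h2 _ _ hQ2 hsq
        exact ⟨t * s, by rw [ht, mul_assoc, hs]; ring⟩
  · have hodd : Odd vs.length := Nat.not_even_iff_odd.mp hev
    by_cases hsq : IsSquare (qprod Q vs)
    · refine key [u₁] (fun v hv => he1 v (by simp at hv; exact Or.inl hv)) ?_ ?_
      · rw [List.length_append]
        simp only [List.length_cons, List.length_nil]
        exact Odd.add_odd (by decide) hodd
      · rw [qprod_append]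
        have h1 : qprod Q [u₁] = Q u₁ := by simp [qprod]
        rw [h1]
        exact IsSquare.mul hQ1 hsq
    · refine key [u₂] (fun v hv => he1 v (by simp at hv; exact Or.inr hv)) ?_ ?_
      · rw [List.length_append]
        simp only [List.length_cons, List.length_nil]
        exact Odd.add_odd (by decide) hodd
      · rw [qprod_append]
        have h1 : qprod Q [u₂] = Q u₂ := by simp [qprod]
        rw [h1]
        exact isSquare_mul_of_not h2 _ _ hQ2 hsq

/-- adjusting on the left by at most one given reflection and on the right by at most one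
given pair of reflections -/
theorem exists_adjust (Q : QuadraticForm F VV) (h2 : (2 : F) ≠ 0)
    (hQ : (polarBilin Q).Nondegenerate) (hcard : 2 ≤ Fintype.card ι)
    (hF : Fintype.card F ≠ 2 ∨ Fintype.card ι ≠ 4) (u v w : VV) (hu : Q u ≠ 0)
    (hv : Q v ≠ 0) (hw : Q w ≠ 0) (hvw : ¬ IsSquare (Q v * Q w))
    (g : GL ι F) (hg : g ∈ Cfsg.isometryGroup F ⇑Q) :
    ∃ R a : GL ι F, (R = 1 ∨ (R : MM) = Cfsg.reflectionMatrix ⇑Q u) ∧
      (a = 1 ∨ (a : MM) = Cfsg.reflectionMatrix ⇑Q v * Cfsg.reflectionMatrix ⇑Q w) ∧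
      R ∈ Cfsg.isometryGroup F ⇑Q ∧ a ∈ Cfsg.isometryGroup F ⇑Q ∧
      R * g * a ∈ Cfsg.Geo.omegaGL ⇑Q := by
  classical
  obtain ⟨vs, hvs, hgv⟩ := exists_list_GL Q hQ hF g hg
  -- first step: even length
  obtain ⟨R, ws, hR1, hRiso, hws, hRw, hev⟩ : ∃ (R : GL ι F) (ws : List VV),
      (R = 1 ∨ (R : MM) = Cfsg.reflectionMatrix ⇑Q u) ∧ R ∈ Cfsg.isometryGroup F ⇑Q ∧
      (∀ v ∈ ws, Q v ≠ 0) ∧ ((R * g : GL ι F) : MM) = rprod Q ws ∧ Even ws.length := by
    by_cases hev : Even vs.length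
    · exact ⟨1, vs, Or.inl rfl, Subgroup.one_mem _, hvs, by rw [one_mul, hgv], hev⟩
    · obtain ⟨R, hR, hRw⟩ := exists_refl_list Q [u] (by simpa using hu)
      have h1 : rprod Q [u] = Cfsg.reflectionMatrix ⇑Q u := by simp [rprod]
      refine ⟨R, u :: vs, Or.inr (by rw [hRw, h1]), hR, ?_, ?_, ?_⟩
      · intro v hv
        rcases List.mem_cons.mp hv with rfl | h
        · exact hu
        · exact hvs v h
      · rw [Units.val_mul, hRw, hgv, ← rprod_append]
        rfl
      · rw [List.length_cons]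
        exact Nat.even_add_one.mpr hev
  by_cases hsq : IsSquare (qprod Q ws)
  · refine ⟨R, 1, hR1, Or.inl rfl, hRiso, Subgroup.one_mem _, ?_⟩
    rw [mul_one, mem_omegaGL_iff_list Q h2 hQ hcard (R * g) (Subgroup.mul_mem _ hRiso hg) ws hws
      hRw]
    exact ⟨hev, hsq⟩
  · obtain ⟨a, ha, haw⟩ := exists_refl_list Q [v, w] (by
      intro y hy
      simp only [List.mem_cons, List.not_mem_nil, or_false] at hy
      rcases hy with rfl | rfl
      · exact hv
      · exact hw)
    have h1 : rprod Q [v, w] = Cfsg.reflectionMatrix ⇑Q v * Cfsg.reflectionMatrix ⇑Q w := by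
      simp [rprod]
    refine ⟨R, a, hR1, Or.inr (by rw [haw, h1]), hRiso, ha, ?_⟩
    rw [mem_omegaGL_iff_list Q h2 hQ hcard (R * g * a)
      (Subgroup.mul_mem _ (Subgroup.mul_mem _ hRiso hg) ha) (ws ++ [v, w])
      (by
        intro y hy
        rcases List.mem_append.mp hy with h | h
        · exact hws y h
        · simp only [List.mem_cons, List.not_mem_nil, or_false] at h
          rcases h with rfl | rfl
          · exact hv
          · exact hw)
      (by rw [Units.val_mul, hRw, haw, rprod_append])]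
    constructor
    · rw [List.length_append]
      simp only [List.length_cons, List.length_nil]
      exact Even.add hev (by decide)
    · rw [qprod_append]
      have h3 : qprod Q [v, w] = Q v * Q w := by simp [qprod]
      rw [h3]
      exact isSquare_mul_of_not h2 _ _ hsq hvw

end adjust

end Cfsg.Agent.Lib.Helper29.OF
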