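import Mathlib
import Cfsg.Agent.Lib.Helper29.OF8
import Cfsg.Agent.Lib.Helper29.OF13
import Cfsg.Agent.Lib.Helper15.PSpM8

/-!
# A pair of reflections commuting with the field, and the normaliser criterion
-/

set_option autoImplicit false
set_option linter.unusedSectionVars false

namespace Cfsg.Agent.Lib.Helper29.OF

open Module Matrix QuadraticMap Polynomial

section pair

variable {F : Type*} [Field F] [Fintype F] {ι : Type} [Fintype ι] [DecidableEq ι]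

local notation "VV" => (ι → F)
local notation "MM" => Matrix ι ι F

theorem refl_mul_self (Q : QuadraticForm F VV) (a : VV) (ha : Q a ≠ 0) :
    Cfsg.reflectionMatrix ⇑Q a * Cfsg.reflectionMatrix ⇑Q a = 1 := by
  apply Cfsg.Agent.Lib.Helper6.matrix_ext_mulVec
  intro x
  rw [← mulVec_mulVec, one_mulVec, Cfsg.Agent.Lib.Helper6.reflectionMatrix_mulVec,
    Cfsg.Agent.Lib.Helper6.reflectionMatrix_mulVec,
    QuadraticMap.polar_sub_right, QuadraticMap.polar_smul_right, QuadraticMap.polar_self]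
  ext i
  simp only [Pi.sub_apply, Pi.smul_apply, smul_eq_mul, nsmul_eq_mul, Nat.cast_ofNat]
  field_simp
  ring

/-- the product of the reflections in `v` and `J v` commutes with `J` -/
theorem refl_pair_comm (Q : QuadraticForm F VV) (h2 : (2 : F) ≠ 0) (J : MM) (z : F)
    (hz : z ≠ 0) (hJ : J * J = z • (1 : MM))
    (hsa : ∀ u v : VV, polar ⇑Q (J *ᵥ u) v = polar ⇑Q u (J *ᵥ v)) (v : VV) (hv : Q v ≠ 0)
    (hvJ : polar ⇑Q v (J *ᵥ v) = 0) :
    Q (J *ᵥ v) = z * Q v ∧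
    (Cfsg.reflectionMatrix ⇑Q v * Cfsg.reflectionMatrix ⇑Q (J *ᵥ v)) * J =
      J * (Cfsg.reflectionMatrix ⇑Q v * Cfsg.reflectionMatrix ⇑Q (J *ᵥ v)) := by
  have hJJ : ∀ w : VV, J *ᵥ (J *ᵥ w) = z • w := by
    intro w
    rw [Matrix.mulVec_mulVec, hJ, Matrix.smul_mulVec, Matrix.one_mulVec]
  have hQJ : Q (J *ᵥ v) = z * Q v := by
    have h1 : polar ⇑Q (J *ᵥ v) (J *ᵥ v) = z * polar ⇑Q v v := by
      rw [hsa, hJJ, polar_smul_right, smul_eq_mul]
    rw [polar_self, polar_self] at h1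
    simp only [nsmul_eq_mul, Nat.cast_ofNat] at h1
    have h3 : 2 * (Q (J *ᵥ v) - z * Q v) = 0 := by linear_combination h1
    rcases mul_eq_zero.mp h3 with h4 | h4
    · exact absurd h4 h2
    · exact sub_eq_zero.mp h4
  refine ⟨hQJ, ?_⟩
  apply Cfsg.Agent.Lib.Helper6.matrix_ext_mulVec
  intro w
  obtain ⟨α, hα⟩ : ∃ α : F, α = polar ⇑Q v w := ⟨_, rfl⟩
  obtain ⟨β, hβ⟩ : ∃ β : F, β = polar ⇑Q (J *ᵥ v) w := ⟨_, rfl⟩
  have hp1 : polar ⇑Q (J *ᵥ v) (J *ᵥ w) = z * α := by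
    rw [hsa, hJJ, polar_smul_right, smul_eq_mul, hα]
  have hp2 : polar ⇑Q v (J *ᵥ w) = β := by
    rw [← hsa, hβ]
  have e1 : Cfsg.reflectionMatrix ⇑Q (J *ᵥ v) *ᵥ (J *ᵥ w) =
      J *ᵥ w - ((Q v)⁻¹ * α) • (J *ᵥ v) := by
    rw [Cfsg.Agent.Lib.Helper6.reflectionMatrix_mulVec, hp1, hQJ]
    congr 2
    field_simp
  have e2 : Cfsg.reflectionMatrix ⇑Q v *ᵥ (J *ᵥ w - ((Q v)⁻¹ * α) • (J *ᵥ v)) =
      J *ᵥ w - ((Q v)⁻¹ * α) • (J *ᵥ v) - ((Q v)⁻¹ * β) • v := by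
    rw [Cfsg.Agent.Lib.Helper6.reflectionMatrix_mulVec, polar_sub_right, polar_smul_right, hp2,
      hvJ, smul_zero, sub_zero]
  have e3 : Cfsg.reflectionMatrix ⇑Q (J *ᵥ v) *ᵥ w = w - ((z * Q v)⁻¹ * β) • (J *ᵥ v) := by
    rw [Cfsg.Agent.Lib.Helper6.reflectionMatrix_mulVec, ← hβ, hQJ]
  have e4 : Cfsg.reflectionMatrix ⇑Q v *ᵥ (w - ((z * Q v)⁻¹ * β) • (J *ᵥ v)) =
      w - ((z * Q v)⁻¹ * β) • (J *ᵥ v) - ((Q v)⁻¹ * α) • v := by
    rw [Cfsg.Agent.Lib.Helper6.reflectionMatrix_mulVec, polar_sub_right, polar_smul_right, ← hα,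
      hvJ, smul_zero, sub_zero]
  rw [← Matrix.mulVec_mulVec, ← Matrix.mulVec_mulVec, e1, e2, ← Matrix.mulVec_mulVec,
    ← Matrix.mulVec_mulVec, e3, e4, Matrix.mulVec_sub, Matrix.mulVec_sub, Matrix.mulVec_smul,
    Matrix.mulVec_smul, hJJ, smul_smul]
  have h5 : (z * Q v)⁻¹ * β * z = (Q v)⁻¹ * β := by
    field_simp
  rw [h5]
  abel

/-- a vector `v` with `Q v ≠ 0` orthogonal to `J v` -/
theorem exists_vec_orth_mat (Q : QuadraticForm F VV)
    (hQ : (QuadraticMap.polarBilin Q).Nondegenerate) (h2 : (2 : F) ≠ 0)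
    (z : F) (hz : ¬ IsSquare z) (J : MM) (hJ : J * J = z • (1 : MM))
    (hsa : ∀ u v : VV, QuadraticMap.polar ⇑Q (J *ᵥ u) v = QuadraticMap.polar ⇑Q u (J *ᵥ v))
    (m : ℕ) (hm : 1 ≤ m) (hcard : Fintype.card ι = 2 * (m + 1)) :
    ∃ v : VV, Q v ≠ 0 ∧ polar ⇑Q v (J *ᵥ v) = 0 := by
  classical
  obtain ⟨f, hf⟩ : ∃ f : F[X], f = X ^ 2 - C z := ⟨_, rfl⟩
  have hirr : Irreducible f := by
    rw [hf]
    apply X_pow_sub_C_irreducible_of_prime Nat.prime_two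
    intro b hb
    apply hz
    exact ⟨b, by rw [← hb, pow_two]⟩
  haveI : Fact (Irreducible f) := ⟨hirr⟩
  have hmonic : f.Monic := by
    rw [hf]
    exact monic_X_pow_sub_C z (by norm_num)
  have hdeg : f.natDegree = 2 := by
    rw [hf]
    exact natDegree_X_pow_sub_C
  haveI : FiniteDimensional F (AdjoinRoot f) := hmonic.finite_adjoinRoot
  let pb₀ := AdjoinRoot.powerBasis' hmonic
  let pb : Basis (Fin 2) F (AdjoinRoot f) := pb₀.basis.reindex (finCongr hdeg)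
  have hpbi : ∀ i : Fin 2, pb i = AdjoinRoot.root f ^ (i : ℕ) := by
    intro i
    show pb₀.basis.reindex (finCongr hdeg) i = _
    rw [Basis.reindex_apply, pb₀.basis_eq_pow]
    rfl
  have hpb0 : pb 0 = 1 := by rw [hpbi]; simp
  have hpb1 : pb 1 = AdjoinRoot.root f := by rw [hpbi]; simp
  have hroot : AdjoinRoot.root f * AdjoinRoot.root f = algebraMap F (AdjoinRoot f) z := by
    have h1 : (X ^ 2 - C z : F[X]).eval₂ (AdjoinRoot.of f) (AdjoinRoot.root f) = 0 := by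
      rw [← hf]
      exact AdjoinRoot.eval₂_root f
    rw [eval₂_sub, eval₂_pow, eval₂_X, eval₂_C] at h1
    rw [← pow_two]
    exact sub_eq_zero.mp h1
  have hω : pb 1 * pb 1 = algebraMap F (AdjoinRoot f) z := by rw [hpb1]; exact hroot
  let ρ : AdjoinRoot f →ₐ[F] MM := quadHom pb hpb0 z hω J hJ
  have hρroot : ρ (pb 1) = J := quadHom_gen pb hpb0 z hω J hJ
  have hρa : ∀ a : AdjoinRoot f, ρ a = pb.repr a 0 • (1 : MM) + pb.repr a 1 • J :=
    fun a => rfl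
  have hsaρ : ∀ (s t : F) (u v : VV),
      QuadraticMap.polar ⇑Q ((s • (1 : MM) + t • J) *ᵥ u) v =
        QuadraticMap.polar ⇑Q u ((s • (1 : MM) + t • J) *ᵥ v) := by
    intro s t u v
    rw [Matrix.add_mulVec, Matrix.add_mulVec, Matrix.smul_mulVec, Matrix.smul_mulVec,
      Matrix.smul_mulVec, Matrix.smul_mulVec, Matrix.one_mulVec, Matrix.one_mulVec,
      QuadraticMap.polar_add_left, QuadraticMap.polar_add_right, QuadraticMap.polar_smul_left,
      QuadraticMap.polar_smul_left, QuadraticMap.polar_smul_right, QuadraticMap.polar_smul_right,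
      hsa]
  have hz0 : z ≠ 0 := by
    rintro rfl
    exact hz ⟨0, by simp⟩
  obtain ⟨ζ₀, ζ₁, hN⟩ := exists_norm_eq h2 z hz0
  obtain ⟨ζ, hζdef⟩ : ∃ ζ : AdjoinRoot f, ζ = ζ₀ • pb 0 + ζ₁ • pb 1 := ⟨_, rfl⟩
  have hζ : ¬ IsSquare ζ := by
    rw [hζdef]
    apply not_isSquare_of_norm pb hpb0 z hω
    rw [hN]
    exact hz
  obtain ⟨B, hBdef⟩ : ∃ B : VV →ₗ[F] VV →ₗ[F] F, B = QuadraticMap.polarBilin Q := ⟨_, rfl⟩
  have hBapp : ∀ u v, B u v = QuadraticMap.polar ⇑Q u v := fun u v => by rw [hBdef]; rfl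
  have hsymm : ∀ u v, B u v = B v u := fun u v => by
    rw [hBapp, hBapp, QuadraticMap.polar_comm]
  have hnd : ∀ u, (∀ v, B u v = 0) → u = 0 := fun u hu => hQ.1 u (fun v => by
    have := hu v
    rw [hBdef] at this
    exact this)
  obtain ⟨bF, c, hc, hb, hgram⟩ := exists_frame ρ B (fun a u v => by
    rw [hBapp, hBapp, hρa]; exact hsaρ _ _ u v) hsymm hnd h2 pb hpb0 ζ hζ m hcard
  obtain ⟨j, hj⟩ : ∃ j : Fin m ⊕ Unit, j = Sum.inl ⟨0, hm⟩ := ⟨_, rfl⟩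
  refine ⟨bF (0, j), ?_, ?_⟩
  · have h1 := hgram 0 j 0 j
    rw [if_pos rfl, hj, hpb0] at h1
    simp only [cc, Sum.elim_inl, mul_one] at h1
    rw [← hpb0, ← hj] at h1
    simp only [Basis.coord_apply, Basis.repr_self, Finsupp.single_eq_same] at h1
    rw [hBapp, polar_self] at h1
    intro h0
    rw [h0] at h1
    simp at h1
  · have h1 := hgram 0 j 1 j
    rw [if_pos rfl, hj, hpb0] at h1
    simp only [cc, Sum.elim_inl, mul_one, one_mul] at h1
    simp only [Basis.coord_apply, Basis.repr_self] at h1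
    rw [← hj, hb 1 j, hρroot, hBapp] at h1
    rw [h1]
    simp

end pair

section normal

variable {F : Type*} [Field F] {ι : Type} [Fintype ι] [DecidableEq ι] [Nonempty ι]

local notation "MM" => Matrix ι ι F

/-- a conjugate of `x` normalises `K` when `x` commutes or anticommutes with the conjugate
generator -/
theorem mem_normalizer_of_conj (K : Subalgebra F MM) (J : MM) (hJK : J ∈ K)
    (hgen : ∀ k ∈ K, ∃ a b : F, k = a • (1 : MM) + b • J) (g₂ x : GL ι F) (J'' : MM) (ε : F)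
    (hε : ε ≠ 0) (h1 : (g₂ : MM) * J = J'' * (g₂ : MM))
    (h2 : (x : MM) * J'' = ε • (J'' * (x : MM))) :
    g₂⁻¹ * x * g₂ ∈ Cfsg.Geo.subalgebraNormalizer K := by
  obtain ⟨Y, hY⟩ : ∃ Y : GL ι F, Y = g₂⁻¹ * x * g₂ := ⟨_, rfl⟩
  rw [← hY]
  have hgY : (g₂ : MM) * (Y : MM) = (x : MM) * (g₂ : MM) := by
    rw [← Units.val_mul, ← Units.val_mul, hY]
    congr 1
    group
  have hinj : ∀ A B : MM, (g₂ : MM) * A = (g₂ : MM) * B → A = B := by
    intro A B h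
    have h3 : ((g₂⁻¹ : GL ι F) : MM) * ((g₂ : MM) * A) =
        ((g₂⁻¹ : GL ι F) : MM) * ((g₂ : MM) * B) := by rw [h]
    rwa [← Matrix.mul_assoc, ← Matrix.mul_assoc, ← Units.val_mul, inv_mul_cancel, Units.val_one,
      Matrix.one_mul, Matrix.one_mul] at h3
  apply Cfsg.Agent.Lib.Helper15.PSpM.mem_normalizer_of_gen K J hJK hgen Y ε 0 hε
  apply hinj
  rw [zero_smul, add_zero, ← Matrix.mul_assoc, hgY, Matrix.mul_assoc, h1, ← Matrix.mul_assoc, h2,
    Matrix.smul_mul, Matrix.mul_assoc, ← hgY, ← Matrix.mul_assoc, ← h1, Matrix.smul_mul,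
    Matrix.mul_smul, Matrix.mul_assoc]

end normal

end Cfsg.Agent.Lib.Helper29.OF
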