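import Mathlib
import Cfsg.Agent.Lib.Helper29.OF11
import Cfsg.Agent.Lib.Helper29.OF12
import Cfsg.Agent.Lib.Helper29.OF14

/-!
# Elements with scalar square have a conjugate in the normaliser of the field
-/

set_option autoImplicit false
set_option linter.unusedSectionVars false

namespace Cfsg.Agent.Lib.Helper29.OF

open Module Matrix QuadraticMap

section main2

variable {F : Type*} [Field F] [Fintype F] {ι : Type} [Fintype ι] [DecidableEq ι]

local notation "VV" => (ι → F)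
local notation "MM" => Matrix ι ι F

theorem det_eq_one_of_mem_omegaGL (Q : VV → F) (x : GL ι F) (hx : x ∈ Cfsg.Geo.omegaGL Q) :
    (x : MM).det = 1 := by
  obtain ⟨y, hy, rfl⟩ := Subgroup.mem_map.mp hx
  have h1 := Abelianization.commutator_subset_ker
    (Matrix.GeneralLinearGroup.det.comp (Cfsg.isometryGroup F Q).subtype) hy
  have h3 := congrArg Units.val (MonoidHom.mem_ker.mp h1)
  simpa using h3

/-- every element of `Ω` with scalar square has an `Ω`-conjugate normalising `K` -/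
theorem conj_of_sq_scalar [Nonempty ι] (Q : QuadraticForm F VV)
    (hQ : (polarBilin Q).Nondegenerate) (h2 : (2 : F) ≠ 0)
    (m : ℕ) (hm : 1 ≤ m) (hcard : Fintype.card ι = 2 * (m + 1))
    (K : Subalgebra F MM) (hK : Cfsg.Geo.IsFieldSubalgebra 2 K)
    (hKf : Cfsg.Geo.IsSelfAdjointFor (polar ⇑Q) K) (x : GL ι F)
    (hx : x ∈ Cfsg.Geo.omegaGL ⇑Q)
    (z : F) (hxz : ((x ^ 2 : GL ι F) : MM) = z • (1 : MM)) :
    ∃ g ∈ Cfsg.Geo.omegaGL ⇑Q, g⁻¹ * x * g ∈ Cfsg.Geo.subalgebraNormalizer K := by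
  classical
  obtain ⟨JK, hJK, zK, hzK, hJKsq, -, hgen⟩ :=
    Cfsg.Agent.Lib.Helper15.PSpM.exists_gen_odd h2 K hK
  have hzK0 : zK ≠ 0 := by
    rintro rfl
    exact hzK ⟨0, by simp⟩
  have hsaK := hKf JK hJK
  have hxiso : x ∈ Cfsg.isometryGroup F ⇑Q := omegaGL_le ⇑Q hx
  have hiso := (Cfsg.Agent.Lib.Helper15.mem_isometryGroup_iff ⇑Q x).mp hxiso
  have hcard2 : 2 ≤ Fintype.card ι := by omega
  have hF : Fintype.card F ≠ 2 ∨ Fintype.card ι ≠ 4 := by
    left
    intro h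
    apply h2
    have h1 := Nat.cast_card_eq_zero F
    rw [h] at h1
    exact_mod_cast h1
  obtain ⟨B, hBdef⟩ : ∃ B : VV →ₗ[F] VV →ₗ[F] F, B = polarBilin Q := ⟨_, rfl⟩
  have hBapp : ∀ u v, B u v = polar ⇑Q u v := fun u v => by rw [hBdef]; rfl
  have hsymm : ∀ u v, B u v = B v u := fun u v => by
    rw [hBapp, hBapp, polar_comm]
  have hnd : ∀ u, (∀ v, B u v = 0) → u = 0 := fun u hu => hQ.1 u (fun v => by
    have := hu v
    rw [hBdef] at this
    exact this)
  obtain ⟨X, hXdef⟩ : ∃ X : VV →ₗ[F] VV, X = Matrix.toLin' (x : MM) := ⟨_, rfl⟩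
  have hXapp : ∀ v, X v = (x : MM) *ᵥ v := fun v => by rw [hXdef, Matrix.toLin'_apply]
  have hXiso : ∀ u v, B (X u) (X v) = B u v := by
    intro u v
    rw [hBapp, hBapp, hXapp, hXapp, polar_isometry ⇑Q x hxiso]
  have hdim : finrank F VV = 2 * (m + 1) := by
    rw [Module.finrank_fintype_fun_eq_card, hcard]
  have hxx : ∀ v : VV, (x : MM) *ᵥ ((x : MM) *ᵥ v) = z • v := by
    intro v
    rw [Matrix.mulVec_mulVec, ← Units.val_mul, ← pow_two, hxz, Matrix.smul_mulVec,
      Matrix.one_mulVec]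
  obtain ⟨v0, hv0⟩ : ∃ v0 : VV, Q v0 ≠ 0 := by
    by_contra hcon
    push Not at hcon
    obtain ⟨i⟩ := ‹Nonempty ι›
    have h1 : (Pi.single i 1 : VV) = 0 := by
      apply hnd
      intro v
      rw [hBapp]
      unfold polar
      rw [hcon, hcon, hcon]
      ring
    have h3 := congrFun h1 i
    simp at h3
  have hzz : z * z = 1 := by
    have h1 : Q ((x : MM) *ᵥ ((x : MM) *ᵥ v0)) = Q v0 := by rw [hiso, hiso]
    rw [hxx, QuadraticMap.map_smul, smul_eq_mul] at h1
    have h3 : (z * z - 1) * Q v0 = 0 := by linear_combination h1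
    rcases mul_eq_zero.mp h3 with h4 | h4
    · exact sub_eq_zero.mp h4
    · exact absurd h4 hv0
  have hz : z = 1 ∨ z = -1 := by
    have h1 : (z - 1) * (z + 1) = 0 := by linear_combination hzz
    rcases mul_eq_zero.mp h1 with h3 | h3
    · exact Or.inl (sub_eq_zero.mp h3)
    · exact Or.inr (eq_neg_of_add_eq_zero_left h3)
  -- conversion of a linear map to a matrix
  have hconv : ∀ Jl : VV →ₗ[F] VV, (∀ v, Jl (Jl v) = zK • v) →
      (∀ v w, B (Jl v) w = B v (Jl w)) →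
      ∃ J' : MM, (∀ v, J' *ᵥ v = Jl v) ∧ J' * J' = zK • (1 : MM) ∧
        (∀ u v : VV, polar ⇑Q (J' *ᵥ u) v = polar ⇑Q u (J' *ᵥ v)) := by
    intro Jl hJl2 hJlsa
    refine ⟨LinearMap.toMatrix' Jl, LinearMap.toMatrix'_mulVec Jl, ?_, ?_⟩
    · apply Cfsg.Agent.Lib.Helper6.matrix_ext_mulVec
      intro w
      rw [← Matrix.mulVec_mulVec, LinearMap.toMatrix'_mulVec, LinearMap.toMatrix'_mulVec, hJl2,
        Matrix.smul_mulVec, Matrix.one_mulVec]
    · intro u v
      rw [LinearMap.toMatrix'_mulVec, LinearMap.toMatrix'_mulVec, ← hBapp, ← hBapp, hJlsa]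
  rcases hz with rfl | rfl
  · -- involutions
    have hdet : (x : MM).det = 1 := det_eq_one_of_mem_omegaGL ⇑Q x hx
    obtain ⟨Jl, hJl2, hJlsa, hXJ, heig⟩ := exists_commuting h2 B hsymm hnd X hXiso (by
      intro v
      rw [hXapp, hXapp, hxx, one_smul]) (by rw [hXdef, LinearMap.det_toLin']; exact hdet) m hdim zK
    obtain ⟨J', hJ'app, hJ'sq, hJ'sa⟩ := hconv Jl hJl2 hJlsa
    obtain ⟨g, hg, hgJ⟩ := exists_isometry_conj_mat Q hQ h2 zK hzK JK J' hJKsq hJ'sq hsaK hJ'sa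
      m hcard
    obtain ⟨u₁, ε₁, hB1, hX1⟩ := heig 2 h2
    obtain ⟨u₂, ε₂, hB2, hX2⟩ := heig (2 * zK) (mul_ne_zero h2 hzK0)
    have hQ1 : Q u₁ = 1 := by
      rw [hBapp, polar_self] at hB1
      simp only [nsmul_eq_mul, Nat.cast_ofNat] at hB1
      have h3 : 2 * (Q u₁ - 1) = 0 := by linear_combination hB1
      rcases mul_eq_zero.mp h3 with h4 | h4
      · exact absurd h4 h2
      · exact sub_eq_zero.mp h4
    have hQ2 : Q u₂ = zK := by
      rw [hBapp, polar_self] at hB2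
      simp only [nsmul_eq_mul, Nat.cast_ofNat] at hB2
      have h3 : 2 * (Q u₂ - zK) = 0 := by linear_combination hB2
      rcases mul_eq_zero.mp h3 with h4 | h4
      · exact absurd h4 h2
      · exact sub_eq_zero.mp h4
    obtain ⟨g₂, hg₂, hconj⟩ := conj_adjust_invol Q h2 hQ hcard2 hF x hxiso u₁ u₂ ε₁ ε₂
      (by rw [← hXapp, hX1]) (by rw [← hXapp, hX2]) (by rw [hQ1]; exact ⟨1, by simp⟩)
      (by rw [hQ1]; exact one_ne_zero) (by rw [hQ2]; exact hzK) g hg
    refine ⟨g₂, hg₂, ?_⟩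
    rw [hconj]
    apply mem_normalizer_of_conj K JK hJK hgen g x J' 1 one_ne_zero hgJ
    rw [one_smul]
    apply Cfsg.Agent.Lib.Helper6.matrix_ext_mulVec
    intro w
    rw [← Matrix.mulVec_mulVec, ← Matrix.mulVec_mulVec, hJ'app, hJ'app, ← hXapp, ← hXapp, hXJ]
  · -- square `-1`
    obtain ⟨Jl, u, hJl2, hJlsa, hXJ, hu, hRXR⟩ := exists_anticommuting h2 B hsymm hnd X hXiso (by
      intro v
      rw [hXapp, hXapp, hxx, neg_one_smul]) m hdim zK
    obtain ⟨J', hJ'app, hJ'sq, hJ'sa⟩ := hconv Jl hJl2 hJlsa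
    obtain ⟨g, hg, hgJ⟩ := exists_isometry_conj_mat Q hQ h2 zK hzK JK J' hJKsq hJ'sq hsaK hJ'sa
      m hcard
    obtain ⟨v, hv, hvJ⟩ := exists_vec_orth_mat Q hQ h2 zK hzK JK hJKsq hsaK m hm hcard
    obtain ⟨hQJv, hpair⟩ := refl_pair_comm Q h2 JK zK hzK0 hJKsq hsaK v hv hvJ
    have hBuu : B u u = 2 * Q u := by
      rw [hBapp, polar_self]
      simp
    have hQu : Q u ≠ 0 := by
      intro h
      apply hu
      rw [hBuu, h, mul_zero]
    have hJv0 : Q (JK *ᵥ v) ≠ 0 := by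
      rw [hQJv]
      exact mul_ne_zero hzK0 hv
    have hvw : ¬ IsSquare (Q v * Q (JK *ᵥ v)) := by
      rw [hQJv]
      rintro ⟨t, ht⟩
      apply hzK
      refine ⟨t / Q v, ?_⟩
      field_simp
      linear_combination ht
    obtain ⟨R, a, hR, ha, hRiso, haiso, hmem⟩ := exists_adjust Q h2 hQ hcard2 hF u v (JK *ᵥ v)
      hQu hv hJv0 hvw g hg
    refine ⟨R * g * a, hmem, ?_⟩
    have haJ : (a : MM) * JK = JK * (a : MM) := by
      rcases ha with rfl | ha
      · simp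
      · rw [ha]
        exact hpair
    have hxJ' : (x : MM) * J' = (-1 : F) • (J' * (x : MM)) := by
      apply Cfsg.Agent.Lib.Helper6.matrix_ext_mulVec
      intro w
      rw [Matrix.smul_mulVec, ← Matrix.mulVec_mulVec, ← Matrix.mulVec_mulVec, hJ'app, hJ'app,
        ← hXapp, ← hXapp, hXJ, neg_one_smul]
    obtain ⟨J'', hRJ, hxJ''⟩ : ∃ J'' : MM, (R : MM) * J' = J'' * (R : MM) ∧
        (x : MM) * J'' = (-1 : F) • (J'' * (x : MM)) := by
      rcases hR with rfl | hR
      · exact ⟨J', by simp, hxJ'⟩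
      · obtain ⟨Rm, hRm⟩ : ∃ Rm : MM, Rm = Cfsg.reflectionMatrix ⇑Q u := ⟨_, rfl⟩
        rw [← hRm] at hR
        have hRR : Rm * Rm = 1 := by
          rw [hRm]
          exact refl_mul_self Q u hQu
        have hRRl : ∀ A : MM, Rm * (Rm * A) = A := by
          intro A
          rw [← Matrix.mul_assoc, hRR, Matrix.one_mul]
        have hRl : ∀ w : VV, reflB B u w = Rm *ᵥ w := by
          intro w
          rw [reflB_apply, hRm, Cfsg.Agent.Lib.Helper6.reflectionMatrix_mulVec, hBuu, hBapp]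
          congr 2
          field_simp
        have key : Rm * ((x : MM) * (Rm * J')) = (-1 : F) • (J' * (Rm * ((x : MM) * Rm))) := by
          apply Cfsg.Agent.Lib.Helper6.matrix_ext_mulVec
          intro w
          have h1 := hRXR w
          rw [hRl, hRl, hRl, hRl, hXapp, hXapp, ← hJ'app, ← hJ'app] at h1
          rw [Matrix.smul_mulVec, neg_one_smul, ← Matrix.mulVec_mulVec, ← Matrix.mulVec_mulVec,
            ← Matrix.mulVec_mulVec, ← Matrix.mulVec_mulVec, ← Matrix.mulVec_mulVec,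
            ← Matrix.mulVec_mulVec]
          exact h1
        refine ⟨Rm * J' * Rm, by rw [hR, Matrix.mul_assoc, Matrix.mul_assoc, hRR, Matrix.mul_one],
          ?_⟩
        have h3 : (x : MM) * (Rm * J' * Rm) = Rm * (Rm * ((x : MM) * (Rm * J'))) * Rm := by
          rw [hRRl]
          simp only [Matrix.mul_assoc]
        rw [h3, key]
        simp only [Matrix.mul_smul, Matrix.smul_mul, Matrix.mul_assoc, hRR, Matrix.mul_one]
    apply mem_normalizer_of_conj K JK hJK hgen (R * g * a) x J'' (-1) (by simp) ?_ hxJ''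
    rw [Units.val_mul, Units.val_mul, Matrix.mul_assoc, haJ, ← Matrix.mul_assoc,
      Matrix.mul_assoc (R : MM), hgJ, ← Matrix.mul_assoc, hRJ]
    simp only [Matrix.mul_assoc]

end main2

end Cfsg.Agent.Lib.Helper29.OF
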