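import Mathlib
import Cfsg.Agent.Lib.Helper29.OF2
import Cfsg.Agent.Lib.Helper6.Siegel

/-!
# A unipotent isometry whose fixed space has codimension two
-/

set_option autoImplicit false
set_option linter.unusedSectionVars false

namespace Cfsg.Agent.Lib.Helper29.OF

open Module Matrix QuadraticMap Cfsg.Agent.Lib.Helper6

section unip

variable {F : Type*} [Field F] {ι : Type} [Fintype ι] [DecidableEq ι]

local notation "VV" => (ι → F)
local notation "MM" => Matrix ι ι F

theorem sieg_pow (Q : QuadraticForm F VV) (u w : VV) (hu : Q u = 0) (huw : polar ⇑Q u w = 0)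
    (k : ℕ) : sieg Q u w ^ k = sieg Q u ((k : F) • w) := by
  induction k with
  | zero => rw [pow_zero, Nat.cast_zero, zero_smul, sieg_zero]
  | succ k ih =>
    rw [pow_succ, ih, sieg_mul Q u _ w hu (by rw [polar_smul_right, huw, smul_zero]) huw]
    congr 1
    rw [Nat.cast_succ, add_smul, one_smul]

/-- a Siegel transformation of order `p` whose fixed space has codimension `2` -/
theorem exists_unip (Q : QuadraticForm F VV) (hQ : (polarBilin Q).Nondegenerate) (p : ℕ)
    [CharP F p] (e w : VV) (he : Q e = 0) (he0 : e ≠ 0) (hew : polar ⇑Q e w = 0)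
    (hw : Q w ≠ 0) :
    ∃ x : GL ι F, x ∈ Cfsg.isometryGroup F ⇑Q ∧ x ^ p = 1 ∧
      finrank F (Module.End.eigenspace (Matrix.toLin' (x : MM)) 1) + 2 = Fintype.card ι := by
  classical
  obtain ⟨g, hg⟩ : ∃ g : ↥(Cfsg.isometryGroup F ⇑Q), g = siegIso Q e w he hew := ⟨_, rfl⟩
  have hval : ((g.1 : GL ι F) : MM) = sieg Q e w := by rw [hg]; rfl
  have hli : LinearIndependent F ![e, w] := by
    rw [LinearIndependent.pair_iff]
    intro s t hst
    have ht : t = 0 := by
      by_contra ht
      have hw' : w = (-(s / t)) • e := by
        have h1 : t • w = -(s • e) := eq_neg_of_add_eq_zero_right hst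
        have h2 : w = t⁻¹ • (t • w) := by rw [smul_smul, inv_mul_cancel₀ ht, one_smul]
        rw [h2, h1, smul_neg, smul_smul, neg_smul]
        congr 2
        field_simp
      apply hw
      rw [hw', QuadraticMap.map_smul, he, smul_zero]
    rw [ht, zero_smul, add_zero] at hst
    rcases smul_eq_zero.mp hst with h | h
    · exact ⟨h, ht⟩
    · exact absurd h he0
  have hfix : Module.End.eigenspace (Matrix.toLin' ((g.1 : GL ι F) : MM)) 1 =
      LinearMap.BilinForm.orthogonal (polarBilin Q) (Submodule.span F (Set.range ![e, w])) := by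
    ext v
    rw [Module.End.mem_eigenspace_iff, one_smul, Matrix.toLin'_apply, hval, sieg_mulVec,
      LinearMap.BilinForm.mem_orthogonal_iff]
    constructor
    · intro h
      have h1 : (polar ⇑Q w v - Q w * polar ⇑Q e v) • e + (-(polar ⇑Q e v)) • w = 0 := by
        have := congrArg (fun z => z - v) h
        simp only [sub_self] at this
        rw [← this]
        abel
      have h2 := LinearIndependent.pair_iff.mp hli _ _ h1
      have h3 : polar ⇑Q e v = 0 := neg_eq_zero.mp h2.2
      have h4 : polar ⇑Q w v = 0 := by
        have := h2.1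
        rw [h3, mul_zero, sub_zero] at this
        exact this
      intro n hn
      refine Submodule.span_induction ?_ ?_ ?_ ?_ hn
      · rintro _ ⟨i, rfl⟩
        fin_cases i
        · exact h3
        · exact h4
      · simp
      · intro a b _ _ ha hb
        rw [map_add, LinearMap.add_apply, ha, hb, add_zero]
      · intro c a _ ha
        rw [map_smul, LinearMap.smul_apply, ha, smul_zero]
    · intro h
      have h3 : polar ⇑Q e v = 0 := h e (Submodule.subset_span ⟨0, rfl⟩)
      have h4 : polar ⇑Q w v = 0 := h w (Submodule.subset_span ⟨1, rfl⟩)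
      rw [h3, h4]
      simp
  refine ⟨g.1, g.2, ?_, ?_⟩
  · apply Units.ext
    rw [Units.val_pow_eq_pow_val, hval, sieg_pow Q e w he hew, CharP.cast_eq_zero, zero_smul,
      sieg_zero, Units.val_one]
  · rw [hfix, LinearMap.BilinForm.finrank_orthogonal hQ, finrank_span_eq_card hli,
      Module.finrank_fintype_fun_eq_card, Fintype.card_fin]
    have h1 : 2 ≤ Fintype.card ι := by
      have := hli.fintype_card_le_finrank
      rw [Module.finrank_fintype_fun_eq_card, Fintype.card_fin] at this
      exact this
    omega

end unip

end Cfsg.Agent.Lib.Helper29.OF
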