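import Mathlib
import Cfsg.Agent.Lib.Helper29.OF3
import Cfsg.Agent.Lib.Helper15.PSpJ7
import Cfsg.Agent.Lib.Helper14.OrthEven2

/-!
# Semisimple isometries of order `r` with a minimal moved part
-/

set_option autoImplicit false
set_option linter.unusedSectionVars false

namespace Cfsg.Agent.Lib.Helper29.OF

open Module Matrix QuadraticMap Polynomial Cfsg.Agent.Lib.Helper15.PSpJ Cfsg.Agent.Lib.Helper15.PSub

section fixdim

variable {F : Type*} [Field F] {ι : Type*} [Fintype ι] [DecidableEq ι]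

/-- the fixed space of a matrix of order prime to the characteristic is read off the
characteristic polynomial -/
theorem finrank_fixed_eq_rootMultiplicity (A : Matrix ι ι F) (r : ℕ) (hr0 : (r : F) ≠ 0)
    (hA : A ^ r = 1) :
    finrank F (Module.End.eigenspace (Matrix.toLin' A) 1) = A.charpoly.rootMultiplicity 1 := by
  have hss : Module.End.IsSemisimple (Matrix.toLin' A) := by
    apply isSemisimple_of_pow_eq_smul (Matrix.toLin' A) r hr0 1 one_ne_zero
    rw [← Matrix.toLin'_pow, hA, Matrix.toLin'_one, one_smul]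
    rfl
  rw [← hss.isFinitelySemisimple.maxGenEigenspace_eq_eigenspace,
    LinearMap.finrank_maxGenEigenspace_eq, Matrix.charpoly_toLin']

end fixdim

section semi

universe u
variable {F : Type u} [Field F] [Fintype F]

/-- the two standard forms carry isometries of order `r` with moved part of dimension `c` -/
theorem exists_semi (p : ℕ) [Fact p.Prime] [CharP F p] (r : ℕ) [hr : Fact r.Prime]
    (hr2 : r ≠ 2) (hrp : r ≠ p) (d : ℕ)
    (hc : cOf (orderOf ((Fintype.card F : ℕ) : ZMod r)) ≤ 2 * d) :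
    ((cOf (orderOf ((Fintype.card F : ℕ) : ZMod r)) < 2 * d ∨
        ((Fintype.card F : ℕ) : ZMod r) ^ d = 1) →
      ∃ M : Matrix (Fin d ⊕ Fin d) (Fin d ⊕ Fin d) F,
        (∀ v, Cfsg.quadFormPlus d F (M.mulVec v) = Cfsg.quadFormPlus d F v) ∧ M ^ r = 1 ∧
        finrank F (Module.End.eigenspace (Matrix.toLin' M) 1) =
          2 * d - cOf (orderOf ((Fintype.card F : ℕ) : ZMod r))) ∧
    (∀ a c : F, (∀ z₁ z₂ : F, z₁ ^ 2 + a * z₁ * z₂ + c * z₂ ^ 2 = 0 → z₁ = 0 ∧ z₂ = 0) →
      (cOf (orderOf ((Fintype.card F : ℕ) : ZMod r)) < 2 * d ∨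
        ((Fintype.card F : ℕ) : ZMod r) ^ d = -1) →
      ∃ M : Matrix ((Fin (d - 1) ⊕ Fin (d - 1)) ⊕ Fin 2) ((Fin (d - 1) ⊕ Fin (d - 1)) ⊕ Fin 2) F,
        (∀ v, Cfsg.quadFormMinus (d - 1) F a c (M.mulVec v) =
          Cfsg.quadFormMinus (d - 1) F a c v) ∧ M ^ r = 1 ∧
        finrank F (Module.End.eigenspace (Matrix.toLin' M) 1) =
          2 * d - cOf (orderOf ((Fintype.card F : ℕ) : ZMod r))) := by
  classical
  have hrodd : Odd r := hr.out.odd_of_ne_two hr2
  have hrF : (r : F) ≠ 0 := ne_zero_of_ne' p r hr.out hrp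
  have hrq : ¬ r ∣ Fintype.card F := by
    intro h
    apply hrF
    obtain ⟨n, hn⟩ := FiniteField.card F p
    rw [hn.2] at h
    have h1 := (Nat.prime_dvd_prime_iff_eq hr.out (Fact.out : p.Prime)).mp
      (hr.out.dvd_of_dvd_pow h)
    exact absurd h1 hrp
  obtain ⟨x, hx1, hx2, hx3⟩ := exists_elt (F := F) p r hr2 hrp d 1 le_rfl (by rwa [mul_one])
  rw [mul_one] at hx2
  obtain ⟨s, hs⟩ : ∃ s : Matrix (Fin d ⊕ Fin d) (Fin d ⊕ Fin d) F, s = x.1 := ⟨_, rfl⟩
  rw [← hs] at hx1 hx2 hx3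
  have hsmem : s ∈ Matrix.symplecticGroup (Fin d) F := by rw [hs]; exact x.2
  have hsr : s ^ r = 1 := by
    apply Matrix.toLin'.injective
    rw [Matrix.toLin'_pow, hx1, Matrix.toLin'_one]
    rfl
  have hs1 : s ≠ 1 := by
    intro h
    apply hx3 1
    rw [h, one_smul]
  have hfix : cOf (orderOf ((Fintype.card F : ℕ) : ZMod r)) < 2 * d →
      (X - 1 : F[X]) ∣ s.charpoly := by
    intro hlt
    rw [← Cfsg.Agent.Lib.Helper14.OrthEven.exists_fixed_iff]
    have hpos : 0 < finrank F (Module.End.eigenspace (Matrix.toLin' s) 1) := by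
      rw [hx2]; omega
    have hne : Module.End.eigenspace (Matrix.toLin' s) 1 ≠ ⊥ := by
      intro h
      rw [h, finrank_bot] at hpos
      exact lt_irrefl _ hpos
    obtain ⟨v, hv, hv0⟩ := Submodule.exists_mem_ne_zero_of_ne_bot hne
    refine ⟨v, hv0, ?_⟩
    rw [Module.End.mem_eigenspace_iff, one_smul, Matrix.toLin'_apply] at hv
    exact hv
  have hmult : s.charpoly.rootMultiplicity 1 =
      2 * d - cOf (orderOf ((Fintype.card F : ℕ) : ZMod r)) := by
    rw [← finrank_fixed_eq_rootMultiplicity s r hrF hsr, hx2]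
  obtain ⟨h1, h2⟩ := Cfsg.Agent.Lib.Helper14.OrthEven.exists_even_of_sp hrodd hrq hrF d s hsmem
    hsr hs1
  constructor
  · intro hyp
    obtain ⟨M, hM1, hM2, hM3⟩ := h1 (hyp.imp hfix id)
    refine ⟨M, hM1, hM3, ?_⟩
    rw [finrank_fixed_eq_rootMultiplicity M r hrF hM3, hM2, hmult]
  · intro a c hac hyp
    obtain ⟨M, hM1, hM2, hM3⟩ := h2 a c hac (hyp.imp hfix id)
    refine ⟨M, hM1, hM3, ?_⟩
    rw [finrank_fixed_eq_rootMultiplicity M r hrF hM3, hM2, hmult]

end semi

end Cfsg.Agent.Lib.Helper29.OF
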