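import Mathlib
import Cfsg.Agent.Lib.Helper29.OF2
import Cfsg.Agent.Lib.Helper29.OF4

/-!
# Elements of odd prime order without conjugates in the normaliser: the generic step and the
arithmetic of the order formulas
-/

set_option autoImplicit false
set_option linter.unusedSectionVars false

namespace Cfsg.Agent.Lib.Helper29.OF

open Module Matrix QuadraticMap Cfsg.Agent.Lib.Helper15.PSpJ

section generic

variable {F : Type*} [Field F] [Fintype F] {ι : Type} [Fintype ι] [DecidableEq ι]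

local notation "VV" => (ι → F)
local notation "MM" => Matrix ι ι F

theorem exists_Q_ne_zero [Nonempty ι] (Q : QuadraticForm F VV)
    (hQ : (polarBilin Q).Nondegenerate) : ∃ v0 : VV, Q v0 ≠ 0 := by
  classical
  by_contra hcon
  push Not at hcon
  obtain ⟨i⟩ := ‹Nonempty ι›
  have h1 : (Pi.single i 1 : VV) = 0 := by
    apply hQ.1
    intro v
    rw [polarBilin_apply_apply]
    unfold polar
    rw [hcon, hcon, hcon]
    ring
  have h3 := congrFun h1 i
  simp at h3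

/-- a matrix of finite order as an element of `GL` -/
theorem exists_GL_of_pow (M : MM) (r : ℕ) (hr : 0 < r) (hM : M ^ r = 1) :
    ∃ x : GL ι F, (x : MM) = M ∧ x ^ r = 1 := by
  obtain ⟨k, rfl⟩ : ∃ k, r = k + 1 := ⟨r - 1, by omega⟩
  refine ⟨⟨M, M ^ k, by rw [← pow_succ', hM], by rw [← pow_succ, hM]⟩, rfl, ?_⟩
  apply Units.ext
  rw [Units.val_pow_eq_pow_val, Units.val_one]
  exact hM

/-- an isometry of odd prime order whose fixed space has codimension not divisible by four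
refutes the statement that every element of order `r` has a conjugate in the normaliser -/
theorem not_all_of_elt [Nonempty ι] (Q : QuadraticForm F VV)
    (hQ : (polarBilin Q).Nondegenerate) (h2 : (2 : F) ≠ 0) (hcard2 : 2 ≤ Fintype.card ι)
    (hF : Fintype.card F ≠ 2 ∨ Fintype.card ι ≠ 4) (K : Subalgebra F MM)
    (hK : Cfsg.Geo.IsFieldSubalgebra 2 K) (hKf : Cfsg.Geo.IsSelfAdjointFor (polar ⇑Q) K)
    (r : ℕ) (hr : r.Prime) (hr2 : r ≠ 2) (x : GL ι F) (hx : x ∈ Cfsg.isometryGroup F ⇑Q)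
    (hxr : x ^ r = 1)
    (hcodim : ¬ 4 ∣ Fintype.card ι -
      finrank F (Module.End.eigenspace (Matrix.toLin' (x : MM)) 1)) :
    ¬ (∀ x ∈ Cfsg.Geo.omegaGL ⇑Q, (∃ z : F, ((x ^ r : GL ι F) : MM) = z • (1 : MM)) →
      (∀ z : F, (x : MM) ≠ z • (1 : MM)) →
      ∃ g ∈ Cfsg.Geo.omegaGL ⇑Q, g⁻¹ * x * g ∈ Cfsg.Geo.subalgebraNormalizer K) := by
  classical
  intro hall
  have hrodd : Odd r := hr.odd_of_ne_two hr2
  have hxΩ : x ∈ Cfsg.Geo.omegaGL ⇑Q := mem_omegaGL_of_odd Q hQ hcard2 hF x hx r hrodd hxr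
  have hns : ∀ z : F, (x : MM) ≠ z • (1 : MM) := by
    intro z hz
    apply hcodim
    obtain ⟨v0, hv0⟩ := exists_Q_ne_zero Q hQ
    have hiso := (Cfsg.Agent.Lib.Helper15.mem_isometryGroup_iff ⇑Q x).mp hx
    have hzz : z * z = 1 := by
      have h1 := hiso v0
      rw [hz, Matrix.smul_mulVec, Matrix.one_mulVec, QuadraticMap.map_smul, smul_eq_mul] at h1
      have h3 : (z * z - 1) * Q v0 = 0 := by linear_combination h1
      rcases mul_eq_zero.mp h3 with h4 | h4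
      · exact sub_eq_zero.mp h4
      · exact absurd h4 hv0
    have hzr : z ^ r = 1 := by
      have h1 : ((x ^ r : GL ι F) : MM) = 1 := by rw [hxr, Units.val_one]
      rw [Units.val_pow_eq_pow_val, hz, smul_pow, one_pow] at h1
      obtain ⟨i⟩ := ‹Nonempty ι›
      have h3 := congrFun (congrFun h1 i) i
      simpa using h3
    have hz1 : z = 1 := by
      obtain ⟨k, hk⟩ := hrodd
      rw [hk, pow_succ, pow_mul, pow_two, hzz, one_pow, one_mul] at hzr
      exact hzr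
    have hx1 : (x : MM) = 1 := by rw [hz, hz1, one_smul]
    have htop : Module.End.eigenspace (Matrix.toLin' (x : MM)) 1 = ⊤ := by
      rw [eq_top_iff]
      intro v _
      rw [Module.End.mem_eigenspace_iff, hx1, Matrix.toLin'_one, one_smul]
      rfl
    rw [htop, finrank_top, Module.finrank_fintype_fun_eq_card, Nat.sub_self]
    exact dvd_zero 4
  obtain ⟨g, hg, hmem⟩ := hall x hxΩ ⟨1, by rw [hxr, Units.val_one, one_smul]⟩ hns
  exact no_conj_of_codim Q hQ h2 K hK hKf r hr hr2 x hx hxr hcodim g (omegaGL_le ⇑Q hg) hmem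

end generic

section arith

theorem pow_eq_one_of_dvd_sub (q r k : ℕ) (hq : 1 ≤ q) (h : r ∣ q ^ k - 1) :
    ((q : ℕ) : ZMod r) ^ k = 1 := by
  have h1 : ((q ^ k - 1 : ℕ) : ZMod r) = 0 := (ZMod.natCast_eq_zero_iff _ _).mpr h
  rw [Nat.cast_sub (Nat.one_le_pow _ _ hq), Nat.cast_pow, Nat.cast_one] at h1
  exact sub_eq_zero.mp h1

theorem not_four_dvd_cOf (i : ℕ) (h : ¬ 4 ∣ i) : ¬ 4 ∣ cOf i := by
  unfold cOf
  split_ifs with hi
  · exact h
  · intro h4
    apply hi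
    have : 2 ∣ i := by omega
    exact even_iff_two_dvd.mpr this

/-- the prime `r` divides one of the factors of the order formula -/
theorem dvd_factor (q r d e : ℕ) (hr : r.Prime) (hr2 : r ≠ 2) (hrq : ¬ r ∣ q)
    (hdvd : r ∣ 2 * q ^ (d * (d - 1)) * e *
      ∏ i ∈ Finset.range (d - 1), (q ^ (2 * (i + 1)) - 1)) :
    r ∣ e ∨ ∃ j, j + 1 ≤ d - 1 ∧ r ∣ q ^ (2 * (j + 1)) - 1 := by
  rcases (Nat.Prime.dvd_mul hr).mp hdvd with h | h
  · rcases (Nat.Prime.dvd_mul hr).mp h with h | h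
    · rcases (Nat.Prime.dvd_mul hr).mp h with h | h
      · exact absurd ((Nat.prime_dvd_prime_iff_eq hr Nat.prime_two).mp h) hr2
      · exact absurd (hr.dvd_of_dvd_pow h) hrq
    · exact Or.inl h
  · right
    obtain ⟨j, hj, hjd⟩ := (Prime.dvd_finsetProd_iff (Nat.Prime.prime hr) _).mp h
    exact ⟨j, by have := Finset.mem_range.mp hj; omega, hjd⟩

theorem semi_cond_plus (q r d : ℕ) (hr : r.Prime) (hr2 : r ≠ 2) (hrq : ¬ r ∣ q) (hq : 1 ≤ q)
    (hd : 1 ≤ d)
    (hdvd : r ∣ 2 * q ^ (d * (d - 1)) * (q ^ d - 1) *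
      ∏ i ∈ Finset.range (d - 1), (q ^ (2 * (i + 1)) - 1)) :
    cOf (orderOf ((q : ℕ) : ZMod r)) ≤ 2 * d ∧
      (cOf (orderOf ((q : ℕ) : ZMod r)) < 2 * d ∨ ((q : ℕ) : ZMod r) ^ d = 1) := by
  rcases dvd_factor q r d _ hr hr2 hrq hdvd with h | ⟨j, hj, h⟩
  · have h1 := pow_eq_one_of_dvd_sub q r d hq h
    have h3 : orderOf ((q : ℕ) : ZMod r) ∣ 2 * d :=
      Dvd.dvd.mul_left (orderOf_dvd_of_pow_eq_one h1) 2
    exact ⟨cOf_le_of_dvd (by omega) h3, Or.inr h1⟩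
  · have h1 := pow_eq_one_of_dvd_sub q r _ hq h
    have h3 := cOf_le_of_dvd (m := j + 1) (by omega) (orderOf_dvd_of_pow_eq_one h1)
    exact ⟨by omega, Or.inl (by omega)⟩

theorem semi_cond_minus (q r d : ℕ) (hr : r.Prime) (hr2 : r ≠ 2) (hrq : ¬ r ∣ q) (hq : 1 ≤ q)
    (hd : 1 ≤ d)
    (hdvd : r ∣ 2 * q ^ (d * (d - 1)) * (q ^ d + 1) *
      ∏ i ∈ Finset.range (d - 1), (q ^ (2 * (i + 1)) - 1)) :
    cOf (orderOf ((q : ℕ) : ZMod r)) ≤ 2 * d ∧
      (cOf (orderOf ((q : ℕ) : ZMod r)) < 2 * d ∨ ((q : ℕ) : ZMod r) ^ d = -1) := by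
  rcases dvd_factor q r d _ hr hr2 hrq hdvd with h | ⟨j, hj, h⟩
  · have h0 : ((q ^ d + 1 : ℕ) : ZMod r) = 0 := (ZMod.natCast_eq_zero_iff _ _).mpr h
    rw [Nat.cast_add, Nat.cast_pow, Nat.cast_one] at h0
    have h1 : ((q : ℕ) : ZMod r) ^ d = -1 := eq_neg_of_add_eq_zero_left h0
    have h4 : ((q : ℕ) : ZMod r) ^ (2 * d) = 1 := by
      rw [mul_comm, pow_mul, h1]
      norm_num
    exact ⟨cOf_le_of_dvd (by omega) (orderOf_dvd_of_pow_eq_one h4), Or.inr h1⟩
  · have h1 := pow_eq_one_of_dvd_sub q r _ hq h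
    have h3 := cOf_le_of_dvd (m := j + 1) (by omega) (orderOf_dvd_of_pow_eq_one h1)
    exact ⟨by omega, Or.inl (by omega)⟩

end arith

end Cfsg.Agent.Lib.Helper29.OF
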