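import Mathlib
import Cfsg.Agent.Lib.Helper29.OF16
import Cfsg.Agent.Lib.Helper15.QuadF2a
import Cfsg.Agent.S0287
import Cfsg.Agent.S0288

/-!
# Field extension subgroups of `Ω^±_{2d}(q)`: odd primes are excluded
-/

set_option autoImplicit false
set_option linter.unusedSectionVars false

namespace Cfsg.Agent.Lib.Helper29.OF

open Module Matrix QuadraticMap Cfsg.Agent.Lib.Helper15.PSpJ

section nec

universe u
variable {F : Type u} [Field F] [Fintype F]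

theorem two_ne_zero_of_odd (p : ℕ) [Fact p.Prime] [CharP F p] (hodd : Odd (Fintype.card F)) :
    (2 : F) ≠ 0 := by
  intro h
  obtain ⟨n, hn⟩ := FiniteField.card F p
  have h1 : ((2 : ℕ) : F) = 0 := by exact_mod_cast h
  have h3 := (CharP.cast_eq_zero_iff F p 2).mp h1
  have h4 := (Nat.prime_dvd_prime_iff_eq (Fact.out : p.Prime) Nat.prime_two).mp h3
  rw [hn.2, h4] at hodd
  have : Even (2 ^ (n : ℕ)) := by
    apply Nat.even_pow.mpr
    exact ⟨even_two, n.ne_zero⟩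
  exact (Nat.not_even_iff_odd.mpr hodd) this

theorem not_dvd_card_of_ne (p : ℕ) [Fact p.Prime] [CharP F p] (r : ℕ) (hr : r.Prime)
    (hrp : r ≠ p) : ¬ r ∣ Fintype.card F := by
  intro h
  obtain ⟨n, hn⟩ := FiniteField.card F p
  rw [hn.2] at h
  exact hrp ((Nat.prime_dvd_prime_iff_eq hr (Fact.out : p.Prime)).mp (hr.dvd_of_dvd_pow h))

theorem dvd_card_iso_of_dvd_relIndex {ι : Type} [Fintype ι] [DecidableEq ι]
    (Q : (ι → F) → F) (N : Subgroup (GL ι F)) (r : ℕ)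
    (h : r ∣ N.relIndex (Cfsg.Geo.omegaGL Q)) : r ∣ Nat.card (Cfsg.isometryGroup F Q) :=
  dvd_trans h (dvd_trans (Subgroup.relIndex_dvd_card _ _)
    (Subgroup.card_dvd_of_le (omegaGL_le Q)))

/-- the generic conclusion from a semisimple element given as a matrix -/
theorem not_all_of_semi {ι : Type} [Fintype ι] [DecidableEq ι] [Nonempty ι]
    (Q : QuadraticForm F (ι → F))
    (hQ : (polarBilin Q).Nondegenerate) (h2 : (2 : F) ≠ 0) (hcard2 : 2 ≤ Fintype.card ι)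
    (K : Subalgebra F (Matrix ι ι F))
    (hK : Cfsg.Geo.IsFieldSubalgebra 2 K) (hKf : Cfsg.Geo.IsSelfAdjointFor (polar ⇑Q) K)
    (r : ℕ) (hr : r.Prime) (hr2 : r ≠ 2) (M : Matrix ι ι F)
    (hM1 : ∀ v, Q (M.mulVec v) = Q v) (hMr : M ^ r = 1) (c : ℕ)
    (hc : c ≤ Fintype.card ι) (hc4 : ¬ 4 ∣ c)
    (hfix : finrank F (Module.End.eigenspace (Matrix.toLin' M) 1) = Fintype.card ι - c) :
    ¬ (∀ x ∈ Cfsg.Geo.omegaGL ⇑Q, (∃ z : F, ((x ^ r : GL ι F) : Matrix ι ι F) =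
        z • (1 : Matrix ι ι F)) →
      (∀ z : F, (x : Matrix ι ι F) ≠ z • (1 : Matrix ι ι F)) →
      ∃ g ∈ Cfsg.Geo.omegaGL ⇑Q, g⁻¹ * x * g ∈ Cfsg.Geo.subalgebraNormalizer K) := by
  have hF : Fintype.card F ≠ 2 ∨ Fintype.card ι ≠ 4 := by
    left
    intro h
    apply h2
    have h1 := Nat.cast_card_eq_zero F
    rw [h] at h1
    exact_mod_cast h1
  obtain ⟨x, hxM, hxr⟩ := exists_GL_of_pow M r hr.pos hMr
  apply not_all_of_elt Q hQ h2 hcard2 hF K hK hKf r hr hr2 x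
    ((Cfsg.Agent.Lib.Helper15.mem_isometryGroup_iff ⇑Q x).mpr (fun u => by rw [hxM]; exact hM1 u))
    hxr
  rw [hxM, hfix]
  have : Fintype.card ι - (Fintype.card ι - c) = c := by omega
  rw [this]
  exact hc4

/-- `Ω⁺`: no odd prime has the conjugacy property -/
theorem necessity_plus (p : ℕ) [Fact p.Prime] [CharP F p] (hodd : Odd (Fintype.card F))
    (d : ℕ) (hd : 4 ≤ d) (K : Subalgebra F (Matrix (Fin d ⊕ Fin d) (Fin d ⊕ Fin d) F))
    (hK : Cfsg.Geo.IsFieldSubalgebra 2 K)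
    (hKf : Cfsg.Geo.IsSelfAdjointFor (polar (Cfsg.quadFormPlus d F)) K)
    (r : ℕ) [hr : Fact r.Prime] (hr2 : r ≠ 2)
    (hΩ : r ∣ (Cfsg.Geo.subalgebraNormalizer K).relIndex
      (Cfsg.Geo.omegaGL (Cfsg.quadFormPlus d F)))
    (hC : r ≠ p → 4 ∣ orderOf ((Fintype.card F : ℕ) : ZMod r) →
      ¬ r ∣ (Cfsg.Geo.subalgebraNormalizer K).relIndex
        (Cfsg.Geo.omegaGL (Cfsg.quadFormPlus d F))) :
    ¬ (∀ x ∈ Cfsg.Geo.omegaGL (Cfsg.quadFormPlus d F),
      (∃ z : F, ((x ^ r : GL (Fin d ⊕ Fin d) F) : Matrix (Fin d ⊕ Fin d) (Fin d ⊕ Fin d) F) =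
        z • (1 : Matrix (Fin d ⊕ Fin d) (Fin d ⊕ Fin d) F)) →
      (∀ z : F, (x : Matrix (Fin d ⊕ Fin d) (Fin d ⊕ Fin d) F) ≠
        z • (1 : Matrix (Fin d ⊕ Fin d) (Fin d ⊕ Fin d) F)) →
      ∃ g ∈ Cfsg.Geo.omegaGL (Cfsg.quadFormPlus d F),
        g⁻¹ * x * g ∈ Cfsg.Geo.subalgebraNormalizer K) := by
  classical
  have h2 : (2 : F) ≠ 0 := two_ne_zero_of_odd p hodd
  obtain ⟨Q, hQdef⟩ : ∃ Q : QuadraticForm F (Fin d ⊕ Fin d → F),
      Q = Cfsg.Agent.Lib.Helper15.QPlus F d := ⟨_, rfl⟩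
  have hQf : ⇑Q = Cfsg.quadFormPlus d F := by
    rw [hQdef]
    exact funext (Cfsg.Agent.Lib.Helper15.QPlus_apply F d)
  have hQ : (polarBilin Q).Nondegenerate := by
    rw [hQdef]
    exact Cfsg.Agent.Lib.Helper15.nondegenerate_QPlus F d
  have hcard : Fintype.card (Fin d ⊕ Fin d) = 2 * d := by
    rw [Fintype.card_sum, Fintype.card_fin]
    ring
  haveI : Nonempty (Fin d ⊕ Fin d) := ⟨Sum.inl ⟨0, by omega⟩⟩
  have hdvd := dvd_card_iso_of_dvd_relIndex _ _ r hΩ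
  rw [Cfsg.Agent.S0287.result rfl d (by omega)] at hdvd
  rw [← hQf] at hKf hΩ hC ⊢
  by_cases hrp : r = p
  · -- unipotent elements
    obtain ⟨i0, hi0⟩ : ∃ i0 : Fin d, i0 = ⟨0, by omega⟩ := ⟨_, rfl⟩
    obtain ⟨i1, hi1⟩ : ∃ i1 : Fin d, i1 = ⟨1, by omega⟩ := ⟨_, rfl⟩
    have h01 : i0 ≠ i1 := by
      rw [hi0, hi1]
      intro h
      have := congrArg Fin.val h
      simp at this
    obtain ⟨e, he⟩ : ∃ e : Fin d ⊕ Fin d → F, e = Pi.single (Sum.inl i0) 1 := ⟨_, rfl⟩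
    obtain ⟨w, hw⟩ : ∃ w : Fin d ⊕ Fin d → F,
        w = Pi.single (Sum.inl i1) 1 + Pi.single (Sum.inr i1) 1 := ⟨_, rfl⟩
    have hQe : Q e = 0 := by
      rw [hQf, he]
      unfold Cfsg.quadFormPlus
      apply Finset.sum_eq_zero
      intro i _
      simp
    have hQw : Q w = 1 := by
      rw [hQf, hw]
      unfold Cfsg.quadFormPlus
      rw [Finset.sum_eq_single i1]
      · simp
      · intro i _ hi
        simp [hi]
      · intro h
        exact absurd (Finset.mem_univ _) h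
    have hew : polar ⇑Q e w = 0 := by
      rw [hQdef, Cfsg.Agent.Lib.Helper15.polar_QPlus, he, hw]
      apply Finset.sum_eq_zero
      intro i _
      by_cases hi : i = i0
      · subst hi
        simp [h01]
      · simp [Pi.single_apply, hi]
    have he0 : e ≠ 0 := by
      intro h
      have := congrFun h (Sum.inl i0)
      rw [he] at this
      simp at this
    haveI : CharP F r := by rw [hrp]; infer_instance
    obtain ⟨x, hx, hxr, hfix⟩ := exists_unip Q hQ r e w hQe he0 hew (by rw [hQw]; exact one_ne_zero)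
    have hF : Fintype.card F ≠ 2 ∨ Fintype.card (Fin d ⊕ Fin d) ≠ 4 := by
      right
      rw [hcard]
      omega
    apply not_all_of_elt Q hQ h2 (by rw [hcard]; omega) hF K hK hKf r hr.out hr2 x hx hxr
    have : Fintype.card (Fin d ⊕ Fin d) - finrank F (Module.End.eigenspace (Matrix.toLin'
        (x : Matrix (Fin d ⊕ Fin d) (Fin d ⊕ Fin d) F)) 1) = 2 := by omega
    rw [this]
    norm_num
  · by_cases h4 : 4 ∣ orderOf ((Fintype.card F : ℕ) : ZMod r)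
    · exact absurd hΩ (hC hrp h4)
    · have hrq := not_dvd_card_of_ne (F := F) p r hr.out hrp
      obtain ⟨hc, hdisj⟩ := semi_cond_plus (Fintype.card F) r d hr.out hr2 hrq Fintype.card_pos
        (by omega) hdvd
      obtain ⟨M, hM1, hMr, hfix⟩ := (exists_semi (F := F) p r hr2 hrp d hc).1 hdisj
      apply not_all_of_semi Q hQ h2 (by rw [hcard]; omega) K hK hKf r hr.out hr2 M
        (fun v => by rw [hQf]; exact hM1 v) hMr
        (cOf (orderOf ((Fintype.card F : ℕ) : ZMod r))) (by rw [hcard]; exact hc)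
        (not_four_dvd_cOf _ h4)
      rw [hfix, hcard]

/-- `Ω⁻`: no odd prime has the conjugacy property -/
theorem necessity_minus (p : ℕ) [Fact p.Prime] [CharP F p] (hodd : Odd (Fintype.card F))
    (d : ℕ) (hd : 4 ≤ d) (a b : F)
    (hab : ∀ x y : F, x ^ 2 + a * x * y + b * y ^ 2 = 0 → x = 0 ∧ y = 0)
    (K : Subalgebra F (Matrix ((Fin (d - 1) ⊕ Fin (d - 1)) ⊕ Fin 2)
      ((Fin (d - 1) ⊕ Fin (d - 1)) ⊕ Fin 2) F))
    (hK : Cfsg.Geo.IsFieldSubalgebra 2 K)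
    (hKf : Cfsg.Geo.IsSelfAdjointFor (polar (Cfsg.quadFormMinus (d - 1) F a b)) K)
    (r : ℕ) [hr : Fact r.Prime] (hr2 : r ≠ 2)
    (hΩ : r ∣ (Cfsg.Geo.subalgebraNormalizer K).relIndex
      (Cfsg.Geo.omegaGL (Cfsg.quadFormMinus (d - 1) F a b)))
    (hC : r ≠ p → 4 ∣ orderOf ((Fintype.card F : ℕ) : ZMod r) →
      ¬ r ∣ (Cfsg.Geo.subalgebraNormalizer K).relIndex
        (Cfsg.Geo.omegaGL (Cfsg.quadFormMinus (d - 1) F a b))) :
    ¬ (∀ x ∈ Cfsg.Geo.omegaGL (Cfsg.quadFormMinus (d - 1) F a b),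
      (∃ z : F, ((x ^ r : GL ((Fin (d - 1) ⊕ Fin (d - 1)) ⊕ Fin 2) F) :
          Matrix ((Fin (d - 1) ⊕ Fin (d - 1)) ⊕ Fin 2) ((Fin (d - 1) ⊕ Fin (d - 1)) ⊕ Fin 2) F) =
        z • (1 : Matrix ((Fin (d - 1) ⊕ Fin (d - 1)) ⊕ Fin 2)
          ((Fin (d - 1) ⊕ Fin (d - 1)) ⊕ Fin 2) F)) →
      (∀ z : F, (x : Matrix ((Fin (d - 1) ⊕ Fin (d - 1)) ⊕ Fin 2)
          ((Fin (d - 1) ⊕ Fin (d - 1)) ⊕ Fin 2) F) ≠
        z • (1 : Matrix ((Fin (d - 1) ⊕ Fin (d - 1)) ⊕ Fin 2)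
          ((Fin (d - 1) ⊕ Fin (d - 1)) ⊕ Fin 2) F)) →
      ∃ g ∈ Cfsg.Geo.omegaGL (Cfsg.quadFormMinus (d - 1) F a b),
        g⁻¹ * x * g ∈ Cfsg.Geo.subalgebraNormalizer K) := by
  classical
  have h2 : (2 : F) ≠ 0 := two_ne_zero_of_odd p hodd
  obtain ⟨Q, hQdef⟩ : ∃ Q : QuadraticForm F ((Fin (d - 1) ⊕ Fin (d - 1)) ⊕ Fin 2 → F),
      Q = Cfsg.Agent.Lib.Helper15.Qgen (d - 1) (Cfsg.Agent.Lib.Helper15.binForm a b) := ⟨_, rfl⟩
  have hQf : ⇑Q = Cfsg.quadFormMinus (d - 1) F a b := by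
    rw [hQdef]
    exact funext (Cfsg.Agent.Lib.Helper14.OrthEven.Qgen_binForm_apply (d - 1) a b)
  have hQ : (polarBilin Q).Nondegenerate := by
    rw [hQdef]
    exact Cfsg.Agent.Lib.Helper14.OrthEven.nondegenerate_Qgen_binForm (d - 1) a b hab
  have hcard : Fintype.card ((Fin (d - 1) ⊕ Fin (d - 1)) ⊕ Fin 2) = 2 * d := by
    rw [Fintype.card_sum, Fintype.card_sum, Fintype.card_fin, Fintype.card_fin]
    omega
  haveI : Nonempty ((Fin (d - 1) ⊕ Fin (d - 1)) ⊕ Fin 2) := ⟨Sum.inr 0⟩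
  have hdvd := dvd_card_iso_of_dvd_relIndex _ _ r hΩ
  rw [Cfsg.Agent.S0288.result rfl d (by omega) a b hab] at hdvd
  rw [← hQf] at hKf hΩ hC ⊢
  by_cases hrp : r = p
  · -- unipotent elements
    obtain ⟨i0, hi0⟩ : ∃ i0 : Fin (d - 1), i0 = ⟨0, by omega⟩ := ⟨_, rfl⟩
    obtain ⟨e, he⟩ : ∃ e : (Fin (d - 1) ⊕ Fin (d - 1)) ⊕ Fin 2 → F,
        e = Pi.single (Sum.inl (Sum.inl i0)) 1 := ⟨_, rfl⟩
    obtain ⟨w, hw⟩ : ∃ w : (Fin (d - 1) ⊕ Fin (d - 1)) ⊕ Fin 2 → F,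
        w = Pi.single (Sum.inr 0) 1 := ⟨_, rfl⟩
    have hQe : Q e = 0 := by
      rw [hQf, he]
      unfold Cfsg.quadFormMinus
      rw [Finset.sum_eq_zero (by
        intro i _
        simp)]
      simp
    have hQw : Q w = 1 := by
      rw [hQf, hw]
      unfold Cfsg.quadFormMinus
      rw [Finset.sum_eq_zero (by
        intro i _
        simp)]
      simp
    have hQew : Q (e + w) = 1 := by
      rw [hQf, he, hw]
      unfold Cfsg.quadFormMinus
      rw [Finset.sum_eq_zero (by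
        intro i _
        simp)]
      simp
    have hew : polar ⇑Q e w = 0 := by
      unfold polar
      rw [hQew, hQe, hQw]
      ring
    have he0 : e ≠ 0 := by
      intro h
      have := congrFun h (Sum.inl (Sum.inl i0))
      rw [he] at this
      simp at this
    haveI : CharP F r := by rw [hrp]; infer_instance
    obtain ⟨x, hx, hxr, hfix⟩ := exists_unip Q hQ r e w hQe he0 hew (by rw [hQw]; exact one_ne_zero)
    have hF : Fintype.card F ≠ 2 ∨ Fintype.card ((Fin (d - 1) ⊕ Fin (d - 1)) ⊕ Fin 2) ≠ 4 := by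
      right
      rw [hcard]
      omega
    apply not_all_of_elt Q hQ h2 (by rw [hcard]; omega) hF K hK hKf r hr.out hr2 x hx hxr
    have : Fintype.card ((Fin (d - 1) ⊕ Fin (d - 1)) ⊕ Fin 2) -
        finrank F (Module.End.eigenspace (Matrix.toLin' (x : Matrix
          ((Fin (d - 1) ⊕ Fin (d - 1)) ⊕ Fin 2) ((Fin (d - 1) ⊕ Fin (d - 1)) ⊕ Fin 2) F)) 1) =
        2 := by omega
    rw [this]
    norm_num
  · by_cases h4 : 4 ∣ orderOf ((Fintype.card F : ℕ) : ZMod r)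
    · exact absurd hΩ (hC hrp h4)
    · have hrq := not_dvd_card_of_ne (F := F) p r hr.out hrp
      obtain ⟨hc, hdisj⟩ := semi_cond_minus (Fintype.card F) r d hr.out hr2 hrq Fintype.card_pos
        (by omega) hdvd
      obtain ⟨M, hM1, hMr, hfix⟩ := (exists_semi (F := F) p r hr2 hrp d hc).2 a b hab hdisj
      apply not_all_of_semi Q hQ h2 (by rw [hcard]; omega) K hK hKf r hr.out hr2 M
        (fun v => by rw [hQf]; exact hM1 v) hMr
        (cOf (orderOf ((Fintype.card F : ℕ) : ZMod r))) (by rw [hcard]; exact hc)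
        (not_four_dvd_cOf _ h4)
      rw [hfix, hcard]

end nec

end Cfsg.Agent.Lib.Helper29.OF
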