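import Mathlib
import Cfsg.Agent.Lib.Helper29.OF15
import Cfsg.Agent.Lib.Helper29.OF17

/-!
# Field extension subgroups of `Ω^±_{2d}(q)`, `q` odd: the criterion, modulo the index
-/

set_option autoImplicit false
set_option linter.unusedSectionVars false

namespace Cfsg.Agent.Lib.Helper29.OF

open Module Matrix QuadraticMap

section final

universe u
variable {F : Type u} [Field F] [Fintype F]

theorem result_plus_of_index (p : ℕ) [Fact p.Prime] [CharP F p] (hodd : Odd (Fintype.card F))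
    (d : ℕ) (hd : 4 ≤ d) (K : Subalgebra F (Matrix (Fin d ⊕ Fin d) (Fin d ⊕ Fin d) F))
    (hK : Cfsg.Geo.IsFieldSubalgebra 2 K)
    (hKf : Cfsg.Geo.IsSelfAdjointFor (polar (Cfsg.quadFormPlus d F)) K)
    (r : ℕ) [hr : Fact r.Prime]
    (hΩ : r ∣ (Cfsg.Geo.subalgebraNormalizer K).relIndex
      (Cfsg.Geo.omegaGL (Cfsg.quadFormPlus d F)))
    (hC : r ≠ 2 → r ≠ p → 4 ∣ orderOf ((Fintype.card F : ℕ) : ZMod r) →
      ¬ r ∣ (Cfsg.Geo.subalgebraNormalizer K).relIndex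
        (Cfsg.Geo.omegaGL (Cfsg.quadFormPlus d F))) :
    (∀ x ∈ Cfsg.Geo.omegaGL (Cfsg.quadFormPlus d F),
      (∃ z : F, ((x ^ r : GL (Fin d ⊕ Fin d) F) : Matrix (Fin d ⊕ Fin d) (Fin d ⊕ Fin d) F) =
        z • (1 : Matrix (Fin d ⊕ Fin d) (Fin d ⊕ Fin d) F)) →
      (∀ z : F, (x : Matrix (Fin d ⊕ Fin d) (Fin d ⊕ Fin d) F) ≠
        z • (1 : Matrix (Fin d ⊕ Fin d) (Fin d ⊕ Fin d) F)) →
      ∃ g ∈ Cfsg.Geo.omegaGL (Cfsg.quadFormPlus d F),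
        g⁻¹ * x * g ∈ Cfsg.Geo.subalgebraNormalizer K) ↔ r = 2 := by
  classical
  constructor
  · intro hall
    by_contra hr2
    exact necessity_plus p hodd d hd K hK hKf r hr2 hΩ (hC hr2) hall
  · rintro rfl x hx ⟨z, hz⟩ -
    have h2 : (2 : F) ≠ 0 := two_ne_zero_of_odd p hodd
    obtain ⟨Q, hQdef⟩ : ∃ Q : QuadraticForm F (Fin d ⊕ Fin d → F),
        Q = Cfsg.Agent.Lib.Helper15.QPlus F d := ⟨_, rfl⟩
    have hQf : ⇑Q = Cfsg.quadFormPlus d F := by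
      rw [hQdef]
      exact funext (Cfsg.Agent.Lib.Helper15.QPlus_apply F d)
    have hQ : (polarBilin Q).Nondegenerate := by
      rw [hQdef]
      exact Cfsg.Agent.Lib.Helper15.nondegenerate_QPlus F d
    have hcard : Fintype.card (Fin d ⊕ Fin d) = 2 * ((d - 1) + 1) := by
      rw [Fintype.card_sum, Fintype.card_fin]
      omega
    haveI : Nonempty (Fin d ⊕ Fin d) := ⟨Sum.inl ⟨0, by omega⟩⟩
    rw [← hQf] at hKf hx ⊢
    exact conj_of_sq_scalar Q hQ h2 (d - 1) (by omega) hcard K hK hKf x hx z hz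

theorem result_minus_of_index (p : ℕ) [Fact p.Prime] [CharP F p] (hodd : Odd (Fintype.card F))
    (d : ℕ) (hd : 4 ≤ d) (a b : F)
    (hab : ∀ x y : F, x ^ 2 + a * x * y + b * y ^ 2 = 0 → x = 0 ∧ y = 0)
    (K : Subalgebra F (Matrix ((Fin (d - 1) ⊕ Fin (d - 1)) ⊕ Fin 2)
      ((Fin (d - 1) ⊕ Fin (d - 1)) ⊕ Fin 2) F))
    (hK : Cfsg.Geo.IsFieldSubalgebra 2 K)
    (hKf : Cfsg.Geo.IsSelfAdjointFor (polar (Cfsg.quadFormMinus (d - 1) F a b)) K)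
    (r : ℕ) [hr : Fact r.Prime]
    (hΩ : r ∣ (Cfsg.Geo.subalgebraNormalizer K).relIndex
      (Cfsg.Geo.omegaGL (Cfsg.quadFormMinus (d - 1) F a b)))
    (hC : r ≠ 2 → r ≠ p → 4 ∣ orderOf ((Fintype.card F : ℕ) : ZMod r) →
      ¬ r ∣ (Cfsg.Geo.subalgebraNormalizer K).relIndex
        (Cfsg.Geo.omegaGL (Cfsg.quadFormMinus (d - 1) F a b))) :
    (∀ x ∈ Cfsg.Geo.omegaGL (Cfsg.quadFormMinus (d - 1) F a b),
      (∃ z : F, ((x ^ r : GL ((Fin (d - 1) ⊕ Fin (d - 1)) ⊕ Fin 2) F) :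
          Matrix ((Fin (d - 1) ⊕ Fin (d - 1)) ⊕ Fin 2) ((Fin (d - 1) ⊕ Fin (d - 1)) ⊕ Fin 2) F) =
        z • (1 : Matrix ((Fin (d - 1) ⊕ Fin (d - 1)) ⊕ Fin 2)
          ((Fin (d - 1) ⊕ Fin (d - 1)) ⊕ Fin 2) F)) →
      (∀ z : F, (x : Matrix ((Fin (d - 1) ⊕ Fin (d - 1)) ⊕ Fin 2)
          ((Fin (d - 1) ⊕ Fin (d - 1)) ⊕ Fin 2) F) ≠
        z • (1 : Matrix ((Fin (d - 1) ⊕ Fin (d - 1)) ⊕ Fin 2)
          ((Fin (d - 1) ⊕ Fin (d - 1)) ⊕ Fin 2) F)) →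
      ∃ g ∈ Cfsg.Geo.omegaGL (Cfsg.quadFormMinus (d - 1) F a b),
        g⁻¹ * x * g ∈ Cfsg.Geo.subalgebraNormalizer K) ↔ r = 2 := by
  classical
  constructor
  · intro hall
    by_contra hr2
    exact necessity_minus p hodd d hd a b hab K hK hKf r hr2 hΩ (hC hr2) hall
  · rintro rfl x hx ⟨z, hz⟩ -
    have h2 : (2 : F) ≠ 0 := two_ne_zero_of_odd p hodd
    obtain ⟨Q, hQdef⟩ : ∃ Q : QuadraticForm F ((Fin (d - 1) ⊕ Fin (d - 1)) ⊕ Fin 2 → F),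
        Q = Cfsg.Agent.Lib.Helper15.Qgen (d - 1) (Cfsg.Agent.Lib.Helper15.binForm a b) :=
      ⟨_, rfl⟩
    have hQf : ⇑Q = Cfsg.quadFormMinus (d - 1) F a b := by
      rw [hQdef]
      exact funext (Cfsg.Agent.Lib.Helper14.OrthEven.Qgen_binForm_apply (d - 1) a b)
    have hQ : (polarBilin Q).Nondegenerate := by
      rw [hQdef]
      exact Cfsg.Agent.Lib.Helper14.OrthEven.nondegenerate_Qgen_binForm (d - 1) a b hab
    have hcard : Fintype.card ((Fin (d - 1) ⊕ Fin (d - 1)) ⊕ Fin 2) = 2 * ((d - 1) + 1) := by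
      rw [Fintype.card_sum, Fintype.card_sum, Fintype.card_fin, Fintype.card_fin]
      omega
    haveI : Nonempty ((Fin (d - 1) ⊕ Fin (d - 1)) ⊕ Fin 2) := ⟨Sum.inr 0⟩
    rw [← hQf] at hKf hx ⊢
    exact conj_of_sq_scalar Q hQ h2 (d - 1) (by omega) hcard K hK hKf x hx z hz

end final

end Cfsg.Agent.Lib.Helper29.OF
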