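import Mathlib
import Cfsg.Agent.Lib.Helper14.OrthEven1

/-!
# The sign of a form over a quadratic extension and of its trace form
-/

set_option autoImplicit false
set_option linter.unusedSectionVars false

namespace Cfsg.Agent.Lib.Helper29.OF

open Module Cfsg.Agent.Lib.Helper14.OrthEven

section sign

universe u v w
variable {F : Type u} [Field F] [Fintype F] {L : Type v} [Field L] [Fintype L] [Algebra F L]

/-- the fibres of a non-zero functional on a quadratic extension have `q` elements -/
theorem card_fibre (hcard : Fintype.card L = Fintype.card F ^ 2) (φ : L →ₗ[F] F) (hφ : φ ≠ 0)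
    (c : F) [DecidablePred fun l : L => φ l = c] :
    (Finset.univ.filter (fun l : L => φ l = c)).card = Fintype.card F := by
  classical
  have hsurj : Function.Surjective φ := by
    obtain ⟨l0, hl0⟩ : ∃ l0, φ l0 ≠ 0 := by
      by_contra h
      push Not at h
      exact hφ (LinearMap.ext h)
    intro c'
    refine ⟨(c' / φ l0) • l0, ?_⟩
    rw [map_smul, smul_eq_mul, div_mul_cancel₀ _ hl0]
  have hsame : ∀ c' : F, (Finset.univ.filter (fun l : L => φ l = c')).card =
      (Finset.univ.filter (fun l : L => φ l = 0)).card := by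
    intro c'
    obtain ⟨l0, hl0⟩ := hsurj c'
    apply Finset.card_bij (fun l _ => l - l0)
    · intro l hl
      rw [Finset.mem_filter] at hl ⊢
      exact ⟨Finset.mem_univ _, by rw [map_sub, hl.2, hl0, sub_self]⟩
    · intro l _ l' _ h
      exact sub_left_injective h
    · intro l hl
      rw [Finset.mem_filter] at hl
      refine ⟨l + l0, ?_, by simp⟩
      rw [Finset.mem_filter]
      exact ⟨Finset.mem_univ _, by rw [map_add, hl.2, hl0, zero_add]⟩
  have htot : (Finset.univ : Finset L).card =
      ∑ c' : F, (Finset.univ.filter (fun l : L => φ l = c')).card := by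
    rw [Finset.card_eq_sum_card_fiberwise (f := fun l : L => φ l) (t := Finset.univ)
      (fun l _ => Finset.mem_univ _)]
  rw [Finset.card_univ, hcard, Finset.sum_congr rfl (fun c' _ => hsame c'), Finset.sum_const,
    Finset.card_univ, smul_eq_mul, pow_two] at htot
  have hq : 0 < Fintype.card F := Fintype.card_pos
  have h0 : (Finset.univ.filter (fun l : L => φ l = 0)).card = Fintype.card F :=
    (Nat.eq_of_mul_eq_mul_left hq htot).symm
  have := hsame c
  convert this.trans h0

theorem natCard_fibre_eq {W : Type w} [Fintype W] {K : Type v} [DecidableEq K] (Q : W → K)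
    (c : K) :
    (Nat.card {v : W // Q v = c} : ℤ) = ((Finset.univ.filter (fun v => Q v = c)).card : ℤ) := by
  rw [Nat.card_eq_fintype_card, Fintype.card_subtype]

/-- the sign is inherited by the composite with a non-zero functional -/
theorem hasSign_comp_functional (hcard : Fintype.card L = Fintype.card F ^ 2)
    {V : Type w} [Finite V] (QL : V → L) (e : ℕ) (ε : ℤ) (hs : HasSign QL e ε)
    (φ : L →ₗ[F] F) (hφ : φ ≠ 0) : HasSign (fun v => φ (QL v)) (2 * e) ε := by
  classical
  haveI : Fintype V := Fintype.ofFinite V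
  intro c
  have h1 : cnt (fun v => φ (QL v)) c =
      ∑ l ∈ Finset.univ.filter (fun l : L => φ l = c), cnt QL l := by
    unfold cnt
    rw [natCard_fibre_eq (fun v => φ (QL v)) c]
    rw [Finset.card_eq_sum_card_fiberwise (f := QL)
      (t := Finset.univ.filter (fun l : L => φ l = c)) (fun v hv => by
        simp only [Finset.coe_filter, Set.mem_ofPred_eq, Finset.mem_univ, true_and] at hv ⊢
        exact hv)]
    push_cast
    apply Finset.sum_congr rfl
    intro l hl
    rw [natCard_fibre_eq QL l]
    congr 2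
    ext v
    simp only [Finset.mem_filter, Finset.mem_univ, true_and]
    constructor
    · exact fun h => h.2
    · intro h
      refine ⟨?_, h⟩
      rw [h]
      exact (Finset.mem_filter.mp hl).2
  obtain ⟨q, hq⟩ : ∃ q : ℤ, q = (Fintype.card F : ℤ) := ⟨_, rfl⟩
  have hLq : (Fintype.card L : ℤ) = q ^ 2 := by
    rw [hcard, hq]
    push_cast
    rfl
  have hq0 : q ≠ 0 := by
    rw [hq]
    exact_mod_cast Fintype.card_pos.ne'
  have h3 : q ^ 2 * ∑ l ∈ Finset.univ.filter (fun l : L => φ l = c), cnt QL l =
      ∑ l ∈ Finset.univ.filter (fun l : L => φ l = c), ((q ^ 2) ^ (2 * e) +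
        ε * (q ^ 2) ^ e * (q ^ 2 * (if l = 0 then 1 else 0) - 1)) := by
    rw [Finset.mul_sum]
    apply Finset.sum_congr rfl
    intro l _
    have := hs l
    rw [hLq] at this
    exact this
  have h4 : ∑ l ∈ Finset.univ.filter (fun l : L => φ l = c), (if l = 0 then (1 : ℤ) else 0) =
      if c = 0 then 1 else 0 := by
    rw [Finset.sum_ite_eq']
    simp only [Finset.mem_filter, Finset.mem_univ, true_and, map_zero]
    by_cases hc : c = 0
    · rw [if_pos hc, if_pos hc.symm]
    · rw [if_neg hc, if_neg (fun h => hc h.symm)]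
  have h5 : ∑ l ∈ Finset.univ.filter (fun l : L => φ l = c), ((q ^ 2) ^ (2 * e) +
        ε * (q ^ 2) ^ e * (q ^ 2 * (if l = 0 then 1 else 0) - 1)) =
      q * (q ^ 2) ^ (2 * e) + ε * (q ^ 2) ^ e * (q ^ 2 * (if c = 0 then 1 else 0) - q) := by
    rw [Finset.sum_add_distrib, Finset.sum_const, ← Finset.mul_sum, Finset.sum_sub_distrib,
      ← Finset.mul_sum, h4, Finset.sum_const, card_fibre hcard φ hφ c, nsmul_eq_mul, nsmul_eq_mul,
      ← hq]
    ring
  rw [← hq, h1]
  have h6 : q * (q * ∑ l ∈ Finset.univ.filter (fun l : L => φ l = c), cnt QL l) =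
      q * (q ^ (2 * (2 * e)) + ε * q ^ (2 * e) * (q * (if c = 0 then 1 else 0) - 1)) := by
    have : q * (q * ∑ l ∈ Finset.univ.filter (fun l : L => φ l = c), cnt QL l) =
        q ^ 2 * ∑ l ∈ Finset.univ.filter (fun l : L => φ l = c), cnt QL l := by ring
    rw [this, h3, h5]
    have e1 : (q ^ 2) ^ (2 * e) = q ^ (2 * (2 * e)) := by rw [← pow_mul]
    have e2 : (q ^ 2) ^ e = q ^ (2 * e) := by rw [← pow_mul]
    rw [e1, e2]
    ring
  exact mul_left_cancel₀ hq0 h6

end sign

end Cfsg.Agent.Lib.Helper29.OF
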