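import Mathlib
import Cfsg.Agent.Lib.Helper15.PSpM4

/-!
# Arithmetic of the index of `O_d(q²)` in `O^±_{2d}(q)`
-/

set_option autoImplicit false
set_option linter.unusedSectionVars false

namespace Cfsg.Agent.Lib.Helper29.OF

section arithC

theorem not_dvd_pow_sub_one (q r k : ℕ) (hq : 1 ≤ q)
    (h4 : 4 ∣ orderOf ((q : ℕ) : ZMod r)) (hk : ¬ 4 ∣ k) : ¬ r ∣ q ^ k - 1 := by
  intro h
  have h1 : ((q ^ k - 1 : ℕ) : ZMod r) = 0 := (ZMod.natCast_eq_zero_iff _ _).mpr h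
  rw [Nat.cast_sub (Nat.one_le_pow _ _ hq), Nat.cast_pow, Nat.cast_one] at h1
  exact hk (dvd_trans h4 (orderOf_dvd_of_pow_eq_one (sub_eq_zero.mp h1)))

theorem not_dvd_pow_add_one (q r k : ℕ) (hr : r.Prime) (hq : 1 ≤ q)
    (h4 : 4 ∣ orderOf ((q : ℕ) : ZMod r)) (hk : ¬ 4 ∣ 2 * k) : ¬ r ∣ q ^ k + 1 := by
  intro h
  apply not_dvd_pow_sub_one q r (2 * k) hq h4 hk
  have h1 : q ^ (2 * k) - 1 = (q ^ k + 1) * (q ^ k - 1) := by
    have h3 : 1 ≤ q ^ k := Nat.one_le_pow _ _ hq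
    obtain ⟨t, ht⟩ : ∃ t, q ^ k = t + 1 := ⟨q ^ k - 1, by omega⟩
    rw [mul_comm 2 k, pow_mul, ht]
    have : (t + 1) ^ 2 - 1 = (t + 1 + 1) * (t + 1 - 1) := by
      rw [Nat.add_sub_cancel]
      have : (t + 1) ^ 2 = (t + 1 + 1) * t + 1 := by ring
      rw [this, Nat.add_sub_cancel]
    exact this
  rw [h1]
  exact Dvd.dvd.mul_right h _

/-- the factors with odd index are prime to `r` -/
theorem not_dvd_odd_part (q r n : ℕ) (hr : r.Prime) (hq : 1 ≤ q)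
    (h4 : 4 ∣ orderOf ((q : ℕ) : ZMod r)) :
    ¬ r ∣ ∏ i ∈ (Finset.range n).filter (fun i => ¬ 2 ∣ i + 1), (q ^ (2 * (i + 1)) - 1) := by
  intro h
  obtain ⟨i, hi, hdvd⟩ := (Prime.dvd_finsetProd_iff (Nat.Prime.prime hr) _).mp h
  have hi2 := (Finset.mem_filter.mp hi).2
  exact not_dvd_pow_sub_one q r _ hq h4 (by omega) hdvd

/-- the core cancellation -/
theorem arith_core (q r : ℕ) (hr : r.Prime) (hrq : ¬ r ∣ q) (hq : 1 ≤ q)
    (h4 : 4 ∣ orderOf ((q : ℕ) : ZMod r)) (N X a b n s : ℕ) (hX : 0 < X) (hs : ¬ r ∣ s)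
    (hdiv : N * (X * q ^ a) ∣ X * (q ^ b * s *
      ∏ i ∈ (Finset.range n).filter (fun i => ¬ 2 ∣ i + 1), (q ^ (2 * (i + 1)) - 1))) :
    ¬ r ∣ N := by
  intro hN
  have h1 : X * (N * q ^ a) ∣ X * (q ^ b * s *
      ∏ i ∈ (Finset.range n).filter (fun i => ¬ 2 ∣ i + 1), (q ^ (2 * (i + 1)) - 1)) := by
    have : X * (N * q ^ a) = N * (X * q ^ a) := by ring
    rw [this]
    exact hdiv
  have h3 := Nat.dvd_of_mul_dvd_mul_left hX h1
  have h5 : r ∣ q ^ b * s *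
      ∏ i ∈ (Finset.range n).filter (fun i => ¬ 2 ∣ i + 1), (q ^ (2 * (i + 1)) - 1) :=
    dvd_trans (Dvd.dvd.mul_right hN _) h3
  rcases (Nat.Prime.dvd_mul hr).mp h5 with h6 | h6
  · rcases (Nat.Prime.dvd_mul hr).mp h6 with h7 | h7
    · exact hrq (hr.dvd_of_dvd_pow h7)
    · exact hs h7
  · exact not_dvd_odd_part q r n hr hq h4 h6

/-- `d = 2e` even: `N · |O^ε_e(q²)|` divides `|O^ε_{2e}(q)|`; the middle factor `m` is
`q^{2e} - 1` or `q^{2e} + 1` on both sides -/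
theorem arith_even (q r : ℕ) (hr : r.Prime) (hrq : ¬ r ∣ q) (hq : 1 ≤ q)
    (h4 : 4 ∣ orderOf ((q : ℕ) : ZMod r)) (N e m : ℕ) (he : 1 ≤ e) (hm : 0 < m)
    (hdiv : N * (2 * (q ^ 2) ^ (e * (e - 1)) * m *
        ∏ i ∈ Finset.range (e - 1), ((q ^ 2) ^ (2 * (i + 1)) - 1)) ∣
      2 * q ^ (2 * e * (2 * e - 1)) * m *
        ∏ i ∈ Finset.range (2 * e - 1), (q ^ (2 * (i + 1)) - 1)) :
    ¬ r ∣ N := by
  obtain ⟨k, rfl⟩ : ∃ k, e = k + 1 := ⟨e - 1, by omega⟩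
  have h1 : 2 * (k + 1) - 1 = 2 * k + 1 := by omega
  rw [h1, Nat.add_sub_cancel, Finset.prod_range_succ,
    Cfsg.Agent.Lib.Helper15.PSpM.prod_split q 2 k (2 * k) (by norm_num) rfl] at hdiv
  have hpos : 0 < ∏ i ∈ Finset.range k, ((q ^ 2) ^ (2 * (i + 1)) - 1) := by
    apply Finset.prod_pos
    intro i _
    have : 1 < (q ^ 2) ^ (2 * (i + 1)) ∨ q = 1 := by
      rcases Nat.lt_or_ge 1 q with h | h
      · left
        exact Nat.one_lt_pow (by omega) (Nat.one_lt_pow (by norm_num) h)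
      · right
        omega
    rcases this with h | h
    · omega
    · exfalso
      subst h
      have h5 : (((1 : ℕ) : ZMod r)) = 1 := by simp
      rw [h5, orderOf_one] at h4
      omega
  apply arith_core q r hr hrq hq h4 N
    (2 * m * ∏ i ∈ Finset.range k, ((q ^ 2) ^ (2 * (i + 1)) - 1)) (2 * ((k + 1) * k))
    (2 * (k + 1) * (2 * k + 1)) (2 * k) (q ^ (2 * (2 * k + 1)) - 1)
    (Nat.mul_pos (Nat.mul_pos (by norm_num) hm) hpos)
    (not_dvd_pow_sub_one q r _ hq h4 (by omega))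
  convert hdiv using 1
  · rw [← pow_mul]
    ring
  · ring

/-- `d = 2e + 1` odd: `N · |O_{2e+1}(q²)|` divides `|O^ε_{2(2e+1)}(q)|` with middle factor `s` -/
theorem arith_odd (q r : ℕ) (hr : r.Prime) (hrq : ¬ r ∣ q) (hq : 1 ≤ q)
    (h4 : 4 ∣ orderOf ((q : ℕ) : ZMod r)) (N e s : ℕ) (hs : ¬ r ∣ s)
    (hdiv : N * (2 * (q ^ 2) ^ (e ^ 2) *
        ∏ i ∈ Finset.range e, ((q ^ 2) ^ (2 * (i + 1)) - 1)) ∣
      2 * q ^ ((2 * e + 1) * (2 * e + 1 - 1)) * s *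
        ∏ i ∈ Finset.range (2 * e + 1 - 1), (q ^ (2 * (i + 1)) - 1)) :
    ¬ r ∣ N := by
  rw [Nat.add_sub_cancel,
    Cfsg.Agent.Lib.Helper15.PSpM.prod_split q 2 e (2 * e) (by norm_num) rfl] at hdiv
  have hpos : 0 < ∏ i ∈ Finset.range e, ((q ^ 2) ^ (2 * (i + 1)) - 1) := by
    apply Finset.prod_pos
    intro i _
    have : 1 < (q ^ 2) ^ (2 * (i + 1)) ∨ q = 1 := by
      rcases Nat.lt_or_ge 1 q with h | h
      · left
        exact Nat.one_lt_pow (by omega) (Nat.one_lt_pow (by norm_num) h)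
      · right
        omega
    rcases this with h | h
    · omega
    · exfalso
      subst h
      have h5 : (((1 : ℕ) : ZMod r)) = 1 := by simp
      rw [h5, orderOf_one] at h4
      omega
  apply arith_core q r hr hrq hq h4 N
    (2 * ∏ i ∈ Finset.range e, ((q ^ 2) ^ (2 * (i + 1)) - 1)) (2 * e ^ 2)
    ((2 * e + 1) * (2 * e)) (2 * e) s (Nat.mul_pos (by norm_num) hpos) hs
  convert hdiv using 1
  · rw [← pow_mul]
    ring
  · ring

end arithC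

end Cfsg.Agent.Lib.Helper29.OF
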