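import Mathlib

/-!
# Index of a normaliser in the commutator subgroup and the order of a subgroup of the normaliser
-/

set_option autoImplicit false
set_option linter.unusedSectionVars false

namespace Cfsg.Agent.Lib.Helper29.OF

section idx

variable {G : Type*} [Group G]

theorem card_mul_relIndex_of_le {A B : Subgroup G} (h : A ≤ B) :
    Nat.card A * A.relIndex B = Nat.card B := by
  have := Subgroup.relIndex_mul_relIndex (⊥ : Subgroup G) A B bot_le h
  rwa [Subgroup.relIndex_bot_left, Subgroup.relIndex_bot_left] at this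

/-- for `H ≤ N ∩ O`: `[O' : N ∩ O'] · |H|` divides `|O|`, where `O'` is the commutator subgroup
of `O` -/
theorem relIndex_mul_card_dvd (O N H : Subgroup G) (hHN : H ≤ N) (hHO : H ≤ O) :
    N.relIndex ((commutator O).map O.subtype) * Nat.card H ∣ Nat.card O := by
  obtain ⟨Ω, hΩ⟩ : ∃ Ω : Subgroup O, Ω = commutator O := ⟨_, rfl⟩
  haveI : Ω.Normal := by rw [hΩ]; infer_instance
  rw [← hΩ, ← Subgroup.relIndex_comap]
  obtain ⟨N', hN'⟩ : ∃ N' : Subgroup O, N' = N.comap O.subtype := ⟨_, rfl⟩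
  obtain ⟨H', hH'⟩ : ∃ H' : Subgroup O, H' = H.subgroupOf O := ⟨_, rfl⟩
  have hcardH : Nat.card H' = Nat.card H := by
    rw [hH']
    exact Nat.card_congr (Subgroup.subgroupOfEquivOfLe hHO).toEquiv
  have hH'N' : H' ≤ N' := by
    rw [hH', hN']
    intro x hx
    exact hHN hx
  rw [← hN', ← hcardH]
  -- |H'| = |H' ⊓ Ω| * [H' : H' ⊓ Ω]
  have h1 : Nat.card (H' ⊓ Ω : Subgroup O) * Ω.relIndex H' = Nat.card H' := by
    rw [← Subgroup.inf_relIndex_left H' Ω]
    exact card_mul_relIndex_of_le inf_le_left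
  have h2 : Ω.relIndex H' ∣ Ω.index := Subgroup.relIndex_dvd_index_of_normal Ω H'
  have h3 : Nat.card (N' ⊓ Ω : Subgroup O) * N'.relIndex Ω = Nat.card Ω := by
    rw [← Subgroup.inf_relIndex_right N' Ω]
    exact card_mul_relIndex_of_le inf_le_right
  have h4 : Nat.card (H' ⊓ Ω : Subgroup O) ∣ Nat.card (N' ⊓ Ω : Subgroup O) :=
    Subgroup.card_dvd_of_le (inf_le_inf_right Ω hH'N')
  have h5 : Nat.card Ω * Ω.index = Nat.card O := Subgroup.card_mul_index Ω
  rw [← h5, ← h3, ← h1]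
  have : N'.relIndex Ω * (Nat.card (H' ⊓ Ω : Subgroup O) * Ω.relIndex H') =
      Nat.card (H' ⊓ Ω : Subgroup O) * N'.relIndex Ω * Ω.relIndex H' := by ring
  rw [this]
  exact Nat.mul_dvd_mul (Nat.mul_dvd_mul h4 (dvd_refl _)) h2

end idx

end Cfsg.Agent.Lib.Helper29.OF
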