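import Mathlib
import Cfsg.Agent.Lib.Helper29.OF2
import Cfsg.Agent.Lib.Helper29.OF21
import Cfsg.Agent.Lib.Helper13.OrthCharTwoMat

/-!
# The isometry group over the extension field inside the normaliser of the field
-/

set_option autoImplicit false
set_option linter.unusedSectionVars false

namespace Cfsg.Agent.Lib.Helper29.OF

open Module Matrix Cfsg.Agent.Lib.Helper15.PSpM Cfsg.Agent.Lib.Helper15

section abstractEmbed

variable {F L V : Type*} [Field F] [Field L] [Algebra F L] [AddCommGroup V] [Module F V]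
  [Module L V] [IsScalarTower F L V] {κ : Type} [Fintype κ] [DecidableEq κ]

/-- transport of matrices over `L` along an `L`-linear coordinatisation -/
theorem exists_embed_abstract (S : Subgroup (GL κ L)) (g : V ≃ₗ[L] (κ → L)) :
    ∃ ψ : ↥S →* (V ≃ₗ[F] V), Function.Injective ψ ∧
      ∀ (A : ↥S) (v : V), g (ψ A v) = ((A : GL κ L) : Matrix κ κ L) *ᵥ g v := by
  classical
  let T : ↥S → (V ≃ₗ[L] V) := fun A =>
    (g.trans (Cfsg.Agent.Lib.Helper13.glEquiv (A : GL κ L))).trans g.symm
  have hT : ∀ (A : ↥S) (v : V), T A v = g.symm (((A : GL κ L) : Matrix κ κ L) *ᵥ g v) := by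
    intro A v
    rfl
  let ψ : ↥S →* (V ≃ₗ[F] V) :=
    { toFun := fun A => (T A).restrictScalars F
      map_one' := by
        apply LinearEquiv.ext
        intro v
        show T 1 v = v
        rw [hT]
        simp
      map_mul' := by
        intro A B
        apply LinearEquiv.ext
        intro v
        show T (A * B) v = T A (T B v)
        rw [hT, hT, hT, LinearEquiv.apply_symm_apply, Matrix.mulVec_mulVec]
        rfl }
  have hψ : ∀ (A : ↥S) (v : V), ψ A v = g.symm (((A : GL κ L) : Matrix κ κ L) *ᵥ g v) :=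
    fun A v => hT A v
  refine ⟨ψ, ?_, ?_⟩
  · intro A B hAB
    apply Subtype.ext
    apply Units.ext
    apply Cfsg.Agent.Lib.Helper6.matrix_ext_mulVec
    intro w
    have h1 := congrArg (fun f : V ≃ₗ[F] V => g (f (g.symm w))) hAB
    simp only [hψ, LinearEquiv.apply_symm_apply] at h1
    exact h1
  · intro A v
    rw [hψ, LinearEquiv.apply_symm_apply]

end abstractEmbed

section concrete

variable {F L : Type*} [Field F] [Field L] [Algebra F L] {ι : Type} [Fintype ι] [DecidableEq ι]
  {κ : Type} [Fintype κ] [DecidableEq κ]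

local notation "VV" => (ι → F)
local notation "MM" => Matrix ι ι F

/-- the index of `N ∩ Ω` in `Ω` times the order of the isometry group of the form over the
extension field divides the order of the isometry group -/
theorem index_mul_card_dvd (Qf : VV → F) (ρ : L →ₐ[F] MM) (N : Subgroup (GL ι F))
    (hN : ∀ x : GL ι F, (∀ a, (x : MM) * ρ a = ρ a * (x : MM)) → x ∈ N)
    (Q₀ : (κ → L) → L) (φ : L → F) (g : VV ≃+ (κ → L))
    (hg : ∀ (a : L) (v : VV), g (ρ a *ᵥ v) = a • g v)
    (hQg : ∀ v, Qf v = φ (Q₀ (g v))) :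
    N.relIndex (Cfsg.Geo.omegaGL Qf) * Nat.card (Cfsg.isometryGroup L Q₀) ∣
      Nat.card (Cfsg.isometryGroup F Qf) := by
  classical
  let _ := modOf ρ
  have htower : IsScalarTower F L VV := modOf_tower ρ
  have hsm : ∀ (a : L) (v : VV), a • v = ρ a *ᵥ v := fun a v => rfl
  let gL : VV ≃ₗ[L] (κ → L) :=
    { g with
      map_smul' := by
        intro a v
        show g (a • v) = a • g v
        rw [hsm, hg] }
  have hgL : ∀ v, gL v = g v := fun v => rfl
  obtain ⟨ψ, hinj, hψ⟩ := exists_embed_abstract (F := F) (Cfsg.isometryGroup L Q₀) gL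
  let ψ' : ↥(Cfsg.isometryGroup L Q₀) →* GL ι F :=
    (Cfsg.Agent.Lib.Helper13.glEquiv (F := F) (ι := ι)).symm.toMonoidHom.comp ψ
  have hψ' : ∀ (A : ↥(Cfsg.isometryGroup L Q₀)) (v : VV),
      ((ψ' A : GL ι F) : MM) *ᵥ v = ψ A v := by
    intro A v
    exact Cfsg.Agent.Lib.Helper13.glEquiv_symm_mulVec (ψ A) v
  have hinj' : Function.Injective ψ' := by
    intro A B hAB
    apply hinj
    exact (Cfsg.Agent.Lib.Helper13.glEquiv (F := F) (ι := ι)).symm.injective hAB
  have hcardH : Nat.card ψ'.range = Nat.card (Cfsg.isometryGroup L Q₀) :=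
    (Nat.card_congr (MonoidHom.ofInjective hinj').toEquiv).symm
  rw [← hcardH]
  apply relIndex_mul_card_dvd (Cfsg.isometryGroup F Qf) N ψ'.range
  · rintro x ⟨A, rfl⟩
    apply hN
    intro a
    apply Cfsg.Agent.Lib.Helper6.matrix_ext_mulVec
    intro v
    rw [← Matrix.mulVec_mulVec, ← Matrix.mulVec_mulVec, hψ', hψ']
    apply gL.injective
    rw [hψ, ← hsm, ← hsm, map_smul, map_smul, hψ, Matrix.mulVec_smul]
  · rintro x ⟨A, rfl⟩
    rw [mem_isometryGroup_iff]
    intro v
    rw [hψ', hQg, hQg, ← hgL, hψ, hgL]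
    congr 1
    exact (mem_isometryGroup_iff Q₀ (A : GL κ L)).mp A.2 (g v)

end concrete

end Cfsg.Agent.Lib.Helper29.OF
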