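import Mathlib
import Cfsg.Agent.Lib.Helper29.OF1
import Cfsg.Agent.Lib.Helper29.OF19
import Cfsg.Agent.Lib.Helper14.OrthEven2
import Cfsg.Agent.Lib.Helper14.OrthOrd1

/-!
# Classification of the form over the extension field
-/

set_option autoImplicit false
set_option linter.unusedSectionVars false

namespace Cfsg.Agent.Lib.Helper29.OF

open Module Matrix QuadraticMap Cfsg.Agent.Lib.Helper15.PSpM Cfsg.Agent.Lib.Helper14.OrthEven

section classify

universe u
variable {F L : Type u} [Field F] [Fintype F] [Field L] [Fintype L] [Algebra F L]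
  {ι : Type} [Fintype ι] [DecidableEq ι]

local notation "VV" => (ι → F)
local notation "MM" => Matrix ι ι F

theorem exists_classify (hL2 : finrank F L = 2) (Q : QuadraticForm F VV)
    (hQ : (polarBilin Q).Nondegenerate) (h2 : (2 : F) ≠ 0) (ρ : L →ₐ[F] MM)
    (hsa : ∀ (a : L) (u v : VV), polar ⇑Q (ρ a *ᵥ u) v = polar ⇑Q u (ρ a *ᵥ v))
    (d : ℕ) (hcard : Fintype.card ι = 2 * d) :
    ∃ φ : L → F,
      (∀ e, d = 2 * e → 1 ≤ e →
        (HasSign (⇑Q) d 1 ∧ ∃ g : VV ≃+ (Fin e ⊕ Fin e → L),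
          (∀ (a : L) (v : VV), g (ρ a *ᵥ v) = a • g v) ∧
          ∀ v, Q v = φ (Cfsg.quadFormPlus e L (g v))) ∨
        (HasSign (⇑Q) d (-1) ∧ ∃ ζ : L,
          (∀ z₁ z₂ : L, z₁ ^ 2 + 1 * z₁ * z₂ + ζ * z₂ ^ 2 = 0 → z₁ = 0 ∧ z₂ = 0) ∧
          ∃ g : VV ≃+ ((Fin (e - 1) ⊕ Fin (e - 1)) ⊕ Fin 2 → L),
            (∀ (a : L) (v : VV), g (ρ a *ᵥ v) = a • g v) ∧
            ∀ v, Q v = φ (Cfsg.quadFormMinus (e - 1) L 1 ζ (g v)))) ∧
      (∀ e, d = 2 * e + 1 → ∃ c : L, c ≠ 0 ∧ ∃ g : VV ≃+ (Unit ⊕ (Fin e ⊕ Fin e) → L),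
        (∀ (a : L) (v : VV), g (ρ a *ᵥ v) = a • g v) ∧
        ∀ v, Q v = φ (c * Cfsg.quadFormOdd e L (g v))) := by
  classical
  let _ := modOf ρ
  have htower : IsScalarTower F L VV := modOf_tower ρ
  have hsm : ∀ (a : L) (v : VV), a • v = ρ a *ᵥ v := fun a v => rfl
  haveI hfdL : FiniteDimensional F L := Module.finite_of_finrank_pos (by rw [hL2]; norm_num)
  have hfdV : FiniteDimensional L VV := Module.Finite.of_restrictScalars_finite F L VV
  obtain ⟨φ, hφ⟩ := exists_functional (F := F) (L := L)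
  obtain ⟨B, hBdef⟩ : ∃ B : VV →ₗ[F] VV →ₗ[F] F, B = polarBilin Q := ⟨_, rfl⟩
  have hBapp : ∀ u v, B u v = polar ⇑Q u v := fun u v => by rw [hBdef]; rfl
  have hsymm : ∀ u v, B u v = B v u := fun u v => by
    rw [hBapp, hBapp, polar_comm]
  have hnd : ∀ u, (∀ v, B u v = 0) → u = 0 := fun u hu => hQ.1 u (fun v => by
    have := hu v
    rw [hBdef] at this
    exact this)
  obtain ⟨BL, hspec, hsymmL, hndL⟩ := exists_formL_symm B (fun a u v => by
    rw [hsm, hsm, hBapp, hBapp, hsa]) hsymm hnd φ hφ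
  have h2L : (2 : L) ≠ 0 := by
    intro h
    apply h2
    apply (algebraMap F L).injective
    rw [map_ofNat, map_zero]
    exact h
  obtain ⟨QL, hQLdef⟩ : ∃ QL : QuadraticForm L VV,
      QL = (2 : L)⁻¹ • LinearMap.BilinMap.toQuadraticMap BL := ⟨_, rfl⟩
  have hQLapp : ∀ v, QL v = (2 : L)⁻¹ * BL v v := by
    intro v
    rw [hQLdef]
    rfl
  have hpolarL : ∀ u v, polar ⇑QL u v = BL u v := by
    intro u v
    unfold polar
    rw [hQLapp, hQLapp, hQLapp, map_add, map_add, LinearMap.add_apply, LinearMap.add_apply,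
      hsymmL v u]
    field_simp
    ring
  have hQLnd : (polarBilin QL).Nondegenerate := by
    constructor
    · intro u hu
      apply hndL
      intro v
      rw [← hpolarL]
      exact hu v
    · intro u hu
      apply hndL
      intro v
      rw [hsymmL, ← hpolarL]
      exact hu v
  have hQφ : ∀ v, Q v = φ (QL v) := by
    intro v
    have h1 := hspec (algebraMap F L (2 : F)⁻¹) v v
    rw [algebraMap_smul, map_smul, LinearMap.smul_apply, hBapp, polar_self, smul_eq_mul] at h1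
    have h3 : (2 : L)⁻¹ = algebraMap F L (2 : F)⁻¹ := by
      rw [map_inv₀, map_ofNat]
    rw [hQLapp, h3, mul_comm, h1]
    simp only [nsmul_eq_mul, Nat.cast_ofNat]
    field_simp
  have hdimL : finrank L VV = d := by
    have h1 := Module.finrank_mul_finrank F L VV
    rw [hL2, Module.finrank_fintype_fun_eq_card, hcard] at h1
    omega
  have hcardL : Fintype.card L = Fintype.card F ^ 2 := by
    rw [Module.card_eq_pow_finrank (K := F) (V := L), hL2]
  refine ⟨φ, ?_, ?_⟩
  · intro e hde he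
    rcases sign_cases QL hQLnd e he (by rw [hdimL, hde]) with ⟨hs, g, hg⟩ | ⟨hs, ζ, hζ, g, hg⟩
    · left
      refine ⟨?_, g.toAddEquiv, ?_, ?_⟩
      · have h1 := hasSign_comp_functional hcardL ⇑QL e 1 hs φ hφ
        rw [hde]
        exact h1.congr_fun (fun v => hQφ v)
      · intro a v
        rw [← hsm]
        exact map_smul g a v
      · intro v
        rw [hQφ, hg]
        rfl
    · right
      refine ⟨?_, ζ, hζ, g.toAddEquiv, ?_, ?_⟩
      · have h1 := hasSign_comp_functional hcardL ⇑QL e (-1) hs φ hφ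
        rw [hde]
        exact h1.congr_fun (fun v => hQφ v)
      · intro a v
        rw [← hsm]
        exact map_smul g a v
      · intro v
        rw [hQφ, hg]
        rfl
  · intro e hde
    obtain ⟨c, hc, Ψ, hΨ⟩ := Cfsg.Agent.Lib.Helper14.OrthOrd.classify_odd h2L QL hQLnd e
      (by rw [hdimL, hde])
    refine ⟨c, hc, Ψ.symm.toAddEquiv, ?_, ?_⟩
    · intro a v
      rw [← hsm]
      exact map_smul Ψ.symm a v
    · intro v
      have h1 := hΨ (Ψ.symm v)
      rw [LinearEquiv.apply_symm_apply] at h1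
      rw [hQφ, h1]
      rfl

end classify

end Cfsg.Agent.Lib.Helper29.OF
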