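import Mathlib
import Cfsg.Agent.Lib.Helper29.OF20
import Cfsg.Agent.Lib.Helper29.OF22
import Cfsg.Agent.Lib.Helper29.OF23
import Cfsg.Agent.Lib.Helper15.PSpM12
import Cfsg.Agent.S0286
import Cfsg.Agent.S0287
import Cfsg.Agent.S0288

/-!
# The index of the normaliser of the field in `Ω` is prime to `r` when `4 ∣ ord_r(q)`
-/

set_option autoImplicit false
set_option linter.unusedSectionVars false

namespace Cfsg.Agent.Lib.Helper29.OF

open Module Matrix QuadraticMap Cfsg.Agent.Lib.Helper15.PSpM Cfsg.Agent.Lib.Helper14.OrthEven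
  Cfsg.Agent.Lib.Helper15

section index

universe u
variable {F : Type u} [Field F] [Fintype F] {ι : Type} [Fintype ι] [DecidableEq ι]

local notation "VV" => (ι → F)
local notation "MM" => Matrix ι ι F

/-- an invertible matrix commuting with `K` normalises `K` -/
theorem mem_normalizer_of_commute (K : Subalgebra F MM) (x : GL ι F)
    (h : ∀ k ∈ K, (x : MM) * k = k * (x : MM)) : x ∈ Cfsg.Geo.subalgebraNormalizer K := by
  have hxx : (x : MM) * ((x⁻¹ : GL ι F) : MM) = 1 := by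
    rw [← Units.val_mul, mul_inv_cancel, Units.val_one]
  have hxx' : ((x⁻¹ : GL ι F) : MM) * (x : MM) = 1 := by
    rw [← Units.val_mul, inv_mul_cancel, Units.val_one]
  intro k
  constructor
  · intro hk
    rw [h k hk, Matrix.mul_assoc, hxx, Matrix.mul_one]
    exact hk
  · intro hk
    have h1 := h _ hk
    have h3 : (x : MM) * k * ((x⁻¹ : GL ι F) : MM) = k := by
      have h6 : (x : MM) * ((x : MM) * k * ((x⁻¹ : GL ι F) : MM)) = (x : MM) * k := by
        rw [h1, Matrix.mul_assoc ((x : MM) * k), hxx', Matrix.mul_one]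
      have h7 : ((x⁻¹ : GL ι F) : MM) * ((x : MM) * ((x : MM) * k * ((x⁻¹ : GL ι F) : MM))) =
          ((x⁻¹ : GL ι F) : MM) * ((x : MM) * k) := by rw [h6]
      rwa [← Matrix.mul_assoc, hxx', Matrix.one_mul, ← Matrix.mul_assoc, hxx',
        Matrix.one_mul] at h7
    rw [← h3]
    exact hk

theorem isometryGroup_smul_eq {κ : Type} [Fintype κ] [DecidableEq κ] {L : Type*} [Field L]
    (Q₀ : (κ → L) → L) (c : L) (hc : c ≠ 0) :
    Cfsg.isometryGroup L (fun v => c * Q₀ v) = Cfsg.isometryGroup L Q₀ := by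
  ext g
  rw [mem_isometryGroup_iff, mem_isometryGroup_iff]
  constructor
  · intro h v
    exact mul_left_cancel₀ hc (h v)
  · intro h v
    show c * Q₀ _ = c * Q₀ v
    rw [h v]

/-- chunk (C): the index of `N(K) ∩ Ω` in `Ω` is prime to `r` when `4 ∣ ord_r(q)` -/
theorem not_dvd_index [Nonempty ι] (p : ℕ) [Fact p.Prime] [CharP F p]
    (hodd : Odd (Fintype.card F))
    (Q : QuadraticForm F VV) (hQ : (polarBilin Q).Nondegenerate) (d : ℕ) (hd : 1 ≤ d)
    (hcard : Fintype.card ι = 2 * d) (K : Subalgebra F MM)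
    (hK : Cfsg.Geo.IsFieldSubalgebra 2 K) (hKf : Cfsg.Geo.IsSelfAdjointFor (polar ⇑Q) K)
    (ε : ℤ) (hε : HasSign (⇑Q) d ε) (m : ℕ)
    (hm : (ε = 1 → m = Fintype.card F ^ d - 1) ∧ (ε = -1 → m = Fintype.card F ^ d + 1))
    (hcardO : Nat.card (Cfsg.isometryGroup F ⇑Q) =
      2 * Fintype.card F ^ (d * (d - 1)) * m *
        ∏ i ∈ Finset.range (d - 1), (Fintype.card F ^ (2 * (i + 1)) - 1))
    (r : ℕ) [hr : Fact r.Prime] (hrp : r ≠ p)
    (h4 : 4 ∣ orderOf ((Fintype.card F : ℕ) : ZMod r)) :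
    ¬ r ∣ (Cfsg.Geo.subalgebraNormalizer K).relIndex (Cfsg.Geo.omegaGL ⇑Q) := by
  classical
  obtain ⟨q, hq⟩ : ∃ q : ℕ, q = Fintype.card F := ⟨_, rfl⟩
  rw [← hq] at hm hcardO h4
  have hq1 : 1 ≤ q := by rw [hq]; exact Fintype.card_pos
  have h2 : (2 : F) ≠ 0 := by
    intro h
    obtain ⟨n, hn⟩ := FiniteField.card F p
    have h1 : ((2 : ℕ) : F) = 0 := by exact_mod_cast h
    have h3 := (CharP.cast_eq_zero_iff F p 2).mp h1
    have h5 := (Nat.prime_dvd_prime_iff_eq (Fact.out : p.Prime) Nat.prime_two).mp h3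
    rw [hn.2, h5] at hodd
    have : Even (2 ^ (n : ℕ)) := by
      apply Nat.even_pow.mpr
      exact ⟨even_two, n.ne_zero⟩
    exact (Nat.not_even_iff_odd.mpr hodd) this
  have hrq : ¬ r ∣ q := by
    intro h
    obtain ⟨n, hn⟩ := FiniteField.card F p
    rw [hq, hn.2] at h
    exact hrp ((Nat.prime_dvd_prime_iff_eq hr.out (Fact.out : p.Prime)).mp
      (hr.out.dvd_of_dvd_pow h))
  let fK : Field ↥K := (isField_sub K hK).toField
  haveI : Finite ↥K := Subtype.finite
  let ftK : Fintype ↥K := Fintype.ofFinite ↥K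
  have hL2 : finrank F ↥K = 2 := hK.finrank_eq
  have hcardL : Fintype.card ↥K = q ^ 2 := by
    rw [Module.card_eq_pow_finrank (K := F) (V := ↥K), hL2, hq]
  have hsa : ∀ (a : ↥K) (u v : VV), polar ⇑Q (K.val a *ᵥ u) v = polar ⇑Q u (K.val a *ᵥ v) :=
    fun a u v => hKf a.1 a.2 u v
  have hN : ∀ x : GL ι F, (∀ a : ↥K, (x : MM) * K.val a = K.val a * (x : MM)) →
      x ∈ Cfsg.Geo.subalgebraNormalizer K := by
    intro x hx
    apply mem_normalizer_of_commute K x
    intro k hk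
    exact hx ⟨k, hk⟩
  obtain ⟨φ, heven, hodd'⟩ := exists_classify (L := ↥K) hL2 Q hQ h2 K.val hsa d hcard
  rcases Nat.even_or_odd' d with ⟨e, hde | hde⟩
  · -- `d = 2e`
    have he : 1 ≤ e := by omega
    rcases heven e hde he with ⟨hs, g, hg, hQg⟩ | ⟨hs, ζ, hζ, g, hg, hQg⟩
    · have hε1 : ε = 1 := hε.unique hs
      have hdiv := index_mul_card_dvd (⇑Q) K.val (Cfsg.Geo.subalgebraNormalizer K) hN
        (Cfsg.quadFormPlus e ↥K) φ g hg hQg
      have hpe : (q ^ 2) ^ e = q ^ (2 * e) := by rw [← pow_mul]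
      rw [Cfsg.Agent.S0287.result hcardL e he, hcardO, hm.1 hε1, hde, hpe] at hdiv
      exact arith_even q r hr.out hrq hq1 h4 _ e (q ^ (2 * e) - 1) he
        (Nat.sub_pos_of_lt (Nat.one_lt_pow (by omega) (by
          rcases Nat.lt_or_ge 1 q with h | h
          · exact h
          · exfalso
            have hq' : q = 1 := by omega
            rw [hq'] at h4
            have h5 : (((1 : ℕ) : ZMod r)) = 1 := by simp
            rw [h5, orderOf_one] at h4
            omega))) hdiv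
    · have hε1 : ε = -1 := hε.unique hs
      have hdiv := index_mul_card_dvd (⇑Q) K.val (Cfsg.Geo.subalgebraNormalizer K) hN
        (Cfsg.quadFormMinus (e - 1) ↥K 1 ζ) φ g hg hQg
      have hpe : (q ^ 2) ^ e = q ^ (2 * e) := by rw [← pow_mul]
      rw [Cfsg.Agent.S0288.result hcardL e he 1 ζ hζ, hcardO, hm.2 hε1, hde, hpe] at hdiv
      exact arith_even q r hr.out hrq hq1 h4 _ e (q ^ (2 * e) + 1) he (by omega) hdiv
  · -- `d = 2e + 1`
    obtain ⟨c, hc, g, hg, hQg⟩ := hodd' e hde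
    have hdiv := index_mul_card_dvd (⇑Q) K.val (Cfsg.Geo.subalgebraNormalizer K) hN
      (fun v => c * Cfsg.quadFormOdd e ↥K v) φ g hg hQg
    have hoddL : Odd (q ^ 2) := by
      rw [hq]
      exact hodd.pow
    rw [isometryGroup_smul_eq _ c hc, Cfsg.Agent.S0286.result hcardL hoddL e, hcardO, hde] at hdiv
    apply arith_odd q r hr.out hrq hq1 h4 _ e m ?_ hdiv
    have hεpm : ε = 1 ∨ ε = -1 := by
      rcases sign_cases Q hQ d hd (by rw [Module.finrank_fintype_fun_eq_card, hcard]) with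
        ⟨hs, -⟩ | ⟨hs, -⟩
      · exact Or.inl (hε.unique hs)
      · exact Or.inr (hε.unique hs)
    rcases hεpm with h1 | h1
    · rw [hm.1 h1, hde]
      exact not_dvd_pow_sub_one q r _ hq1 h4 (by omega)
    · rw [hm.2 h1, hde]
      exact not_dvd_pow_add_one q r _ hr.out hq1 h4 (by omega)

end index

end Cfsg.Agent.Lib.Helper29.OF
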