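import Mathlib
import Cfsg.Agent.Lib.Helper29.OF18
import Cfsg.Agent.Lib.Helper29.OF24

/-!
# Field extension subgroups of `Ω^±_{2d}(q)`, `q` odd: the criterion
-/

set_option autoImplicit false
set_option linter.unusedSectionVars false

namespace Cfsg.Agent.Lib.Helper29.OF

open Module Matrix QuadraticMap Cfsg.Agent.Lib.Helper14.OrthEven

section final

universe u
variable {F : Type u} [Field F] [Fintype F]

theorem not_dvd_index_plus (p : ℕ) [Fact p.Prime] [CharP F p] (hodd : Odd (Fintype.card F))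
    (d : ℕ) (hd : 4 ≤ d) (K : Subalgebra F (Matrix (Fin d ⊕ Fin d) (Fin d ⊕ Fin d) F))
    (hK : Cfsg.Geo.IsFieldSubalgebra 2 K)
    (hKf : Cfsg.Geo.IsSelfAdjointFor (polar (Cfsg.quadFormPlus d F)) K)
    (r : ℕ) [hr : Fact r.Prime] (hrp : r ≠ p)
    (h4 : 4 ∣ orderOf ((Fintype.card F : ℕ) : ZMod r)) :
    ¬ r ∣ (Cfsg.Geo.subalgebraNormalizer K).relIndex
      (Cfsg.Geo.omegaGL (Cfsg.quadFormPlus d F)) := by
  classical
  obtain ⟨Q, hQdef⟩ : ∃ Q : QuadraticForm F (Fin d ⊕ Fin d → F),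
      Q = Cfsg.Agent.Lib.Helper15.QPlus F d := ⟨_, rfl⟩
  have hQf : ⇑Q = Cfsg.quadFormPlus d F := by
    rw [hQdef]
    exact funext (Cfsg.Agent.Lib.Helper15.QPlus_apply F d)
  have hQ : (polarBilin Q).Nondegenerate := by
    rw [hQdef]
    exact Cfsg.Agent.Lib.Helper15.nondegenerate_QPlus F d
  have hcard : Fintype.card (Fin d ⊕ Fin d) = 2 * d := by
    rw [Fintype.card_sum, Fintype.card_fin]
    ring
  haveI : Nonempty (Fin d ⊕ Fin d) := ⟨Sum.inl ⟨0, by omega⟩⟩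
  have hs : HasSign (⇑Q) d 1 := by
    rw [hQdef]
    exact hasSign_QPlus d
  have hcardO := Cfsg.Agent.S0287.result (F := F) rfl d (by omega)
  rw [← hQf] at hKf hcardO ⊢
  exact not_dvd_index p hodd Q hQ d (by omega) hcard K hK hKf 1 hs (Fintype.card F ^ d - 1)
    ⟨fun _ => rfl, fun h => by norm_num at h⟩ hcardO r hrp h4

theorem not_dvd_index_minus (p : ℕ) [Fact p.Prime] [CharP F p] (hodd : Odd (Fintype.card F))
    (d : ℕ) (hd : 4 ≤ d) (a b : F)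
    (hab : ∀ x y : F, x ^ 2 + a * x * y + b * y ^ 2 = 0 → x = 0 ∧ y = 0)
    (K : Subalgebra F (Matrix ((Fin (d - 1) ⊕ Fin (d - 1)) ⊕ Fin 2)
      ((Fin (d - 1) ⊕ Fin (d - 1)) ⊕ Fin 2) F))
    (hK : Cfsg.Geo.IsFieldSubalgebra 2 K)
    (hKf : Cfsg.Geo.IsSelfAdjointFor (polar (Cfsg.quadFormMinus (d - 1) F a b)) K)
    (r : ℕ) [hr : Fact r.Prime] (hrp : r ≠ p)
    (h4 : 4 ∣ orderOf ((Fintype.card F : ℕ) : ZMod r)) :
    ¬ r ∣ (Cfsg.Geo.subalgebraNormalizer K).relIndex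
      (Cfsg.Geo.omegaGL (Cfsg.quadFormMinus (d - 1) F a b)) := by
  classical
  obtain ⟨Q, hQdef⟩ : ∃ Q : QuadraticForm F ((Fin (d - 1) ⊕ Fin (d - 1)) ⊕ Fin 2 → F),
      Q = Cfsg.Agent.Lib.Helper15.Qgen (d - 1) (Cfsg.Agent.Lib.Helper15.binForm a b) := ⟨_, rfl⟩
  have hQf : ⇑Q = Cfsg.quadFormMinus (d - 1) F a b := by
    rw [hQdef]
    exact funext (Qgen_binForm_apply (d - 1) a b)
  have hQ : (polarBilin Q).Nondegenerate := by
    rw [hQdef]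
    exact nondegenerate_Qgen_binForm (d - 1) a b hab
  have hcard : Fintype.card ((Fin (d - 1) ⊕ Fin (d - 1)) ⊕ Fin 2) = 2 * d := by
    rw [Fintype.card_sum, Fintype.card_sum, Fintype.card_fin, Fintype.card_fin]
    omega
  haveI : Nonempty ((Fin (d - 1) ⊕ Fin (d - 1)) ⊕ Fin 2) := ⟨Sum.inr 0⟩
  have hs : HasSign (⇑Q) d (-1) := by
    have h1 := hasSign_Qgen (d - 1) a b hab
    rw [Nat.sub_add_cancel (by omega : 1 ≤ d)] at h1
    rw [hQdef]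
    exact h1
  have hcardO := Cfsg.Agent.S0288.result (F := F) rfl d (by omega) a b hab
  rw [← hQf] at hKf hcardO ⊢
  exact not_dvd_index p hodd Q hQ d (by omega) hcard K hK hKf (-1) hs (Fintype.card F ^ d + 1)
    ⟨fun h => by norm_num at h, fun _ => rfl⟩ hcardO r hrp h4

theorem result_plus (p : ℕ) [Fact p.Prime] [CharP F p] (hodd : Odd (Fintype.card F))
    (d : ℕ) (hd : 4 ≤ d) (K : Subalgebra F (Matrix (Fin d ⊕ Fin d) (Fin d ⊕ Fin d) F))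
    (hK : Cfsg.Geo.IsFieldSubalgebra 2 K)
    (hKf : Cfsg.Geo.IsSelfAdjointFor (polar (Cfsg.quadFormPlus d F)) K)
    (r : ℕ) [hr : Fact r.Prime]
    (hΩ : r ∣ (Cfsg.Geo.subalgebraNormalizer K).relIndex
      (Cfsg.Geo.omegaGL (Cfsg.quadFormPlus d F))) :
    (∀ x ∈ Cfsg.Geo.omegaGL (Cfsg.quadFormPlus d F),
      (∃ z : F, ((x ^ r : GL (Fin d ⊕ Fin d) F) : Matrix (Fin d ⊕ Fin d) (Fin d ⊕ Fin d) F) =
        z • (1 : Matrix (Fin d ⊕ Fin d) (Fin d ⊕ Fin d) F)) →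
      (∀ z : F, (x : Matrix (Fin d ⊕ Fin d) (Fin d ⊕ Fin d) F) ≠
        z • (1 : Matrix (Fin d ⊕ Fin d) (Fin d ⊕ Fin d) F)) →
      ∃ g ∈ Cfsg.Geo.omegaGL (Cfsg.quadFormPlus d F),
        g⁻¹ * x * g ∈ Cfsg.Geo.subalgebraNormalizer K) ↔ r = 2 :=
  result_plus_of_index p hodd d hd K hK hKf r hΩ
    (fun _ hrp h4 => not_dvd_index_plus p hodd d hd K hK hKf r hrp h4)

theorem result_minus (p : ℕ) [Fact p.Prime] [CharP F p] (hodd : Odd (Fintype.card F))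
    (d : ℕ) (hd : 4 ≤ d) (a b : F)
    (hab : ∀ x y : F, x ^ 2 + a * x * y + b * y ^ 2 = 0 → x = 0 ∧ y = 0)
    (K : Subalgebra F (Matrix ((Fin (d - 1) ⊕ Fin (d - 1)) ⊕ Fin 2)
      ((Fin (d - 1) ⊕ Fin (d - 1)) ⊕ Fin 2) F))
    (hK : Cfsg.Geo.IsFieldSubalgebra 2 K)
    (hKf : Cfsg.Geo.IsSelfAdjointFor (polar (Cfsg.quadFormMinus (d - 1) F a b)) K)
    (r : ℕ) [hr : Fact r.Prime]
    (hΩ : r ∣ (Cfsg.Geo.subalgebraNormalizer K).relIndex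
      (Cfsg.Geo.omegaGL (Cfsg.quadFormMinus (d - 1) F a b))) :
    (∀ x ∈ Cfsg.Geo.omegaGL (Cfsg.quadFormMinus (d - 1) F a b),
      (∃ z : F, ((x ^ r : GL ((Fin (d - 1) ⊕ Fin (d - 1)) ⊕ Fin 2) F) :
          Matrix ((Fin (d - 1) ⊕ Fin (d - 1)) ⊕ Fin 2) ((Fin (d - 1) ⊕ Fin (d - 1)) ⊕ Fin 2) F) =
        z • (1 : Matrix ((Fin (d - 1) ⊕ Fin (d - 1)) ⊕ Fin 2)
          ((Fin (d - 1) ⊕ Fin (d - 1)) ⊕ Fin 2) F)) →
      (∀ z : F, (x : Matrix ((Fin (d - 1) ⊕ Fin (d - 1)) ⊕ Fin 2)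
          ((Fin (d - 1) ⊕ Fin (d - 1)) ⊕ Fin 2) F) ≠
        z • (1 : Matrix ((Fin (d - 1) ⊕ Fin (d - 1)) ⊕ Fin 2)
          ((Fin (d - 1) ⊕ Fin (d - 1)) ⊕ Fin 2) F)) →
      ∃ g ∈ Cfsg.Geo.omegaGL (Cfsg.quadFormMinus (d - 1) F a b),
        g⁻¹ * x * g ∈ Cfsg.Geo.subalgebraNormalizer K) ↔ r = 2 :=
  result_minus_of_index p hodd d hd a b hab K hK hKf r hΩ
    (fun _ hrp h4 => not_dvd_index_minus p hodd d hd a b hab K hK hKf r hrp h4)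

end final

end Cfsg.Agent.Lib.Helper29.OF
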