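import Cfsg.Agent.Lib.Helper29.HeOutExcl

set_option autoImplicit false
set_option linter.unusedVariables false
set_option linter.unusedSectionVars false
set_option linter.style.haveILetI false

/-!
# Exclusion of images of the base points, with a binary search in the sorted lists of points
-/

namespace Cfsg.Agent.Lib.Helper29.HeOut

open Cfsg.Agent.Helper4.TC MulAction

/-- the index of the entry of the point `t` among the entries from `lo` to `hi`, by bisection
(`F` steps at most, then one by one) -/
noncomputable def findB (d : LData) (t : ℕ) (F lo hi : ℕ) : Option ℕ :=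
  Nat.rec (motive := fun _ => ℕ → ℕ → Option ℕ)
    (fun lo hi => findPt d t (hi - lo) lo)
    (fun _ ih lo hi =>
      Bool.rec (motive := fun _ => Option ℕ)
        (force ((lo + hi) / 2) fun mid =>
          Bool.rec (motive := fun _ => Option ℕ) (ih lo mid) (ih mid hi) (Nat.ble (d.pt mid) t))
        (findPt d t (hi - lo) lo)
        (Nat.ble hi (lo + 8)))
    F lo hi

theorem findB_zero (d : LData) (t lo hi : ℕ) : findB d t 0 lo hi = findPt d t (hi - lo) lo := rfl

theorem findB_succ (d : LData) (t F lo hi : ℕ) :
    findB d t (F + 1) lo hi =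
      if hi ≤ lo + 8 then findPt d t (hi - lo) lo
      else if d.pt ((lo + hi) / 2) ≤ t then findB d t F ((lo + hi) / 2) hi
      else findB d t F lo ((lo + hi) / 2) := by
  have h0 : findB d t (F + 1) lo hi = Bool.rec (motive := fun _ => Option ℕ)
      (force ((lo + hi) / 2) fun mid =>
        Bool.rec (motive := fun _ => Option ℕ) (findB d t F lo mid) (findB d t F mid hi)
          (Nat.ble (d.pt mid) t))
      (findPt d t (hi - lo) lo)
      (Nat.ble hi (lo + 8)) := rfl
  rw [h0, force_eq]
  by_cases h1 : hi ≤ lo + 8
  · rw [if_pos h1]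
    have : Nat.ble hi (lo + 8) = true := Nat.ble_eq_true_of_le h1
    rw [this]
  · rw [if_neg h1]
    have : Nat.ble hi (lo + 8) = false := by
      cases hb : Nat.ble hi (lo + 8)
      · rfl
      · exact absurd (Nat.le_of_ble_eq_true hb) h1
    rw [this]
    by_cases h2 : d.pt ((lo + hi) / 2) ≤ t
    · rw [if_pos h2]
      have : Nat.ble (d.pt ((lo + hi) / 2)) t = true := Nat.ble_eq_true_of_le h2
      rw [this]
    · rw [if_neg h2]
      have : Nat.ble (d.pt ((lo + hi) / 2)) t = false := by
        cases hb : Nat.ble (d.pt ((lo + hi) / 2)) t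
        · rfl
        · exact absurd (Nat.le_of_ble_eq_true hb) h2
      rw [this]

theorem findB_some {d : LData} {t : ℕ} : ∀ (F lo hi : ℕ) {j : ℕ}, lo ≤ hi →
    findB d t F lo hi = some j → lo ≤ j ∧ j < hi ∧ d.pt j = t := by
  intro F
  induction F with
  | zero =>
    intro lo hi j hle h
    rw [findB_zero] at h
    obtain ⟨h1, h2, h3⟩ := findPt_some _ _ h
    exact ⟨h1, by omega, h3⟩
  | succ F ih =>
    intro lo hi j hle h
    rw [findB_succ] at h
    split_ifs at h with h1 h2
    · obtain ⟨h3, h4, h5⟩ := findPt_some _ _ h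
      exact ⟨h3, by omega, h5⟩
    · obtain ⟨h3, h4, h5⟩ := ih ((lo + hi) / 2) hi (by omega) h
      exact ⟨by omega, h4, h5⟩
    · obtain ⟨h3, h4, h5⟩ := ih lo ((lo + hi) / 2) (by omega) h
      exact ⟨h3, by omega, h5⟩

theorem findB_none {d : LData} {t : ℕ} (cnt : ℕ)
    (hmono : ∀ i j, i < j → j < cnt → d.pt i < d.pt j) :
    ∀ (F lo hi : ℕ), lo ≤ hi → hi ≤ cnt → findB d t F lo hi = none →
      ∀ j, lo ≤ j → j < hi → d.pt j ≠ t := by
  intro F
  induction F with
  | zero =>
    intro lo hi hle hc h j h1 h2
    rw [findB_zero] at h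
    exact findPt_none _ _ h j h1 (by omega)
  | succ F ih =>
    intro lo hi hle hc h j h1 h2
    rw [findB_succ] at h
    split_ifs at h with h3 h4
    · exact findPt_none _ _ h j h1 (by omega)
    · by_cases hj : (lo + hi) / 2 ≤ j
      · exact ih ((lo + hi) / 2) hi (by omega) hc h j hj h2
      · have := hmono j ((lo + hi) / 2) (by omega) (by omega)
        omega
    · by_cases hj : j < (lo + hi) / 2
      · exact ih lo ((lo + hi) / 2) (by omega) (by omega) h j h1 hj
      · rcases Nat.eq_or_lt_of_le (show (lo + hi) / 2 ≤ j by omega) with h5 | h5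
        · rw [← h5]; omega
        · have := hmono ((lo + hi) / 2) j h5 (by omega)
          omega

theorem rangeS_sound_off (P : ℕ → Bool) (f k : ℕ) (h : rangeS P f k = true) :
    ∀ j, k ≤ j → j < k + f → P j = true := by
  rw [rangeS_eq] at h
  exact range_sound P (rangeL P) (fun _ => rfl) (rangeL_succ P) f k h

/-- the tuple does not sift through the levels (bisection in the lists of points) -/
noncomputable def exclB (m : MData) : List LSpec → List ℕ → Bool
  | [], _ => false
  | _ :: _, [] => false
  | s :: rest, t :: ts =>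
    match findB s.d t 24 0 s.d.cnt with
    | none => true
    | some j => exclB m rest (pull m s.d s.W (s.d.dep j) j ts)

section Sound

variable {α : Type} {R : Set (FreeGroup α)} {dec : ℕ → Letter α} {enc : α → ℕ}
variable {m : MData} {bases subsL : List (List ℕ)}

/-- a tuple of images of the base points under an element of the group sifts through -/
theorem exclB_sound (hcod : Coding dec enc m.nc)
    (hR1 : ∀ r ∈ R, ∃ b ∈ bases, r = wordF dec b) (hm : ModelOK m bases subsL)
    [Finite (modelHom hcod hR1 hm).range] :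
    ∀ (specs : List LSpec) (fixed : List ℕ), (∀ q ∈ fixed, q < m.n) →
      LevelsOK m fixed specs →
      Nat.card (fixSub (modelHom hcod hR1 hm).range (fixed.map (mkPt hm))) =
        (specs.map fun s => s.d.cnt).prod →
      ∀ (ts : List (Fin m.n)) (g : Equiv.Perm (Fin m.n)),
        g ∈ fixSub (modelHom hcod hR1 hm).range (fixed.map (mkPt hm)) →
        List.Forall₂ (fun (s : LSpec) (t : Fin m.n) => g (mkPt hm s.b) = t) specs ts →
        exclB m specs (ts.map Fin.val) = false := by
  intro specs
  induction specs with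
  | nil => intro _ _ _ _ ts _ _ _; rfl
  | cons s rest ih =>
    intro fixed hfixed hlev hcard ts g hg hall
    obtain ⟨⟨h1, h2, h3⟩, h4⟩ := hlev
    cases hall with
    | cons hst hrest =>
      rename_i t ts'
      set Φ := modelHom hcod hR1 hm with hΦ
      set K := fixSub Φ.range (fixed.map (mkPt hm)) with hKdef
      haveI : Finite K := Finite.of_injective
        (Subgroup.inclusion (show K ≤ Φ.range from fun x hx => ((mem_fixSub _ _ x).mp hx).1))
        (Subgroup.inclusion_injective _)
      have hchain := chainOK_of_levels hcod hR1 hm (s :: rest) fixed hfixed ⟨⟨h1, h2, h3⟩, h4⟩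
      rw [List.map_cons] at hchain
      have hex := exact_step K (mkPt hm s.b, s.d.cnt)
        (rest.map fun s => (mkPt hm s.b, s.d.cnt)) hchain (by
          rw [hcard, List.map_cons, List.prod_cons, List.map_map]
          rfl)
      obtain ⟨hex1, hex2⟩ := hex
      simp only at hex1 hex2
      rw [mkPt_of_lt hm s.b h2] at hex1 hst
      have hWK : ∀ w ∈ s.W, Φ (PresentedGroup.mk R (wordF dec w)) ∈ K := by
        intro w hw
        rw [hKdef, mem_fixSub]
        refine ⟨⟨_, rfl⟩, ?_⟩
        intro q hq
        obtain ⟨q', hq', rfl⟩ := List.mem_map.mp hq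
        rw [mkPt_of_lt hm q' (hfixed q' hq')]
        apply Fin.ext
        show (Φ (PresentedGroup.mk R (wordF dec w)) ⟨q', _⟩).val = q'
        rw [modelHom_word hcod hR1 hm w (h3 w hw).1]
        exact (h3 w hw).2 q' hq'
      obtain ⟨j, hj, hjt⟩ := level_orbit_eq h1 hcod hR1 hm (fun w hw => (h3 w hw).1) h2 K hWK
        hex1 g hg
      rw [hst] at hjt
      rw [List.map_cons]
      unfold exclB
      have hfind : ∃ j', findB s.d t.val 24 0 s.d.cnt = some j' := by
        cases hf : findB s.d t.val 24 0 s.d.cnt with
        | none =>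
          exact absurd hjt (findB_none s.d.cnt (fun i j hij hj => h1.mono i j hij hj) 24 0 s.d.cnt
            (Nat.zero_le _) (le_refl _) hf j (Nat.zero_le _) hj)
        | some j' => exact ⟨j', rfl⟩
      obtain ⟨j', hj'⟩ := hfind
      rw [hj']
      show exclB m rest (pull m s.d s.W (s.d.dep j') j' (ts'.map Fin.val)) = false
      obtain ⟨hj'1, hj'2, hj'3⟩ := findB_some 24 0 s.d.cnt (Nat.zero_le _) hj'
      obtain ⟨hp, u, hu, hub, hpull⟩ := pull_spec h1 hcod hR1 hm (fun w hw => (h3 w hw).1) h2 K hWK
        j' hj'2
      rw [hpull (s.d.dep j') (le_refl _) ts']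
      have hfix : (s.b :: fixed).map (mkPt hm) = mkPt hm s.b :: fixed.map (mkPt hm) :=
        List.map_cons
      have hrw : (ts'.map fun t => (u⁻¹ t).val) = (ts'.map fun t => u⁻¹ t).map Fin.val := by
        rw [List.map_map]; rfl
      rw [hrw]
      apply ih (s.b :: fixed) _ h4 _ _ (u⁻¹ * g)
      · rw [hfix, ← fixSub_cons, Subgroup.mem_inf]
        refine ⟨K.mul_mem (K.inv_mem hu) hg, ?_⟩
        rw [mem_stabilizer_iff, mkPt_of_lt hm s.b h2]
        show (u⁻¹ * g) ⟨s.b, h2⟩ = ⟨s.b, h2⟩
        rw [Equiv.Perm.mul_apply, hst]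
        have : t = u ⟨s.b, h2⟩ := by
          rw [hub]
          apply Fin.ext
          exact hj'3.symm
        rw [this]
        simp
      · rw [List.forall₂_map_right_iff]
        refine List.Forall₂.imp ?_ hrest
        intro s' t' hst'
        rw [Equiv.Perm.mul_apply, hst']
      · intro q hq
        rcases List.mem_cons.mp hq with rfl | hq
        · exact h2
        · exact hfixed q hq
      · rw [hfix, ← fixSub_cons, mkPt_of_lt hm s.b h2]
        rw [mkPt_of_lt hm s.b h2] at hex2
        rw [List.map_map] at hex2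
        exact hex2

end Sound

end Cfsg.Agent.Lib.Helper29.HeOut
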