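import Cfsg.Agent.Lib.Helper29.ONOutData1
import Cfsg.Agent.Lib.Helper4.TC.ONL37Model
import Cfsg.Agent.Lib.Helper29.OutExclB

set_option autoImplicit false
set_option maxRecDepth 100000
set_option linter.unusedVariables false
set_option Elab.async false

/-! The first level of the chains: checks. -/

namespace Cfsg.Agent.Lib.Helper29.ONOut

open Cfsg.Agent.Helper4.TC Cfsg.Agent.Lib.Helper29.HeOut

theorem lvl1_c0 : rangeS (lvlAt ONL37.mdata ld1 W1 0) 8192 0 = true := by decide +kernel
theorem lvl1_c1 : rangeS (lvlAt ONL37.mdata ld1 W1 0) 8192 8192 = true := by decide +kernel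
theorem lvl1_c2 : rangeS (lvlAt ONL37.mdata ld1 W1 0) 8192 16384 = true := by decide +kernel
theorem lvl1_c3 : rangeS (lvlAt ONL37.mdata ld1 W1 0) 8192 24576 = true := by decide +kernel
theorem lvl1_c4 : rangeS (lvlAt ONL37.mdata ld1 W1 0) 8192 32768 = true := by decide +kernel
theorem lvl1_c5 : rangeS (lvlAt ONL37.mdata ld1 W1 0) 8192 40960 = true := by decide +kernel
theorem lvl1_c6 : rangeS (lvlAt ONL37.mdata ld1 W1 0) 8192 49152 = true := by decide +kernel
theorem lvl1_c7 : rangeS (lvlAt ONL37.mdata ld1 W1 0) 8192 57344 = true := by decide +kernel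
theorem lvl1_c8 : rangeS (lvlAt ONL37.mdata ld1 W1 0) 8192 65536 = true := by decide +kernel
theorem lvl1_c9 : rangeS (lvlAt ONL37.mdata ld1 W1 0) 8192 73728 = true := by decide +kernel
theorem lvl1_c10 : rangeS (lvlAt ONL37.mdata ld1 W1 0) 8192 81920 = true := by decide +kernel
theorem lvl1_c11 : rangeS (lvlAt ONL37.mdata ld1 W1 0) 8192 90112 = true := by decide +kernel
theorem lvl1_c12 : rangeS (lvlAt ONL37.mdata ld1 W1 0) 8192 98304 = true := by decide +kernel
theorem lvl1_c13 : rangeS (lvlAt ONL37.mdata ld1 W1 0) 8192 106496 = true := by decide +kernel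
theorem lvl1_c14 : rangeS (lvlAt ONL37.mdata ld1 W1 0) 8072 114688 = true := by decide +kernel
theorem srt1_c0 : rangeS (srtAt ld1) 8192 0 = true := by decide +kernel
theorem srt1_c1 : rangeS (srtAt ld1) 8192 8192 = true := by decide +kernel
theorem srt1_c2 : rangeS (srtAt ld1) 8192 16384 = true := by decide +kernel
theorem srt1_c3 : rangeS (srtAt ld1) 8192 24576 = true := by decide +kernel
theorem srt1_c4 : rangeS (srtAt ld1) 8192 32768 = true := by decide +kernel
theorem srt1_c5 : rangeS (srtAt ld1) 8192 40960 = true := by decide +kernel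
theorem srt1_c6 : rangeS (srtAt ld1) 8192 49152 = true := by decide +kernel
theorem srt1_c7 : rangeS (srtAt ld1) 8192 57344 = true := by decide +kernel
theorem srt1_c8 : rangeS (srtAt ld1) 8192 65536 = true := by decide +kernel
theorem srt1_c9 : rangeS (srtAt ld1) 8192 73728 = true := by decide +kernel
theorem srt1_c10 : rangeS (srtAt ld1) 8192 81920 = true := by decide +kernel
theorem srt1_c11 : rangeS (srtAt ld1) 8192 90112 = true := by decide +kernel
theorem srt1_c12 : rangeS (srtAt ld1) 8192 98304 = true := by decide +kernel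
theorem srt1_c13 : rangeS (srtAt ld1) 8192 106496 = true := by decide +kernel
theorem srt1_c14 : rangeS (srtAt ld1) 8071 114688 = true := by decide +kernel
theorem fix1 : ∀ w ∈ W1, (∀ c ∈ w, c < ONL37.mdata.nc) ∧ ∀ q ∈ [], mtrace ONL37.mdata w q = q := by decide +kernel
theorem lvl1 : LevelOK ONL37.mdata ld1 W1 0 := by
  refine ⟨?_, ?_⟩
  · intro j hj
    have hj' : j < 122760 := hj
    by_cases h0 : j < 8192
    · exact rangeS_sound_off _ 8192 0 lvl1_c0 j (by omega) (by omega)
    by_cases h1 : j < 16384
    · exact rangeS_sound_off _ 8192 8192 lvl1_c1 j (by omega) (by omega)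
    by_cases h2 : j < 24576
    · exact rangeS_sound_off _ 8192 16384 lvl1_c2 j (by omega) (by omega)
    by_cases h3 : j < 32768
    · exact rangeS_sound_off _ 8192 24576 lvl1_c3 j (by omega) (by omega)
    by_cases h4 : j < 40960
    · exact rangeS_sound_off _ 8192 32768 lvl1_c4 j (by omega) (by omega)
    by_cases h5 : j < 49152
    · exact rangeS_sound_off _ 8192 40960 lvl1_c5 j (by omega) (by omega)
    by_cases h6 : j < 57344
    · exact rangeS_sound_off _ 8192 49152 lvl1_c6 j (by omega) (by omega)
    by_cases h7 : j < 65536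
    · exact rangeS_sound_off _ 8192 57344 lvl1_c7 j (by omega) (by omega)
    by_cases h8 : j < 73728
    · exact rangeS_sound_off _ 8192 65536 lvl1_c8 j (by omega) (by omega)
    by_cases h9 : j < 81920
    · exact rangeS_sound_off _ 8192 73728 lvl1_c9 j (by omega) (by omega)
    by_cases h10 : j < 90112
    · exact rangeS_sound_off _ 8192 81920 lvl1_c10 j (by omega) (by omega)
    by_cases h11 : j < 98304
    · exact rangeS_sound_off _ 8192 90112 lvl1_c11 j (by omega) (by omega)
    by_cases h12 : j < 106496
    · exact rangeS_sound_off _ 8192 98304 lvl1_c12 j (by omega) (by omega)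
    by_cases h13 : j < 114688
    · exact rangeS_sound_off _ 8192 106496 lvl1_c13 j (by omega) (by omega)
    exact rangeS_sound_off _ 8072 114688 lvl1_c14 j (by omega) (by omega)
  · intro j hj
    have hj' : j + 1 < 122760 := hj
    apply lt_of_blt
    show srtAt ld1 j = true
    by_cases h0 : j < 8192
    · exact rangeS_sound_off _ 8192 0 srt1_c0 j (by omega) (by omega)
    by_cases h1 : j < 16384
    · exact rangeS_sound_off _ 8192 8192 srt1_c1 j (by omega) (by omega)
    by_cases h2 : j < 24576
    · exact rangeS_sound_off _ 8192 16384 srt1_c2 j (by omega) (by omega)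
    by_cases h3 : j < 32768
    · exact rangeS_sound_off _ 8192 24576 srt1_c3 j (by omega) (by omega)
    by_cases h4 : j < 40960
    · exact rangeS_sound_off _ 8192 32768 srt1_c4 j (by omega) (by omega)
    by_cases h5 : j < 49152
    · exact rangeS_sound_off _ 8192 40960 srt1_c5 j (by omega) (by omega)
    by_cases h6 : j < 57344
    · exact rangeS_sound_off _ 8192 49152 srt1_c6 j (by omega) (by omega)
    by_cases h7 : j < 65536
    · exact rangeS_sound_off _ 8192 57344 srt1_c7 j (by omega) (by omega)
    by_cases h8 : j < 73728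
    · exact rangeS_sound_off _ 8192 65536 srt1_c8 j (by omega) (by omega)
    by_cases h9 : j < 81920
    · exact rangeS_sound_off _ 8192 73728 srt1_c9 j (by omega) (by omega)
    by_cases h10 : j < 90112
    · exact rangeS_sound_off _ 8192 81920 srt1_c10 j (by omega) (by omega)
    by_cases h11 : j < 98304
    · exact rangeS_sound_off _ 8192 90112 srt1_c11 j (by omega) (by omega)
    by_cases h12 : j < 106496
    · exact rangeS_sound_off _ 8192 98304 srt1_c12 j (by omega) (by omega)
    by_cases h13 : j < 114688
    · exact rangeS_sound_off _ 8192 106496 srt1_c13 j (by omega) (by omega)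
    exact rangeS_sound_off _ 8071 114688 srt1_c14 j (by omega) (by omega)

end Cfsg.Agent.Lib.Helper29.ONOut
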