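import Cfsg.Agent.Lib.Helper29.ONOutDataA
import Cfsg.Agent.Lib.Helper29.ONOutChain1

set_option autoImplicit false
set_option maxRecDepth 100000
set_option linter.unusedVariables false
set_option Elab.async false

/-! The chain A of stabilisers: checks. -/

namespace Cfsg.Agent.Lib.Helper29.ONOut

open Cfsg.Agent.Helper4.TC Cfsg.Agent.Lib.Helper29.HeOut

theorem lvlA2_c0 : rangeS (lvlAt ONL37.mdata ldA2 W2 237) 8192 0 = true := by decide +kernel
theorem lvlA2_c1 : rangeS (lvlAt ONL37.mdata ldA2 W2 237) 8192 8192 = true := by decide +kernel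
theorem lvlA2_c2 : rangeS (lvlAt ONL37.mdata ldA2 W2 237) 8192 16384 = true := by decide +kernel
theorem lvlA2_c3 : rangeS (lvlAt ONL37.mdata ldA2 W2 237) 8192 24576 = true := by decide +kernel
theorem lvlA2_c4 : rangeS (lvlAt ONL37.mdata ldA2 W2 237) 8192 32768 = true := by decide +kernel
theorem lvlA2_c5 : rangeS (lvlAt ONL37.mdata ldA2 W2 237) 8192 40960 = true := by decide +kernel
theorem lvlA2_c6 : rangeS (lvlAt ONL37.mdata ldA2 W2 237) 8192 49152 = true := by decide +kernel
theorem lvlA2_c7 : rangeS (lvlAt ONL37.mdata ldA2 W2 237) 1309 57344 = true := by decide +kernel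
theorem srtA2_c0 : rangeS (srtAt ldA2) 8192 0 = true := by decide +kernel
theorem srtA2_c1 : rangeS (srtAt ldA2) 8192 8192 = true := by decide +kernel
theorem srtA2_c2 : rangeS (srtAt ldA2) 8192 16384 = true := by decide +kernel
theorem srtA2_c3 : rangeS (srtAt ldA2) 8192 24576 = true := by decide +kernel
theorem srtA2_c4 : rangeS (srtAt ldA2) 8192 32768 = true := by decide +kernel
theorem srtA2_c5 : rangeS (srtAt ldA2) 8192 40960 = true := by decide +kernel
theorem srtA2_c6 : rangeS (srtAt ldA2) 8192 49152 = true := by decide +kernel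
theorem srtA2_c7 : rangeS (srtAt ldA2) 1308 57344 = true := by decide +kernel
theorem fixA2 : ∀ w ∈ W2, (∀ c ∈ w, c < ONL37.mdata.nc) ∧ ∀ q ∈ [0], mtrace ONL37.mdata w q = q := by decide +kernel
theorem lvlA2 : LevelOK ONL37.mdata ldA2 W2 237 := by
  refine ⟨?_, ?_⟩
  · intro j hj
    have hj' : j < 58653 := hj
    by_cases h0 : j < 8192
    · exact rangeS_sound_off _ 8192 0 lvlA2_c0 j (by omega) (by omega)
    by_cases h1 : j < 16384
    · exact rangeS_sound_off _ 8192 8192 lvlA2_c1 j (by omega) (by omega)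
    by_cases h2 : j < 24576
    · exact rangeS_sound_off _ 8192 16384 lvlA2_c2 j (by omega) (by omega)
    by_cases h3 : j < 32768
    · exact rangeS_sound_off _ 8192 24576 lvlA2_c3 j (by omega) (by omega)
    by_cases h4 : j < 40960
    · exact rangeS_sound_off _ 8192 32768 lvlA2_c4 j (by omega) (by omega)
    by_cases h5 : j < 49152
    · exact rangeS_sound_off _ 8192 40960 lvlA2_c5 j (by omega) (by omega)
    by_cases h6 : j < 57344
    · exact rangeS_sound_off _ 8192 49152 lvlA2_c6 j (by omega) (by omega)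
    exact rangeS_sound_off _ 1309 57344 lvlA2_c7 j (by omega) (by omega)
  · intro j hj
    have hj' : j + 1 < 58653 := hj
    apply lt_of_blt
    show srtAt ldA2 j = true
    by_cases h0 : j < 8192
    · exact rangeS_sound_off _ 8192 0 srtA2_c0 j (by omega) (by omega)
    by_cases h1 : j < 16384
    · exact rangeS_sound_off _ 8192 8192 srtA2_c1 j (by omega) (by omega)
    by_cases h2 : j < 24576
    · exact rangeS_sound_off _ 8192 16384 srtA2_c2 j (by omega) (by omega)
    by_cases h3 : j < 32768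
    · exact rangeS_sound_off _ 8192 24576 srtA2_c3 j (by omega) (by omega)
    by_cases h4 : j < 40960
    · exact rangeS_sound_off _ 8192 32768 srtA2_c4 j (by omega) (by omega)
    by_cases h5 : j < 49152
    · exact rangeS_sound_off _ 8192 40960 srtA2_c5 j (by omega) (by omega)
    by_cases h6 : j < 57344
    · exact rangeS_sound_off _ 8192 49152 srtA2_c6 j (by omega) (by omega)
    exact rangeS_sound_off _ 1308 57344 srtA2_c7 j (by omega) (by omega)

theorem lvlA3_c0 : rangeS (lvlAt ONL37.mdata ldA3 WA3 54336) 64 0 = true := by decide +kernel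
theorem srtA3_c0 : rangeS (srtAt ldA3) 63 0 = true := by decide +kernel
theorem fixA3 : ∀ w ∈ WA3, (∀ c ∈ w, c < ONL37.mdata.nc) ∧ ∀ q ∈ [237, 0], mtrace ONL37.mdata w q = q := by decide +kernel
theorem lvlA3 : LevelOK ONL37.mdata ldA3 WA3 54336 := by
  refine ⟨?_, ?_⟩
  · intro j hj
    have hj' : j < 64 := hj
    exact rangeS_sound_off _ 64 0 lvlA3_c0 j (by omega) (by omega)
  · intro j hj
    have hj' : j + 1 < 64 := hj
    apply lt_of_blt
    show srtAt ldA3 j = true
    exact rangeS_sound_off _ 63 0 srtA3_c0 j (by omega) (by omega)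

theorem lvlA4_c0 : rangeS (lvlAt ONL37.mdata ldA4 ([] : List (List ℕ)) 9536) 1 0 = true := by decide +kernel
theorem fixA4 : ∀ w ∈ ([] : List (List ℕ)), (∀ c ∈ w, c < ONL37.mdata.nc) ∧ ∀ q ∈ [54336, 237, 0], mtrace ONL37.mdata w q = q := by decide +kernel
theorem lvlA4 : LevelOK ONL37.mdata ldA4 ([] : List (List ℕ)) 9536 := by
  refine ⟨?_, ?_⟩
  · intro j hj
    have hj' : j < 1 := hj
    exact rangeS_sound_off _ 1 0 lvlA4_c0 j (by omega) (by omega)
  · intro j hj
    have hj' : j + 1 < 1 := hj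
    omega

theorem levels_okA : LevelsOK ONL37.mdata [] specsA := by
  exact (levelsOK_cons _ _ ⟨ld1, W1, 0⟩ _ lvl1 (by decide) fix1 (levelsOK_cons _ _ ⟨ldA2, W2, 237⟩ _ lvlA2 (by decide) fixA2 (levelsOK_cons _ _ ⟨ldA3, WA3, 54336⟩ _ lvlA3 (by decide) fixA3 (levelsOK_cons _ _ ⟨ldA4, [], 9536⟩ _ lvlA4 (by decide) fixA4 (levelsOK_nil _ _)))))

end Cfsg.Agent.Lib.Helper29.ONOut
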