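import Cfsg.Agent.Lib.Helper29.ONOutDataD
import Cfsg.Agent.Lib.Helper29.ONOutChain1

set_option autoImplicit false
set_option maxRecDepth 100000
set_option linter.unusedVariables false
set_option Elab.async false

/-! The chain D of stabilisers: checks. -/

namespace Cfsg.Agent.Lib.Helper29.ONOut

open Cfsg.Agent.Helper4.TC Cfsg.Agent.Lib.Helper29.HeOut

theorem lvlD2_c0 : rangeS (lvlAt ONL37.mdata ldD2 W2 97962) 8192 0 = true := by decide +kernel
theorem lvlD2_c1 : rangeS (lvlAt ONL37.mdata ldD2 W2 97962) 8192 8192 = true := by decide +kernel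
theorem lvlD2_c2 : rangeS (lvlAt ONL37.mdata ldD2 W2 97962) 8192 16384 = true := by decide +kernel
theorem lvlD2_c3 : rangeS (lvlAt ONL37.mdata ldD2 W2 97962) 8192 24576 = true := by decide +kernel
theorem lvlD2_c4 : rangeS (lvlAt ONL37.mdata ldD2 W2 97962) 8192 32768 = true := by decide +kernel
theorem lvlD2_c5 : rangeS (lvlAt ONL37.mdata ldD2 W2 97962) 8192 40960 = true := by decide +kernel
theorem lvlD2_c6 : rangeS (lvlAt ONL37.mdata ldD2 W2 97962) 2984 49152 = true := by decide +kernel
theorem srtD2_c0 : rangeS (srtAt ldD2) 8192 0 = true := by decide +kernel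
theorem srtD2_c1 : rangeS (srtAt ldD2) 8192 8192 = true := by decide +kernel
theorem srtD2_c2 : rangeS (srtAt ldD2) 8192 16384 = true := by decide +kernel
theorem srtD2_c3 : rangeS (srtAt ldD2) 8192 24576 = true := by decide +kernel
theorem srtD2_c4 : rangeS (srtAt ldD2) 8192 32768 = true := by decide +kernel
theorem srtD2_c5 : rangeS (srtAt ldD2) 8192 40960 = true := by decide +kernel
theorem srtD2_c6 : rangeS (srtAt ldD2) 2983 49152 = true := by decide +kernel
theorem fixD2 : ∀ w ∈ W2, (∀ c ∈ w, c < ONL37.mdata.nc) ∧ ∀ q ∈ [0], mtrace ONL37.mdata w q = q := by decide +kernel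
theorem lvlD2 : LevelOK ONL37.mdata ldD2 W2 97962 := by
  refine ⟨?_, ?_⟩
  · intro j hj
    have hj' : j < 52136 := hj
    by_cases h0 : j < 8192
    · exact rangeS_sound_off _ 8192 0 lvlD2_c0 j (by omega) (by omega)
    by_cases h1 : j < 16384
    · exact rangeS_sound_off _ 8192 8192 lvlD2_c1 j (by omega) (by omega)
    by_cases h2 : j < 24576
    · exact rangeS_sound_off _ 8192 16384 lvlD2_c2 j (by omega) (by omega)
    by_cases h3 : j < 32768
    · exact rangeS_sound_off _ 8192 24576 lvlD2_c3 j (by omega) (by omega)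
    by_cases h4 : j < 40960
    · exact rangeS_sound_off _ 8192 32768 lvlD2_c4 j (by omega) (by omega)
    by_cases h5 : j < 49152
    · exact rangeS_sound_off _ 8192 40960 lvlD2_c5 j (by omega) (by omega)
    exact rangeS_sound_off _ 2984 49152 lvlD2_c6 j (by omega) (by omega)
  · intro j hj
    have hj' : j + 1 < 52136 := hj
    apply lt_of_blt
    show srtAt ldD2 j = true
    by_cases h0 : j < 8192
    · exact rangeS_sound_off _ 8192 0 srtD2_c0 j (by omega) (by omega)
    by_cases h1 : j < 16384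
    · exact rangeS_sound_off _ 8192 8192 srtD2_c1 j (by omega) (by omega)
    by_cases h2 : j < 24576
    · exact rangeS_sound_off _ 8192 16384 srtD2_c2 j (by omega) (by omega)
    by_cases h3 : j < 32768
    · exact rangeS_sound_off _ 8192 24576 srtD2_c3 j (by omega) (by omega)
    by_cases h4 : j < 40960
    · exact rangeS_sound_off _ 8192 32768 srtD2_c4 j (by omega) (by omega)
    by_cases h5 : j < 49152
    · exact rangeS_sound_off _ 8192 40960 srtD2_c5 j (by omega) (by omega)
    exact rangeS_sound_off _ 2983 49152 srtD2_c6 j (by omega) (by omega)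

theorem lvlD3_c0 : rangeS (lvlAt ONL37.mdata ldD3 WD3 90921) 72 0 = true := by decide +kernel
theorem srtD3_c0 : rangeS (srtAt ldD3) 71 0 = true := by decide +kernel
theorem fixD3 : ∀ w ∈ WD3, (∀ c ∈ w, c < ONL37.mdata.nc) ∧ ∀ q ∈ [97962, 0], mtrace ONL37.mdata w q = q := by decide +kernel
theorem lvlD3 : LevelOK ONL37.mdata ldD3 WD3 90921 := by
  refine ⟨?_, ?_⟩
  · intro j hj
    have hj' : j < 72 := hj
    exact rangeS_sound_off _ 72 0 lvlD3_c0 j (by omega) (by omega)
  · intro j hj
    have hj' : j + 1 < 72 := hj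
    apply lt_of_blt
    show srtAt ldD3 j = true
    exact rangeS_sound_off _ 71 0 srtD3_c0 j (by omega) (by omega)

theorem lvlD4_c0 : rangeS (lvlAt ONL37.mdata ldD4 ([] : List (List ℕ)) 114657) 1 0 = true := by decide +kernel
theorem fixD4 : ∀ w ∈ ([] : List (List ℕ)), (∀ c ∈ w, c < ONL37.mdata.nc) ∧ ∀ q ∈ [90921, 97962, 0], mtrace ONL37.mdata w q = q := by decide +kernel
theorem lvlD4 : LevelOK ONL37.mdata ldD4 ([] : List (List ℕ)) 114657 := by
  refine ⟨?_, ?_⟩
  · intro j hj
    have hj' : j < 1 := hj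
    exact rangeS_sound_off _ 1 0 lvlD4_c0 j (by omega) (by omega)
  · intro j hj
    have hj' : j + 1 < 1 := hj
    omega

theorem levels_okD : LevelsOK ONL37.mdata [] specsD := by
  exact (levelsOK_cons _ _ ⟨ld1, W1, 0⟩ _ lvl1 (by decide) fix1 (levelsOK_cons _ _ ⟨ldD2, W2, 97962⟩ _ lvlD2 (by decide) fixD2 (levelsOK_cons _ _ ⟨ldD3, WD3, 90921⟩ _ lvlD3 (by decide) fixD3 (levelsOK_cons _ _ ⟨ldD4, [], 114657⟩ _ lvlD4 (by decide) fixD4 (levelsOK_nil _ _)))))

end Cfsg.Agent.Lib.Helper29.ONOut
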