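import Cfsg.Agent.Lib.Helper29.ONOutData1
import Cfsg.Agent.Lib.Helper4.TC.Trans
import Cfsg.Prelude.Def_Spor_ON

set_option autoImplicit false
set_option maxRecDepth 100000
set_option linter.unusedVariables false

/-! Words for the outer automorphism group of the O'Nan group: relations between the elements
`a` of order 31, `d` of order 15 normalising it, the involution `y` inverting `d` and the element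
`u` of order 3 commuting with `d`; the generators as words in them; the images of the generators
under an outer automorphism. -/

namespace Cfsg.Agent.Lib.Helper29.ONOut

open Cfsg.Agent.Helper4.TC

/-- the letters of a word are letters -/
def wok (w : List ℕ) : Bool := w.all fun c => Nat.blt c 14

/-- the base of the chain of the model -/
def hbPts : List ℕ := [0, 1, 9, 2]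
def esB : List ℕ := [0, 1, 2, 3]
/-- the powers of a word -/
def wsOf (w : List ℕ) (es : List ℕ) : List (List ℕ) := es.map (wpow w)

def cyc31 : List ℕ := [0, 237, 54336, 9536, 76105, 17352, 94011, 67004, 72294, 81962, 122230, 26037, 74593, 48560, 58204, 51082, 28584, 53852, 42928, 84351, 36668, 120847, 108557, 70007, 76305, 95381, 16187, 93930, 58555, 56008, 1]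
def good45 : List ℕ := [0, 88672, 80795, 97962, 36378, 27331, 90921, 70839, 84036, 114657, 71274, 67293, 97571, 28717, 41331, 90294, 113310, 112461, 97054, 64968, 101750, 76008, 100752, 69913, 82665, 91063, 84375, 107086, 72837, 95086, 93643, 112137, 115852, 85281, 43525, 57354, 112568, 78107, 99598, 104512, 100460, 85398, 96625, 39771, 54285]
def lw (i j : ℕ) : List ℕ := wpow dw i ++ wpow uw j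
def Lw : List (List ℕ) := [lw 0 0, lw 0 1, lw 0 2, lw 1 0, lw 1 1, lw 1 2, lw 2 0, lw 2 1, lw 2 2, lw 3 0, lw 3 1, lw 3 2, lw 4 0, lw 4 1, lw 4 2, lw 5 0, lw 5 1, lw 5 2, lw 6 0, lw 6 1, lw 6 2, lw 7 0, lw 7 1, lw 7 2, lw 8 0, lw 8 1, lw 8 2, lw 9 0, lw 9 1, lw 9 2, lw 10 0, lw 10 1, lw 10 2, lw 11 0, lw 11 1, lw 11 2, lw 12 0, lw 12 1, lw 12 2, lw 13 0, lw 13 1, lw 13 2, lw 14 0, lw 14 1, lw 14 2]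
def pieceL : List (List ℕ) := [aw, invW aw, dw, invW dw, yw]
def genData : List (ℕ × List (List ℕ)) := [
  (0, [dw, aw, yw, aw, dw, aw, yw, aw, yw, invW aw, dw, dw, invW aw, yw, aw, yw, aw, invW dw, aw, yw, invW aw, invW aw, yw, invW aw, yw, aw]),
  (2, [invW aw, invW aw, dw, aw, aw, yw, invW aw, invW dw, invW dw, yw, aw, dw, yw, aw, yw, invW dw, aw, yw, dw, dw, invW aw, yw, invW dw, invW aw]),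
  (4, [yw, invW aw, invW dw, aw, yw, invW aw, invW dw, yw, aw, dw, yw, aw, yw, aw, dw, invW aw, yw, invW dw, aw, aw, yw, aw, dw, aw]),
  (6, [yw, aw, yw, aw, yw, invW aw, invW aw, invW dw, invW dw, yw, invW aw, invW dw, yw, dw, invW aw, invW aw, yw, invW aw, invW aw, yw, aw, yw, aw, dw, aw]),
  (8, [dw, invW aw, yw, invW aw, dw, aw, aw, yw, aw, yw, invW aw, invW aw, invW aw, yw, aw, yw, dw, invW aw, invW aw, invW aw, invW aw, yw, aw, dw, invW aw]),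
  (10, [invW dw, aw, invW dw, invW dw, invW aw, yw, aw, yw, aw, dw, invW aw, yw, invW aw, yw, dw, invW aw, invW aw, yw, aw, yw, invW dw, aw, yw, aw, aw]),
  (12, [invW dw, invW dw, invW aw, invW dw, aw, yw, aw, yw, invW aw, yw, invW aw, dw, invW aw, yw, aw, aw, yw, dw, aw, yw, invW dw, aw, yw, dw, invW aw])]
def relA31 : List ℕ := wpow aw 31
def relDAD : List ℕ := invW (wpow aw 7) ++ invW dw ++ aw ++ dw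
def relYDY : List ℕ := dw ++ invW yw ++ dw ++ yw
def relUD : List ℕ := invW dw ++ invW uw ++ dw ++ uw
def relYA : List ℕ := wpow (wpow aw 6 ++ yw) 7
def distW (w : List ℕ) : List ℕ := wpow (wpow aw 6 ++ w ++ yw) 7

def sg0 : List ℕ := [10, 8, 6, 8, 6, 4, 2, 0, 4, 0, 6, 0, 10, 8, 6, 8, 10, 0, 4, 2, 0, 10, 8, 6, 12, 4, 10, 0, 10, 8, 6, 12, 4, 10, 0, 10, 8, 6, 12, 4, 10, 10, 8, 6, 8, 6, 4, 2, 0, 4, 0, 6, 0, 10, 8, 6, 8, 10, 0, 4, 2, 6, 12, 10, 8, 6, 4, 8, 6, 8, 10, 8, 6, 4, 8, 6, 8, 6, 10, 0, 4, 2, 6, 4, 10, 8, 6, 1, 4, 0, 6, 0, 10, 8, 6, 12, 4, 10, 0, 10, 8, 6, 12, 4, 10, 0, 10, 8, 6, 12, 4, 10, 10, 8, 6, 8, 6, 4, 2, 0, 4, 0, 6, 0, 10, 8, 6, 8, 10, 0, 4, 2, 0, 10, 8, 6, 12, 4, 10, 0, 10, 8,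 6, 12, 4, 10, 0, 10, 8, 6, 12, 4, 10, 10, 8, 6, 8, 6, 4, 2, 0, 4, 0, 6, 0, 10, 8, 6, 8, 10, 0, 4, 2, 6, 12, 10, 8, 6, 4, 8, 6, 8, 10, 8, 6, 4, 8, 6, 8, 6, 10, 0, 4, 2, 6, 4, 10, 8, 6, 1, 4, 0, 6, 0, 10, 8, 6, 12, 4, 10, 0, 10, 8, 6, 12, 4, 10, 0, 10, 8, 6, 12, 4, 10, 10, 8, 6, 8, 6, 4, 2, 0, 4, 0, 6, 0, 10, 8, 6, 8, 10, 0, 4, 2, 6, 12, 10, 8, 6, 4, 8, 6, 8, 10, 8, 6, 4, 8, 6, 8, 6, 10, 0, 4, 2, 6, 4, 10, 8, 6, 1, 4, 0, 6, 11, 5, 13, 7, 9, 11, 1, 11, 5, 13, 7, 9, 11, 1, 11, 5, 13, 7, 9, 11, 1, 10, 8, 6, 8, 6, 4, 2, 0, 4, 0, 6, 0, 10, 8, 6, 8, 10, 0, 4, 2, 10, 8, 6, 8, 6, 4, 2, 0, 4, 0, 6, 0, 10, 8, 6, 8, 10, 0, 4, 2, 11, 5, 13, 7, 9, 11, 1, 11, 5, 13, 7, 9, 11, 1, 11, 5, 13, 7, 9, 11, 1,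 10, 8, 6, 8, 6, 4, 2, 0, 4, 0, 6, 0, 10, 8, 6, 8, 10, 0, 4, 2, 6, 12, 10, 8, 6, 4, 8, 6, 8, 10, 8, 6, 4, 8, 6, 8, 6, 10, 0, 4, 2, 6, 4, 10, 8, 6, 1, 4, 0, 6, 0, 10, 8, 6, 12, 4, 10, 0, 10, 8, 6, 12, 4, 10, 0, 10, 8, 6, 12, 4, 10, 10, 8, 6, 8, 6, 4, 2, 0, 4, 0, 6, 0, 10, 8, 6, 8, 10, 0, 4, 2, 6, 12, 10, 8, 6, 4, 8, 6, 8, 10, 8, 6, 4, 8, 6, 8, 6, 10, 0, 4, 2, 6, 4, 10, 8, 6, 1, 4, 0, 6, 0, 10, 8, 6, 12, 4, 10, 0, 10, 8, 6, 12, 4, 10, 0, 10, 8, 6, 12, 4, 10, 3, 5, 1, 11, 9, 7, 9, 11, 1, 7, 1, 5, 1, 3, 5, 7, 9, 7, 9, 11, 0, 10, 8, 6, 12, 4, 10, 0, 10, 8, 6, 12, 4, 10, 0, 10, 8, 6, 12, 4, 10, 10, 8, 6, 8, 6, 4, 2, 0, 4, 0, 6, 0, 10, 8, 6, 8, 10, 0, 4, 2, 6, 12, 10, 8, 6, 4, 8, 6, 8, 10, 8, 6,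 4, 8, 6, 8, 6, 10, 0, 4, 2, 6, 4, 10, 8, 6, 1, 4, 0, 6, 11, 5, 13, 7, 9, 11, 1, 11, 5, 13, 7, 9, 11, 1, 11, 5, 13, 7, 9, 11, 1, 11, 5, 13, 7, 9, 11, 1, 11, 5, 13, 7, 9, 11, 1, 11, 5, 13, 7, 9, 11, 1, 10, 8, 6, 8, 6, 4, 2, 0, 4, 0, 6, 0, 10, 8, 6, 8, 10, 0, 4, 2, 6, 12, 10, 8, 6, 4, 8, 6, 8, 10, 8, 6, 4, 8, 6, 8, 6, 10, 0, 4, 2, 6, 4, 10, 8, 6, 1, 4, 0, 6, 11, 5, 13, 7, 9, 11, 1, 11, 5, 13, 7, 9, 11, 1, 11, 5, 13, 7, 9, 11, 1, 10, 8, 6, 8, 6, 4, 2, 0, 4, 0, 6, 0, 10, 8, 6, 8, 10, 0, 4, 2, 6, 12, 10, 8, 6, 4, 8, 6, 8, 10, 8, 6, 4, 8, 6, 8, 6, 10, 0, 4, 2, 6, 4, 10, 8, 6, 1, 4, 0, 6, 0, 10, 8, 6, 12, 4, 10, 0, 10, 8, 6, 12, 4, 10, 0, 10, 8, 6, 12, 4, 10]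
def sg1 : List ℕ := [11, 5, 13, 7, 9, 11, 1, 11, 5, 13, 7, 9, 11, 1, 11, 5, 13, 7, 9, 11, 1, 11, 5, 13, 7, 9, 11, 1, 11, 5, 13, 7, 9, 11, 1, 11, 5, 13, 7, 9, 11, 1, 10, 8, 6, 8, 6, 4, 2, 0, 4, 0, 6, 0, 10, 8, 6, 8, 10, 0, 4, 2, 0, 10, 8, 6, 12, 4, 10, 0, 10, 8, 6, 12, 4, 10, 0, 10, 8, 6, 12, 4, 10, 0, 10, 8, 6, 12, 4, 10, 0, 10, 8, 6, 12, 4, 10, 0, 10, 8, 6, 12, 4, 10, 10, 8, 6, 8, 6, 4, 2, 0, 4, 0, 6, 0, 10, 8, 6, 8, 10, 0, 4, 2, 6, 12, 10, 8, 6, 4, 8, 6, 8, 10, 8, 6, 4, 8, 6, 8, 6, 10, 0, 4, 2, 6, 4, 10, 8, 6, 1, 4, 0, 6, 11, 5, 13, 7, 9, 11, 1, 11, 5, 13, 7, 9, 11, 1, 11, 5, 13, 7, 9, 11, 1, 3, 5, 1, 11, 9, 7, 9, 11, 1, 7, 1, 5, 1, 3, 5, 7, 9, 7, 9, 11, 3, 5, 1, 11, 9, 7, 9, 11, 1, 7,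 1, 5, 1, 3, 5, 7, 9, 7, 9, 11, 10, 8, 6, 8, 6, 4, 2, 0, 4, 0, 6, 0, 10, 8, 6, 8, 10, 0, 4, 2, 6, 12, 10, 8, 6, 4, 8, 6, 8, 10, 8, 6, 4, 8, 6, 8, 6, 10, 0, 4, 2, 6, 4, 10, 8, 6, 1, 4, 0, 6, 0, 10, 8, 6, 12, 4, 10, 0, 10, 8, 6, 12, 4, 10, 0, 10, 8, 6, 12, 4, 10, 10, 8, 6, 8, 6, 4, 2, 0, 4, 0, 6, 0, 10, 8, 6, 8, 10, 0, 4, 2, 10, 8, 6, 8, 6, 4, 2, 0, 4, 0, 6, 0, 10, 8, 6, 8, 10, 0, 4, 2, 6, 12, 10, 8, 6, 4, 8, 6, 8, 10, 8, 6, 4, 8, 6, 8, 6, 10, 0, 4, 2, 6, 4, 10, 8, 6, 1, 4, 0, 6, 0, 10, 8, 6, 12, 4, 10, 0, 10, 8, 6, 12, 4, 10, 0, 10, 8, 6, 12, 4, 10, 10, 8, 6, 8, 6, 4, 2, 0, 4, 0, 6, 0, 10, 8, 6, 8, 10, 0, 4, 2, 6, 12, 10, 8, 6, 4, 8, 6, 8, 10, 8, 6, 4, 8, 6, 8, 6, 10, 0, 4, 2, 6, 4, 10, 8,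 6, 1, 4, 0, 6, 3, 5, 1, 11, 9, 7, 9, 11, 1, 7, 1, 5, 1, 3, 5, 7, 9, 7, 9, 11, 0, 10, 8, 6, 12, 4, 10, 0, 10, 8, 6, 12, 4, 10, 0, 10, 8, 6, 12, 4, 10, 10, 8, 6, 8, 6, 4, 2, 0, 4, 0, 6, 0, 10, 8, 6, 8, 10, 0, 4, 2, 6, 12, 10, 8, 6, 4, 8, 6, 8, 10, 8, 6, 4, 8, 6, 8, 6, 10, 0, 4, 2, 6, 4, 10, 8, 6, 1, 4, 0, 6, 10, 8, 6, 8, 6, 4, 2, 0, 4, 0, 6, 0, 10, 8, 6, 8, 10, 0, 4, 2, 10, 8, 6, 8, 6, 4, 2, 0, 4, 0, 6, 0, 10, 8, 6, 8, 10, 0, 4, 2, 11, 5, 13, 7, 9, 11, 1, 11, 5, 13, 7, 9, 11, 1, 11, 5, 13, 7, 9, 11, 1, 10, 8, 6, 8, 6, 4, 2, 0, 4, 0, 6, 0, 10, 8, 6, 8, 10, 0, 4, 2, 6, 12, 10, 8, 6, 4, 8, 6, 8, 10, 8, 6, 4, 8, 6, 8, 6, 10, 0, 4, 2, 6, 4, 10, 8, 6, 1, 4, 0, 6, 3, 5, 1, 11, 9, 7, 9, 11, 1, 7,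 1, 5, 1, 3, 5, 7, 9, 7, 9, 11, 11, 5, 13, 7, 9, 11, 1, 11, 5, 13, 7, 9, 11, 1, 11, 5, 13, 7, 9, 11, 1]
def sg2 : List ℕ := [10, 8, 6, 8, 6, 4, 2, 0, 4, 0, 6, 0, 10, 8, 6, 8, 10, 0, 4, 2, 6, 12, 10, 8, 6, 4, 8, 6, 8, 10, 8, 6, 4, 8, 6, 8, 6, 10, 0, 4, 2, 6, 4, 10, 8, 6, 1, 4, 0, 6, 11, 5, 13, 7, 9, 11, 1, 11, 5, 13, 7, 9, 11, 1, 11, 5, 13, 7, 9, 11, 1, 3, 5, 1, 11, 9, 7, 9, 11, 1, 7, 1, 5, 1, 3, 5, 7, 9, 7, 9, 11, 0, 10, 8, 6, 12, 4, 10, 0, 10, 8, 6, 12, 4, 10, 0, 10, 8, 6, 12, 4, 10, 10, 8, 6, 8, 6, 4, 2, 0, 4, 0, 6, 0, 10, 8, 6, 8, 10, 0, 4, 2, 6, 12, 10, 8, 6, 4, 8, 6, 8, 10, 8, 6, 4, 8, 6, 8, 6, 10, 0, 4, 2, 6, 4, 10, 8, 6, 1, 4, 0, 6, 11, 5, 13, 7, 9, 11, 1, 11, 5, 13, 7, 9, 11, 1, 11,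 5, 13, 7, 9, 11, 1, 3, 5, 1, 11, 9, 7, 9, 11, 1, 7, 1, 5, 1, 3, 5, 7, 9, 7, 9, 11, 10, 8, 6, 8, 6, 4, 2, 0, 4, 0, 6, 0, 10, 8, 6, 8, 10, 0, 4, 2, 6, 12, 10, 8, 6, 4, 8, 6, 8, 10, 8, 6, 4, 8, 6, 8, 6, 10, 0, 4, 2, 6, 4, 10, 8, 6, 1, 4, 0, 6, 0, 10, 8, 6, 12, 4, 10, 0, 10, 8, 6, 12, 4, 10, 0, 10, 8, 6, 12, 4, 10, 10, 8, 6, 8, 6, 4, 2, 0, 4, 0, 6, 0, 10, 8, 6, 8, 10, 0, 4, 2, 10, 8, 6, 8, 6, 4, 2, 0, 4, 0, 6, 0, 10, 8, 6, 8, 10, 0, 4, 2, 6, 12, 10, 8, 6, 4, 8, 6, 8, 10, 8, 6, 4, 8, 6, 8, 6, 10, 0, 4, 2, 6, 4, 10, 8, 6, 1, 4, 0, 6, 0, 10, 8, 6, 12, 4, 10, 0, 10, 8, 6, 12, 4, 10, 0, 10, 8, 6, 12, 4, 10, 10, 8, 6, 8, 6, 4, 2, 0, 4, 0, 6, 0, 10, 8, 6, 8, 10, 0, 4, 2, 6, 12, 10, 8, 6, 4, 8, 6, 8,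 10, 8, 6, 4, 8, 6, 8, 6, 10, 0, 4, 2, 6, 4, 10, 8, 6, 1, 4, 0, 6, 0, 10, 8, 6, 12, 4, 10, 0, 10, 8, 6, 12, 4, 10, 0, 10, 8, 6, 12, 4, 10, 10, 8, 6, 8, 6, 4, 2, 0, 4, 0, 6, 0, 10, 8, 6, 8, 10, 0, 4, 2, 11, 5, 13, 7, 9, 11, 1, 11, 5, 13, 7, 9, 11, 1, 11, 5, 13, 7, 9, 11, 1, 10, 8, 6, 8, 6, 4, 2, 0, 4, 0, 6, 0, 10, 8, 6, 8, 10, 0, 4, 2, 6, 12, 10, 8, 6, 4, 8, 6, 8, 10, 8, 6, 4, 8, 6, 8, 6, 10, 0, 4, 2, 6, 4, 10, 8, 6, 1, 4, 0, 6, 3, 5, 1, 11, 9, 7, 9, 11, 1, 7, 1, 5, 1, 3, 5, 7, 9, 7, 9, 11, 0, 10, 8, 6, 12, 4, 10, 0, 10, 8, 6, 12, 4, 10, 0, 10, 8, 6, 12, 4, 10, 0, 10, 8, 6, 12, 4, 10, 0, 10, 8, 6, 12, 4, 10, 0, 10, 8, 6, 12, 4, 10, 10, 8, 6, 8, 6, 4, 2, 0, 4, 0, 6, 0, 10, 8, 6, 8, 10, 0, 4,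 2, 6, 12, 10, 8, 6, 4, 8, 6, 8, 10, 8, 6, 4, 8, 6, 8, 6, 10, 0, 4, 2, 6, 4, 10, 8, 6, 1, 4, 0, 6, 0, 10, 8, 6, 12, 4, 10, 0, 10, 8, 6, 12, 4, 10, 0, 10, 8, 6, 12, 4, 10, 10, 8, 6, 8, 6, 4, 2, 0, 4, 0, 6, 0, 10, 8, 6, 8, 10, 0, 4, 2, 0, 10, 8, 6, 12, 4, 10, 0, 10, 8, 6, 12, 4, 10, 0, 10, 8, 6, 12, 4, 10]
def sg3 : List ℕ := [10, 8, 6, 8, 6, 4, 2, 0, 4, 0, 6, 0, 10, 8, 6, 8, 10, 0, 4, 2, 6, 12, 10, 8, 6, 4, 8, 6, 8, 10, 8, 6, 4, 8, 6, 8, 6, 10, 0, 4, 2, 6, 4, 10, 8, 6, 1, 4, 0, 6, 0, 10, 8, 6, 12, 4, 10, 0, 10, 8, 6, 12, 4, 10, 0, 10, 8, 6, 12, 4, 10, 10, 8, 6, 8, 6, 4, 2, 0, 4, 0, 6, 0, 10, 8, 6, 8, 10, 0, 4, 2, 6, 12, 10, 8, 6, 4, 8, 6, 8, 10, 8, 6, 4, 8, 6, 8, 6, 10, 0, 4, 2, 6, 4, 10,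 8, 6, 1, 4, 0, 6, 0, 10, 8, 6, 12, 4, 10, 0, 10, 8, 6, 12, 4, 10, 0, 10, 8, 6, 12, 4, 10, 10, 8, 6, 8, 6, 4, 2, 0, 4, 0, 6, 0, 10, 8, 6, 8, 10, 0, 4, 2, 6, 12, 10, 8, 6, 4, 8, 6, 8, 10, 8, 6, 4, 8, 6, 8, 6, 10, 0, 4, 2, 6, 4, 10, 8, 6, 1, 4, 0, 6, 11, 5, 13, 7, 9, 11, 1, 11, 5, 13, 7, 9, 11, 1, 11, 5, 13, 7, 9, 11, 1, 11, 5, 13, 7, 9, 11, 1, 11, 5, 13, 7, 9, 11, 1, 11, 5, 13, 7, 9, 11, 1, 3, 5, 1, 11, 9, 7, 9, 11, 1, 7, 1, 5, 1, 3, 5, 7, 9, 7, 9, 11, 3, 5, 1, 11, 9, 7, 9, 11, 1, 7, 1, 5, 1, 3, 5, 7, 9, 7, 9, 11, 10, 8, 6, 8, 6, 4, 2, 0, 4, 0, 6, 0, 10, 8, 6, 8, 10, 0, 4, 2, 6, 12, 10, 8, 6, 4, 8, 6, 8, 10, 8, 6, 4, 8, 6, 8, 6, 10, 0, 4, 2, 6, 4, 10, 8, 6, 1, 4, 0, 6, 11, 5, 13, 7, 9, 11,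 1, 11, 5, 13, 7, 9, 11, 1, 11, 5, 13, 7, 9, 11, 1, 3, 5, 1, 11, 9, 7, 9, 11, 1, 7, 1, 5, 1, 3, 5, 7, 9, 7, 9, 11, 10, 8, 6, 8, 6, 4, 2, 0, 4, 0, 6, 0, 10, 8, 6, 8, 10, 0, 4, 2, 6, 12, 10, 8, 6, 4, 8, 6, 8, 10, 8, 6, 4, 8, 6, 8, 6, 10, 0, 4, 2, 6, 4, 10, 8, 6, 1, 4, 0, 6, 10, 8, 6, 8, 6, 4, 2, 0, 4, 0, 6, 0, 10, 8, 6, 8, 10, 0, 4, 2, 11, 5, 13, 7, 9, 11, 1, 11, 5, 13, 7, 9, 11, 1, 11, 5, 13, 7, 9, 11, 1, 11, 5, 13, 7, 9, 11, 1, 11, 5, 13, 7, 9, 11, 1, 11, 5, 13, 7, 9, 11, 1, 10, 8, 6, 8, 6, 4, 2, 0, 4, 0, 6, 0, 10, 8, 6, 8, 10, 0, 4, 2, 6, 12, 10, 8, 6, 4, 8, 6, 8, 10, 8, 6, 4, 8, 6, 8, 6, 10, 0, 4, 2, 6, 4, 10, 8, 6, 1, 4, 0, 6, 11, 5, 13, 7, 9, 11, 1, 11, 5, 13, 7, 9, 11, 1, 11, 5, 13,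 7, 9, 11, 1, 11, 5, 13, 7, 9, 11, 1, 11, 5, 13, 7, 9, 11, 1, 11, 5, 13, 7, 9, 11, 1, 10, 8, 6, 8, 6, 4, 2, 0, 4, 0, 6, 0, 10, 8, 6, 8, 10, 0, 4, 2, 6, 12, 10, 8, 6, 4, 8, 6, 8, 10, 8, 6, 4, 8, 6, 8, 6, 10, 0, 4, 2, 6, 4, 10, 8, 6, 1, 4, 0, 6, 0, 10, 8, 6, 12, 4, 10, 0, 10, 8, 6, 12, 4, 10, 0, 10, 8, 6, 12, 4, 10, 10, 8, 6, 8, 6, 4, 2, 0, 4, 0, 6, 0, 10, 8, 6, 8, 10, 0, 4, 2, 6, 12, 10, 8, 6, 4, 8, 6, 8, 10, 8, 6, 4, 8, 6, 8, 6, 10, 0, 4, 2, 6, 4, 10, 8, 6, 1, 4, 0, 6, 0, 10, 8, 6, 12, 4, 10, 0, 10, 8, 6, 12, 4, 10, 0, 10, 8, 6, 12, 4, 10, 10, 8, 6, 8, 6, 4, 2, 0, 4, 0, 6, 0, 10, 8, 6, 8, 10, 0, 4, 2, 0, 10, 8, 6, 12, 4, 10, 0, 10, 8, 6, 12, 4, 10, 0, 10, 8, 6, 12, 4, 10]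
def sg4 : List ℕ := [10, 8, 6, 8, 6, 4, 2, 0, 4, 0, 6, 0, 10, 8, 6, 8, 10, 0, 4, 2, 11, 5, 13, 7, 9, 11, 1, 11, 5, 13, 7, 9, 11, 1, 11, 5, 13, 7, 9, 11, 1, 10, 8, 6, 8, 6, 4, 2, 0, 4, 0, 6, 0, 10, 8, 6, 8, 10, 0, 4, 2, 6, 12, 10, 8, 6, 4, 8, 6, 8, 10, 8, 6, 4, 8, 6, 8, 6, 10, 0, 4, 2, 6, 4, 10, 8, 6, 1, 4, 0, 6, 11, 5, 13, 7, 9, 11, 1, 11, 5, 13, 7, 9, 11, 1, 11, 5, 13, 7, 9, 11, 1, 10, 8, 6, 8, 6, 4, 2, 0, 4, 0, 6, 0, 10, 8, 6, 8, 10, 0, 4, 2, 0, 10, 8, 6, 12, 4, 10, 0, 10, 8, 6, 12, 4, 10, 0, 10, 8, 6, 12, 4, 10, 0, 10, 8, 6, 12, 4, 10, 0, 10, 8, 6, 12, 4, 10, 0, 10, 8, 6, 12, 4, 10, 10, 8, 6, 8, 6, 4, 2, 0, 4, 0, 6, 0, 10, 8, 6, 8, 10, 0, 4, 2, 6, 12, 10, 8, 6, 4, 8, 6, 8, 10, 8, 6, 4,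 8, 6, 8, 6, 10, 0, 4, 2, 6, 4, 10, 8, 6, 1, 4, 0, 6, 0, 10, 8, 6, 12, 4, 10, 0, 10, 8, 6, 12, 4, 10, 0, 10, 8, 6, 12, 4, 10, 10, 8, 6, 8, 6, 4, 2, 0, 4, 0, 6, 0, 10, 8, 6, 8, 10, 0, 4, 2, 6, 12, 10, 8, 6, 4, 8, 6, 8, 10, 8, 6, 4, 8, 6, 8, 6, 10, 0, 4, 2, 6, 4, 10, 8, 6, 1, 4, 0, 6, 11, 5, 13, 7, 9, 11, 1, 11, 5, 13, 7, 9, 11, 1, 11, 5, 13, 7, 9, 11, 1, 11, 5, 13, 7, 9, 11, 1, 11, 5, 13, 7, 9, 11, 1, 11, 5, 13, 7, 9, 11, 1, 11, 5, 13, 7, 9, 11, 1, 11, 5, 13, 7, 9, 11, 1, 11, 5, 13, 7, 9, 11, 1, 10, 8, 6, 8, 6, 4, 2, 0, 4, 0, 6, 0, 10, 8, 6, 8, 10, 0, 4, 2, 6, 12, 10, 8, 6, 4, 8, 6, 8, 10, 8, 6, 4, 8, 6, 8, 6, 10, 0, 4, 2, 6, 4, 10, 8, 6, 1, 4, 0, 6, 0, 10, 8, 6, 12, 4, 10, 0, 10, 8, 6, 12,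 4, 10, 0, 10, 8, 6, 12, 4, 10, 10, 8, 6, 8, 6, 4, 2, 0, 4, 0, 6, 0, 10, 8, 6, 8, 10, 0, 4, 2, 6, 12, 10, 8, 6, 4, 8, 6, 8, 10, 8, 6, 4, 8, 6, 8, 6, 10, 0, 4, 2, 6, 4, 10, 8, 6, 1, 4, 0, 6, 10, 8, 6, 8, 6, 4, 2, 0, 4, 0, 6, 0, 10, 8, 6, 8, 10, 0, 4, 2, 11, 5, 13, 7, 9, 11, 1, 11, 5, 13, 7, 9, 11, 1, 11, 5, 13, 7, 9, 11, 1, 11, 5, 13, 7, 9, 11, 1, 11, 5, 13, 7, 9, 11, 1, 11, 5, 13, 7, 9, 11, 1, 11, 5, 13, 7, 9, 11, 1, 11, 5, 13, 7, 9, 11, 1, 11, 5, 13, 7, 9, 11, 1, 11, 5, 13, 7, 9, 11, 1, 11, 5, 13, 7, 9, 11, 1, 11, 5, 13, 7, 9, 11, 1, 10, 8, 6, 8, 6, 4, 2, 0, 4, 0, 6, 0, 10, 8, 6, 8, 10, 0, 4, 2, 6, 12, 10, 8, 6, 4, 8, 6, 8, 10, 8, 6, 4, 8, 6, 8, 6, 10, 0, 4, 2, 6, 4, 10, 8, 6, 1, 4, 0, 6,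 0, 10, 8, 6, 12, 4, 10, 0, 10, 8, 6, 12, 4, 10, 0, 10, 8, 6, 12, 4, 10, 10, 8, 6, 8, 6, 4, 2, 0, 4, 0, 6, 0, 10, 8, 6, 8, 10, 0, 4, 2, 11, 5, 13, 7, 9, 11, 1, 11, 5, 13, 7, 9, 11, 1, 11, 5, 13, 7, 9, 11, 1]
def sg5 : List ℕ := [3, 5, 1, 11, 9, 7, 9, 11, 1, 7, 1, 5, 1, 3, 5, 7, 9, 7, 9, 11, 0, 10, 8, 6, 12, 4, 10, 0, 10, 8, 6, 12, 4, 10, 0, 10, 8, 6, 12, 4, 10, 3, 5, 1, 11, 9, 7, 9, 11, 1, 7, 1, 5, 1, 3, 5, 7, 9, 7, 9, 11, 3, 5, 1, 11, 9, 7, 9, 11, 1, 7, 1, 5, 1, 3, 5, 7, 9, 7, 9, 11, 11, 5, 13, 7, 9, 11, 1, 11, 5, 13, 7, 9, 11, 1, 11, 5, 13, 7, 9, 11, 1, 10, 8, 6, 8, 6, 4, 2, 0, 4, 0, 6, 0, 10, 8, 6, 8, 10, 0, 4, 2, 6, 12, 10, 8, 6, 4, 8, 6, 8, 10, 8, 6, 4, 8, 6, 8, 6, 10, 0, 4, 2, 6, 4,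 10, 8, 6, 1, 4, 0, 6, 0, 10, 8, 6, 12, 4, 10, 0, 10, 8, 6, 12, 4, 10, 0, 10, 8, 6, 12, 4, 10, 10, 8, 6, 8, 6, 4, 2, 0, 4, 0, 6, 0, 10, 8, 6, 8, 10, 0, 4, 2, 6, 12, 10, 8, 6, 4, 8, 6, 8, 10, 8, 6, 4, 8, 6, 8, 6, 10, 0, 4, 2, 6, 4, 10, 8, 6, 1, 4, 0, 6, 0, 10, 8, 6, 12, 4, 10, 0, 10, 8, 6, 12, 4, 10, 0, 10, 8, 6, 12, 4, 10, 10, 8, 6, 8, 6, 4, 2, 0, 4, 0, 6, 0, 10, 8, 6, 8, 10, 0, 4, 2, 11, 5, 13, 7, 9, 11, 1, 11, 5, 13, 7, 9, 11, 1, 11, 5, 13, 7, 9, 11, 1, 10, 8, 6, 8, 6, 4, 2, 0, 4, 0, 6, 0, 10, 8, 6, 8, 10, 0, 4, 2, 6, 12, 10, 8, 6, 4, 8, 6, 8, 10, 8, 6, 4, 8, 6, 8, 6, 10, 0, 4, 2, 6, 4, 10, 8, 6, 1, 4, 0, 6, 11, 5, 13, 7, 9, 11, 1, 11, 5, 13, 7, 9, 11, 1, 11, 5, 13, 7, 9, 11, 1, 10, 8,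 6, 8, 6, 4, 2, 0, 4, 0, 6, 0, 10, 8, 6, 8, 10, 0, 4, 2, 6, 12, 10, 8, 6, 4, 8, 6, 8, 10, 8, 6, 4, 8, 6, 8, 6, 10, 0, 4, 2, 6, 4, 10, 8, 6, 1, 4, 0, 6, 10, 8, 6, 8, 6, 4, 2, 0, 4, 0, 6, 0, 10, 8, 6, 8, 10, 0, 4, 2, 11, 5, 13, 7, 9, 11, 1, 11, 5, 13, 7, 9, 11, 1, 11, 5, 13, 7, 9, 11, 1, 11, 5, 13, 7, 9, 11, 1, 11, 5, 13, 7, 9, 11, 1, 11, 5, 13, 7, 9, 11, 1, 10, 8, 6, 8, 6, 4, 2, 0, 4, 0, 6, 0, 10, 8, 6, 8, 10, 0, 4, 2, 6, 12, 10, 8, 6, 4, 8, 6, 8, 10, 8, 6, 4, 8, 6, 8, 6, 10, 0, 4, 2, 6, 4, 10, 8, 6, 1, 4, 0, 6, 0, 10, 8, 6, 12, 4, 10, 0, 10, 8, 6, 12, 4, 10, 0, 10, 8, 6, 12, 4, 10, 10, 8, 6, 8, 6, 4, 2, 0, 4, 0, 6, 0, 10, 8, 6, 8, 10, 0, 4, 2, 6, 12, 10, 8, 6, 4, 8, 6, 8, 10, 8, 6, 4, 8,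 6, 8, 6, 10, 0, 4, 2, 6, 4, 10, 8, 6, 1, 4, 0, 6, 3, 5, 1, 11, 9, 7, 9, 11, 1, 7, 1, 5, 1, 3, 5, 7, 9, 7, 9, 11, 0, 10, 8, 6, 12, 4, 10, 0, 10, 8, 6, 12, 4, 10, 0, 10, 8, 6, 12, 4, 10, 10, 8, 6, 8, 6, 4, 2, 0, 4, 0, 6, 0, 10, 8, 6, 8, 10, 0, 4, 2, 6, 12, 10, 8, 6, 4, 8, 6, 8, 10, 8, 6, 4, 8, 6, 8, 6, 10, 0, 4, 2, 6, 4, 10, 8, 6, 1, 4, 0, 6, 0, 10, 8, 6, 12, 4, 10, 0, 10, 8, 6, 12, 4, 10, 0, 10, 8, 6, 12, 4, 10, 0, 10, 8, 6, 12, 4, 10, 0, 10, 8, 6, 12, 4, 10, 0, 10, 8, 6, 12, 4, 10]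
def sg6 : List ℕ := [3, 5, 1, 11, 9, 7, 9, 11, 1, 7, 1, 5, 1, 3, 5, 7, 9, 7, 9, 11, 3, 5, 1, 11, 9, 7, 9, 11, 1, 7, 1, 5, 1, 3, 5, 7, 9, 7, 9, 11, 11, 5, 13, 7, 9, 11, 1, 11, 5, 13, 7, 9, 11, 1, 11, 5, 13, 7, 9, 11, 1, 3, 5, 1, 11, 9, 7, 9, 11, 1, 7, 1, 5, 1, 3, 5, 7, 9, 7, 9, 11, 0, 10, 8, 6, 12, 4, 10, 0, 10, 8, 6, 12, 4, 10, 0, 10, 8, 6, 12, 4, 10, 10, 8, 6, 8, 6, 4, 2, 0, 4, 0, 6, 0, 10, 8, 6, 8, 10, 0, 4, 2, 6, 12, 10, 8, 6, 4, 8, 6, 8, 10, 8, 6, 4, 8, 6, 8, 6, 10, 0, 4, 2, 6, 4, 10, 8, 6, 1, 4, 0, 6, 0, 10, 8, 6, 12, 4, 10, 0, 10, 8, 6, 12, 4, 10, 0, 10, 8, 6, 12, 4, 10, 10, 8, 6, 8, 6, 4, 2, 0, 4, 0, 6, 0, 10, 8, 6, 8, 10, 0, 4, 2, 6, 12, 10, 8, 6, 4, 8, 6, 8, 10, 8, 6, 4, 8, 6, 8,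 6, 10, 0, 4, 2, 6, 4, 10, 8, 6, 1, 4, 0, 6, 11, 5, 13, 7, 9, 11, 1, 11, 5, 13, 7, 9, 11, 1, 11, 5, 13, 7, 9, 11, 1, 10, 8, 6, 8, 6, 4, 2, 0, 4, 0, 6, 0, 10, 8, 6, 8, 10, 0, 4, 2, 6, 12, 10, 8, 6, 4, 8, 6, 8, 10, 8, 6, 4, 8, 6, 8, 6, 10, 0, 4, 2, 6, 4, 10, 8, 6, 1, 4, 0, 6, 11, 5, 13, 7, 9, 11, 1, 11, 5, 13, 7, 9, 11, 1, 11, 5, 13, 7, 9, 11, 1, 10, 8, 6, 8, 6, 4, 2, 0, 4, 0, 6, 0, 10, 8, 6, 8, 10, 0, 4, 2, 11, 5, 13, 7, 9, 11, 1, 11, 5, 13, 7, 9, 11, 1, 11, 5, 13, 7, 9, 11, 1, 10, 8, 6, 8, 6, 4, 2, 0, 4, 0, 6, 0, 10, 8, 6, 8, 10, 0, 4, 2, 6, 12, 10, 8, 6, 4, 8, 6, 8, 10, 8, 6, 4, 8, 6, 8, 6, 10, 0, 4, 2, 6, 4, 10, 8, 6, 1, 4, 0, 6, 0, 10, 8, 6, 12, 4, 10, 0, 10, 8, 6, 12, 4, 10, 0, 10, 8,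 6, 12, 4, 10, 0, 10, 8, 6, 12, 4, 10, 0, 10, 8, 6, 12, 4, 10, 0, 10, 8, 6, 12, 4, 10, 10, 8, 6, 8, 6, 4, 2, 0, 4, 0, 6, 0, 10, 8, 6, 8, 10, 0, 4, 2, 6, 12, 10, 8, 6, 4, 8, 6, 8, 10, 8, 6, 4, 8, 6, 8, 6, 10, 0, 4, 2, 6, 4, 10, 8, 6, 1, 4, 0, 6, 10, 8, 6, 8, 6, 4, 2, 0, 4, 0, 6, 0, 10, 8, 6, 8, 10, 0, 4, 2, 0, 10, 8, 6, 12, 4, 10, 0, 10, 8, 6, 12, 4, 10, 0, 10, 8, 6, 12, 4, 10, 10, 8, 6, 8, 6, 4, 2, 0, 4, 0, 6, 0, 10, 8, 6, 8, 10, 0, 4, 2, 6, 12, 10, 8, 6, 4, 8, 6, 8, 10, 8, 6, 4, 8, 6, 8, 6, 10, 0, 4, 2, 6, 4, 10, 8, 6, 1, 4, 0, 6, 3, 5, 1, 11, 9, 7, 9, 11, 1, 7, 1, 5, 1, 3, 5, 7, 9, 7, 9, 11, 0, 10, 8, 6, 12, 4, 10, 0, 10, 8, 6, 12, 4, 10, 0, 10, 8, 6, 12, 4, 10, 10, 8, 6, 8, 6, 4, 2, 0,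 4, 0, 6, 0, 10, 8, 6, 8, 10, 0, 4, 2, 6, 12, 10, 8, 6, 4, 8, 6, 8, 10, 8, 6, 4, 8, 6, 8, 6, 10, 0, 4, 2, 6, 4, 10, 8, 6, 1, 4, 0, 6, 10, 8, 6, 8, 6, 4, 2, 0, 4, 0, 6, 0, 10, 8, 6, 8, 10, 0, 4, 2, 11, 5, 13, 7, 9, 11, 1, 11, 5, 13, 7, 9, 11, 1, 11, 5, 13, 7, 9, 11, 1]

/-- the images of the generators under an outer automorphism, as words -/
def sigma : Cfsg.Spor.ON.Gen → List ℕ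
  | .g => sg0
  | .a => sg1
  | .b => sg2
  | .c => sg3
  | .d => sg4
  | .e => sg5
  | .f => sg6

end Cfsg.Agent.Lib.Helper29.ONOut
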