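import Cfsg.Agent.Lib.Helper4.TC.ONSMain
import Cfsg.Agent.Lib.Helper4.TC.ONSLC
import Cfsg.Agent.Lib.Helper4.TC.Embed2
import Cfsg.Agent.Lib.Helper29.ONOutChainA
import Cfsg.Agent.Lib.Helper29.ONOutChainD
import Cfsg.Agent.Lib.Helper29.ONOutWords

set_option autoImplicit false
set_option maxRecDepth 100000
set_option linter.unusedVariables false
set_option linter.unusedSectionVars false
set_option linter.style.haveILetI false

/-!
# The presented O'Nan group: elements of words, their action on the 122760 points, sifting
-/

namespace Cfsg.Agent.Lib.Helper29.ONOut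

open Cfsg.Agent.Helper4.TC Cfsg.Agent.Lib.Helper29.HeOut

/-- the presented O'Nan group -/
abbrev ONP : Type := PresentedGroup ONS.Rset

/-- the permutation representation on the 122760 points -/
noncomputable abbrev PhiON : ONP →* Equiv.Perm (Fin ONL37.mdata.n) :=
  modelHom ONL37.coding ONL37.hR1 ONL37.model_ok

/-- the element of a word -/
noncomputable def el (w : List ℕ) : ONP := PresentedGroup.mk ONS.Rset (wordF ONL37.dec w)

theorem el_append (u v : List ℕ) : el (u ++ v) = el v * el u := by
  unfold el
  rw [← evc_of, ← evc_of, ← evc_of, evc_append]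

theorem el_nil : el [] = 1 := by
  unfold el
  rw [← evc_of]
  rfl

theorem el_invW (w : List ℕ) : el (invW w) = (el w)⁻¹ :=
  mk_invW (R := ONS.Rset) (m := ONL37.mdata) ONL37.coding w

theorem el_wpow (w : List ℕ) (t : ℕ) : el (wpow w t) = (el w) ^ t := mk_wordF_wpow w t

theorem wok_sound {w : List ℕ} (h : wok w = true) : ∀ c ∈ w, c < ONL37.mdata.nc := by
  intro c hc
  unfold wok at h
  rw [List.all_eq_true] at h
  have := h c hc
  rw [Nat.blt_eq] at this
  exact this

/-- the action on the numbers of the points -/
noncomputable def act (g : ONP) (k : ℕ) : ℕ := (PhiON g (mkPt ONL37.model_ok k)).val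

theorem act_lt (g : ONP) (k : ℕ) : act g k < 122760 := (PhiON g (mkPt ONL37.model_ok k)).2

theorem mkPt_act (g : ONP) (k : ℕ) :
    mkPt ONL37.model_ok (act g k) = PhiON g (mkPt ONL37.model_ok k) := by
  apply Fin.ext
  exact Nat.mod_eq_of_lt (PhiON g (mkPt ONL37.model_ok k)).2

theorem act_mul (g h : ONP) (k : ℕ) : act (g * h) k = act g (act h k) := by
  unfold act
  rw [map_mul, Equiv.Perm.mul_apply]
  congr 2
  exact (mkPt_act h k).symm

theorem act_one (k : ℕ) (hk : k < 122760) : act 1 k = k := by
  unfold act
  rw [map_one, Equiv.Perm.one_apply]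
  exact Nat.mod_eq_of_lt hk

theorem act_el (w : List ℕ) (hw : wok w = true) (k : ℕ) (hk : k < 122760) :
    act (el w) k = mtrace ONL37.mdata w k := by
  unfold act el
  rw [mkPt_of_lt ONL37.model_ok k hk]
  exact modelHom_word ONL37.coding ONL37.hR1 ONL37.model_ok w (wok_sound hw) ⟨k, hk⟩

theorem act_inv_of (g : ONP) (k l : ℕ) (hk : k < 122760) (h : act g k = l) : act g⁻¹ l = k := by
  rw [← h, ← act_mul, inv_mul_cancel, act_one k hk]

/-- a word fixing the base of the model is trivial -/
theorem el_eq_one_of_fixesB (w : List ℕ) (h : fixesB ONL37.mdata hbPts w = true) :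
    el w = 1 := by
  obtain ⟨h1, h2⟩ := fixesB_sound h
  refine word_eq_one_of_base ONL37.coding ONL37.hR1 ONL37.model_ok 460815505920 (by norm_num)
    ONS.card_top ONS.specs ONS.levels_ok (by decide) w h1 ?_ ?_
  · exact h2 0 (by decide)
  · intro s hs
    have hpts : hbPts = 0 :: ONS.specs.map fun s => s.b := rfl
    exact h2 s.b (by rw [hpts]; exact List.mem_cons_of_mem _ (List.mem_map_of_mem hs))

/-- a word moving a point is not trivial -/
theorem el_ne_one_of_moves (w : List ℕ) (hw : wok w = true) (k : ℕ) (hk : k < 122760)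
    (h : mtrace ONL37.mdata w k ≠ k) : el w ≠ 1 := by
  intro h1
  apply h
  rw [← act_el w hw k hk, h1, act_one k hk]

instance finite_ONP : Finite ONP := ONS.card_top.1

instance simple_ONP : IsSimpleGroup ONP := ONS.main.1

theorem card_ONP : Nat.card ONP = 460815505920 := ONS.main.2

theorem card_range : Nat.card PhiON.range = 460815505920 := by
  have h := range_facts (by decide : 2 ≤ ONL37.mdata.n) PhiON ⟨0, ONL37.model_ok.npos⟩
    (modelHom_trans ONL37.coding ONL37.hR1 ONL37.model_ok)
  rw [h.2.1, card_ONP]

instance finite_range : Finite PhiON.range := Set.finite_range _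

/-- the bases of the two chains -/
def basePtsA : List ℕ := [0, 237, 54336, 9536]
def basePtsD : List ℕ := [0, 97962, 90921, 114657]

theorem specsA_base : (specsA.map fun s => s.b) = basePtsA := rfl
theorem specsD_base : (specsD.map fun s => s.b) = basePtsD := rfl

/-- the images of a base under an element sift through the levels -/
theorem sift_gen (specs : List LSpec) (hl : LevelsOK ONL37.mdata [] specs)
    (hp : (specs.map fun s => s.d.cnt).prod = 460815505920) (g : ONP) :
    exclB ONL37.mdata specs ((specs.map fun s => s.b).map (act g)) = false := by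
  have hcard : Nat.card (fixSub PhiON.range (([] : List ℕ).map (mkPt ONL37.model_ok))) =
      (specs.map fun s => s.d.cnt).prod := by
    rw [List.map_nil, fixSub_nil, card_range, hp]
  have h := exclB_sound ONL37.coding ONL37.hR1 ONL37.model_ok specs [] (by simp) hl hcard
    (specs.map fun s => PhiON g (mkPt ONL37.model_ok s.b)) (PhiON g)
    (by rw [List.map_nil, fixSub_nil]; exact ⟨g, rfl⟩)
    (by rw [List.forall₂_map_right_iff]; exact List.forall₂_same.mpr (fun _ _ => rfl))
  rw [List.map_map] at h
  rw [List.map_map]
  exact h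

theorem siftA (g : ONP) : exclB ONL37.mdata specsA (basePtsA.map (act g)) = false := by
  rw [← specsA_base]
  exact sift_gen specsA levels_okA (by decide) g

theorem siftD (g : ONP) : exclB ONL37.mdata specsD (basePtsD.map (act g)) = false := by
  rw [← specsD_base]
  exact sift_gen specsD levels_okD (by decide) g

/-- an element fixing a base is trivial -/
theorem base_faithful_gen (specs : List LSpec) (hl : LevelsOK ONL37.mdata [] specs)
    (hp : (specs.map fun s => s.d.cnt).prod = 460815505920) (g : ONP)
    (h : ∀ b ∈ specs.map (fun s => s.b), b < 122760 ∧ act g b = b) : g = 1 := by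
  have hchain := chainOK_of_levels ONL37.coding ONL37.hR1 ONL37.model_ok specs [] (by simp) hl
  rw [List.map_nil, fixSub_nil] at hchain
  refine eq_one_of_fixes_base PhiON 460815505920 (by norm_num) ONS.card_top _ hchain ?_ g ?_
  · rw [List.map_map]
    exact hp
  intro bn hbn
  obtain ⟨s, hs, rfl⟩ := List.mem_map.mp hbn
  obtain ⟨hlt, hfix⟩ := h s.b (List.mem_map_of_mem hs)
  apply Fin.ext
  show act g s.b = (mkPt ONL37.model_ok s.b).val
  rw [hfix]
  exact (Nat.mod_eq_of_lt hlt).symm

theorem base_faithfulA (g : ONP) (h : ∀ b ∈ basePtsA, act g b = b) : g = 1 := by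
  apply base_faithful_gen specsA levels_okA (by decide) g
  rw [specsA_base]
  intro b hb
  refine ⟨?_, h b hb⟩
  simp only [basePtsA, List.mem_cons, List.not_mem_nil, or_false] at hb
  omega

theorem base_faithfulD (g : ONP) (h : ∀ b ∈ basePtsD, act g b = b) : g = 1 := by
  apply base_faithful_gen specsD levels_okD (by decide) g
  rw [specsD_base]
  intro b hb
  refine ⟨?_, h b hb⟩
  simp only [basePtsD, List.mem_cons, List.not_mem_nil, or_false] at hb
  omega

/-- the action of elements intertwined by a third one -/
theorem act_semiconj (g A B : ONP) (h : g * A = B * g) (e k : ℕ) :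
    act g (act (A ^ e) k) = act (B ^ e) (act g k) := by
  rw [← act_mul, ← act_mul]
  congr 1
  exact (SemiconjBy.pow_right (show SemiconjBy g A B from h) e)

theorem act_pow_el (w : List ℕ) (hw : wok w = true) (e k : ℕ) (hk : k < 122760) :
    act (el w ^ e) k = mtrace ONL37.mdata (wpow w e) k := by
  rw [← el_wpow, act_el _ _ k hk]
  unfold wok
  rw [List.all_eq_true]
  intro c hc
  rw [Nat.blt_eq]
  exact wpow_letters w e 14 (wok_sound hw) c hc

end Cfsg.Agent.Lib.Helper29.ONOut
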