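import Cfsg.Agent.Lib.Helper29.ONOutPreds

set_option autoImplicit false
set_option maxRecDepth 100000
set_option linter.unusedVariables false
set_option Elab.async false

/-! The centraliser of the element of order 31: the images of the base which sift through.
(Part 2 of 4; in chunks, which keeps the memory of the kernel small.) -/

namespace Cfsg.Agent.Lib.Helper29.ONOut

open Cfsg.Agent.Helper4.TC Cfsg.Agent.Lib.Helper29.HeOut

theorem chkA_15 : rangeS predA 2048 30720 = true := by decide +kernel
theorem chkA_16 : rangeS predA 2048 32768 = true := by decide +kernel
theorem chkA_17 : rangeS predA 2048 34816 = true := by decide +kernel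
theorem chkA_18 : rangeS predA 2048 36864 = true := by decide +kernel
theorem chkA_19 : rangeS predA 2048 38912 = true := by decide +kernel
theorem chkA_20 : rangeS predA 2048 40960 = true := by decide +kernel
theorem chkA_21 : rangeS predA 2048 43008 = true := by decide +kernel
theorem chkA_22 : rangeS predA 2048 45056 = true := by decide +kernel
theorem chkA_23 : rangeS predA 2048 47104 = true := by decide +kernel
theorem chkA_24 : rangeS predA 2048 49152 = true := by decide +kernel
theorem chkA_25 : rangeS predA 2048 51200 = true := by decide +kernel
theorem chkA_26 : rangeS predA 2048 53248 = true := by decide +kernel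
theorem chkA_27 : rangeS predA 2048 55296 = true := by decide +kernel
theorem chkA_28 : rangeS predA 2048 57344 = true := by decide +kernel
theorem chkA_29 : rangeS predA 2048 59392 = true := by decide +kernel

end Cfsg.Agent.Lib.Helper29.ONOut
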