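import Cfsg.Agent.Lib.Helper29.ONOutPreds

set_option autoImplicit false
set_option maxRecDepth 100000
set_option linter.unusedVariables false
set_option Elab.async false

/-! The centraliser of the element of order 31: the images of the base which sift through.
(Part 4 of 4; in chunks, which keeps the memory of the kernel small.) -/

namespace Cfsg.Agent.Lib.Helper29.ONOut

open Cfsg.Agent.Helper4.TC Cfsg.Agent.Lib.Helper29.HeOut

theorem chkA_45 : rangeS predA 2048 92160 = true := by decide +kernel
theorem chkA_46 : rangeS predA 2048 94208 = true := by decide +kernel
theorem chkA_47 : rangeS predA 2048 96256 = true := by decide +kernel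
theorem chkA_48 : rangeS predA 2048 98304 = true := by decide +kernel
theorem chkA_49 : rangeS predA 2048 100352 = true := by decide +kernel
theorem chkA_50 : rangeS predA 2048 102400 = true := by decide +kernel
theorem chkA_51 : rangeS predA 2048 104448 = true := by decide +kernel
theorem chkA_52 : rangeS predA 2048 106496 = true := by decide +kernel
theorem chkA_53 : rangeS predA 2048 108544 = true := by decide +kernel
theorem chkA_54 : rangeS predA 2048 110592 = true := by decide +kernel
theorem chkA_55 : rangeS predA 2048 112640 = true := by decide +kernel
theorem chkA_56 : rangeS predA 2048 114688 = true := by decide +kernel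
theorem chkA_57 : rangeS predA 2048 116736 = true := by decide +kernel
theorem chkA_58 : rangeS predA 2048 118784 = true := by decide +kernel
theorem chkA_59 : rangeS predA 1928 120832 = true := by decide +kernel

end Cfsg.Agent.Lib.Helper29.ONOut
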