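import Cfsg.Agent.Lib.Helper29.ONOutChkA0
import Cfsg.Agent.Lib.Helper29.ONOutChkA1
import Cfsg.Agent.Lib.Helper29.ONOutChkA2
import Cfsg.Agent.Lib.Helper29.ONOutChkA3

set_option autoImplicit false
set_option maxRecDepth 100000
set_option linter.unusedVariables false

/-! The centraliser of the element of order 31: the images of the base which sift through. -/

namespace Cfsg.Agent.Lib.Helper29.ONOut

open Cfsg.Agent.Helper4.TC Cfsg.Agent.Lib.Helper29.HeOut

theorem chkA : ∀ j, j < 122760 → predA j = true := by
  intro j hj
  by_cases h0 : j < 2048
  · exact rangeS_sound_off predA 2048 0 chkA_0 j (by omega) (by omega)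
  by_cases h1 : j < 4096
  · exact rangeS_sound_off predA 2048 2048 chkA_1 j (by omega) (by omega)
  by_cases h2 : j < 6144
  · exact rangeS_sound_off predA 2048 4096 chkA_2 j (by omega) (by omega)
  by_cases h3 : j < 8192
  · exact rangeS_sound_off predA 2048 6144 chkA_3 j (by omega) (by omega)
  by_cases h4 : j < 10240
  · exact rangeS_sound_off predA 2048 8192 chkA_4 j (by omega) (by omega)
  by_cases h5 : j < 12288
  · exact rangeS_sound_off predA 2048 10240 chkA_5 j (by omega) (by omega)
  by_cases h6 : j < 14336
  · exact rangeS_sound_off predA 2048 12288 chkA_6 j (by omega) (by omega)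
  by_cases h7 : j < 16384
  · exact rangeS_sound_off predA 2048 14336 chkA_7 j (by omega) (by omega)
  by_cases h8 : j < 18432
  · exact rangeS_sound_off predA 2048 16384 chkA_8 j (by omega) (by omega)
  by_cases h9 : j < 20480
  · exact rangeS_sound_off predA 2048 18432 chkA_9 j (by omega) (by omega)
  by_cases h10 : j < 22528
  · exact rangeS_sound_off predA 2048 20480 chkA_10 j (by omega) (by omega)
  by_cases h11 : j < 24576
  · exact rangeS_sound_off predA 2048 22528 chkA_11 j (by omega) (by omega)
  by_cases h12 : j < 26624
  · exact rangeS_sound_off predA 2048 24576 chkA_12 j (by omega) (by omega)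
  by_cases h13 : j < 28672
  · exact rangeS_sound_off predA 2048 26624 chkA_13 j (by omega) (by omega)
  by_cases h14 : j < 30720
  · exact rangeS_sound_off predA 2048 28672 chkA_14 j (by omega) (by omega)
  by_cases h15 : j < 32768
  · exact rangeS_sound_off predA 2048 30720 chkA_15 j (by omega) (by omega)
  by_cases h16 : j < 34816
  · exact rangeS_sound_off predA 2048 32768 chkA_16 j (by omega) (by omega)
  by_cases h17 : j < 36864
  · exact rangeS_sound_off predA 2048 34816 chkA_17 j (by omega) (by omega)
  by_cases h18 : j < 38912
  · exact rangeS_sound_off predA 2048 36864 chkA_18 j (by omega) (by omega)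
  by_cases h19 : j < 40960
  · exact rangeS_sound_off predA 2048 38912 chkA_19 j (by omega) (by omega)
  by_cases h20 : j < 43008
  · exact rangeS_sound_off predA 2048 40960 chkA_20 j (by omega) (by omega)
  by_cases h21 : j < 45056
  · exact rangeS_sound_off predA 2048 43008 chkA_21 j (by omega) (by omega)
  by_cases h22 : j < 47104
  · exact rangeS_sound_off predA 2048 45056 chkA_22 j (by omega) (by omega)
  by_cases h23 : j < 49152
  · exact rangeS_sound_off predA 2048 47104 chkA_23 j (by omega) (by omega)
  by_cases h24 : j < 51200
  · exact rangeS_sound_off predA 2048 49152 chkA_24 j (by omega) (by omega)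
  by_cases h25 : j < 53248
  · exact rangeS_sound_off predA 2048 51200 chkA_25 j (by omega) (by omega)
  by_cases h26 : j < 55296
  · exact rangeS_sound_off predA 2048 53248 chkA_26 j (by omega) (by omega)
  by_cases h27 : j < 57344
  · exact rangeS_sound_off predA 2048 55296 chkA_27 j (by omega) (by omega)
  by_cases h28 : j < 59392
  · exact rangeS_sound_off predA 2048 57344 chkA_28 j (by omega) (by omega)
  by_cases h29 : j < 61440
  · exact rangeS_sound_off predA 2048 59392 chkA_29 j (by omega) (by omega)
  by_cases h30 : j < 63488
  · exact rangeS_sound_off predA 2048 61440 chkA_30 j (by omega) (by omega)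
  by_cases h31 : j < 65536
  · exact rangeS_sound_off predA 2048 63488 chkA_31 j (by omega) (by omega)
  by_cases h32 : j < 67584
  · exact rangeS_sound_off predA 2048 65536 chkA_32 j (by omega) (by omega)
  by_cases h33 : j < 69632
  · exact rangeS_sound_off predA 2048 67584 chkA_33 j (by omega) (by omega)
  by_cases h34 : j < 71680
  · exact rangeS_sound_off predA 2048 69632 chkA_34 j (by omega) (by omega)
  by_cases h35 : j < 73728
  · exact rangeS_sound_off predA 2048 71680 chkA_35 j (by omega) (by omega)
  by_cases h36 : j < 75776
  · exact rangeS_sound_off predA 2048 73728 chkA_36 j (by omega) (by omega)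
  by_cases h37 : j < 77824
  · exact rangeS_sound_off predA 2048 75776 chkA_37 j (by omega) (by omega)
  by_cases h38 : j < 79872
  · exact rangeS_sound_off predA 2048 77824 chkA_38 j (by omega) (by omega)
  by_cases h39 : j < 81920
  · exact rangeS_sound_off predA 2048 79872 chkA_39 j (by omega) (by omega)
  by_cases h40 : j < 83968
  · exact rangeS_sound_off predA 2048 81920 chkA_40 j (by omega) (by omega)
  by_cases h41 : j < 86016
  · exact rangeS_sound_off predA 2048 83968 chkA_41 j (by omega) (by omega)
  by_cases h42 : j < 88064
  · exact rangeS_sound_off predA 2048 86016 chkA_42 j (by omega) (by omega)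
  by_cases h43 : j < 90112
  · exact rangeS_sound_off predA 2048 88064 chkA_43 j (by omega) (by omega)
  by_cases h44 : j < 92160
  · exact rangeS_sound_off predA 2048 90112 chkA_44 j (by omega) (by omega)
  by_cases h45 : j < 94208
  · exact rangeS_sound_off predA 2048 92160 chkA_45 j (by omega) (by omega)
  by_cases h46 : j < 96256
  · exact rangeS_sound_off predA 2048 94208 chkA_46 j (by omega) (by omega)
  by_cases h47 : j < 98304
  · exact rangeS_sound_off predA 2048 96256 chkA_47 j (by omega) (by omega)
  by_cases h48 : j < 100352
  · exact rangeS_sound_off predA 2048 98304 chkA_48 j (by omega) (by omega)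
  by_cases h49 : j < 102400
  · exact rangeS_sound_off predA 2048 100352 chkA_49 j (by omega) (by omega)
  by_cases h50 : j < 104448
  · exact rangeS_sound_off predA 2048 102400 chkA_50 j (by omega) (by omega)
  by_cases h51 : j < 106496
  · exact rangeS_sound_off predA 2048 104448 chkA_51 j (by omega) (by omega)
  by_cases h52 : j < 108544
  · exact rangeS_sound_off predA 2048 106496 chkA_52 j (by omega) (by omega)
  by_cases h53 : j < 110592
  · exact rangeS_sound_off predA 2048 108544 chkA_53 j (by omega) (by omega)
  by_cases h54 : j < 112640
  · exact rangeS_sound_off predA 2048 110592 chkA_54 j (by omega) (by omega)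
  by_cases h55 : j < 114688
  · exact rangeS_sound_off predA 2048 112640 chkA_55 j (by omega) (by omega)
  by_cases h56 : j < 116736
  · exact rangeS_sound_off predA 2048 114688 chkA_56 j (by omega) (by omega)
  by_cases h57 : j < 118784
  · exact rangeS_sound_off predA 2048 116736 chkA_57 j (by omega) (by omega)
  by_cases h58 : j < 120832
  · exact rangeS_sound_off predA 2048 118784 chkA_58 j (by omega) (by omega)
  exact rangeS_sound_off predA 1928 120832 chkA_59 j (by omega) (by omega)

end Cfsg.Agent.Lib.Helper29.ONOut
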