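import Cfsg.Agent.Lib.Helper29.ONOutPreds

set_option autoImplicit false
set_option maxRecDepth 100000
set_option linter.unusedVariables false
set_option Elab.async false

/-! No element conjugates the element of order 31 to its cube: no image of the base sifts through.
(Part 3 of 4; in chunks, which keeps the memory of the kernel small.) -/

namespace Cfsg.Agent.Lib.Helper29.ONOut

open Cfsg.Agent.Helper4.TC Cfsg.Agent.Lib.Helper29.HeOut

theorem chkA3_30 : rangeS predA3 2048 61440 = true := by decide +kernel
theorem chkA3_31 : rangeS predA3 2048 63488 = true := by decide +kernel
theorem chkA3_32 : rangeS predA3 2048 65536 = true := by decide +kernel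
theorem chkA3_33 : rangeS predA3 2048 67584 = true := by decide +kernel
theorem chkA3_34 : rangeS predA3 2048 69632 = true := by decide +kernel
theorem chkA3_35 : rangeS predA3 2048 71680 = true := by decide +kernel
theorem chkA3_36 : rangeS predA3 2048 73728 = true := by decide +kernel
theorem chkA3_37 : rangeS predA3 2048 75776 = true := by decide +kernel
theorem chkA3_38 : rangeS predA3 2048 77824 = true := by decide +kernel
theorem chkA3_39 : rangeS predA3 2048 79872 = true := by decide +kernel
theorem chkA3_40 : rangeS predA3 2048 81920 = true := by decide +kernel
theorem chkA3_41 : rangeS predA3 2048 83968 = true := by decide +kernel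
theorem chkA3_42 : rangeS predA3 2048 86016 = true := by decide +kernel
theorem chkA3_43 : rangeS predA3 2048 88064 = true := by decide +kernel
theorem chkA3_44 : rangeS predA3 2048 90112 = true := by decide +kernel

end Cfsg.Agent.Lib.Helper29.ONOut
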