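import Cfsg.Agent.Lib.Helper29.ONOutPreds

set_option autoImplicit false
set_option maxRecDepth 100000
set_option linter.unusedVariables false
set_option Elab.async false

/-! No element conjugates the element of order 31 to its cube: no image of the base sifts through.
(Part 1 of 4; in chunks, which keeps the memory of the kernel small.) -/

namespace Cfsg.Agent.Lib.Helper29.ONOut

open Cfsg.Agent.Helper4.TC Cfsg.Agent.Lib.Helper29.HeOut

theorem chkA3_0 : rangeS predA3 2048 0 = true := by decide +kernel
theorem chkA3_1 : rangeS predA3 2048 2048 = true := by decide +kernel
theorem chkA3_2 : rangeS predA3 2048 4096 = true := by decide +kernel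
theorem chkA3_3 : rangeS predA3 2048 6144 = true := by decide +kernel
theorem chkA3_4 : rangeS predA3 2048 8192 = true := by decide +kernel
theorem chkA3_5 : rangeS predA3 2048 10240 = true := by decide +kernel
theorem chkA3_6 : rangeS predA3 2048 12288 = true := by decide +kernel
theorem chkA3_7 : rangeS predA3 2048 14336 = true := by decide +kernel
theorem chkA3_8 : rangeS predA3 2048 16384 = true := by decide +kernel
theorem chkA3_9 : rangeS predA3 2048 18432 = true := by decide +kernel
theorem chkA3_10 : rangeS predA3 2048 20480 = true := by decide +kernel
theorem chkA3_11 : rangeS predA3 2048 22528 = true := by decide +kernel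
theorem chkA3_12 : rangeS predA3 2048 24576 = true := by decide +kernel
theorem chkA3_13 : rangeS predA3 2048 26624 = true := by decide +kernel
theorem chkA3_14 : rangeS predA3 2048 28672 = true := by decide +kernel

end Cfsg.Agent.Lib.Helper29.ONOut
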