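import Cfsg.Agent.Lib.Helper29.ONOutPreds

set_option autoImplicit false
set_option maxRecDepth 100000
set_option linter.unusedVariables false
set_option Elab.async false

/-! The centraliser of the element of order 15: the images of the base which sift through.
(Part 4 of 4; in chunks, which keeps the memory of the kernel small.) -/

namespace Cfsg.Agent.Lib.Helper29.ONOut

open Cfsg.Agent.Helper4.TC Cfsg.Agent.Lib.Helper29.HeOut

theorem chkD_45 : rangeS predD 2048 92160 = true := by decide +kernel
theorem chkD_46 : rangeS predD 2048 94208 = true := by decide +kernel
theorem chkD_47 : rangeS predD 2048 96256 = true := by decide +kernel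
theorem chkD_48 : rangeS predD 2048 98304 = true := by decide +kernel
theorem chkD_49 : rangeS predD 2048 100352 = true := by decide +kernel
theorem chkD_50 : rangeS predD 2048 102400 = true := by decide +kernel
theorem chkD_51 : rangeS predD 2048 104448 = true := by decide +kernel
theorem chkD_52 : rangeS predD 2048 106496 = true := by decide +kernel
theorem chkD_53 : rangeS predD 2048 108544 = true := by decide +kernel
theorem chkD_54 : rangeS predD 2048 110592 = true := by decide +kernel
theorem chkD_55 : rangeS predD 2048 112640 = true := by decide +kernel
theorem chkD_56 : rangeS predD 2048 114688 = true := by decide +kernel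
theorem chkD_57 : rangeS predD 2048 116736 = true := by decide +kernel
theorem chkD_58 : rangeS predD 2048 118784 = true := by decide +kernel
theorem chkD_59 : rangeS predD 1928 120832 = true := by decide +kernel

end Cfsg.Agent.Lib.Helper29.ONOut
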