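import Cfsg.Agent.Lib.Helper29.ONOutPreds
import Cfsg.Agent.Lib.Helper4.TC.ONL37Glue
import Cfsg.Agent.Lib.Helper4.TC.Embed

set_option autoImplicit false
set_option maxRecDepth 100000
set_option linter.unusedVariables false
set_option Elab.async false

/-! Relations between the words, checked on the base of the model. -/

namespace Cfsg.Agent.Lib.Helper29.ONOut

open Cfsg.Agent.Helper4.TC Cfsg.Agent.Lib.Helper29.HeOut

theorem wok_words : wok aw = true ∧ wok dw = true ∧ wok yw = true ∧ wok uw = true ∧
    wok (wpow aw 3) = true := by decide +kernel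

theorem chkRels : fixesB ONL37.mdata hbPts relA31 = true ∧
    fixesB ONL37.mdata hbPts relDAD = true ∧ fixesB ONL37.mdata hbPts relYDY = true ∧
    fixesB ONL37.mdata hbPts relUD = true ∧ fixesB ONL37.mdata hbPts relYA = true := by
  decide +kernel

theorem chkAmoves : mtrace ONL37.mdata aw 0 ≠ 0 := by decide +kernel

theorem base_a : [0, 237, 54336, 9536] =
    (wsOf aw esB).map (fun w => mtrace ONL37.mdata w 0) := by decide +kernel

theorem base_d : [0, 97962, 90921, 114657] =
    (wsOf dw esB).map (fun w => mtrace ONL37.mdata w 0) := by decide +kernel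

theorem cyc_ok : cyc31 = (List.range 31).map (fun i => mtrace ONL37.mdata (wpow aw i) 0) := by
  decide +kernel

theorem good_ok : good45 = Lw.map (fun w => mtrace ONL37.mdata w 0) ∧
    ∀ w ∈ Lw, wok w = true := by decide +kernel

theorem chkTauA : fixesB ONL37.mdata hbPts
    (invW (wpow aw 3) ++ substW sigma ONL37.dec aw) = true := by decide +kernel

end Cfsg.Agent.Lib.Helper29.ONOut
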