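import Mathlib

set_option autoImplicit false

/-! A statement on all the members of a list, from the statements on its entries one by one. -/

namespace Cfsg.Agent.Lib.Helper29.ONOut

theorem forall_mem_of_getD {α : Type*} (L : List α) (d : α) (P : α → Prop)
    (h : ∀ i, i < L.length → P (L.getD i d)) : ∀ x ∈ L, P x := by
  intro x hx
  obtain ⟨i, hi, rfl⟩ := List.getElem_of_mem hx
  have h1 := h i hi
  rwa [List.getD_eq_getElem _ _ hi] at h1

end Cfsg.Agent.Lib.Helper29.ONOut
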