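import Cfsg.Agent.Lib.Helper29.ONOutPreds
import Cfsg.Agent.Lib.Helper29.ONOutChkL
import Cfsg.Agent.Lib.Helper4.TC.ONL37Glue
import Cfsg.Agent.Lib.Helper4.TC.Embed

set_option autoImplicit false
set_option maxRecDepth 100000
set_option linter.unusedVariables false
set_option Elab.async false

/-! The words of the generators, and the relation which tells the 45 candidates apart,
checked one by one (which keeps the memory of the kernel small). -/

namespace Cfsg.Agent.Lib.Helper29.ONOut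

open Cfsg.Agent.Helper4.TC Cfsg.Agent.Lib.Helper29.HeOut

theorem chkDist_0 : Lw.getD 0 [] = [] ∨
    (wok (distW (Lw.getD 0 [])) = true ∧ mtrace ONL37.mdata (distW (Lw.getD 0 [])) 0 ≠ 0) := by
  decide +kernel
theorem chkDist_1 : Lw.getD 1 [] = [] ∨
    (wok (distW (Lw.getD 1 [])) = true ∧ mtrace ONL37.mdata (distW (Lw.getD 1 [])) 0 ≠ 0) := by
  decide +kernel
theorem chkDist_2 : Lw.getD 2 [] = [] ∨
    (wok (distW (Lw.getD 2 [])) = true ∧ mtrace ONL37.mdata (distW (Lw.getD 2 [])) 0 ≠ 0) := by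
  decide +kernel
theorem chkDist_3 : Lw.getD 3 [] = [] ∨
    (wok (distW (Lw.getD 3 [])) = true ∧ mtrace ONL37.mdata (distW (Lw.getD 3 [])) 0 ≠ 0) := by
  decide +kernel
theorem chkDist_4 : Lw.getD 4 [] = [] ∨
    (wok (distW (Lw.getD 4 [])) = true ∧ mtrace ONL37.mdata (distW (Lw.getD 4 [])) 0 ≠ 0) := by
  decide +kernel
theorem chkDist_5 : Lw.getD 5 [] = [] ∨
    (wok (distW (Lw.getD 5 [])) = true ∧ mtrace ONL37.mdata (distW (Lw.getD 5 [])) 0 ≠ 0) := by
  decide +kernel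
theorem chkDist_6 : Lw.getD 6 [] = [] ∨
    (wok (distW (Lw.getD 6 [])) = true ∧ mtrace ONL37.mdata (distW (Lw.getD 6 [])) 0 ≠ 0) := by
  decide +kernel
theorem chkDist_7 : Lw.getD 7 [] = [] ∨
    (wok (distW (Lw.getD 7 [])) = true ∧ mtrace ONL37.mdata (distW (Lw.getD 7 [])) 0 ≠ 0) := by
  decide +kernel
theorem chkDist_8 : Lw.getD 8 [] = [] ∨
    (wok (distW (Lw.getD 8 [])) = true ∧ mtrace ONL37.mdata (distW (Lw.getD 8 [])) 0 ≠ 0) := by
  decide +kernel
theorem chkDist_9 : Lw.getD 9 [] = [] ∨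
    (wok (distW (Lw.getD 9 [])) = true ∧ mtrace ONL37.mdata (distW (Lw.getD 9 [])) 0 ≠ 0) := by
  decide +kernel
theorem chkDist_10 : Lw.getD 10 [] = [] ∨
    (wok (distW (Lw.getD 10 [])) = true ∧ mtrace ONL37.mdata (distW (Lw.getD 10 [])) 0 ≠ 0) := by
  decide +kernel
theorem chkDist_11 : Lw.getD 11 [] = [] ∨
    (wok (distW (Lw.getD 11 [])) = true ∧ mtrace ONL37.mdata (distW (Lw.getD 11 [])) 0 ≠ 0) := by
  decide +kernel
theorem chkDist_12 : Lw.getD 12 [] = [] ∨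
    (wok (distW (Lw.getD 12 [])) = true ∧ mtrace ONL37.mdata (distW (Lw.getD 12 [])) 0 ≠ 0) := by
  decide +kernel
theorem chkDist_13 : Lw.getD 13 [] = [] ∨
    (wok (distW (Lw.getD 13 [])) = true ∧ mtrace ONL37.mdata (distW (Lw.getD 13 [])) 0 ≠ 0) := by
  decide +kernel
theorem chkDist_14 : Lw.getD 14 [] = [] ∨
    (wok (distW (Lw.getD 14 [])) = true ∧ mtrace ONL37.mdata (distW (Lw.getD 14 [])) 0 ≠ 0) := by
  decide +kernel
theorem chkDist_15 : Lw.getD 15 [] = [] ∨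
    (wok (distW (Lw.getD 15 [])) = true ∧ mtrace ONL37.mdata (distW (Lw.getD 15 [])) 0 ≠ 0) := by
  decide +kernel
theorem chkDist_16 : Lw.getD 16 [] = [] ∨
    (wok (distW (Lw.getD 16 [])) = true ∧ mtrace ONL37.mdata (distW (Lw.getD 16 [])) 0 ≠ 0) := by
  decide +kernel
theorem chkDist_17 : Lw.getD 17 [] = [] ∨
    (wok (distW (Lw.getD 17 [])) = true ∧ mtrace ONL37.mdata (distW (Lw.getD 17 [])) 0 ≠ 0) := by
  decide +kernel
theorem chkDist_18 : Lw.getD 18 [] = [] ∨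
    (wok (distW (Lw.getD 18 [])) = true ∧ mtrace ONL37.mdata (distW (Lw.getD 18 [])) 0 ≠ 0) := by
  decide +kernel
theorem chkDist_19 : Lw.getD 19 [] = [] ∨
    (wok (distW (Lw.getD 19 [])) = true ∧ mtrace ONL37.mdata (distW (Lw.getD 19 [])) 0 ≠ 0) := by
  decide +kernel
theorem chkDist_20 : Lw.getD 20 [] = [] ∨
    (wok (distW (Lw.getD 20 [])) = true ∧ mtrace ONL37.mdata (distW (Lw.getD 20 [])) 0 ≠ 0) := by
  decide +kernel
theorem chkDist_21 : Lw.getD 21 [] = [] ∨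
    (wok (distW (Lw.getD 21 [])) = true ∧ mtrace ONL37.mdata (distW (Lw.getD 21 [])) 0 ≠ 0) := by
  decide +kernel
theorem chkDist_22 : Lw.getD 22 [] = [] ∨
    (wok (distW (Lw.getD 22 [])) = true ∧ mtrace ONL37.mdata (distW (Lw.getD 22 [])) 0 ≠ 0) := by
  decide +kernel
theorem chkDist_23 : Lw.getD 23 [] = [] ∨
    (wok (distW (Lw.getD 23 [])) = true ∧ mtrace ONL37.mdata (distW (Lw.getD 23 [])) 0 ≠ 0) := by
  decide +kernel
theorem chkDist_24 : Lw.getD 24 [] = [] ∨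
    (wok (distW (Lw.getD 24 [])) = true ∧ mtrace ONL37.mdata (distW (Lw.getD 24 [])) 0 ≠ 0) := by
  decide +kernel
theorem chkDist_25 : Lw.getD 25 [] = [] ∨
    (wok (distW (Lw.getD 25 [])) = true ∧ mtrace ONL37.mdata (distW (Lw.getD 25 [])) 0 ≠ 0) := by
  decide +kernel
theorem chkDist_26 : Lw.getD 26 [] = [] ∨
    (wok (distW (Lw.getD 26 [])) = true ∧ mtrace ONL37.mdata (distW (Lw.getD 26 [])) 0 ≠ 0) := by
  decide +kernel
theorem chkDist_27 : Lw.getD 27 [] = [] ∨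
    (wok (distW (Lw.getD 27 [])) = true ∧ mtrace ONL37.mdata (distW (Lw.getD 27 [])) 0 ≠ 0) := by
  decide +kernel
theorem chkDist_28 : Lw.getD 28 [] = [] ∨
    (wok (distW (Lw.getD 28 [])) = true ∧ mtrace ONL37.mdata (distW (Lw.getD 28 [])) 0 ≠ 0) := by
  decide +kernel
theorem chkDist_29 : Lw.getD 29 [] = [] ∨
    (wok (distW (Lw.getD 29 [])) = true ∧ mtrace ONL37.mdata (distW (Lw.getD 29 [])) 0 ≠ 0) := by
  decide +kernel
theorem chkDist_30 : Lw.getD 30 [] = [] ∨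
    (wok (distW (Lw.getD 30 [])) = true ∧ mtrace ONL37.mdata (distW (Lw.getD 30 [])) 0 ≠ 0) := by
  decide +kernel
theorem chkDist_31 : Lw.getD 31 [] = [] ∨
    (wok (distW (Lw.getD 31 [])) = true ∧ mtrace ONL37.mdata (distW (Lw.getD 31 [])) 0 ≠ 0) := by
  decide +kernel
theorem chkDist_32 : Lw.getD 32 [] = [] ∨
    (wok (distW (Lw.getD 32 [])) = true ∧ mtrace ONL37.mdata (distW (Lw.getD 32 [])) 0 ≠ 0) := by
  decide +kernel
theorem chkDist_33 : Lw.getD 33 [] = [] ∨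
    (wok (distW (Lw.getD 33 [])) = true ∧ mtrace ONL37.mdata (distW (Lw.getD 33 [])) 0 ≠ 0) := by
  decide +kernel
theorem chkDist_34 : Lw.getD 34 [] = [] ∨
    (wok (distW (Lw.getD 34 [])) = true ∧ mtrace ONL37.mdata (distW (Lw.getD 34 [])) 0 ≠ 0) := by
  decide +kernel
theorem chkDist_35 : Lw.getD 35 [] = [] ∨
    (wok (distW (Lw.getD 35 [])) = true ∧ mtrace ONL37.mdata (distW (Lw.getD 35 [])) 0 ≠ 0) := by
  decide +kernel
theorem chkDist_36 : Lw.getD 36 [] = [] ∨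
    (wok (distW (Lw.getD 36 [])) = true ∧ mtrace ONL37.mdata (distW (Lw.getD 36 [])) 0 ≠ 0) := by
  decide +kernel
theorem chkDist_37 : Lw.getD 37 [] = [] ∨
    (wok (distW (Lw.getD 37 [])) = true ∧ mtrace ONL37.mdata (distW (Lw.getD 37 [])) 0 ≠ 0) := by
  decide +kernel
theorem chkDist_38 : Lw.getD 38 [] = [] ∨
    (wok (distW (Lw.getD 38 [])) = true ∧ mtrace ONL37.mdata (distW (Lw.getD 38 [])) 0 ≠ 0) := by
  decide +kernel
theorem chkDist_39 : Lw.getD 39 [] = [] ∨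
    (wok (distW (Lw.getD 39 [])) = true ∧ mtrace ONL37.mdata (distW (Lw.getD 39 [])) 0 ≠ 0) := by
  decide +kernel
theorem chkDist_40 : Lw.getD 40 [] = [] ∨
    (wok (distW (Lw.getD 40 [])) = true ∧ mtrace ONL37.mdata (distW (Lw.getD 40 [])) 0 ≠ 0) := by
  decide +kernel
theorem chkDist_41 : Lw.getD 41 [] = [] ∨
    (wok (distW (Lw.getD 41 [])) = true ∧ mtrace ONL37.mdata (distW (Lw.getD 41 [])) 0 ≠ 0) := by
  decide +kernel
theorem chkDist_42 : Lw.getD 42 [] = [] ∨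
    (wok (distW (Lw.getD 42 [])) = true ∧ mtrace ONL37.mdata (distW (Lw.getD 42 [])) 0 ≠ 0) := by
  decide +kernel
theorem chkDist_43 : Lw.getD 43 [] = [] ∨
    (wok (distW (Lw.getD 43 [])) = true ∧ mtrace ONL37.mdata (distW (Lw.getD 43 [])) 0 ≠ 0) := by
  decide +kernel
theorem chkDist_44 : Lw.getD 44 [] = [] ∨
    (wok (distW (Lw.getD 44 [])) = true ∧ mtrace ONL37.mdata (distW (Lw.getD 44 [])) 0 ≠ 0) := by
  decide +kernel

theorem chkDist : ∀ w ∈ Lw, w = [] ∨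
    (wok (distW w) = true ∧ mtrace ONL37.mdata (distW w) 0 ≠ 0) := by
  apply forall_mem_of_getD Lw []
  intro i hi
  have hi7 : i < 45 := hi
  interval_cases i
  exacts [chkDist_0, chkDist_1, chkDist_2, chkDist_3, chkDist_4, chkDist_5, chkDist_6, chkDist_7, chkDist_8, chkDist_9, chkDist_10, chkDist_11, chkDist_12, chkDist_13, chkDist_14, chkDist_15, chkDist_16, chkDist_17, chkDist_18, chkDist_19, chkDist_20, chkDist_21, chkDist_22, chkDist_23, chkDist_24, chkDist_25, chkDist_26, chkDist_27, chkDist_28, chkDist_29, chkDist_30, chkDist_31, chkDist_32, chkDist_33, chkDist_34, chkDist_35, chkDist_36, chkDist_37, chkDist_38, chkDist_39, chkDist_40, chkDist_41, chkDist_42, chkDist_43, chkDist_44]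

theorem chkGen_0 : fixesB ONL37.mdata hbPts ((genData.getD 0 (0, [])).2.flatten ++
      [Nat.xor (genData.getD 0 (0, [])).1 1]) = true ∧
    ∀ b ∈ (genData.getD 0 (0, [])).2, b ∈ pieceL := by decide +kernel
theorem chkGen_1 : fixesB ONL37.mdata hbPts ((genData.getD 1 (0, [])).2.flatten ++
      [Nat.xor (genData.getD 1 (0, [])).1 1]) = true ∧
    ∀ b ∈ (genData.getD 1 (0, [])).2, b ∈ pieceL := by decide +kernel
theorem chkGen_2 : fixesB ONL37.mdata hbPts ((genData.getD 2 (0, [])).2.flatten ++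
      [Nat.xor (genData.getD 2 (0, [])).1 1]) = true ∧
    ∀ b ∈ (genData.getD 2 (0, [])).2, b ∈ pieceL := by decide +kernel
theorem chkGen_3 : fixesB ONL37.mdata hbPts ((genData.getD 3 (0, [])).2.flatten ++
      [Nat.xor (genData.getD 3 (0, [])).1 1]) = true ∧
    ∀ b ∈ (genData.getD 3 (0, [])).2, b ∈ pieceL := by decide +kernel
theorem chkGen_4 : fixesB ONL37.mdata hbPts ((genData.getD 4 (0, [])).2.flatten ++
      [Nat.xor (genData.getD 4 (0, [])).1 1]) = true ∧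
    ∀ b ∈ (genData.getD 4 (0, [])).2, b ∈ pieceL := by decide +kernel
theorem chkGen_5 : fixesB ONL37.mdata hbPts ((genData.getD 5 (0, [])).2.flatten ++
      [Nat.xor (genData.getD 5 (0, [])).1 1]) = true ∧
    ∀ b ∈ (genData.getD 5 (0, [])).2, b ∈ pieceL := by decide +kernel
theorem chkGen_6 : fixesB ONL37.mdata hbPts ((genData.getD 6 (0, [])).2.flatten ++
      [Nat.xor (genData.getD 6 (0, [])).1 1]) = true ∧
    ∀ b ∈ (genData.getD 6 (0, [])).2, b ∈ pieceL := by decide +kernel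

theorem chkGen : ∀ p ∈ genData,
    fixesB ONL37.mdata hbPts (p.2.flatten ++ [Nat.xor p.1 1]) = true ∧
      ∀ b ∈ p.2, b ∈ pieceL := by
  apply forall_mem_of_getD genData (0, [])
  intro i hi
  have hi7 : i < 7 := hi
  interval_cases i
  exacts [chkGen_0, chkGen_1, chkGen_2, chkGen_3, chkGen_4, chkGen_5, chkGen_6]

end Cfsg.Agent.Lib.Helper29.ONOut
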