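import Cfsg.Agent.Lib.Helper29.ONOutPreds
import Cfsg.Agent.Lib.Helper4.TC.ONL37Glue
import Cfsg.Agent.Lib.Helper4.TC.Embed

set_option autoImplicit false
set_option maxRecDepth 100000
set_option linter.unusedVariables false
set_option Elab.async false

/-! The relators of the presentation hold for the images of the generators under the
substitution: checked on the base, relator by relator. (Part 1 of 4.) -/

namespace Cfsg.Agent.Lib.Helper29.ONOut

open Cfsg.Agent.Helper4.TC Cfsg.Agent.Lib.Helper29.HeOut

theorem chkTau_0 : fixesB ONL37.mdata hbPts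
    (substW sigma ONL37.dec (ONL37.bases.getD 0 [])) = true := by decide +kernel
theorem chkTau_1 : fixesB ONL37.mdata hbPts
    (substW sigma ONL37.dec (ONL37.bases.getD 1 [])) = true := by decide +kernel
theorem chkTau_2 : fixesB ONL37.mdata hbPts
    (substW sigma ONL37.dec (ONL37.bases.getD 2 [])) = true := by decide +kernel
theorem chkTau_3 : fixesB ONL37.mdata hbPts
    (substW sigma ONL37.dec (ONL37.bases.getD 3 [])) = true := by decide +kernel
theorem chkTau_4 : fixesB ONL37.mdata hbPts
    (substW sigma ONL37.dec (ONL37.bases.getD 4 [])) = true := by decide +kernel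
theorem chkTau_5 : fixesB ONL37.mdata hbPts
    (substW sigma ONL37.dec (ONL37.bases.getD 5 [])) = true := by decide +kernel
theorem chkTau_6 : fixesB ONL37.mdata hbPts
    (substW sigma ONL37.dec (ONL37.bases.getD 6 [])) = true := by decide +kernel
theorem chkTau_7 : fixesB ONL37.mdata hbPts
    (substW sigma ONL37.dec (ONL37.bases.getD 7 [])) = true := by decide +kernel
theorem chkTau_8 : fixesB ONL37.mdata hbPts
    (substW sigma ONL37.dec (ONL37.bases.getD 8 [])) = true := by decide +kernel
theorem chkTau_9 : fixesB ONL37.mdata hbPts
    (substW sigma ONL37.dec (ONL37.bases.getD 9 [])) = true := by decide +kernel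
theorem chkTau_10 : fixesB ONL37.mdata hbPts
    (substW sigma ONL37.dec (ONL37.bases.getD 10 [])) = true := by decide +kernel

end Cfsg.Agent.Lib.Helper29.ONOut
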