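import Cfsg.Agent.Lib.Helper29.ONOutPreds
import Cfsg.Agent.Lib.Helper4.TC.ONL37Glue
import Cfsg.Agent.Lib.Helper4.TC.Embed

set_option autoImplicit false
set_option maxRecDepth 100000
set_option linter.unusedVariables false
set_option Elab.async false

/-! The relators of the presentation hold for the images of the generators under the
substitution: checked on the base, relator by relator. (Part 2 of 4.) -/

namespace Cfsg.Agent.Lib.Helper29.ONOut

open Cfsg.Agent.Helper4.TC Cfsg.Agent.Lib.Helper29.HeOut

theorem chkTau_11 : fixesB ONL37.mdata hbPts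
    (substW sigma ONL37.dec (ONL37.bases.getD 11 [])) = true := by decide +kernel
theorem chkTau_12 : fixesB ONL37.mdata hbPts
    (substW sigma ONL37.dec (ONL37.bases.getD 12 [])) = true := by decide +kernel
theorem chkTau_13 : fixesB ONL37.mdata hbPts
    (substW sigma ONL37.dec (ONL37.bases.getD 13 [])) = true := by decide +kernel
theorem chkTau_14 : fixesB ONL37.mdata hbPts
    (substW sigma ONL37.dec (ONL37.bases.getD 14 [])) = true := by decide +kernel
theorem chkTau_15 : fixesB ONL37.mdata hbPts
    (substW sigma ONL37.dec (ONL37.bases.getD 15 [])) = true := by decide +kernel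
theorem chkTau_16 : fixesB ONL37.mdata hbPts
    (substW sigma ONL37.dec (ONL37.bases.getD 16 [])) = true := by decide +kernel
theorem chkTau_17 : fixesB ONL37.mdata hbPts
    (substW sigma ONL37.dec (ONL37.bases.getD 17 [])) = true := by decide +kernel
theorem chkTau_18 : fixesB ONL37.mdata hbPts
    (substW sigma ONL37.dec (ONL37.bases.getD 18 [])) = true := by decide +kernel
theorem chkTau_19 : fixesB ONL37.mdata hbPts
    (substW sigma ONL37.dec (ONL37.bases.getD 19 [])) = true := by decide +kernel
theorem chkTau_20 : fixesB ONL37.mdata hbPts
    (substW sigma ONL37.dec (ONL37.bases.getD 20 [])) = true := by decide +kernel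
theorem chkTau_21 : fixesB ONL37.mdata hbPts
    (substW sigma ONL37.dec (ONL37.bases.getD 21 [])) = true := by decide +kernel

end Cfsg.Agent.Lib.Helper29.ONOut
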