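import Cfsg.Agent.Lib.Helper29.ONOutPreds
import Cfsg.Agent.Lib.Helper4.TC.ONL37Glue
import Cfsg.Agent.Lib.Helper4.TC.Embed

set_option autoImplicit false
set_option maxRecDepth 100000
set_option linter.unusedVariables false
set_option Elab.async false

/-! The relators of the presentation hold for the images of the generators under the
substitution: checked on the base, relator by relator. (Part 3 of 4.) -/

namespace Cfsg.Agent.Lib.Helper29.ONOut

open Cfsg.Agent.Helper4.TC Cfsg.Agent.Lib.Helper29.HeOut

theorem chkTau_22 : fixesB ONL37.mdata hbPts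
    (substW sigma ONL37.dec (ONL37.bases.getD 22 [])) = true := by decide +kernel
theorem chkTau_23 : fixesB ONL37.mdata hbPts
    (substW sigma ONL37.dec (ONL37.bases.getD 23 [])) = true := by decide +kernel
theorem chkTau_24 : fixesB ONL37.mdata hbPts
    (substW sigma ONL37.dec (ONL37.bases.getD 24 [])) = true := by decide +kernel
theorem chkTau_25 : fixesB ONL37.mdata hbPts
    (substW sigma ONL37.dec (ONL37.bases.getD 25 [])) = true := by decide +kernel
theorem chkTau_26 : fixesB ONL37.mdata hbPts
    (substW sigma ONL37.dec (ONL37.bases.getD 26 [])) = true := by decide +kernel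
theorem chkTau_27 : fixesB ONL37.mdata hbPts
    (substW sigma ONL37.dec (ONL37.bases.getD 27 [])) = true := by decide +kernel
theorem chkTau_28 : fixesB ONL37.mdata hbPts
    (substW sigma ONL37.dec (ONL37.bases.getD 28 [])) = true := by decide +kernel
theorem chkTau_29 : fixesB ONL37.mdata hbPts
    (substW sigma ONL37.dec (ONL37.bases.getD 29 [])) = true := by decide +kernel
theorem chkTau_30 : fixesB ONL37.mdata hbPts
    (substW sigma ONL37.dec (ONL37.bases.getD 30 [])) = true := by decide +kernel
theorem chkTau_31 : fixesB ONL37.mdata hbPts
    (substW sigma ONL37.dec (ONL37.bases.getD 31 [])) = true := by decide +kernel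
theorem chkTau_32 : fixesB ONL37.mdata hbPts
    (substW sigma ONL37.dec (ONL37.bases.getD 32 [])) = true := by decide +kernel

end Cfsg.Agent.Lib.Helper29.ONOut
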