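import Cfsg.Agent.Lib.Helper29.ONOutPreds
import Cfsg.Agent.Lib.Helper4.TC.ONL37Glue
import Cfsg.Agent.Lib.Helper4.TC.Embed

set_option autoImplicit false
set_option maxRecDepth 100000
set_option linter.unusedVariables false
set_option Elab.async false

/-! The relators of the presentation hold for the images of the generators under the
substitution: checked on the base, relator by relator. (Part 4 of 4.) -/

namespace Cfsg.Agent.Lib.Helper29.ONOut

open Cfsg.Agent.Helper4.TC Cfsg.Agent.Lib.Helper29.HeOut

theorem chkTau_33 : fixesB ONL37.mdata hbPts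
    (substW sigma ONL37.dec (ONL37.bases.getD 33 [])) = true := by decide +kernel
theorem chkTau_34 : fixesB ONL37.mdata hbPts
    (substW sigma ONL37.dec (ONL37.bases.getD 34 [])) = true := by decide +kernel
theorem chkTau_35 : fixesB ONL37.mdata hbPts
    (substW sigma ONL37.dec (ONL37.bases.getD 35 [])) = true := by decide +kernel
theorem chkTau_36 : fixesB ONL37.mdata hbPts
    (substW sigma ONL37.dec (ONL37.bases.getD 36 [])) = true := by decide +kernel
theorem chkTau_37 : fixesB ONL37.mdata hbPts
    (substW sigma ONL37.dec (ONL37.bases.getD 37 [])) = true := by decide +kernel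
theorem chkTau_38 : fixesB ONL37.mdata hbPts
    (substW sigma ONL37.dec (ONL37.bases.getD 38 [])) = true := by decide +kernel
theorem chkTau_39 : fixesB ONL37.mdata hbPts
    (substW sigma ONL37.dec (ONL37.bases.getD 39 [])) = true := by decide +kernel
theorem chkTau_40 : fixesB ONL37.mdata hbPts
    (substW sigma ONL37.dec (ONL37.bases.getD 40 [])) = true := by decide +kernel
theorem chkTau_41 : fixesB ONL37.mdata hbPts
    (substW sigma ONL37.dec (ONL37.bases.getD 41 [])) = true := by decide +kernel
theorem chkTau_42 : fixesB ONL37.mdata hbPts
    (substW sigma ONL37.dec (ONL37.bases.getD 42 [])) = true := by decide +kernel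

end Cfsg.Agent.Lib.Helper29.ONOut
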