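import Cfsg.Agent.Lib.Helper29.ONOutChkL
import Cfsg.Agent.Lib.Helper29.ONOutChkT0
import Cfsg.Agent.Lib.Helper29.ONOutChkT1
import Cfsg.Agent.Lib.Helper29.ONOutChkT2
import Cfsg.Agent.Lib.Helper29.ONOutChkT3

set_option autoImplicit false
set_option maxRecDepth 100000
set_option linter.unusedVariables false
set_option Elab.async false

/-! The relators of the presentation hold for the images of the generators. -/

namespace Cfsg.Agent.Lib.Helper29.ONOut

open Cfsg.Agent.Helper4.TC Cfsg.Agent.Lib.Helper29.HeOut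

theorem chkTau : ∀ b ∈ ONL37.bases,
    fixesB ONL37.mdata hbPts (substW sigma ONL37.dec b) = true := by
  apply forall_mem_of_getD ONL37.bases []
  intro i hi
  have hi7 : i < 43 := hi
  interval_cases i
  exacts [chkTau_0, chkTau_1, chkTau_2, chkTau_3, chkTau_4, chkTau_5, chkTau_6, chkTau_7, chkTau_8, chkTau_9, chkTau_10, chkTau_11, chkTau_12, chkTau_13, chkTau_14, chkTau_15, chkTau_16, chkTau_17, chkTau_18, chkTau_19, chkTau_20, chkTau_21, chkTau_22, chkTau_23, chkTau_24, chkTau_25, chkTau_26, chkTau_27, chkTau_28, chkTau_29, chkTau_30, chkTau_31, chkTau_32, chkTau_33, chkTau_34, chkTau_35, chkTau_36, chkTau_37, chkTau_38, chkTau_39, chkTau_40, chkTau_41, chkTau_42]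

end Cfsg.Agent.Lib.Helper29.ONOut
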