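import Cfsg.Agent.Lib.Helper29.ONOutBase
import Cfsg.Agent.Lib.Helper29.ONOutChkA
import Cfsg.Agent.Lib.Helper29.ONOutChkB
import Cfsg.Agent.Lib.Helper29.ONOutChkC
import Cfsg.Agent.Lib.Helper29.ONOutChkE
import Cfsg.Agent.Lib.Helper29.ONOutChkF
import Cfsg.Agent.Lib.Helper29.ONOutChkT
import Cfsg.Agent.Lib.Helper29.HeOutAbs
import Cfsg.Agent.Lib.Helper17.HeOutP1

set_option autoImplicit false
set_option maxRecDepth 100000
set_option linter.unusedVariables false
set_option linter.unusedSectionVars false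
set_option linter.style.haveILetI false

/-!
# The outer automorphism group of the presented O'Nan group has order two
-/

namespace Cfsg.Agent.Lib.Helper29.ONOut

open Cfsg.Agent.Helper4.TC Cfsg.Agent.Lib.Helper29.HeOut

theorem one_of_fixes (w : List ℕ) (h : fixesB ONL37.mdata hbPts w = true) : el w = 1 :=
  el_eq_one_of_fixesB w h

/-! ### the relations -/

theorem relA : (el aw) ^ 31 = 1 := by
  rw [← el_wpow]
  exact one_of_fixes _ chkRels.1

theorem A_ne_one : el aw ≠ 1 :=
  el_ne_one_of_moves aw wok_words.1 0 (by norm_num) chkAmoves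

theorem orderA : orderOf (el aw) = 31 := orderOf_eq_prime_of (by norm_num) relA A_ne_one

theorem relD : el dw * el aw * (el dw)⁻¹ = (el aw) ^ 7 := by
  have h := one_of_fixes _ chkRels.2.1
  unfold relDAD at h
  rw [el_append, el_append, el_append, el_invW, el_invW, el_wpow, ← mul_assoc, ← mul_assoc] at h
  exact mul_inv_eq_one.mp h

theorem relY : el yw * el dw * (el yw)⁻¹ = (el dw)⁻¹ := by
  have h := one_of_fixes _ chkRels.2.2.1
  unfold relYDY at h
  rw [el_append, el_append, el_append, el_invW, ← mul_assoc, ← mul_assoc] at h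
  exact mul_eq_one_iff_eq_inv.mp h

theorem relU : el uw * el dw = el dw * el uw := by
  have h := one_of_fixes _ chkRels.2.2.2.1
  unfold relUD at h
  rw [el_append, el_append, el_append, el_invW, el_invW, ← mul_assoc, ← mul_inv_rev] at h
  exact mul_inv_eq_one.mp h

theorem thmYA : (el yw * (el aw) ^ 6) ^ 7 = 1 := by
  have h := one_of_fixes _ chkRels.2.2.2.2
  unfold relYA at h
  rw [el_wpow, el_append, el_wpow] at h
  exact h

/-! ### images of the bases under elements intertwining two words -/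

theorem map_base_of_semiconj (g : ONP) (u v : List ℕ) (hu : wok u = true) (hv : wok v = true)
    (h : g * el u = el v * g) (x : ℕ) (hx : x < 122760) (es : List ℕ) :
    ((wsOf u es).map fun w => mtrace ONL37.mdata w x).map (act g) =
      imgsF ONL37.mdata (act g x) (wsOf v es) := by
  rw [imgsF_eq]
  unfold wsOf
  rw [List.map_map, List.map_map, List.map_map]
  apply List.map_congr_left
  intro e _
  show act g (mtrace ONL37.mdata (wpow u e) x) = mtrace ONL37.mdata (wpow v e) (act g x)
  rw [← act_pow_el u hu e x hx, act_semiconj g (el u) (el v) h e x,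
    act_pow_el v hv e _ (act_lt g x)]

theorem forall_of_map_eq_self {f : ℕ → ℕ} : ∀ {l : List ℕ}, l.map f = l → ∀ b ∈ l, f b = b := by
  intro l
  induction l with
  | nil => intro _ b hb; cases hb
  | cons x xs ih =>
    intro h b hb
    rw [List.map_cons, List.cons.injEq] at h
    rcases List.mem_cons.mp hb with rfl | hb
    · exact h.1
    · exact ih h.2 b hb

theorem map_base_a (g : ONP) (v : List ℕ) (hv : wok v = true) (h : g * el aw = el v * g) :
    basePtsA.map (act g) = imgsF ONL37.mdata (act g 0) (wsOf v esB) := by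
  have hb := map_base_of_semiconj g aw v wok_words.1 hv h 0 (by norm_num) esB
  rw [← base_a] at hb
  exact hb

theorem map_base_d (g : ONP) (h : g * el dw = el dw * g) :
    basePtsD.map (act g) = imgsF ONL37.mdata (act g 0) (wsOf dw esB) := by
  have hb := map_base_of_semiconj g dw dw wok_words.2.1 wok_words.2.1 h 0 (by norm_num) esB
  rw [← base_d] at hb
  exact hb

theorem fix_of_commute_a (g : ONP) (h : g * el aw = el aw * g) (h1 : act g 0 = 0) :
    g = 1 := by
  apply base_faithfulA
  have hb := map_base_a g aw wok_words.1 h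
  rw [h1, imgsF_eq, ← base_a] at hb
  exact forall_of_map_eq_self hb

theorem fix_of_commute_d (g : ONP) (h : g * el dw = el dw * g) (h1 : act g 0 = 0) :
    g = 1 := by
  apply base_faithfulD
  have hb := map_base_d g h
  rw [h1, imgsF_eq, ← base_d] at hb
  exact forall_of_map_eq_self hb

/-! ### the centraliser of the element of order 31 -/

theorem hCa : ∀ c : ONP, c * el aw = el aw * c → c ∈ Subgroup.zpowers (el aw) := by
  intro c hc
  have hs := siftA c
  rw [map_base_a c aw wok_words.1 hc] at hs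
  have hchk : (memB (act c 0) cyc31 ||
      exclB ONL37.mdata specsA (imgsF ONL37.mdata (act c 0) (wsOf aw esB))) = true :=
    chkA _ (act_lt c 0)
  rw [hs, Bool.or_false] at hchk
  have hmem := memB_sound hchk
  rw [cyc_ok, List.mem_map] at hmem
  obtain ⟨i, _, hi⟩ := hmem
  have hi' : act ((el aw) ^ i) 0 = act c 0 := by
    rw [act_pow_el aw wok_words.1 i 0 (by norm_num)]
    exact hi
  have hcomm : Commute (((el aw) ^ i)⁻¹ * c) (el aw) :=
    Commute.mul_left (Commute.inv_left (Commute.pow_left (Commute.refl _) i)) hc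
  have hg : ((el aw) ^ i)⁻¹ * c = 1 := by
    apply fix_of_commute_a _ hcomm.eq
    rw [act_mul, ← hi']
    exact act_inv_of _ 0 _ (by norm_num) rfl
  have : c = (el aw) ^ i := by
    rw [inv_mul_eq_one] at hg
    exact hg.symm
  rw [this]
  exact Subgroup.npow_mem_zpowers _ _

/-! ### no element conjugates the element of order 31 to its cube -/

theorem hno : ∀ g : ONP, g * el aw * g⁻¹ ≠ (el aw) ^ 3 := by
  intro g hg
  have h : g * el aw = el (wpow aw 3) * g := by
    rw [el_wpow, ← hg]
    group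
  have hs := siftA g
  rw [map_base_a g (wpow aw 3) wok_words.2.2.2.2 h] at hs
  have hchk : exclB ONL37.mdata specsA
      (imgsF ONL37.mdata (act g 0) (wsOf (wpow aw 3) esB)) = true :=
    chkA3 _ (act_lt g 0)
  rw [hchk] at hs
  cases hs

/-! ### the centraliser of the element of order 15 -/

theorem comm_lw (i j : ℕ) : el (lw i j) * el dw = el dw * el (lw i j) := by
  unfold lw
  rw [el_append, el_wpow, el_wpow]
  have hud : Commute (el uw) (el dw) := relU
  exact ((hud.pow_left j).mul_left (Commute.pow_left (Commute.refl _) i)).eq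

theorem Lw_form : ∀ w ∈ Lw, ∃ i j, w = lw i j := by
  intro w hw
  simp only [Lw, List.mem_cons, List.not_mem_nil, or_false] at hw
  rcases hw with rfl | rfl | rfl | rfl | rfl | rfl | rfl | rfl | rfl | rfl | rfl | rfl | rfl |
    rfl | rfl | rfl | rfl | rfl | rfl | rfl | rfl | rfl | rfl | rfl | rfl | rfl | rfl | rfl | rfl |
    rfl | rfl | rfl | rfl | rfl | rfl | rfl | rfl | rfl | rfl | rfl | rfl | rfl | rfl | rfl |
    rfl <;> exact ⟨_, _, rfl⟩

theorem hCd : ∀ c : ONP, c * el dw = el dw * c → c ∈ Lw.map el := by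
  intro c hc
  have hs := siftD c
  rw [map_base_d c hc] at hs
  have hchk : (memB (act c 0) good45 || exclB ONL37.mdata specsD
      (imgsF ONL37.mdata (act c 0) (wsOf dw esB))) = true :=
    chkD _ (act_lt c 0)
  rw [hs, Bool.or_false] at hchk
  have hmem := memB_sound hchk
  rw [good_ok.1, List.mem_map] at hmem
  obtain ⟨w, hw, hw0⟩ := hmem
  have hwok := good_ok.2 w hw
  have hcomm : Commute (el w) (el dw) := by
    obtain ⟨i, j, rfl⟩ := Lw_form w hw
    exact comm_lw i j
  have hcomm2 : Commute ((el w)⁻¹ * c) (el dw) := Commute.mul_left (Commute.inv_left hcomm) hc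
  have hg : (el w)⁻¹ * c = 1 := by
    apply fix_of_commute_d _ hcomm2.eq
    rw [act_mul, ← hw0]
    exact act_inv_of (el w) 0 _ (by norm_num) (act_el w hwok 0 (by norm_num))
  have : c = el w := by
    rw [inv_mul_eq_one] at hg
    exact hg.symm
  rw [this]
  exact List.mem_map_of_mem hw

/-! ### automorphisms fixing `a` and `d` fix `y` -/

theorem hy : ∀ ψ : MulAut ONP, ψ (el aw) = el aw → ψ (el dw) = el dw → ψ (el yw) = el yw := by
  have key : ∀ ψ : MulAut ONP, ψ ((el aw) ^ 6) = (el aw) ^ 6 → ψ (el dw) = el dw →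
      ψ (el yw) = el yw := by
    refine rigid_of_centralizer (Lw.map el) hCd relY 7 0 thmYA (pow_zero _) ?_
    intro c hc
    obtain ⟨w, hw, rfl⟩ := List.mem_map.mp hc
    rcases chkDist w hw with h | ⟨h1, h2⟩
    · left
      rw [h, el_nil]
    · right; left
      have h3 := el_ne_one_of_moves _ h1 0 (by norm_num) h2
      unfold distW at h3
      rw [el_wpow, el_append, el_append, el_wpow, ← mul_assoc] at h3
      exact h3
  intro ψ ha hd
  exact key ψ (by rw [map_pow, ha]) hd

/-! ### generation -/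

theorem gen_mem (p : ℕ × List (List ℕ)) (hp : p ∈ genData) :
    el [p.1] ∈ Subgroup.closure ({el aw, el dw, el yw} : Set ONP) := by
  obtain ⟨h1, h2⟩ := chkGen p hp
  have h3 := one_of_fixes _ h1
  rw [el_append] at h3
  have h4 : el [Nat.xor p.1 1] = (el [p.1])⁻¹ := el_invW [p.1]
  rw [h4, inv_mul_eq_one] at h3
  rw [h3]
  have hA : el aw ∈ Subgroup.closure ({el aw, el dw, el yw} : Set ONP) :=
    Subgroup.subset_closure (by simp)
  have hD : el dw ∈ Subgroup.closure ({el aw, el dw, el yw} : Set ONP) :=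
    Subgroup.subset_closure (by simp)
  have hY : el yw ∈ Subgroup.closure ({el aw, el dw, el yw} : Set ONP) :=
    Subgroup.subset_closure (by simp)
  show PresentedGroup.mk ONS.Rset (wordF ONL37.dec p.2.flatten) ∈ _
  apply mk_flatten_mem
  intro b hb
  have hb' := h2 b hb
  simp only [pieceL, List.mem_cons, List.not_mem_nil, or_false] at hb'
  rcases hb' with rfl | rfl | rfl | rfl | rfl
  · exact hA
  · have : PresentedGroup.mk ONS.Rset (wordF ONL37.dec (invW aw)) = (el aw)⁻¹ := el_invW aw
    rw [this]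
    exact Subgroup.inv_mem _ hA
  · exact hD
  · have : PresentedGroup.mk ONS.Rset (wordF ONL37.dec (invW dw)) = (el dw)⁻¹ := el_invW dw
    rw [this]
    exact Subgroup.inv_mem _ hD
  · exact hY

theorem gen_codes : ∀ c ∈ [0, 2, 4, 6, 8, 10, 12],
    el [c] ∈ Subgroup.closure ({el aw, el dw, el yw} : Set ONP) := by
  intro c hc
  have hm : c ∈ genData.map Prod.fst := by
    have : genData.map Prod.fst = [0, 2, 4, 6, 8, 10, 12] := rfl
    rw [this]
    exact hc
  obtain ⟨p, hp, rfl⟩ := List.mem_map.mp hm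
  exact gen_mem p hp

theorem of_eq_el (x : Cfsg.Spor.ON.Gen) :
    (PresentedGroup.of x : ONP) = el [ONL37.enc x] := by
  cases x <;> rfl

theorem hgen : Subgroup.closure ({el aw, el dw, el yw} : Set ONP) = ⊤ := by
  rw [eq_top_iff, ← PresentedGroup.closure_range_of, Subgroup.closure_le]
  rintro _ ⟨x, rfl⟩
  rw [SetLike.mem_coe, of_eq_el]
  apply gen_codes
  cases x <;> decide

/-! ### an outer automorphism -/

theorem exists_tau : ∃ ψ : ONP →* ONP, ∀ x, ψ (PresentedGroup.of x) = el (sigma x) :=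
  exists_hom_of_subst ONL37.coding ONL37.hR1 ONL37.model_ok 460815505920 (by norm_num)
    ONS.card_top ONS.specs ONS.levels_ok (by decide) ONS.Rset ONL37.bases ONL37.hR1 sigma hbPts
    rfl chkTau

theorem map_gl {P Q : Type*} [Group P] [Group Q] {α : Type} (ψ : P →* Q) (γ : α → P)
    (l : Letter α) : ψ (gl γ l) = gl (fun x => ψ (γ x)) l := by
  unfold gl
  split_ifs <;> simp

theorem map_evc {P Q : Type*} [Group P] [Group Q] {α : Type} (ψ : P →* Q) (γ : α → P)
    (dec : ℕ → Letter α) (w : List ℕ) : ψ (evc γ dec w) = evc (fun x => ψ (γ x)) dec w := by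
  induction w with
  | nil => rw [evc_nil, evc_nil, map_one]
  | cons c u ih => rw [evc_cons, evc_cons, map_mul, ih, map_gl]

theorem tau_el (ψ : ONP →* ONP) (hψ : ∀ x, ψ (PresentedGroup.of x) = el (sigma x))
    (w : List ℕ) : ψ (el w) = el (substW sigma ONL37.dec w) := by
  unfold el
  rw [← evc_of, map_evc, ← evc_of, evc_substW _ ONL37.coding]
  congr 1
  funext x
  rw [hψ x]
  unfold el
  rw [evc_of]

theorem tauA (ψ : ONP →* ONP) (hψ : ∀ x, ψ (PresentedGroup.of x) = el (sigma x)) :
    ψ (el aw) = (el aw) ^ 3 := by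
  rw [tau_el ψ hψ]
  have h := one_of_fixes _ chkTauA
  rw [el_append, el_invW, el_wpow] at h
  exact mul_inv_eq_one.mp h

theorem tau_inj (ψ : ONP →* ONP) (hψ : ∀ x, ψ (PresentedGroup.of x) = el (sigma x)) :
    Function.Injective ψ := by
  rw [← MonoidHom.ker_eq_bot_iff]
  rcases IsSimpleGroup.eq_bot_or_eq_top_of_normal ψ.ker inferInstance with h | h
  · exact h
  · exfalso
    have h1 : el aw ∈ ψ.ker := by rw [h]; trivial
    rw [MonoidHom.mem_ker, tauA ψ hψ] at h1
    have h2 := orderOf_dvd_of_pow_eq_one h1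
    rw [orderA] at h2
    omega

/-! ### the main theorem -/

theorem hfac : (Nat.card ONP).factorization 31 = 1 := by
  rw [card_ONP, show (460815505920 : ℕ) = 31 * 14865016320 from by norm_num,
    Nat.factorization_mul (by norm_num) (by norm_num)]
  simp only [Finsupp.coe_add, Pi.add_apply]
  rw [Nat.Prime.factorization_self (by norm_num),
    Nat.factorization_eq_zero_of_not_dvd (by norm_num)]

theorem arith31 : ∀ k, 1 ≤ k → k < 31 → ∃ i, k * 7 ^ i % 31 = 1 ∨ k * 7 ^ i % 31 = 3 := by
  intro k h1 h2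
  interval_cases k
  · exact ⟨0, Or.inl (by norm_num)⟩
  · exact ⟨12, Or.inl (by norm_num)⟩
  · exact ⟨0, Or.inr (by norm_num)⟩
  · exact ⟨9, Or.inl (by norm_num)⟩
  · exact ⟨10, Or.inl (by norm_num)⟩
  · exact ⟨12, Or.inr (by norm_num)⟩
  · exact ⟨14, Or.inl (by norm_num)⟩
  · exact ⟨6, Or.inl (by norm_num)⟩
  · exact ⟨1, Or.inl (by norm_num)⟩
  · exact ⟨7, Or.inl (by norm_num)⟩
  · exact ⟨11, Or.inr (by norm_num)⟩
  · exact ⟨9, Or.inr (by norm_num)⟩
  · exact ⟨5, Or.inr (by norm_num)⟩
  · exact ⟨11, Or.inl (by norm_num)⟩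
  · exact ⟨10, Or.inr (by norm_num)⟩
  · exact ⟨3, Or.inl (by norm_num)⟩
  · exact ⟨3, Or.inr (by norm_num)⟩
  · exact ⟨13, Or.inl (by norm_num)⟩
  · exact ⟨2, Or.inl (by norm_num)⟩
  · exact ⟨4, Or.inl (by norm_num)⟩
  · exact ⟨14, Or.inr (by norm_num)⟩
  · exact ⟨8, Or.inr (by norm_num)⟩
  · exact ⟨13, Or.inr (by norm_num)⟩
  · exact ⟨6, Or.inr (by norm_num)⟩
  · exact ⟨5, Or.inl (by norm_num)⟩
  · exact ⟨2, Or.inr (by norm_num)⟩
  · exact ⟨1, Or.inr (by norm_num)⟩
  · exact ⟨8, Or.inl (by norm_num)⟩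
  · exact ⟨4, Or.inr (by norm_num)⟩
  · exact ⟨7, Or.inr (by norm_num)⟩

theorem out_ON : Nat.card (Cfsg.Out ONP) = 2 := by
  obtain ⟨ψ, hψ⟩ := exists_tau
  haveI : Fact (Nat.Prime 31) := ⟨by norm_num⟩
  have hinj := tau_inj ψ hψ
  have hbij : Function.Bijective ψ := ⟨hinj, Finite.surjective_of_injective hinj⟩
  refine out_card_two_of_rigid (p := 31) (r := 7) (t := 3) orderA hfac relD (by norm_num) arith31
    hCa hgen hy hno (MulEquiv.ofBijective ψ hbij) ?_
  show ψ (el aw) = (el aw) ^ 3
  exact tauA ψ hψ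

end Cfsg.Agent.Lib.Helper29.ONOut
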