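import Cfsg.Agent.Lib.Helper29.ONOutDataA
import Cfsg.Agent.Lib.Helper29.ONOutDataD
import Cfsg.Agent.Lib.Helper29.ONOutWords
import Cfsg.Agent.Lib.Helper29.OutExclB
import Cfsg.Agent.Lib.Helper4.TC.ONL37Model

set_option autoImplicit false
set_option maxRecDepth 100000
set_option linter.unusedVariables false

/-! The tests on the images of the bases, for the centralisers of the elements of orders 31
and 15 of the O'Nan group. -/

namespace Cfsg.Agent.Lib.Helper29.ONOut

open Cfsg.Agent.Helper4.TC Cfsg.Agent.Lib.Helper29.HeOut

/-- the image `t` of the first base point under an element commuting with `a` lies in the cycle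
of the base point, or the images of the base do not sift through -/
noncomputable def predA (t : ℕ) : Bool :=
  memB t cyc31 || exclB ONL37.mdata specsA (imgsF ONL37.mdata t (wsOf aw esB))

/-- the images of the base under an element conjugating `a` to its cube do not sift through -/
noncomputable def predA3 (t : ℕ) : Bool :=
  exclB ONL37.mdata specsA (imgsF ONL37.mdata t (wsOf (wpow aw 3) esB))

/-- the image `t` of the first base point under an element commuting with `d` is one of 45
points, or the images of the base do not sift through -/
noncomputable def predD (t : ℕ) : Bool :=
  memB t good45 || exclB ONL37.mdata specsD (imgsF ONL37.mdata t (wsOf dw esB))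

end Cfsg.Agent.Lib.Helper29.ONOut
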