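import Mathlib
import Cfsg.Agent.S1010
import Cfsg.Agent.Lib.Helper29.Ord5040A

/-!
# Order 5040, `n₅ = 126`: general lemmas (helper29, for S0978)
-/

set_option autoImplicit false
set_option linter.unusedSectionVars false

namespace Cfsg.Agent.Lib.Helper29.Ord5040

open Cfsg.H5.SmallOrd Cfsg.H5.SylowTuple

variable {G : Type*} [Group G] [Finite G]

/-- a nonidentity element of a subgroup of prime order generates it -/
theorem zpowers_eq_of_prime_card {p : ℕ} [hp : Fact p.Prime] (P : Subgroup G)
    (hP : Nat.card P = p) {a : G} (ha : a ∈ P) (ha1 : a ≠ 1) : Subgroup.zpowers a = P := by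
  have hle : Subgroup.zpowers a ≤ P := (Subgroup.zpowers_le).mpr ha
  apply Subgroup.eq_of_le_of_card_ge hle
  rw [Nat.card_zpowers, hP]
  have h1 : orderOf a ∣ p := by
    have := Subgroup.card_dvd_of_le hle
    rwa [Nat.card_zpowers, hP] at this
  rcases (Nat.dvd_prime hp.out).mp h1 with h | h
  · exact absurd (orderOf_eq_one_iff.mp h) ha1
  · exact h.ge

/-- **inversion lemma**: an involution normalizing but not centralizing a subgroup of prime order
inverts it. -/
theorem inv_of_not_centralizer {p : ℕ} [hp : Fact p.Prime] (P : Subgroup G)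
    (hP : Nat.card P = p) (x : G) (hxN : x ∈ Subgroup.normalizer (P : Set G)) (hx2 : x * x = 1)
    (hxC : x ∉ Subgroup.centralizer (P : Set G)) : ∀ a ∈ P, x * a * x⁻¹ = a⁻¹ := by
  intro a ha
  have hxi : x⁻¹ = x := inv_eq_of_mul_eq_one_left hx2
  by_contra hne
  have ha1 : a ≠ 1 := by
    rintro rfl
    apply hne
    simp
  have hb : x * a * x⁻¹ ∈ P := (Subgroup.mem_normalizer_iff.mp hxN a).mp ha
  have hza := zpowers_eq_of_prime_card P hP ha ha1
  have hb' : x * a * x⁻¹ ∈ Subgroup.zpowers a := by rw [hza]; exact hb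
  obtain ⟨k, hk⟩ := Subgroup.mem_zpowers_iff.mp hb'
  have hcomm : a * (x * a * x⁻¹) = (x * a * x⁻¹) * a := by
    rw [← hk]
    exact (Commute.zpow_right (Commute.refl a) k).eq
  obtain ⟨c, hc⟩ : ∃ c : G, c = a * (x * a * x⁻¹) := ⟨_, rfl⟩
  have hcP : c ∈ P := by rw [hc]; exact P.mul_mem ha hb
  have hc1 : c ≠ 1 := by
    intro h
    apply hne
    have : x * a * x⁻¹ = a⁻¹ * c := by rw [hc]; group
    rw [this, h, mul_one]
  have hxc : x * c * x⁻¹ = c := by
    have h1 : x * c * x⁻¹ = (x * a * x⁻¹) * (x * x * a * (x⁻¹ * x⁻¹)) := by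
      rw [hc]; group
    have h2 : x * x * a * (x⁻¹ * x⁻¹) = a := by
      rw [hxi, hx2]; simp
    rw [h1, h2, ← hcomm, hc]
  have hzc := zpowers_eq_of_prime_card P hP hcP hc1
  apply hxC
  rw [Subgroup.mem_centralizer_iff]
  intro y hy
  have hy' : y ∈ Subgroup.zpowers c := by rw [hzc]; exact hy
  obtain ⟨m, hm⟩ := Subgroup.mem_zpowers_iff.mp hy'
  have hxc' : x * c = c * x := by
    calc x * c = x * c * x⁻¹ * x := by group
      _ = c * x := by rw [hxc]
  rw [← hm]
  exact ((Commute.zpow_right (show Commute x c from hxc') m).eq).symm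

/-- conjugate elements have centralizers of the same order -/
theorem card_centralizer_of_isConj {a b : G} (h : IsConj a b) :
    Nat.card (Subgroup.centralizer ({a} : Set G)) =
      Nat.card (Subgroup.centralizer ({b} : Set G)) := by
  obtain ⟨c, hc⟩ := isConj_iff.mp h
  subst hc
  refine Nat.card_congr ?_
  refine
    { toFun := fun z => ⟨c * z.1 * c⁻¹, ?_⟩
      invFun := fun z => ⟨c⁻¹ * z.1 * c, ?_⟩
      left_inv := ?_
      right_inv := ?_ }
  · have hz := mem_centralizer_singleton.mp z.2
    rw [mem_centralizer_singleton]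
    calc c * a * c⁻¹ * (c * z.1 * c⁻¹) = c * (a * z.1) * c⁻¹ := by group
      _ = c * (z.1 * a) * c⁻¹ := by rw [hz]
      _ = c * z.1 * c⁻¹ * (c * a * c⁻¹) := by group
  · have hz := mem_centralizer_singleton.mp z.2
    rw [mem_centralizer_singleton]
    calc a * (c⁻¹ * z.1 * c) = c⁻¹ * (c * a * c⁻¹ * z.1) * c := by group
      _ = c⁻¹ * (z.1 * (c * a * c⁻¹)) * c := by rw [hz]
      _ = c⁻¹ * z.1 * c * a := by group
  · intro z
    apply Subtype.ext
    show c⁻¹ * (c * z.1 * c⁻¹) * c = z.1
    group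
  · intro z
    apply Subtype.ext
    show c * (c⁻¹ * z.1 * c) * c⁻¹ = z.1
    group

/-- the order of a conjugate -/
theorem orderOf_of_isConj {a b : G} (h : IsConj a b) : orderOf b = orderOf a := by
  obtain ⟨c, hc⟩ := isConj_iff.mp h
  have hs : SemiconjBy c a b := by
    unfold SemiconjBy
    rw [← hc]; group
  exact (hs.orderOf_eq c).symm

/-- `N_G(P) ≤ C_G(r)` when `r` centralizes `P` and a subgroup `T` of `N_G(P)` with
`|P| |T| = |N_G(P)|`, coprime orders. -/
theorem normalizer_le_centralizer_of {p : ℕ} [Fact p.Prime] (P : Sylow p G) (T : Subgroup G)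
    (hTN : T ≤ Subgroup.normalizer ((P : Subgroup G) : Set G))
    (hcop : Nat.Coprime (Nat.card (P : Subgroup G)) (Nat.card T))
    (hcard : Nat.card (Subgroup.normalizer ((P : Subgroup G) : Set G)) =
      Nat.card (P : Subgroup G) * Nat.card T)
    (r : G) (hrP : ∀ x ∈ (P : Subgroup G), r * x = x * r) (hrT : ∀ y ∈ T, y * r = r * y) :
    Subgroup.normalizer ((P : Subgroup G) : Set G) ≤ Subgroup.centralizer ({r} : Set G) := by
  set N := Subgroup.normalizer ((P : Subgroup G) : Set G) with hN
  set K := Subgroup.centralizer ({r} : Set G) with hK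
  have hPK : (P : Subgroup G) ≤ K ⊓ N :=
    le_inf (fun x hx => mem_centralizer_singleton.mpr (hrP x hx)) Subgroup.le_normalizer
  have hTK : T ≤ K ⊓ N :=
    le_inf (fun y hy => mem_centralizer_singleton.mpr (hrT y hy).symm) hTN
  have h1 := Subgroup.card_dvd_of_le hPK
  have h2 := Subgroup.card_dvd_of_le hTK
  have h3 : Nat.card (P : Subgroup G) * Nat.card T ∣ Nat.card (K ⊓ N : Subgroup G) :=
    Nat.Coprime.mul_dvd_of_dvd_of_dvd hcop h1 h2
  have hle : Nat.card N ≤ Nat.card (K ⊓ N : Subgroup G) := by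
    rw [hcard]
    exact Nat.le_of_dvd Nat.card_pos h3
  have := Subgroup.eq_of_le_of_card_ge (inf_le_right : K ⊓ N ≤ N) hle
  rw [← this]
  exact inf_le_left

/-- **Lemma A**: in a simple group of order 5040 with `|N_G(P₅)| = 40`, an involution `r`
centralizing `P₅` and centralized by `N_G(P₅)` has `C_G(r) = N_G(P₅)`. -/
theorem centralizer_eq_normalizer [IsSimpleGroup G] (hG : ¬ IsMulCommutative G)
    (hn : Nat.card G = 5040) [Fact (Nat.Prime 5)] (P : Sylow 5 G)
    (hN : Nat.card (Subgroup.normalizer ((P : Subgroup G) : Set G)) = 40)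
    (r : G) (hr : orderOf r = 2) (hrP : ∀ x ∈ (P : Subgroup G), r * x = x * r)
    (hNr : Subgroup.normalizer ((P : Subgroup G) : Set G) ≤
      Subgroup.centralizer ({r} : Set G)) :
    Subgroup.centralizer ({r} : Set G) = Subgroup.normalizer ((P : Subgroup G) : Set G) := by
  classical
  haveI h2 : Fact (Nat.Prime 2) := ⟨Nat.prime_two⟩
  set N := Subgroup.normalizer ((P : Subgroup G) : Set G) with hNdef
  set K := Subgroup.centralizer ({r} : Set G) with hKdef
  have hr1 : r ≠ 1 := by
    intro h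
    rw [h, orderOf_one] at hr
    omega
  have hcenter := Cfsg.Agent.Lib.Helper18.Ord3960.center_eq_bot hG
  have hKtop : K ≠ ⊤ := by
    intro hKtop
    have huc : r ∈ Subgroup.center G := by
      rw [Subgroup.mem_center_iff]
      intro g
      have : g ∈ K := by rw [hKtop]; trivial
      exact (mem_centralizer_singleton.mp this).symm
    rw [hcenter, Subgroup.mem_bot] at huc
    exact hr1 huc
  have h1 := Cfsg.Agent.Lib.Helper18.SylowOver.card_eq_card_normalizer_mul P K hNr
  have h2' := Cfsg.Agent.Lib.Helper18.SylowOver.card_sylow_subgroup_mod (p := 5) K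
  rw [← hNdef, hN] at h1
  have h3 : Nat.card K ∣ 5040 := by rw [← hn]; exact Subgroup.card_subgroup_dvd_card K
  have h21 : Nat.card (Sylow 5 K) ≠ 21 := Cfsg.Agent.S1010.result
  obtain ⟨n, hndef⟩ : ∃ n, n = Nat.card (Sylow 5 K) := ⟨_, rfl⟩
  rw [← hndef] at h1 h2' h21
  have hn126 : n ∣ 126 := by
    rw [h1] at h3
    have : 40 * n ∣ 40 * 126 := by norm_num; exact h3
    exact Nat.dvd_of_mul_dvd_mul_left (by norm_num) this
  have hnle : n ≤ 126 := Nat.le_of_dvd (by norm_num) hn126
  have hcases : n = 1 ∨ n = 6 ∨ n = 126 := by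
    interval_cases n <;> omega
  rcases hcases with rfl | rfl | rfl
  · symm
    apply Subgroup.eq_of_le_of_card_ge hNr
    rw [h1, hN]
  · exfalso
    have hK240 : Nat.card K = 240 := by rw [h1]
    have hidx : K.index = 21 := by
      have := Subgroup.card_mul_index K
      rw [hK240, hn] at this
      omega
    obtain ⟨m, hm0, hm⟩ := fixed_parity hG K hKtop r hr
    have hmod := fixed_mod_p P K hNr r hrP
    have hcf := card_mul_fixed K r
    rw [hidx] at hm
    have hf1 : Nat.card (MulAction.fixedBy (G ⧸ K) r) = 1 := by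
      generalize Nat.card (MulAction.fixedBy (G ⧸ K) r) = f at hm hmod
      omega
    rw [hf1, mul_one] at hcf
    have hj1 : Nat.card {y : G // IsConj r y ∧ y ∈ K} = 1 := by
      have hpos : 0 < Nat.card K := Nat.card_pos
      have : Nat.card K * 1 = Nat.card K * Nat.card {y : G // IsConj r y ∧ y ∈ K} := by
        rw [mul_one]; exact hcf
      exact (Nat.eq_of_mul_eq_mul_left hpos this).symm
    have hrK : r ∈ K := mem_centralizer_singleton.mpr rfl
    have huniq : ∀ y : G, IsConj r y → y ∈ K → y = r := by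
      intro y hy hyK
      have hsub : Subsingleton {y : G // IsConj r y ∧ y ∈ K} :=
        (Nat.card_eq_one_iff_unique.mp hj1).1
      have := hsub.elim ⟨y, hy, hyK⟩ ⟨r, IsConj.refl r, hrK⟩
      exact congrArg Subtype.val this
    -- a Sylow 2-subgroup of `G` inside `K` containing `r`
    have hZpg : IsPGroup 2 ((Subgroup.zpowers r).subgroupOf K) := by
      apply IsPGroup.of_card (n := 1)
      rw [Nat.card_congr (Subgroup.subgroupOfEquivOfLe
        ((Subgroup.zpowers_le).mpr hrK)).toEquiv, Nat.card_zpowers, hr, pow_one]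
    obtain ⟨S0, hS0⟩ := hZpg.exists_le_sylow
    have hS0c : Nat.card (S0 : Subgroup K) = 2 ^ 4 :=
      sylow_card 2 4 15 (by norm_num) (by rw [hK240]; norm_num) S0
    set S1 : Subgroup G := (S0 : Subgroup K).map K.subtype with hS1def
    have hS1c : Nat.card S1 = 16 := by
      rw [hS1def, Subgroup.card_map_of_injective (Subgroup.subtype_injective _), hS0c]
      norm_num
    have hS1K : S1 ≤ K := Subgroup.map_subtype_le _
    obtain ⟨S'⟩ : Nonempty (Sylow 2 G) := inferInstance
    have hS'c : Nat.card (S' : Subgroup G) = 2 ^ 4 :=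
      sylow_card 2 4 315 (by norm_num) (by rw [hn]; norm_num) S'
    have hS1card : Nat.card S1 = 2 ^ (Nat.card G).factorization 2 := by
      rw [← Sylow.card_eq_multiplicity S', hS'c, hS1c]; norm_num
    set S : Sylow 2 G := Sylow.ofCard S1 hS1card with hSdef
    have hSS1 : (S : Subgroup G) = S1 := rfl
    have hrS : r ∈ (S : Subgroup G) := by
      rw [hSS1, hS1def, Subgroup.mem_map]
      refine ⟨⟨r, hrK⟩, hS0 ?_, rfl⟩
      rw [Subgroup.mem_subgroupOf]
      exact Subgroup.mem_zpowers r
    apply not_isolated hG S r hr hrS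
    intro g hg
    rw [hSS1] at hg
    exact huniq _ (isConj_iff.mpr ⟨g, rfl⟩) (hS1K hg)
  · exfalso
    apply hKtop
    apply Subgroup.eq_top_of_card_eq
    rw [h1, hn]

end Cfsg.Agent.Lib.Helper29.Ord5040
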