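import Mathlib
import Cfsg.Agent.Lib.Helper29.Ord5040B

/-!
# Order 5040, `n₅ = 126`: the case `|C(P₅)| = 10` (helper29, for S0978)
-/

set_option autoImplicit false
set_option linter.unusedSectionVars false

namespace Cfsg.Agent.Lib.Helper29.Ord5040

open Cfsg.H5.SmallOrd Cfsg.H5.SylowTuple

variable {G : Type*} [Group G] [Finite G]

/-- a subgroup of index two: normality and products of outside elements -/
theorem index_two_facts (T S : Subgroup G) (hTS : T ≤ S) (h : Nat.card S = 2 * Nat.card T) :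
    (∀ s ∈ S, ∀ t ∈ T, s * t * s⁻¹ ∈ T) ∧
      (∀ a ∈ S, ∀ b ∈ S, a ∉ T → b ∉ T → a * b ∈ T) := by
  have hidx : (T.subgroupOf S).index = 2 := by
    have h1 := Subgroup.card_mul_index (T.subgroupOf S)
    rw [Nat.card_congr (Subgroup.subgroupOfEquivOfLe hTS).toEquiv, h] at h1
    have hpos : 0 < Nat.card T := Nat.card_pos
    have : Nat.card T * (T.subgroupOf S).index = Nat.card T * 2 := by rw [h1]; ring
    exact Nat.eq_of_mul_eq_mul_left hpos this
  haveI hnorm : (T.subgroupOf S).Normal := Subgroup.normal_of_index_eq_two hidx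
  constructor
  · intro s hs t ht
    have := hnorm.conj_mem ⟨t, hTS ht⟩ (Subgroup.mem_subgroupOf.mpr ht) ⟨s, hs⟩
    exact Subgroup.mem_subgroupOf.mp this
  · intro a ha b hb haT hbT
    have h1 := Subgroup.mul_mem_iff_of_index_two hidx (a := (⟨a, ha⟩ : S)) (b := (⟨b, hb⟩ : S))
    have h2 : (⟨a, ha⟩ : S) * ⟨b, hb⟩ ∈ T.subgroupOf S := by
      rw [h1]
      constructor
      · intro h; exact absurd (Subgroup.mem_subgroupOf.mp h) haT
      · intro h; exact absurd (Subgroup.mem_subgroupOf.mp h) hbT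
    exact Subgroup.mem_subgroupOf.mp h2

/-- **case (c)**: `|C(P₅)| = 10`, `T` abelian, `C(w) = N(P₅)`: contradiction. -/
theorem kill_c [IsSimpleGroup G] (hG : ¬ IsMulCommutative G) (hn : Nat.card G = 5040)
    [Fact (Nat.Prime 5)] (P : Sylow 5 G) (hP : Nat.card (P : Subgroup G) = 5)
    (hN : Nat.card (Subgroup.normalizer ((P : Subgroup G) : Set G)) = 40)
    (hC : Nat.card (Subgroup.centralizer ((P : Subgroup G) : Set G)) = 10)
    (T : Subgroup G) (hTN : T ≤ Subgroup.normalizer ((P : Subgroup G) : Set G))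
    (hTc : Nat.card T = 8) (hTab : ∀ a ∈ T, ∀ b ∈ T, a * b = b * a)
    (w : G) (hwT : w ∈ T) (hwC : w ∈ Subgroup.centralizer ((P : Subgroup G) : Set G))
    (hwo : orderOf w = 2)
    (hCw : Subgroup.centralizer ({w} : Set G) = Subgroup.normalizer ((P : Subgroup G) : Set G))
    (S : Sylow 2 G) (hTS : T ≤ (S : Subgroup G)) (hSc : Nat.card (S : Subgroup G) = 16)
    (g : G) (hgS : g ∈ (S : Subgroup G)) (hgT : g ∉ T) : False := by
  classical
  set N := Subgroup.normalizer ((P : Subgroup G) : Set G) with hNdef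
  set C := Subgroup.centralizer ((P : Subgroup G) : Set G) with hCdef
  obtain ⟨hnorm, hmul⟩ := index_two_facts T (S : Subgroup G) hTS (by rw [hSc, hTc])
  have hw1 : w ≠ 1 := by
    intro h
    rw [h, orderOf_one] at hwo
    omega
  have hw2 : w * w = 1 := by
    have := pow_orderOf_eq_one w
    rwa [hwo, pow_two] at this
  have hwi : w⁻¹ = w := inv_eq_of_mul_eq_one_left hw2
  have hginvS : g⁻¹ ∈ (S : Subgroup G) := (S : Subgroup G).inv_mem hgS
  have hginvT : g⁻¹ ∉ T := fun h => hgT (by simpa using T.inv_mem h)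
  -- the conjugate r1 of w
  obtain ⟨r1, hr1def⟩ : ∃ r1 : G, r1 = g * w * g⁻¹ := ⟨_, rfl⟩
  have hr1T : r1 ∈ T := by rw [hr1def]; exact hnorm g hgS w hwT
  have hwr1 : IsConj w r1 := isConj_iff.mpr ⟨g, hr1def.symm⟩
  have hr1o : orderOf r1 = 2 := by rw [orderOf_of_isConj hwr1, hwo]
  have hr12 : r1 * r1 = 1 := by
    have := pow_orderOf_eq_one r1
    rwa [hr1o, pow_two] at this
  have hr1i : r1⁻¹ = r1 := inv_eq_of_mul_eq_one_left hr12
  have hr11 : r1 ≠ 1 := by
    intro h
    rw [h, orderOf_one] at hr1o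
    omega
  have hgN : g ∉ N := by
    intro hgN
    have hTle : T ≤ (S : Subgroup G) ⊓ N := le_inf hTS hTN
    have h1 : Nat.card ((S : Subgroup G) ⊓ N : Subgroup G) ∣ 16 := by
      rw [← hSc]; exact Subgroup.card_dvd_of_le inf_le_left
    have h2 : 8 ∣ Nat.card ((S : Subgroup G) ⊓ N : Subgroup G) := by
      rw [← hTc]; exact Subgroup.card_dvd_of_le hTle
    have h3 : Nat.card ((S : Subgroup G) ⊓ N : Subgroup G) ∣ 40 := by
      rw [← hN]; exact Subgroup.card_dvd_of_le inf_le_right
    have h4 : Nat.card ((S : Subgroup G) ⊓ N : Subgroup G) ≠ 8 := by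
      intro h8
      have := Subgroup.eq_of_le_of_card_ge hTle (by rw [h8, hTc])
      apply hgT
      rw [this]
      exact ⟨hgS, hgN⟩
    generalize Nat.card ((S : Subgroup G) ⊓ N : Subgroup G) = d at h1 h2 h3 h4
    have hd : d ≤ 16 := Nat.le_of_dvd (by norm_num) h1
    interval_cases d <;> omega
  have hr1w : r1 ≠ w := by
    intro h
    apply hgN
    rw [← hCw, mem_centralizer_singleton]
    rw [hr1def] at h
    calc w * g = g * w * g⁻¹ * g := by rw [h]
      _ = g * w := by group
  -- z
  obtain ⟨z, hzdef⟩ : ∃ z : G, z = w * r1 := ⟨_, rfl⟩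
  have hzT : z ∈ T := by rw [hzdef]; exact T.mul_mem hwT hr1T
  have hwr1c : w * r1 = r1 * w := hTab w hwT r1 hr1T
  have hz1 : z ≠ 1 := by
    intro h
    apply hr1w
    rw [hzdef] at h
    have : r1 = w⁻¹ := by
      calc r1 = w⁻¹ * (w * r1) := by group
        _ = w⁻¹ := by rw [h, mul_one]
    rw [this, hwi]
  have hz2 : z * z = 1 := by
    rw [hzdef]
    calc w * r1 * (w * r1) = w * (r1 * w) * r1 := by group
      _ = w * (w * r1) * r1 := by rw [hwr1c]
      _ = (w * w) * (r1 * r1) := by group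
      _ = 1 := by rw [hw2, hr12, mul_one]
  have hzi : z⁻¹ = z := inv_eq_of_mul_eq_one_left hz2
  have hzo : orderOf z = 2 := by
    apply orderOf_eq_prime
    · rw [pow_two]; exact hz2
    · exact hz1
  have hggT : g * g ∈ T := hmul g hgS g hgS hgT hgT
  have hgz : g * z * g⁻¹ = z := by
    have h1 : g * r1 * g⁻¹ = w := by
      rw [hr1def]
      have h2 : g * (g * w * g⁻¹) * g⁻¹ = (g * g) * w * (g * g)⁻¹ := by group
      rw [h2]
      have h3 := hTab (g * g) hggT w hwT
      rw [h3]; group
    calc g * z * g⁻¹ = (g * w * g⁻¹) * (g * r1 * g⁻¹) := by rw [hzdef]; group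
      _ = r1 * w := by rw [h1, ← hr1def]
      _ = z := by rw [hzdef, hwr1c]
  have hSz : ∀ s ∈ (S : Subgroup G), s * z = z * s := by
    intro s hs
    by_cases hsT : s ∈ T
    · exact hTab s hsT z hzT
    · have ht : g⁻¹ * s ∈ T := hmul g⁻¹ hginvS s hs hginvT hsT
      have h1 := hTab (g⁻¹ * s) ht z hzT
      have h2 : g * z = z * g := by
        calc g * z = g * z * g⁻¹ * g := by group
          _ = z * g := by rw [hgz]
      calc s * z = g * ((g⁻¹ * s) * z) := by group
        _ = g * (z * (g⁻¹ * s)) := by rw [h1]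
        _ = (g * z) * (g⁻¹ * s) := by group
        _ = z * g * (g⁻¹ * s) := by rw [h2]
        _ = z * s := by group
  have h16 : 16 ∣ Nat.card (Subgroup.centralizer ({z} : Set G)) := by
    rw [← hSc]
    apply Subgroup.card_dvd_of_le
    intro s hs
    rw [mem_centralizer_singleton]
    exact (hSz s hs).symm
  have hcw40 : Nat.card (Subgroup.centralizer ({w} : Set G)) = 40 := by rw [hCw, hN]
  have hnwz : ∀ y : G, IsConj w y → ¬ IsConj y z := by
    intro y h1 h2
    have := card_centralizer_of_isConj (h1.trans h2)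
    rw [hcw40] at this
    rw [← this] at h16
    omega
  have hwz : ¬ IsConj w z := fun h => hnwz w (IsConj.refl w) h
  -- T ⊓ C = {1, w}
  have hTCcard : Nat.card (T ⊓ C : Subgroup G) = 2 := by
    have h1 : Nat.card (T ⊓ C : Subgroup G) ∣ 8 := by
      rw [← hTc]; exact Subgroup.card_dvd_of_le inf_le_left
    have h2 : Nat.card (T ⊓ C : Subgroup G) ∣ 10 := by
      rw [← hC]; exact Subgroup.card_dvd_of_le inf_le_right
    have h3 : 2 ∣ Nat.card (T ⊓ C : Subgroup G) := by
      rw [← hwo]
      exact Subgroup.orderOf_dvd_natCard _ (show w ∈ T ⊓ C from ⟨hwT, hwC⟩)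
    generalize Nat.card (T ⊓ C : Subgroup G) = d at h1 h2 h3
    have hd : d ≤ 8 := Nat.le_of_dvd (by norm_num) h1
    interval_cases d <;> omega
  have hTC : ∀ y ∈ T, y ∈ C → y = 1 ∨ y = w := by
    intro y hyT hyC
    by_contra hcon
    push Not at hcon
    obtain ⟨a, ha⟩ := (Nat.card_eq_two_iff' (1 : (T ⊓ C : Subgroup G))).mp hTCcard
    have h1 := ha.2 ⟨y, hyT, hyC⟩ (fun h => hcon.1 (congrArg Subtype.val h))
    have h2 := ha.2 ⟨w, hwT, hwC⟩ (fun h => hw1 (congrArg Subtype.val h))
    apply hcon.2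
    have := h1.trans h2.symm
    exact congrArg Subtype.val this
  -- inversion
  have hinv : ∀ x ∈ T, x * x = 1 → x ∉ C → ∀ a ∈ (P : Subgroup G), x * a * x⁻¹ = a⁻¹ :=
    fun x hx hx2 hxC => inv_of_not_centralizer (P : Subgroup G) hP x (hTN hx) hx2 hxC
  have key : ∀ x ∈ T, ∀ y ∈ T, x * x = 1 → y * y = 1 → x ∉ C → y ∉ C →
      x * y = 1 ∨ x * y = w := by
    intro x hx y hy hx2 hy2 hxC hyC
    apply hTC _ (T.mul_mem hx hy)
    rw [hCdef, Subgroup.mem_centralizer_iff]
    intro a ha
    have h1 := hinv y hy hy2 hyC a ha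
    have h2 := hinv x hx hx2 hxC a⁻¹ ((P : Subgroup G).inv_mem ha)
    rw [inv_inv] at h2
    symm
    calc (x * y) * a = (x * (y * a * y⁻¹) * x⁻¹) * (x * y) := by group
      _ = (x * a⁻¹ * x⁻¹) * (x * y) := by rw [h1]
      _ = a * (x * y) := by rw [h2]
  have hr1C : r1 ∉ C := by
    intro h
    rcases hTC r1 hr1T h with h | h
    · exact hr11 h
    · exact hr1w h
  have hzC : z ∉ C := by
    intro h
    apply hr1C
    have : r1 = w⁻¹ * z := by rw [hzdef]; group
    rw [this]
    exact C.mul_mem (C.inv_mem hwC) h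
  -- conjugates of `w` in `T`
  have hconjw : ∀ y ∈ T, IsConj w y → y = w ∨ y = r1 := by
    intro y hyT hy
    have hyo : orderOf y = 2 := by rw [orderOf_of_isConj hy, hwo]
    have hy2 : y * y = 1 := by
      have := pow_orderOf_eq_one y
      rwa [hyo, pow_two] at this
    have hy1 : y ≠ 1 := by
      intro h
      rw [h, orderOf_one] at hyo
      omega
    by_cases hyC : y ∈ C
    · rcases hTC y hyT hyC with h | h
      · exact absurd h hy1
      · exact Or.inl h
    · right
      rcases key y hyT r1 hr1T hy2 hr12 hyC hr1C with h | h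
      · calc y = (y * r1) * r1⁻¹ := by group
          _ = r1 := by rw [h, one_mul, hr1i]
      · exfalso
        have : y = z := by
          calc y = (y * r1) * r1⁻¹ := by group
            _ = z := by rw [h, hr1i, hzdef]
        rw [this] at hy
        exact hwz hy
  -- conjugates of `z` in `T`
  have hconjz : ∀ y ∈ T, IsConj z y → y = z := by
    intro y hyT hy
    have hyo : orderOf y = 2 := by rw [orderOf_of_isConj hy, hzo]
    have hy2 : y * y = 1 := by
      have := pow_orderOf_eq_one y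
      rwa [hyo, pow_two] at this
    have hy1 : y ≠ 1 := by
      intro h
      rw [h, orderOf_one] at hyo
      omega
    by_cases hyC : y ∈ C
    · exfalso
      rcases hTC y hyT hyC with h | h
      · exact hy1 h
      · rw [h] at hy
        exact hwz hy.symm
    · rcases key y hyT z hzT hy2 hz2 hyC hzC with h | h
      · calc y = (y * z) * z⁻¹ := by group
          _ = z := by rw [h, one_mul, hzi]
      · exfalso
        have : y = r1 := by
          calc y = (y * z) * z⁻¹ := by group
            _ = w * z := by rw [h, hzi]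
            _ = (w * w) * r1 := by rw [hzdef]; group
            _ = r1 := by rw [hw2, one_mul]
        rw [this] at hy
        exact hnwz r1 hwr1 hy.symm
  -- involutions of `S` outside `T`
  haveI : Fintype G := Fintype.ofFinite G
  obtain ⟨Bf, hBf⟩ : ∃ Bf : Finset G, Bf =
      Finset.univ.filter (fun x => x ∈ (S : Subgroup G) ∧ x ∉ T ∧ x * x = 1) := ⟨_, rfl⟩
  have hBmem : ∀ x, x ∈ Bf ↔ x ∈ (S : Subgroup G) ∧ x ∉ T ∧ x * x = 1 := by
    intro x
    rw [hBf, Finset.mem_filter]
    simp
  have hB4 : Bf.card ≤ 4 := by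
    by_cases hBe : Bf = ∅
    · rw [hBe]; simp
    · obtain ⟨x1, hx1⟩ := Finset.nonempty_iff_ne_empty.mpr hBe
      rw [hBmem] at hx1
      obtain ⟨hx1S, hx1T, hx12⟩ := hx1
      have hx1i : x1⁻¹ = x1 := inv_eq_of_mul_eq_one_left hx12
      let Inv : Subgroup G :=
        { carrier := {τ | τ ∈ T ∧ x1 * τ * x1⁻¹ = τ⁻¹}
          one_mem' := ⟨T.one_mem, by simp⟩
          mul_mem' := by
            rintro a b ⟨haT, ha⟩ ⟨hbT, hb⟩
            refine ⟨T.mul_mem haT hbT, ?_⟩
            have : x1 * (a * b) * x1⁻¹ = (x1 * a * x1⁻¹) * (x1 * b * x1⁻¹) := by group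
            rw [this, ha, hb, mul_inv_rev]
            exact hTab _ (T.inv_mem haT) _ (T.inv_mem hbT)
          inv_mem' := by
            rintro a ⟨haT, ha⟩
            refine ⟨T.inv_mem haT, ?_⟩
            have : x1 * a⁻¹ * x1⁻¹ = (x1 * a * x1⁻¹)⁻¹ := by group
            rw [this, ha] }
      have hInvmem : ∀ τ, τ ∈ Inv ↔ τ ∈ T ∧ x1 * τ * x1⁻¹ = τ⁻¹ := fun τ => Iff.rfl
      have hInvT : Inv ≤ T := fun τ h => h.1
      have hwInv : w ∉ Inv := by
        intro hwI
        have h := ((hInvmem w).mp hwI).2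
        have ht : g⁻¹ * x1 ∈ T := hmul g⁻¹ hginvS x1 hx1S hginvT hx1T
        have h1 : x1 * w * x1⁻¹ = r1 := by
          have h2 := hTab (g⁻¹ * x1) ht w hwT
          calc x1 * w * x1⁻¹ = g * ((g⁻¹ * x1) * w) * x1⁻¹ := by group
            _ = g * (w * (g⁻¹ * x1)) * x1⁻¹ := by rw [h2]
            _ = g * w * g⁻¹ := by group
            _ = r1 := hr1def.symm
        rw [h1, hwi] at h
        exact hr1w h
      have hInvc : Nat.card Inv ≤ 4 := by
        have h1 : Nat.card Inv ∣ 8 := by rw [← hTc]; exact Subgroup.card_dvd_of_le hInvT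
        have h2 : Nat.card Inv ≠ 8 := by
          intro h8
          have := Subgroup.eq_of_le_of_card_ge hInvT (by rw [h8, hTc])
          apply hwInv
          rw [this]
          exact hwT
        generalize Nat.card Inv = d at h1 h2
        have : d ≤ 8 := Nat.le_of_dvd (by norm_num) h1
        interval_cases d <;> omega
      have hmap : ∀ x ∈ Bf, x1 * x ∈ Finset.univ.filter (fun τ => τ ∈ Inv) := by
        intro x hx
        rw [hBmem] at hx
        obtain ⟨hxS, hxT, hx2⟩ := hx
        have hxi : x⁻¹ = x := inv_eq_of_mul_eq_one_left hx2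
        rw [Finset.mem_filter]
        refine ⟨Finset.mem_univ _, ?_⟩
        rw [hInvmem]
        refine ⟨hmul x1 hx1S x hxS hx1T hxT, ?_⟩
        rw [mul_inv_rev, hxi, hx1i]
        calc x1 * (x1 * x) * x1 = (x1 * x1) * x * x1 := by group
          _ = x * x1 := by rw [hx12, one_mul]
      have hle := Finset.card_le_card_of_injOn (fun x => x1 * x) hmap
        (fun a _ b _ hab => mul_left_cancel hab)
      have hInvcard : (Finset.univ.filter (fun τ => τ ∈ Inv)).card = Nat.card Inv := by
        rw [Nat.card_eq_fintype_card, Fintype.card_subtype]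
      rw [hInvcard] at hle
      omega
  -- the conjugates of `w` in `S`
  obtain ⟨Af, hAf⟩ : ∃ Af : Finset G, Af =
      Finset.univ.filter (fun y => IsConj w y ∧ y ∈ (S : Subgroup G)) := ⟨_, rfl⟩
  have hAmem : ∀ y, y ∈ Af ↔ IsConj w y ∧ y ∈ (S : Subgroup G) := by
    intro y
    rw [hAf, Finset.mem_filter]
    simp
  have hAj : Nat.card {y : G // IsConj w y ∧ y ∈ (S : Subgroup G)} = Af.card := by
    rw [Nat.card_eq_fintype_card, Fintype.card_subtype, hAf]
  have hStop : (S : Subgroup G) ≠ ⊤ := by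
    intro h
    rw [h, Subgroup.card_top, hn] at hSc
    omega
  have hSidx : (S : Subgroup G).index = 315 := by
    have := Subgroup.card_mul_index (S : Subgroup G)
    rw [hSc, hn] at this
    omega
  have hj6 : Af.card % 8 = 6 := by
    obtain ⟨m, hm0, hm⟩ := fixed_parity hG (S : Subgroup G) hStop w hwo
    have hcf := card_mul_fixed (S : Subgroup G) w
    rw [hSc, hcw40, hAj] at hcf
    rw [hSidx] at hm
    generalize Nat.card (MulAction.fixedBy (G ⧸ (S : Subgroup G)) w) = f at hm hcf
    omega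
  have hAsub : ∀ y ∈ Af, y = w ∨ y = r1 ∨ y ∈ Bf := by
    intro y hy
    rw [hAmem] at hy
    by_cases hyT : y ∈ T
    · rcases hconjw y hyT hy.1 with h | h
      · exact Or.inl h
      · exact Or.inr (Or.inl h)
    · right; right
      rw [hBmem]
      refine ⟨hy.2, hyT, ?_⟩
      have hyo : orderOf y = 2 := by rw [orderOf_of_isConj hy.1, hwo]
      have := pow_orderOf_eq_one y
      rwa [hyo, pow_two] at this
  have hall : ∀ x ∈ Bf, IsConj w x := by
    intro x0 hx0
    by_contra hcon
    have hsub : Af ⊆ insert w (insert r1 (Bf.erase x0)) := by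
      intro y hy
      rcases hAsub y hy with h | h | h
      · rw [h]; exact Finset.mem_insert_self _ _
      · rw [h]; exact Finset.mem_insert_of_mem (Finset.mem_insert_self _ _)
      · apply Finset.mem_insert_of_mem
        apply Finset.mem_insert_of_mem
        rw [Finset.mem_erase]
        refine ⟨?_, h⟩
        intro hyx
        rw [hyx] at hy
        exact hcon ((hAmem x0).mp hy).1
    have h1 := Finset.card_le_card hsub
    have h2 := Finset.card_insert_le w (insert r1 (Bf.erase x0))
    have h3 := Finset.card_insert_le r1 (Bf.erase x0)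
    have h4 := Finset.card_erase_of_mem hx0
    have h5 : 0 < Bf.card := Finset.card_pos.mpr ⟨x0, hx0⟩
    omega
  -- `z` is isolated
  apply not_isolated hG S z hzo (hTS hzT)
  intro h hh
  have hc : IsConj z (h * z * h⁻¹) := isConj_iff.mpr ⟨h, rfl⟩
  by_cases hT' : h * z * h⁻¹ ∈ T
  · exact hconjz _ hT' hc
  · exfalso
    have hy2 : (h * z * h⁻¹) * (h * z * h⁻¹) = 1 := by
      calc (h * z * h⁻¹) * (h * z * h⁻¹) = h * (z * z) * h⁻¹ := by group
        _ = 1 := by rw [hz2]; group
    have hB : h * z * h⁻¹ ∈ Bf := (hBmem _).mpr ⟨hh, hT', hy2⟩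
    exact hnwz _ (hall _ hB) hc.symm

end Cfsg.Agent.Lib.Helper29.Ord5040
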