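import Mathlib
import Cfsg.Agent.Lib.Helper7.SylowBasic
import Cfsg.Agent.Lib.Helper7.PrimeSylowCount
import Cfsg.Agent.Lib.Helper2.Column
import Cfsg.Agent.S0989
import Cfsg.Agent.S0990
import Cfsg.Agent.S0991
import Cfsg.Agent.Lib.Helper29.SharpThree

/-!
# Simple groups of order 504 (helper29 library)

A simple group of order `504 = 2^3 * 3^2 * 7` acts sharply 3-transitively on its nine Sylow
2-subgroups, hence is `PSL₂(𝔽₈)` by `SharpThree.main`.
-/

set_option autoImplicit false
set_option linter.unusedVariables false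
set_option linter.unusedSectionVars false
set_option linter.style.haveILetI false
set_option linter.deprecated false

namespace Cfsg.Agent.Helper29.Order504

open Cfsg.Agent.Lib.Helper7

/-! ## Numerical lemmas -/

theorem num7 (m n : ℕ) (h : m * n = 504) (hm : 7 ∣ m) (h8 : 8 ≤ n) (hmod : n % 7 = 1)
    (hne : n ≠ 8) : n = 36 := by
  obtain ⟨j, rfl⟩ := hm
  have h72 : j * n = 72 := by
    have : 7 * (j * n) = 504 := by rw [← mul_assoc]; exact h
    omega
  have hn : n ≤ 72 := Nat.le_of_dvd (by norm_num) (Dvd.intro_left j h72)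
  interval_cases n <;> omega

theorem num3 (m n : ℕ) (h : m * n = 504) (hm : 9 ∣ m) (h8 : 8 ≤ n) (hmod : n % 3 = 1) :
    n = 28 := by
  obtain ⟨j, rfl⟩ := hm
  have h56 : j * n = 56 := by
    have : 9 * (j * n) = 504 := by rw [← mul_assoc]; exact h
    omega
  have hn : n ≤ 56 := Nat.le_of_dvd (by norm_num) (Dvd.intro_left j h56)
  interval_cases n <;> omega

theorem num2 (m n : ℕ) (h : m * n = 504) (hm : 8 ∣ m) (h8 : 8 ≤ n) (h9 : n ≤ 9) : n = 9 := by
  obtain ⟨j, rfl⟩ := hm
  have h63 : j * n = 63 := by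
    have : 8 * (j * n) = 504 := by rw [← mul_assoc]; exact h
    omega
  interval_cases n <;> omega

theorem numM (c n k : ℕ) (hc : c ∣ 504) (h7 : ¬ 7 ∣ c) (hnk : k * n = c) (h9 : 9 ∣ k)
    (hmod : n % 3 = 1) (hn1 : n ≠ 1) : (c = 36 ∧ k = 9) ∨ c = 72 := by
  have hcop : Nat.Coprime c 7 :=
    Nat.coprime_comm.mp ((Nat.Prime.coprime_iff_not_dvd (by norm_num)).mpr h7)
  have hc72 : c ∣ 72 := by
    have hc' : c ∣ 72 * 7 := hc
    exact Nat.Coprime.dvd_of_dvd_mul_right hcop hc'
  obtain ⟨j, rfl⟩ := h9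
  subst hnk
  obtain ⟨t, ht⟩ := hc72
  have h8 : j * n * t = 8 := by
    have : 9 * (j * n * t) = 72 := by rw [ht]; ring
    omega
  have hn8 : n ∣ 8 := ⟨j * t, by rw [← h8]; ring⟩
  have hn : n ≤ 8 := Nat.le_of_dvd (by norm_num) hn8
  interval_cases n <;> try omega
  have hjt : j * t = 2 := by
    have : 4 * (j * t) = 8 := by rw [← h8]; ring
    omega
  have hj2 : j ∣ 2 := ⟨t, hjt.symm⟩
  have hj : j ≤ 2 := Nat.le_of_dvd (by norm_num) hj2
  interval_cases j <;> omega

theorem numN (c i : ℕ) (h : c * i = 504) (h8 : 8 ∣ c) (h36 : 36 ∣ c) : i = 7 ∨ i = 1 := by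
  have h72 : 72 ∣ c := by omega
  obtain ⟨m, rfl⟩ := h72
  have h7 : m * i = 7 := by
    have : 72 * (m * i) = 504 := by rw [← mul_assoc]; exact h
    omega
  have hi : i ∣ 7 := Dvd.intro_left m h7
  rcases (Nat.dvd_prime (by norm_num)).mp hi with h1 | h7'
  · right; exact h1
  · left; exact h7'

theorem numW (c t : ℕ) (h18 : c ∣ 18) (h2 : 2 ∣ c) (hne : c ≠ 18) (hct : c * t = 504)
    (ht : t ≤ 63) : False := by
  have hc : c ≤ 18 := Nat.le_of_dvd (by norm_num) h18
  interval_cases c <;> omega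

theorem numU (c t : ℕ) (h7 : ¬ 7 ∣ c) (h3 : ¬ 3 ∣ c) (hct : c * t = 504) (ht : t ≤ 63) :
    c = 8 ∧ t = 63 := by
  interval_cases t <;> omega

/-! ## Generalities -/

section General

variable {G : Type*} [Group G]

theorem eq_one_of_pow_coprime {x : G} {m n : ℕ} (hm : x ^ m = 1) (hn : x ^ n = 1)
    (hmn : Nat.Coprime m n) : x = 1 := by
  have h1 := orderOf_dvd_iff_pow_eq_one.mpr hm
  have h2 := orderOf_dvd_iff_pow_eq_one.mpr hn
  exact orderOf_eq_one_iff.mp (Nat.eq_one_of_dvd_coprimes hmn h1 h2)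

theorem orderOf_of_isConj {a b : G} (h : IsConj a b) : orderOf b = orderOf a := by
  obtain ⟨c, rfl⟩ := isConj_iff.mp h
  have := MulEquiv.orderOf_eq (MulAut.conj c) a
  rwa [MulAut.conj_apply] at this

theorem comm_of_sq {a b : G} (ha : a * a = 1) (hb : b * b = 1) (hab : a * b * (a * b) = 1) :
    a * b = b * a := by
  have ha' : a⁻¹ = a := inv_eq_of_mul_eq_one_left ha
  have hb' : b⁻¹ = b := inv_eq_of_mul_eq_one_left hb
  have h1 : (a * b)⁻¹ = a * b := inv_eq_of_mul_eq_one_left hab
  rw [mul_inv_rev, ha', hb'] at h1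
  exact h1.symm

theorem isMulCommutative_of_card_prime {H : Subgroup G} {p : ℕ} [Fact p.Prime]
    (h : Nat.card H = p) : IsMulCommutative H := by
  have hcyc : IsCyclic H := isCyclic_of_prime_card h
  exact ⟨⟨fun a b => (IsCyclic.commGroup (α := H)).mul_comm a b⟩⟩

theorem sylow_mod (p : ℕ) [Fact p.Prime] (H : Type*) [Group H] [Finite H] :
    Nat.card (Sylow p H) % p = 1 := by
  have hmod : Nat.card (Sylow p H) ≡ 1 [MOD p] := card_sylow_modEq_one p H
  unfold Nat.ModEq at hmod
  rw [hmod]
  exact Nat.mod_eq_of_lt (Fact.out : p.Prime).one_lt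

/-- a 2-element normalizing a Sylow 2-subgroup lies in it -/
theorem two_elt_normalizer (P : Sylow 2 G) (y : G) (hy8 : y ^ 8 = 1)
    (hyN : y ∈ Subgroup.normalizer ((P : Subgroup G) : Set G)) : y ∈ (P : Subgroup G) := by
  have hpg : IsPGroup 2 (Subgroup.zpowers y) := by
    have hd0 : orderOf y ∣ 8 := orderOf_dvd_iff_pow_eq_one.mpr hy8
    have hd : orderOf y ∣ 2 ^ 3 := hd0
    obtain ⟨k, -, hk⟩ := (Nat.dvd_prime_pow Nat.prime_two).mp hd
    exact IsPGroup.of_card (n := k) (by rw [Nat.card_zpowers, hk])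
  have hinf := hpg.inf_normalizer_sylow P
  have hmem : y ∈ Subgroup.zpowers y ⊓ (P : Subgroup G) := by
    rw [← hinf]
    exact Subgroup.mem_inf.mpr ⟨Subgroup.mem_zpowers y, hyN⟩
  exact (Subgroup.mem_inf.mp hmem).2

/-- counting the nonidentity elements of TI Sylow subgroups -/
theorem card_sigma_TI [Finite G] {p : ℕ} [Fact p.Prime] (k : ℕ)
    (hcard : ∀ Q : Sylow p G, Nat.card (Q : Subgroup G) = k)
    (hTI : ∀ (P Q : Sylow p G) (d : G), d ≠ 1 → d ∈ (P : Subgroup G) → d ∈ (Q : Subgroup G) →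
      P = Q) :
    Nat.card (Sylow p G) * (k - 1) ≤ ({g : G | g ≠ 1 ∧ g ^ k = 1} : Set G).ncard := by
  classical
  haveI : Fintype (Sylow p G) := Fintype.ofFinite _
  have h3 : ∀ Q : Sylow p G, Nat.card {x : (Q : Subgroup G) // x ≠ 1} = k - 1 := by
    intro Q
    haveI : Fintype (Q : Subgroup G) := Fintype.ofFinite _
    rw [Nat.card_eq_fintype_card, Fintype.card_subtype_compl, Fintype.card_subtype_eq,
      ← Nat.card_eq_fintype_card, hcard Q]
  have hsig : Nat.card (Σ Q : Sylow p G, {x : (Q : Subgroup G) // x ≠ 1}) =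
      Nat.card (Sylow p G) * (k - 1) := by
    rw [Nat.card_sigma]
    simp only [h3, Finset.sum_const, Finset.card_univ, smul_eq_mul, Nat.card_eq_fintype_card]
  have hmem : ∀ z : (Σ Q : Sylow p G, {x : (Q : Subgroup G) // x ≠ 1}),
      (z.2.1 : G) ∈ ({g : G | g ≠ 1 ∧ g ^ k = 1} : Set G) := by
    intro z
    refine ⟨fun h => z.2.2 (Subtype.ext h), ?_⟩
    have := Subgroup.orderOf_dvd_natCard (z.1 : Subgroup G) z.2.1.2
    rw [hcard z.1] at this
    exact orderOf_dvd_iff_pow_eq_one.mp this
  let φ : (Σ Q : Sylow p G, {x : (Q : Subgroup G) // x ≠ 1}) →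
      ↥({g : G | g ≠ 1 ∧ g ^ k = 1} : Set G) := fun z => ⟨(z.2.1 : G), hmem z⟩
  have hφ : Function.Injective φ := by
    rintro ⟨Q₁, x₁, hx₁⟩ ⟨Q₂, x₂, hx₂⟩ h
    have hval : (x₁ : G) = (x₂ : G) := congrArg Subtype.val h
    have hx₁' : (x₁ : G) ≠ 1 := fun h' => hx₁ (Subtype.ext h')
    have hQ : Q₁ = Q₂ := hTI Q₁ Q₂ (x₁ : G) hx₁' x₁.2 (by rw [hval]; exact x₂.2)
    subst hQ
    have hx : x₁ = x₂ := Subtype.ext hval
    subst hx
    rfl
  rw [← hsig, ← Nat.card_coe_set_eq]
  exact Nat.card_le_card_of_injective φ hφ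

/-- the embedding of an ordered triple of distinct points -/
def tripleEmb {α : Type*} (a b c : α) (hab : a ≠ b) (hac : a ≠ c) (hbc : b ≠ c) : Fin 3 ↪ α :=
  ⟨![a, b, c], by
    intro i j h
    fin_cases i <;> fin_cases j <;>
      first
        | rfl
        | (exfalso; revert h; simp [hab, hac, hbc, hab.symm, hac.symm, hbc.symm])⟩

end General

/-! ## The group of order 504 -/

section Main

variable {G : Type*} [Group G] [Finite G] [IsSimpleGroup G]

theorem ncomm (hG : Nat.card G = 504) : ¬ IsMulCommutative G := by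
  intro h
  letI : CommGroup G := { ‹Group G› with mul_comm := h.is_comm.comm }
  have hprime : (Nat.card G).Prime := IsSimpleGroup.prime_card
  rw [hG] at hprime
  norm_num at hprime

theorem index_ne_seven (hG : Nat.card G = 504) (H : Subgroup G) : H.index ≠ 7 := by
  intro h7
  have hHtop : H ≠ ⊤ := by
    intro h
    rw [h, Subgroup.index_top] at h7
    norm_num at h7
  have key : ∀ k : ℕ, k = H.index →
      (∃ f : G →* ↥(alternatingGroup (Fin k)), Function.Injective f) := by
    intro k hk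
    subst hk
    exact Cfsg.Agent.S0991.result (ncomm hG) _ hHtop
  obtain ⟨f, hf⟩ := key 7 h7.symm
  haveI : IsSimpleGroup ↥(alternatingGroup (Fin 7)) :=
    alternatingGroup.isSimpleGroup (by rw [Nat.card_eq_fintype_card, Fintype.card_fin]; norm_num)
  have hfact : Nat.factorial 7 / 2 = 2520 := by decide
  have hA : Nat.card ↥(alternatingGroup (Fin 7)) = 2520 := by
    rw [nat_card_alternatingGroup, Nat.card_eq_fintype_card, Fintype.card_fin, hfact]
  have hR : Nat.card f.range = 504 := by
    rw [← hG]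
    exact (Nat.card_congr (MonoidHom.ofInjective hf).toEquiv).symm
  have hidx : f.range.index = 5 := by
    have := f.range.card_mul_index
    rw [hR, hA] at this
    omega
  have hne : f.range ≠ ⊤ := by
    intro h
    rw [h, Subgroup.index_top] at hidx
    norm_num at hidx
  have hdvd := card_dvd_factorial_index_of_simple f.range hne
  have hfact5 : Nat.factorial 5 = 120 := by decide
  rw [hA, hidx, hfact5] at hdvd
  omega

theorem index_ge_eight (hG : Nat.card G = 504) (H : Subgroup G) (hH : H ≠ ⊤) :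
    8 ≤ H.index := by
  have hdvd := card_dvd_factorial_index_of_simple H hH
  rw [hG] at hdvd
  have h7 : 7 ∣ (H.index).factorial := dvd_trans (by norm_num) hdvd
  rw [Nat.Prime.dvd_factorial (by norm_num)] at h7
  have := index_ne_seven hG H
  omega

theorem card_ne_72 (hG : Nat.card G = 504) (H : Subgroup G) : Nat.card H ≠ 72 := by
  intro h
  have := H.card_mul_index
  rw [h, hG] at this
  exact index_ne_seven hG H (by omega)

theorem sylow_count_facts (hG : Nat.card G = 504) {p : ℕ} [Fact p.Prime] (P : Sylow p G)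
    (h1 : Nat.card (P : Subgroup G) ≠ 1) (h2 : Nat.card (P : Subgroup G) ≠ 504) :
    8 ≤ Nat.card (Sylow p G) ∧ Nat.card (Sylow p G) % p = 1 ∧
    Nat.card (Subgroup.normalizer ((P : Subgroup G) : Set G)) * Nat.card (Sylow p G) = 504 := by
  have hn1 : Nat.card (Sylow p G) ≠ 1 :=
    card_sylow_ne_one_of_simple P h1 (by rw [hG]; exact h2)
  have hidx : Nat.card (Sylow p G) = (Subgroup.normalizer ((P : Subgroup G) : Set G)).index :=
    Sylow.card_eq_index_normalizer P
  have hNtop : Subgroup.normalizer ((P : Subgroup G) : Set G) ≠ ⊤ := by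
    intro h
    rw [h, Subgroup.index_top] at hidx
    exact hn1 hidx
  refine ⟨?_, sylow_mod p G, ?_⟩
  · rw [hidx]; exact index_ge_eight hG _ hNtop
  · rw [hidx, Subgroup.card_mul_index, hG]

theorem card_sylow7 (hG : Nat.card G = 504) (P : Sylow 7 G) :
    Nat.card (P : Subgroup G) = 7 := by
  haveI : Fact (Nat.Prime 7) := ⟨by norm_num⟩
  have := card_sylow_subgroup_eq P 1 72 (by rw [hG]; norm_num) (by norm_num)
  rw [this]; norm_num

theorem card_sylow3 (hG : Nat.card G = 504) (P : Sylow 3 G) :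
    Nat.card (P : Subgroup G) = 9 := by
  have := card_sylow_subgroup_eq P 2 56 (by rw [hG]; norm_num) (by norm_num)
  rw [this]; norm_num

theorem card_sylow2 (hG : Nat.card G = 504) (P : Sylow 2 G) :
    Nat.card (P : Subgroup G) = 8 := by
  have := card_sylow_subgroup_eq P 3 63 (by rw [hG]; norm_num) (by norm_num)
  rw [this]; norm_num

theorem n7_ne_eight (hG : Nat.card G = 504) : Nat.card (Sylow 7 G) ≠ 8 := by
  haveI : Fact (Nat.Prime 7) := ⟨by norm_num⟩
  intro hn8
  obtain ⟨P⟩ : Nonempty (Sylow 7 G) := inferInstance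
  have hP : Nat.card (P : Subgroup G) = 7 := card_sylow7 hG P
  have hHidx : (Subgroup.normalizer ((P : Subgroup G) : Set G)).index = 8 := by
    rw [← hn8]
    exact (Sylow.card_eq_index_normalizer P).symm
  have hHtop : Subgroup.normalizer ((P : Subgroup G) : Set G) ≠ ⊤ := by
    intro h
    rw [h, Subgroup.index_top] at hHidx
    norm_num at hHidx
  have hHcard : Nat.card (Subgroup.normalizer ((P : Subgroup G) : Set G)) = 63 := by
    have := (Subgroup.normalizer ((P : Subgroup G) : Set G)).card_mul_index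
    rw [hHidx, hG] at this
    omega
  have key : ∀ k : ℕ, k = (Subgroup.normalizer ((P : Subgroup G) : Set G)).index →
      (∃ f : G →* ↥(alternatingGroup (Fin k)), Function.Injective f) := by
    intro k hk
    subst hk
    exact Cfsg.Agent.S0991.result (ncomm hG) _ hHtop
  obtain ⟨f, hf⟩ := key 8 hHidx.symm
  have hcardα : Fintype.card (Fin 8) = 8 := Fintype.card_fin 8
  have hPerm : Nat.card (Equiv.Perm (Fin 8)) = 7 ^ 1 * (8 * Nat.factorial 6) := by
    rw [Nat.card_eq_fintype_card, Fintype.card_perm, hcardα]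
    decide
  have hm : ¬ 7 ∣ 8 * Nat.factorial 6 := by
    intro h
    rcases (Nat.Prime.dvd_mul (by norm_num)).mp h with h | h
    · norm_num at h
    · rw [Nat.Prime.dvd_factorial (by norm_num)] at h
      norm_num at h
  have hginj : Function.Injective ((alternatingGroup (Fin 8)).subtype.comp f) :=
    (Subgroup.subtype_injective _).comp hf
  have hP' : IsPGroup 7 ((P : Subgroup G).map ((alternatingGroup (Fin 8)).subtype.comp f)) :=
    P.isPGroup'.map _
  obtain ⟨Q, hQ⟩ := hP'.exists_le_sylow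
  have hQcard : Nat.card (Q : Subgroup (Equiv.Perm (Fin 8))) = 7 := by
    have := card_sylow_subgroup_eq Q 1 _ hPerm hm
    simpa using this
  have hPQ : (P : Subgroup G).map ((alternatingGroup (Fin 8)).subtype.comp f) =
      (Q : Subgroup (Equiv.Perm (Fin 8))) := by
    apply Subgroup.eq_of_le_of_card_ge hQ
    rw [Subgroup.card_map_of_injective hginj, hP, hQcard]
  have h89 := Cfsg.Agent.S0989.result (α := Fin 8) 7 (Or.inr hcardα) Q
  have h90 := (Cfsg.Agent.S0990.result (α := Fin 8) (by rw [hcardα]; norm_num) 7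
    (by norm_num) Q).2
  have hQA : ((Q : Subgroup (Equiv.Perm (Fin 8))).subgroupOf (alternatingGroup (Fin 8))) =
      (P : Subgroup G).map f := by
    rw [← hPQ]
    show (((P : Subgroup G).map ((alternatingGroup (Fin 8)).subtype.comp f))).comap
      (alternatingGroup (Fin 8)).subtype = _
    rw [← Subgroup.map_map, Subgroup.comap_map_eq_self_of_injective
      (Subgroup.subtype_injective _)]
  rw [hQA] at h90
  have hle := Subgroup.le_normalizer_map (H := (P : Subgroup G)) f
  have hdvd := Subgroup.card_dvd_of_le hle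
  rw [Subgroup.card_map_of_injective hf, hHcard] at hdvd
  rw [h89] at h90
  omega

theorem sylow7_facts (hG : Nat.card G = 504) (P : Sylow 7 G) :
    Nat.card (Sylow 7 G) = 36 ∧
      Nat.card (Subgroup.normalizer ((P : Subgroup G) : Set G)) = 14 := by
  haveI : Fact (Nat.Prime 7) := ⟨by norm_num⟩
  have hP := card_sylow7 hG P
  obtain ⟨h8, hmod, hmul⟩ :=
    sylow_count_facts hG P (by rw [hP]; norm_num) (by rw [hP]; norm_num)
  have hdvd : 7 ∣ Nat.card (Subgroup.normalizer ((P : Subgroup G) : Set G)) := by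
    have h0 := Subgroup.card_dvd_of_le (Subgroup.le_normalizer (H := (P : Subgroup G)))
    rwa [hP] at h0
  have h36 := num7 _ _ hmul hdvd h8 hmod (n7_ne_eight hG)
  refine ⟨h36, ?_⟩
  rw [h36] at hmul
  omega

theorem sylow3_facts (hG : Nat.card G = 504) (P : Sylow 3 G) :
    Nat.card (Sylow 3 G) = 28 ∧
      Nat.card (Subgroup.normalizer ((P : Subgroup G) : Set G)) = 18 := by
  have hP := card_sylow3 hG P
  obtain ⟨h8, hmod, hmul⟩ :=
    sylow_count_facts hG P (by rw [hP]; norm_num) (by rw [hP]; norm_num)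
  have hdvd : 9 ∣ Nat.card (Subgroup.normalizer ((P : Subgroup G) : Set G)) := by
    have h0 := Subgroup.card_dvd_of_le (Subgroup.le_normalizer (H := (P : Subgroup G)))
    rwa [hP] at h0
  have h28 := num3 _ _ hmul hdvd h8 hmod
  refine ⟨h28, ?_⟩
  rw [h28] at hmul
  omega

/-- an abelian Sylow subgroup with `|N(P)| = 2|P|` is self-centralizing -/
theorem centralizer_sylow_eq {p : ℕ} [Fact p.Prime] (P : Sylow p G)
    (hab : IsMulCommutative (P : Subgroup G))
    (hN : Nat.card (Subgroup.normalizer ((P : Subgroup G) : Set G)) =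
      2 * Nat.card (P : Subgroup G))
    (hdvd : p ∣ Nat.card G) (hGp : Nat.card G ≠ p) :
    Subgroup.centralizer ((P : Subgroup G) : Set G) = (P : Subgroup G) := by
  have hPC : (P : Subgroup G) ≤ Subgroup.centralizer ((P : Subgroup G) : Set G) :=
    Subgroup.le_centralizer_iff_isMulCommutative.mpr hab
  have hCN : Subgroup.centralizer ((P : Subgroup G) : Set G) ≤
      Subgroup.normalizer ((P : Subgroup G) : Set G) :=
    Subgroup.centralizer_le_normalizer _
  have h1 := Subgroup.card_dvd_of_le hPC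
  have h2 := Subgroup.card_dvd_of_le hCN
  rw [hN] at h2
  obtain ⟨a, ha⟩ := h1
  have hpos : 0 < Nat.card (P : Subgroup G) := Nat.card_pos
  rw [ha] at h2
  have ha2 : a ∣ 2 := by
    have h2' : Nat.card (P : Subgroup G) * a ∣ Nat.card (P : Subgroup G) * 2 := by
      rw [mul_comm (Nat.card (P : Subgroup G)) 2]; exact h2
    exact (Nat.mul_dvd_mul_iff_left hpos).mp h2'
  rcases (Nat.dvd_prime Nat.prime_two).mp ha2 with rfl | rfl
  · symm
    apply Subgroup.eq_of_le_of_card_ge hPC
    rw [ha, mul_one]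
  · exfalso
    have hCeqN : Subgroup.centralizer ((P : Subgroup G) : Set G) =
        Subgroup.normalizer ((P : Subgroup G) : Set G) := by
      apply Subgroup.eq_of_le_of_card_ge hCN
      rw [hN, ha]
      omega
    exact hGp (card_eq_prime_of_simple_of_normalizer_le_centralizer P hdvd hCeqN.ge)

theorem centralizer_sylow7 (hG : Nat.card G = 504) (P : Sylow 7 G) :
    Subgroup.centralizer ((P : Subgroup G) : Set G) = (P : Subgroup G) := by
  haveI : Fact (Nat.Prime 7) := ⟨by norm_num⟩
  exact centralizer_sylow_eq P (isMulCommutative_of_card_prime (card_sylow7 hG P))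
    (by rw [(sylow7_facts hG P).2, card_sylow7 hG P]) (by rw [hG]; norm_num)
    (by rw [hG]; norm_num)

theorem sylow3_comm (hG : Nat.card G = 504) (P : Sylow 3 G) :
    IsMulCommutative (P : Subgroup G) :=
  IsPGroup.isMulCommutative_of_card_eq_prime_sq (p := 3) (by rw [card_sylow3 hG P]; norm_num)

theorem centralizer_sylow3 (hG : Nat.card G = 504) (P : Sylow 3 G) :
    Subgroup.centralizer ((P : Subgroup G) : Set G) = (P : Subgroup G) :=
  centralizer_sylow_eq P (sylow3_comm hG P)
    (by rw [(sylow3_facts hG P).2, card_sylow3 hG P]) (by rw [hG]; norm_num)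
    (by rw [hG]; norm_num)

/-- elements of order 7 are self-centralizing -/
theorem mem_zpowers_of_comm_seven (hG : Nat.card G = 504) (g x : G) (hg : orderOf g = 7)
    (hx : x * g = g * x) : x ∈ Subgroup.zpowers g := by
  haveI : Fact (Nat.Prime 7) := ⟨by norm_num⟩
  obtain ⟨P0⟩ : Nonempty (Sylow 7 G) := inferInstance
  have hmult : 7 ^ (Nat.card G).factorization 7 = 7 := by
    rw [← Sylow.card_eq_multiplicity P0, card_sylow7 hG P0]
  have hz : Nat.card (Subgroup.zpowers g) = 7 ^ (Nat.card G).factorization 7 := by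
    rw [Nat.card_zpowers, hg, hmult]
  have hC := centralizer_sylow7 hG (Sylow.ofCard (Subgroup.zpowers g) hz)
  have hPcoe : ((Sylow.ofCard (Subgroup.zpowers g) hz : Sylow 7 G) : Subgroup G) =
      Subgroup.zpowers g := rfl
  rw [hPcoe] at hC
  have hxC : x ∈ Subgroup.centralizer ((Subgroup.zpowers g : Subgroup G) : Set G) := by
    rw [Subgroup.mem_centralizer_iff]
    intro y hy
    have hy' : y ∈ Subgroup.zpowers g := hy
    obtain ⟨k, rfl⟩ := Subgroup.mem_zpowers_iff.mp hy'
    have hc : Commute x g := hx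
    exact ((hc.zpow_right k).eq).symm
  rw [hC] at hxC
  exact hxC

theorem pow_seven_of_comm_seven (hG : Nat.card G = 504) (g x : G) (hg : orderOf g = 7)
    (hx : x * g = g * x) : x ^ 7 = 1 := by
  have h1 := orderOf_dvd_of_mem_zpowers (mem_zpowers_of_comm_seven hG g x hg hx)
  rw [hg] at h1
  exact orderOf_dvd_iff_pow_eq_one.mp h1

theorem seven_not_dvd_centralizer (hG : Nat.card G = 504) (x : G) (m : ℕ) (hxm : x ^ m = 1)
    (hm : Nat.Coprime 7 m) (hx1 : x ≠ 1) :
    ¬ 7 ∣ Nat.card (Subgroup.centralizer ({x} : Set G)) := by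
  haveI : Fact (Nat.Prime 7) := ⟨by norm_num⟩
  intro h7
  obtain ⟨g, hg⟩ :=
    exists_prime_orderOf_dvd_card' (G := ↥(Subgroup.centralizer ({x} : Set G))) 7 h7
  have hg' : orderOf (g : G) = 7 := by rw [Subgroup.orderOf_coe]; exact hg
  have hcomm : x * (g : G) = (g : G) * x :=
    (Subgroup.mem_centralizer_singleton_iff.mp g.2).symm
  exact hx1 (eq_one_of_pow_coprime (pow_seven_of_comm_seven hG (g : G) x hg' hcomm) hxm hm)

/-- Sylow 3-subgroups intersect trivially -/
theorem sylow3_TI (hG : Nat.card G = 504) (P Q : Sylow 3 G) (d : G) (hd1 : d ≠ 1)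
    (hdP : d ∈ (P : Subgroup G)) (hdQ : d ∈ (Q : Subgroup G)) : P = Q := by
  by_contra hPQ
  have hd9 : d ^ 9 = 1 := by
    have := Subgroup.orderOf_dvd_natCard (P : Subgroup G) hdP
    rw [card_sylow3 hG P] at this
    exact orderOf_dvd_iff_pow_eq_one.mp this
  have h7M0 := seven_not_dvd_centralizer hG d 9 hd9 (by norm_num) hd1
  have hPM0 : (P : Subgroup G) ≤ Subgroup.centralizer ({d} : Set G) := by
    intro y hy
    rw [Subgroup.mem_centralizer_singleton_iff]
    have := (sylow3_comm hG P).is_comm.comm ⟨y, hy⟩ ⟨d, hdP⟩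
    exact congrArg Subtype.val this
  have hQM0 : (Q : Subgroup G) ≤ Subgroup.centralizer ({d} : Set G) := by
    intro y hy
    rw [Subgroup.mem_centralizer_singleton_iff]
    have := (sylow3_comm hG Q).is_comm.comm ⟨y, hy⟩ ⟨d, hdQ⟩
    exact congrArg Subtype.val this
  obtain ⟨M, hM⟩ : ∃ M : Subgroup G, M = Subgroup.centralizer ({d} : Set G) := ⟨_, rfl⟩
  rw [← hM] at h7M0 hPM0 hQM0
  have hMdvd : Nat.card ↥M ∣ 504 := by rw [← hG]; exact Subgroup.card_subgroup_dvd_card M
  obtain ⟨P', hP'⟩ : ∃ P' : Sylow 3 ↥M, P' = P.subtype hPM0 := ⟨_, rfl⟩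
  have hP'coe : (P' : Subgroup ↥M) = (P : Subgroup G).subgroupOf M := by
    rw [hP']; exact Sylow.coe_subtype P hPM0
  have hP'c : Nat.card (P' : Subgroup ↥M) = 9 := by
    rw [hP'coe, Nat.card_congr (Subgroup.subgroupOfEquivOfLe hPM0).toEquiv]
    exact card_sylow3 hG P
  have hmodM : Nat.card (Sylow 3 ↥M) % 3 = 1 := sylow_mod 3 ↥M
  have hn1M : Nat.card (Sylow 3 ↥M) ≠ 1 := by
    intro h1
    have hsub : Subsingleton (Sylow 3 ↥M) := (Nat.card_eq_one_iff_unique.mp h1).1
    have : P.subtype hPM0 = Q.subtype hQM0 := Subsingleton.elim _ _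
    exact hPQ (Sylow.subtype_injective this)
  have hidxM : Nat.card (Sylow 3 ↥M) =
      (Subgroup.normalizer ((P' : Subgroup ↥M) : Set ↥M)).index :=
    Sylow.card_eq_index_normalizer P'
  have hmulM := (Subgroup.normalizer ((P' : Subgroup ↥M) : Set ↥M)).card_mul_index
  rw [← hidxM] at hmulM
  have h9k : 9 ∣ Nat.card (Subgroup.normalizer ((P' : Subgroup ↥M) : Set ↥M)) := by
    rw [← hP'c]; exact Subgroup.card_dvd_of_le Subgroup.le_normalizer
  rcases numM _ _ _ hMdvd h7M0 hmulM h9k hmodM hn1M with ⟨hMc, hk9⟩ | hM72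
  · -- `|M| = 36`, `N_M(P') = P'`: Burnside's transfer gives a normal subgroup of order 4
    have hP'comm : IsMulCommutative (P' : Subgroup ↥M) :=
      IsPGroup.isMulCommutative_of_card_eq_prime_sq (p := 3) (by rw [hP'c]; norm_num)
    have hNeq : (P' : Subgroup ↥M) = Subgroup.normalizer ((P' : Subgroup ↥M) : Set ↥M) :=
      Subgroup.eq_of_le_of_card_ge Subgroup.le_normalizer (by rw [hk9, hP'c])
    have hle : Subgroup.normalizer ((P' : Subgroup ↥M) : Set ↥M) ≤
        Subgroup.centralizer ((P' : Subgroup ↥M) : Set ↥M) :=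
      hNeq.ge.trans (Subgroup.le_centralizer_iff_isMulCommutative.mpr hP'comm)
    obtain ⟨K, hKn, hKc⟩ : ∃ K : Subgroup ↥M, K.Normal ∧ K.IsComplement' (P' : Subgroup ↥M) :=
      ⟨_, MonoidHom.normal_ker _, MonoidHom.ker_transferSylow_isComplement' P' hle⟩
    haveI := hKn
    have hKcard : Nat.card K = 4 := by
      have := hKc.card_mul_card
      rw [hP'c, hMc] at this
      omega
    have hK0card : Nat.card (K.map M.subtype) = 4 := by
      rw [Subgroup.card_map_of_injective (Subgroup.subtype_injective M), hKcard]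
    have hMN : M ≤ Subgroup.normalizer ((K.map M.subtype : Subgroup G) : Set G) := by
      have h1 := Subgroup.le_normalizer_map (H := K) M.subtype
      rw [Subgroup.normalizer_eq_top, ← MonoidHom.range_eq_map, Subgroup.range_subtype] at h1
      exact h1
    have h8N : 2 ^ (2 + 1) ∣
        Nat.card (Subgroup.normalizer ((K.map M.subtype : Subgroup G) : Set G)) :=
      Sylow.prime_pow_dvd_card_normalizer (p := 2) (n := 2) (by rw [hG]; norm_num)
        (by rw [hK0card]; norm_num)
    have h8N' : 8 ∣ Nat.card (Subgroup.normalizer ((K.map M.subtype : Subgroup G) : Set G)) :=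
      h8N
    have h36N : 36 ∣
        Nat.card (Subgroup.normalizer ((K.map M.subtype : Subgroup G) : Set G)) := by
      rw [← hMc]; exact Subgroup.card_dvd_of_le hMN
    have hNidx :=
      (Subgroup.normalizer ((K.map M.subtype : Subgroup G) : Set G)).card_mul_index
    rw [hG] at hNidx
    rcases numN _ _ hNidx h8N' h36N with h7 | h1
    · exact index_ne_seven hG _ h7
    · rw [Subgroup.index_eq_one, Subgroup.normalizer_eq_top_iff] at h1
      rcases h1.eq_bot_or_eq_top with hb | ht
      · rw [hb, Subgroup.card_bot] at hK0card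
        norm_num at hK0card
      · rw [ht, Subgroup.card_top, hG] at hK0card
        norm_num at hK0card
  · exact card_ne_72 hG M hM72

/-- the centralizer of a nontrivial 3-element normalizes the Sylow 3-subgroup containing it -/
theorem centralizer_le_normalizer_TI3 (hG : Nat.card G = 504) (P : Sylow 3 G) (d : G)
    (hd1 : d ≠ 1) (hdP : d ∈ (P : Subgroup G)) :
    Subgroup.centralizer ({d} : Set G) ≤ Subgroup.normalizer ((P : Subgroup G) : Set G) := by
  intro x hx
  have hxd : x * d = d * x := Subgroup.mem_centralizer_singleton_iff.mp hx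
  have hconj : x * d * x⁻¹ = d := by rw [hxd, mul_inv_cancel_right]
  have hmem : d ∈ ((x • P : Sylow 3 G) : Subgroup G) := by
    rw [Sylow.coe_subgroup_smul]
    have h1 := Subgroup.smul_mem_pointwise_smul d (MulAut.conj x) (P : Subgroup G) hdP
    rw [MulAut.smul_def, MulAut.conj_apply, hconj] at h1
    exact h1
  have := sylow3_TI hG P (x • P) d hd1 hdP hmem
  exact Sylow.smul_eq_iff_mem_normalizer.mp this.symm

theorem card_order_seven (hG : Nat.card G = 504) :
    ({g : G | orderOf g = 7} : Set G).ncard = 216 := by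
  haveI : Fact (Nat.Prime 7) := ⟨by norm_num⟩
  obtain ⟨P⟩ : Nonempty (Sylow 7 G) := inferInstance
  have h := card_orderOf_eq_prime_of_card_sylow_eq_prime P (card_sylow7 hG P)
  rw [(sylow7_facts hG P).1] at h
  rw [← Nat.card_coe_set_eq]
  exact h.trans (by norm_num)

/-- at most 63 elements are neither of order 7 nor 3-elements -/
theorem count_le (hG : Nat.card G = 504) (T : Set G)
    (hT : ∀ g ∈ T, orderOf g ≠ 7 ∧ g ^ 9 ≠ 1) : T.ncard ≤ 63 := by
  have hA := card_order_seven hG
  have hB : 224 ≤ ({g : G | g ≠ 1 ∧ g ^ 9 = 1} : Set G).ncard := by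
    have h := card_sigma_TI (G := G) (p := 3) 9 (fun Q => card_sylow3 hG Q)
      (fun P Q d => sylow3_TI hG P Q d)
    obtain ⟨P⟩ : Nonempty (Sylow 3 G) := inferInstance
    rw [(sylow3_facts hG P).1] at h
    exact le_trans (by norm_num) h
  have h1 : Disjoint T {g : G | orderOf g = 7} := by
    rw [Set.disjoint_left]
    intro g hg hg7
    exact (hT g hg).1 hg7
  have h2 : Disjoint (T ∪ {g : G | orderOf g = 7}) {g : G | g ≠ 1 ∧ g ^ 9 = 1} := by
    rw [Set.disjoint_left]
    rintro g (hg | hg) ⟨hg1, hg9⟩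
    · exact (hT g hg).2 hg9
    · have h7 : orderOf g = 7 := hg
      have := orderOf_dvd_iff_pow_eq_one.mpr hg9
      rw [h7] at this
      norm_num at this
  have h3 : Disjoint (T ∪ {g : G | orderOf g = 7} ∪ {g : G | g ≠ 1 ∧ g ^ 9 = 1})
      ({1} : Set G) := by
    rw [Set.disjoint_left]
    rintro g ((hg | hg) | hg) hg1
    · rw [Set.mem_singleton_iff] at hg1
      subst hg1
      exact (hT 1 hg).2 (one_pow 9)
    · rw [Set.mem_singleton_iff] at hg1
      subst hg1
      have h7 : orderOf (1 : G) = 7 := hg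
      rw [orderOf_one] at h7
      norm_num at h7
    · rw [Set.mem_singleton_iff] at hg1
      exact hg.1 hg1
  have hle := Set.ncard_le_ncard (Set.subset_univ
    (T ∪ {g : G | orderOf g = 7} ∪ {g : G | g ≠ 1 ∧ g ^ 9 = 1} ∪ ({1} : Set G)))
  rw [Set.ncard_union_eq h3, Set.ncard_union_eq h2, Set.ncard_union_eq h1,
    Set.ncard_singleton, Set.ncard_univ, hG, hA] at hle
  omega

/-- the centralizer of an involution has order prime to 3 -/
theorem three_not_dvd_centralizer_invol (hG : Nat.card G = 504) (u : G) (hu : orderOf u = 2) :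
    ¬ 3 ∣ Nat.card (Subgroup.centralizer ({u} : Set G)) := by
  intro h3
  obtain ⟨d0, hd0⟩ :=
    exists_prime_orderOf_dvd_card' (G := ↥(Subgroup.centralizer ({u} : Set G))) 3 h3
  obtain ⟨d, hdmem, hd⟩ : ∃ d : G, d ∈ Subgroup.centralizer ({u} : Set G) ∧ orderOf d = 3 :=
    ⟨(d0 : G), d0.2, by rw [Subgroup.orderOf_coe]; exact hd0⟩
  have hdu : d * u = u * d := Subgroup.mem_centralizer_singleton_iff.mp hdmem
  have hcomm : Commute u d := hdu.symm
  have hu2 : u ^ 2 = 1 := by rw [← hu]; exact pow_orderOf_eq_one u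
  have hd3 : d ^ 3 = 1 := by rw [← hd]; exact pow_orderOf_eq_one d
  have hu1 : u ≠ 1 := by
    intro h; rw [h, orderOf_one] at hu; norm_num at hu
  have hd1 : d ≠ 1 := by
    intro h; rw [h, orderOf_one] at hd; norm_num at hd
  have hw6 : orderOf (u * d) = 6 := by
    rw [hcomm.orderOf_mul_eq_mul_orderOf_of_coprime (by rw [hu, hd]; norm_num), hu, hd]
  have hu3 : u ^ 3 = u := by
    calc u ^ 3 = u ^ 2 * u := pow_succ u 2
      _ = u := by rw [hu2, one_mul]
  have hu4 : u ^ 4 = 1 := orderOf_dvd_iff_pow_eq_one.mp (by rw [hu]; norm_num)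
  have hd4 : d ^ 4 = d := by
    calc d ^ 4 = d ^ 3 * d := pow_succ d 3
      _ = d := by rw [hd3, one_mul]
  have hw3 : (u * d) ^ 3 = u := by rw [hcomm.mul_pow, hu3, hd3, mul_one]
  have hw4 : (u * d) ^ 4 = d := by rw [hcomm.mul_pow, hu4, hd4, one_mul]
  have hpg : IsPGroup 3 (Subgroup.zpowers d) :=
    IsPGroup.of_card (n := 1) (by rw [Nat.card_zpowers, hd, pow_one])
  obtain ⟨P, hP⟩ := hpg.exists_le_sylow
  have hdP : d ∈ (P : Subgroup G) := hP (Subgroup.mem_zpowers d)
  have hCN : Subgroup.centralizer ({u * d} : Set G) ≤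
      Subgroup.normalizer ((P : Subgroup G) : Set G) := by
    intro x hx
    have hxw : x * (u * d) = (u * d) * x := Subgroup.mem_centralizer_singleton_iff.mp hx
    have hxd : x * d = d * x := by
      have hc : Commute x (u * d) := hxw
      have := hc.pow_right 4
      rw [hw4] at this
      exact this.eq
    exact centralizer_le_normalizer_TI3 hG P d hd1 hdP
      (Subgroup.mem_centralizer_singleton_iff.mpr hxd)
  have huC : u ∈ Subgroup.centralizer ({u * d} : Set G) := by
    rw [Subgroup.mem_centralizer_singleton_iff, mul_assoc, hdu]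
  have h2dvd : 2 ∣ Nat.card (Subgroup.centralizer ({u * d} : Set G)) := by
    have := Subgroup.orderOf_dvd_natCard _ huC
    rwa [hu] at this
  have hdvd18 : Nat.card (Subgroup.centralizer ({u * d} : Set G)) ∣ 18 := by
    rw [← (sylow3_facts hG P).2]; exact Subgroup.card_dvd_of_le hCN
  have hne18 : Nat.card (Subgroup.centralizer ({u * d} : Set G)) ≠ 18 := by
    intro h18
    have heq : Subgroup.centralizer ({u * d} : Set G) =
        Subgroup.normalizer ((P : Subgroup G) : Set G) :=
      Subgroup.eq_of_le_of_card_ge hCN (by rw [h18, (sylow3_facts hG P).2])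
    have huCP : u ∈ Subgroup.centralizer ((P : Subgroup G) : Set G) := by
      rw [Subgroup.mem_centralizer_iff]
      intro y hy
      have hyC : y ∈ Subgroup.centralizer ({u * d} : Set G) := by
        rw [heq]; exact Subgroup.le_normalizer hy
      have hyw : y * (u * d) = (u * d) * y := Subgroup.mem_centralizer_singleton_iff.mp hyC
      have hc : Commute y (u * d) := hyw
      have := hc.pow_right 3
      rw [hw3] at this
      exact this.eq
    rw [centralizer_sylow3 hG P] at huCP
    have := Subgroup.orderOf_dvd_natCard _ huCP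
    rw [hu, card_sylow3 hG P] at this
    norm_num at this
  have hclass := Cfsg.Agent.Lib.Helper2.card_centralizer_mul_card_conj (u * d)
  rw [hG] at hclass
  have hT : ({x : G | IsConj (u * d) x} : Set G).ncard ≤ 63 := by
    apply count_le hG
    intro x hx
    have hox : orderOf x = 6 := by rw [orderOf_of_isConj hx, hw6]
    refine ⟨by rw [hox]; norm_num, ?_⟩
    intro h9
    have := orderOf_dvd_iff_pow_eq_one.mpr h9
    rw [hox] at this
    norm_num at this
  rw [← Nat.card_coe_set_eq] at hT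
  exact numW _ _ hdvd18 h2dvd hne18 hclass hT

/-- centralizers of involutions have order 8, and there are 63 conjugates -/
theorem invol_centralizer (hG : Nat.card G = 504) (u : G) (hu : orderOf u = 2) :
    Nat.card (Subgroup.centralizer ({u} : Set G)) = 8 ∧
      ({x : G | IsConj u x} : Set G).ncard = 63 := by
  have hu1 : u ≠ 1 := by
    intro h; rw [h, orderOf_one] at hu; norm_num at hu
  have hu2 : u ^ 2 = 1 := by rw [← hu]; exact pow_orderOf_eq_one u
  have h7 := seven_not_dvd_centralizer hG u 2 hu2 (by norm_num) hu1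
  have h3 := three_not_dvd_centralizer_invol hG u hu
  have hclass := Cfsg.Agent.Lib.Helper2.card_centralizer_mul_card_conj u
  rw [hG] at hclass
  have hT : ({x : G | IsConj u x} : Set G).ncard ≤ 63 := by
    apply count_le hG
    intro x hx
    have hox : orderOf x = 2 := by rw [orderOf_of_isConj hx, hu]
    refine ⟨by rw [hox]; norm_num, ?_⟩
    intro h9
    have := orderOf_dvd_iff_pow_eq_one.mpr h9
    rw [hox] at this
    norm_num at this
  rw [← Nat.card_coe_set_eq] at hT ⊢
  exact numU _ _ h7 h3 hclass hT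

/-- every nontrivial 2-element is an involution with centralizer of order 8 -/
theorem two_elt_facts (hG : Nat.card G = 504) (x : G) (hx1 : x ≠ 1) (hx8 : x ^ 8 = 1) :
    orderOf x = 2 ∧ Nat.card (Subgroup.centralizer ({x} : Set G)) = 8 := by
  obtain ⟨u, hu⟩ := exists_prime_orderOf_dvd_card' (G := G) 2 (by rw [hG]; norm_num)
  have hcls := (invol_centralizer hG u hu).2
  have hconj : IsConj u x := by
    by_contra hnc
    have hnot : x ∉ ({y : G | IsConj u y} : Set G) := hnc
    have hcard : (insert x ({y : G | IsConj u y} : Set G)).ncard = 64 := by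
      rw [Set.ncard_insert_of_notMem hnot, hcls]
    have hle : (insert x ({y : G | IsConj u y} : Set G)).ncard ≤ 63 := by
      apply count_le hG
      intro g hg
      rcases Set.mem_insert_iff.mp hg with hgx | hg
      · rw [hgx]
        refine ⟨?_, ?_⟩
        · intro h7
          have := orderOf_dvd_iff_pow_eq_one.mpr hx8
          rw [h7] at this
          norm_num at this
        · intro h9
          apply hx1
          have h : x ^ 9 = x ^ 8 * x := pow_succ x 8
          rw [h9, hx8, one_mul] at h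
          exact h.symm
      · have hog : orderOf g = 2 := by rw [orderOf_of_isConj hg, hu]
        refine ⟨by rw [hog]; norm_num, ?_⟩
        intro h9
        have := orderOf_dvd_iff_pow_eq_one.mpr h9
        rw [hog] at this
        norm_num at this
    omega
  have hox : orderOf x = 2 := by rw [orderOf_of_isConj hconj, hu]
  exact ⟨hox, (invol_centralizer hG x hox).1⟩

theorem sq_eq_one_of_pow_eight (hG : Nat.card G = 504) (x : G) (hx8 : x ^ 8 = 1) :
    x * x = 1 := by
  by_cases hx1 : x = 1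
  · rw [hx1, one_mul]
  · have := (two_elt_facts hG x hx1 hx8).1
    rw [← pow_two, ← this]
    exact pow_orderOf_eq_one x

theorem pow_eight_of_mem (hG : Nat.card G = 504) (P : Sylow 2 G) (z : G)
    (hz : z ∈ (P : Subgroup G)) : z ^ 8 = 1 := by
  have := Subgroup.orderOf_dvd_natCard (P : Subgroup G) hz
  rw [card_sylow2 hG P] at this
  exact orderOf_dvd_iff_pow_eq_one.mp this

theorem sylow2_le_centralizer (hG : Nat.card G = 504) (P : Sylow 2 G) (d : G)
    (hdP : d ∈ (P : Subgroup G)) : (P : Subgroup G) ≤ Subgroup.centralizer ({d} : Set G) := by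
  intro y hy
  rw [Subgroup.mem_centralizer_singleton_iff]
  exact comm_of_sq (sq_eq_one_of_pow_eight hG y (pow_eight_of_mem hG P y hy))
    (sq_eq_one_of_pow_eight hG d (pow_eight_of_mem hG P d hdP))
    (sq_eq_one_of_pow_eight hG (y * d) (pow_eight_of_mem hG P _ (mul_mem hy hdP)))

theorem sylow2_eq_centralizer (hG : Nat.card G = 504) (P : Sylow 2 G) (d : G) (hd1 : d ≠ 1)
    (hdP : d ∈ (P : Subgroup G)) : (P : Subgroup G) = Subgroup.centralizer ({d} : Set G) := by
  apply Subgroup.eq_of_le_of_card_ge (sylow2_le_centralizer hG P d hdP)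
  rw [(two_elt_facts hG d hd1 (pow_eight_of_mem hG P d hdP)).2, card_sylow2 hG P]

/-- Sylow 2-subgroups intersect trivially -/
theorem sylow2_TI (hG : Nat.card G = 504) (P Q : Sylow 2 G) (d : G) (hd1 : d ≠ 1)
    (hdP : d ∈ (P : Subgroup G)) (hdQ : d ∈ (Q : Subgroup G)) : P = Q := by
  apply Sylow.ext
  rw [sylow2_eq_centralizer hG P d hd1 hdP, sylow2_eq_centralizer hG Q d hd1 hdQ]

theorem card_sylow2_eq_nine (hG : Nat.card G = 504) : Nat.card (Sylow 2 G) = 9 := by
  obtain ⟨P⟩ : Nonempty (Sylow 2 G) := inferInstance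
  have hP := card_sylow2 hG P
  obtain ⟨h8, hmod, hmul⟩ :=
    sylow_count_facts hG P (by rw [hP]; norm_num) (by rw [hP]; norm_num)
  have hdvd : 8 ∣ Nat.card (Subgroup.normalizer ((P : Subgroup G) : Set G)) := by
    have h0 := Subgroup.card_dvd_of_le (Subgroup.le_normalizer (H := (P : Subgroup G)))
    rwa [hP] at h0
  have hle : Nat.card (Sylow 2 G) * (8 - 1) ≤ ({g : G | g ≠ 1 ∧ g ^ 8 = 1} : Set G).ncard :=
    card_sigma_TI (G := G) (p := 2) 8 (fun Q => card_sylow2 hG Q)
      (fun P Q d => sylow2_TI hG P Q d)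
  have hT : ({g : G | g ≠ 1 ∧ g ^ 8 = 1} : Set G).ncard ≤ 63 := by
    apply count_le hG
    rintro g ⟨hg1, hg8⟩
    refine ⟨?_, ?_⟩
    · intro h7
      have := orderOf_dvd_iff_pow_eq_one.mpr hg8
      rw [h7] at this
      norm_num at this
    · intro h9
      apply hg1
      have h : g ^ 9 = g ^ 8 * g := pow_succ g 8
      rw [h9, hg8, one_mul] at h
      exact h.symm
  exact num2 _ _ hmul hdvd h8 (by omega)

theorem normalizer_sylow2_card (hG : Nat.card G = 504) (P : Sylow 2 G) :
    Nat.card (Subgroup.normalizer ((P : Subgroup G) : Set G)) = 56 := by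
  have hP := card_sylow2 hG P
  obtain ⟨h8, hmod, hmul⟩ :=
    sylow_count_facts hG P (by rw [hP]; norm_num) (by rw [hP]; norm_num)
  rw [card_sylow2_eq_nine hG] at hmul
  omega

/-- a Sylow 2-subgroup acts freely on the other Sylow 2-subgroups -/
theorem free_act (hG : Nat.card G = 504) (P Q : Sylow 2 G) (hPQ : P ≠ Q) (x : G)
    (hxP : x ∈ (P : Subgroup G)) (hxQ : x • Q = Q) : x = 1 := by
  by_contra hx1
  have hN : x ∈ Subgroup.normalizer ((Q : Subgroup G) : Set G) :=
    Sylow.smul_eq_iff_mem_normalizer.mp hxQ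
  have hxQ' : x ∈ (Q : Subgroup G) :=
    two_elt_normalizer Q x (pow_eight_of_mem hG P x hxP) hN
  exact hPQ (sylow2_TI hG P Q x hx1 hxP hxQ')

theorem pow_seven_of_two_normalizers (hG : Nat.card G = 504) (P Q : Sylow 2 G) (hPQ : P ≠ Q)
    (g : G) (hNP : g ∈ Subgroup.normalizer ((P : Subgroup G) : Set G))
    (hNQ : g ∈ Subgroup.normalizer ((Q : Subgroup G) : Set G)) : g ^ 7 = 1 := by
  have hN56 := normalizer_sylow2_card hG P
  have h56 : g ^ 56 = 1 := by
    have := Subgroup.orderOf_dvd_natCard _ hNP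
    rw [hN56] at this
    exact orderOf_dvd_iff_pow_eq_one.mp this
  have h8 : (g ^ 7) ^ 8 = 1 := by
    have h := pow_mul g 7 8
    rw [← h]
    exact h56
  by_contra h71
  have hP' : g ^ 7 ∈ (P : Subgroup G) := two_elt_normalizer P _ h8 (pow_mem hNP 7)
  have hQ' : g ^ 7 ∈ (Q : Subgroup G) := two_elt_normalizer Q _ h8 (pow_mem hNQ 7)
  exact hPQ (sylow2_TI hG P Q _ h71 hP' hQ')

/-- a Sylow 2-subgroup is transitive on the other Sylow 2-subgroups -/
theorem exists_smul_eq_of_ne (hG : Nat.card G = 504) (P Q R : Sylow 2 G) (hPQ : P ≠ Q)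
    (hPR : P ≠ R) : ∃ x ∈ (P : Subgroup G), x • Q = R := by
  let φ : ↥(P : Subgroup G) → Sylow 2 G := fun x => (x : G) • Q
  have hφ : Function.Injective φ := by
    intro x y hxy
    have hxy' : (x : G) • Q = (y : G) • Q := hxy
    have h1 : ((y : G)⁻¹ * (x : G)) • Q = Q := by
      rw [mul_smul, hxy', inv_smul_smul]
    have h2 := free_act hG P Q hPQ ((y : G)⁻¹ * (x : G)) (mul_mem (inv_mem y.2) x.2) h1
    exact Subtype.ext (inv_mul_eq_one.mp h2).symm
  have hsub : Set.range φ ⊆ ({P}ᶜ : Set (Sylow 2 G)) := by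
    rintro _ ⟨x, rfl⟩ hmem
    rw [Set.mem_singleton_iff] at hmem
    have h1 : (x : G) • P = P :=
      Sylow.smul_eq_iff_mem_normalizer.mpr (Subgroup.le_normalizer x.2)
    have h2 : (x : G) • Q = (x : G) • P := by
      have h3 : (x : G) • Q = P := hmem
      rw [h3, h1]
    exact hPQ (smul_left_cancel _ h2).symm
  have e1 : ({P}ᶜ : Set (Sylow 2 G)).ncard =
      Nat.card (Sylow 2 G) - ({P} : Set (Sylow 2 G)).ncard := Set.ncard_compl _
  have e2 : ({P} : Set (Sylow 2 G)).ncard = 1 := Set.ncard_singleton P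
  have e3 : (Set.range φ).ncard = Nat.card ↥(P : Subgroup G) := by
    rw [← Nat.card_coe_set_eq]; exact Nat.card_range_of_injective hφ
  have e4 : Nat.card (Sylow 2 G) = 9 := card_sylow2_eq_nine hG
  have e5 := card_sylow2 hG P
  have hcard : ({P}ᶜ : Set (Sylow 2 G)).ncard ≤ (Set.range φ).ncard := by omega
  have heq := Set.eq_of_subset_of_ncard_le hsub hcard
  have hR : R ∈ Set.range φ := by
    rw [heq]
    exact fun h => hPR (Set.mem_singleton_iff.mp h).symm
  obtain ⟨x, hx⟩ := hR
  exact ⟨(x : G), x.2, hx⟩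

open Cfsg.Agent.Helper29.SharpThree in
/-- only the identity normalizes three Sylow 2-subgroups -/
theorem S3_sylow2 (hG : Nat.card G = 504) : S3 G (Sylow 2 G) := by
  haveI : Fact (Nat.Prime 7) := ⟨by norm_num⟩
  intro g P Q R hPQ hPR hQR hgP hgQ hgR
  by_contra hg1
  have hNP : g ∈ Subgroup.normalizer ((P : Subgroup G) : Set G) :=
    Sylow.smul_eq_iff_mem_normalizer.mp hgP
  have hNQ : g ∈ Subgroup.normalizer ((Q : Subgroup G) : Set G) :=
    Sylow.smul_eq_iff_mem_normalizer.mp hgQ
  have hg7 : g ^ 7 = 1 := pow_seven_of_two_normalizers hG P Q hPQ g hNP hNQ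
  have hord : orderOf g = 7 := orderOf_eq_prime hg7 hg1
  obtain ⟨x, hxP, hxQR⟩ := exists_smul_eq_of_ne hG P Q R hPQ hPR
  have hx'P : g * x * g⁻¹ ∈ (P : Subgroup G) := (Subgroup.mem_normalizer_iff.mp hNP x).mp hxP
  have hginv : g⁻¹ • Q = Q := inv_smul_eq_iff.mpr hgQ.symm
  have hx' : (g * x * g⁻¹) • Q = x • Q := by
    rw [mul_smul, mul_smul, hginv, hxQR, hgR]
  have h1 : (x⁻¹ * (g * x * g⁻¹)) • Q = Q := by
    rw [mul_smul, hx', inv_smul_smul]
  have h2 := free_act hG P Q hPQ (x⁻¹ * (g * x * g⁻¹)) (mul_mem (inv_mem hxP) hx'P) h1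
  have h3 : x = g * x * g⁻¹ := inv_mul_eq_one.mp h2
  have hcomm : x * g = g * x := by
    have h4 : x * g = g * x * g⁻¹ * g := by rw [← h3]
    rw [h4, inv_mul_cancel_right]
  have hx7 : x ^ 7 = 1 := pow_seven_of_comm_seven hG g x hord hcomm
  have hx8 : x ^ 8 = 1 := pow_eight_of_mem hG P x hxP
  have hx1 : x = 1 := eq_one_of_pow_coprime hx7 hx8 (by norm_num)
  rw [hx1, one_smul] at hxQR
  exact hQR hxQR

open Cfsg.Agent.Helper29.SharpThree in
/-- a group of order 504 in which only the identity fixes three of nine points is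
3-transitive -/
theorem T3_of_S3 {Ω : Type*} [MulAction G Ω] [Finite Ω] (hΩ : Nat.card Ω = 9)
    (hG : Nat.card G = 504) (hS3 : S3 G Ω) : T3 G Ω := by
  classical
  intro a b c a' b' c' hab hac hbc hab' hac' hbc'
  haveI : Fintype Ω := Fintype.ofFinite Ω
  have hinj : Function.Injective (fun g : G => g • tripleEmb a b c hab hac hbc) := by
    intro g h hgh
    have hgh' : g • tripleEmb a b c hab hac hbc = h • tripleEmb a b c hab hac hbc := hgh
    have h1 : (h⁻¹ * g) • tripleEmb a b c hab hac hbc = tripleEmb a b c hab hac hbc := by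
      rw [mul_smul, hgh', inv_smul_smul]
    have h2 : ∀ i, (h⁻¹ * g) • (tripleEmb a b c hab hac hbc) i =
        (tripleEmb a b c hab hac hbc) i := by
      intro i
      have := congrArg (fun f : Fin 3 ↪ Ω => f i) h1
      exact this
    have h3 := hS3 (h⁻¹ * g) a b c hab hac hbc (h2 0) (h2 1) (h2 2)
    exact (inv_mul_eq_one.mp h3).symm
  have hdf : Nat.descFactorial 9 3 = 504 := by decide
  have hcardE : Nat.card (Fin 3 ↪ Ω) = 504 := by
    have h1 : Nat.card (Fin 3 ↪ Ω) = (Nat.card Ω).descFactorial 3 := by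
      rw [Nat.card_eq_fintype_card, Fintype.card_embedding_eq, Fintype.card_fin,
        Nat.card_eq_fintype_card]
    rw [h1, hΩ, hdf]
  have hbij := hinj.bijective_of_nat_card_le (by rw [hcardE, hG])
  obtain ⟨g, hg⟩ := hbij.2 (tripleEmb a' b' c' hab' hac' hbc')
  have hg' : g • tripleEmb a b c hab hac hbc = tripleEmb a' b' c' hab' hac' hbc' := hg
  refine ⟨g, ?_, ?_, ?_⟩
  · exact congrFun (congrArg (fun e : Fin 3 ↪ Ω => (e : Fin 3 → Ω)) hg') 0
  · exact congrFun (congrArg (fun e : Fin 3 ↪ Ω => (e : Fin 3 → Ω)) hg') 1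
  · exact congrFun (congrArg (fun e : Fin 3 ↪ Ω => (e : Fin 3 → Ω)) hg') 2

/-- **A simple group of order 504 is `PSL₂(𝔽₈)`.** -/
theorem order504_main (hG : Nat.card G = 504) {F : Type*} [Field F] [Fintype F]
    (hF : Fintype.card F = 8) :
    Nonempty (G ≃* Matrix.ProjectiveSpecialLinearGroup (Fin 2) F) := by
  have hS3 := S3_sylow2 hG
  have hΩ : Nat.card (Sylow 2 G) = 9 := card_sylow2_eq_nine hG
  have hT3 := T3_of_S3 hΩ hG hS3
  exact Cfsg.Agent.Helper29.SharpThree.main (G := G) (Ω := Sylow 2 G) 3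
    (hΩ.trans (by norm_num)) (by norm_num) hT3 hS3 (by rw [hG]; norm_num)
    (hF.trans (by norm_num))

end Main

end Cfsg.Agent.Helper29.Order504
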