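import Cfsg.Agent.Lib.Helper20.A10Core

/-!
# The prime graph of a semidirect product `V ⋊ H` with `V` of prime exponent

For a prime `p`, a finite group `H` and an `H`-module `V` with `p • v = 0`, the orders of the
elements of `V ⋊ H` (helper20's `A10Core.G H V`) are `m` or `m * p` with `m` the order of the image
in `H`.  Consequently the elements of order `r * s` (`r`, `s` primes) are controlled by `H` and, when
`r = p`, by the norm maps `Sj h · s` of the elements `h` of order `s`.  Taking `Fin k → V` for `V`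
gives groups of unbounded order with the same prime graph.
-/

set_option autoImplicit false

namespace Cfsg.Agent.Lib.Helper29.PGraphSD

open Cfsg.Agent.Lib.Helper20.A10Core Multiplicative

section gen

variable {H : Type*} [Group H] {V : Type*} [AddCommGroup V] [DistribMulAction H V]

theorem orderOf_right_dvd (g : G H V) : orderOf g.right ∣ orderOf g :=
  orderOf_map_dvd (SemidirectProduct.rightHom : G H V →* H) g

theorem orderOf_inr (h : H) : orderOf (SemidirectProduct.inr h : G H V) = orderOf h :=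
  orderOf_injective (SemidirectProduct.inr : H →* G H V) SemidirectProduct.inr_injective h

theorem pow_mul_eq_one {p : ℕ} (hp : ∀ v : V, p • v = 0) (v : V) (h : H) :
    (⟨ofAdd v, h⟩ : G H V) ^ (orderOf h * p) = 1 := by
  rw [pow_mul, mk_pow, pow_orderOf_eq_one, mk_pow, one_pow, Sj_one, hp, mk_eq_one_iff]
  exact ⟨rfl, rfl⟩

theorem orderOf_eq_or {p : ℕ} (hpp : p.Prime) (hp : ∀ v : V, p • v = 0) (v : V) (h : H)
    (hh : 0 < orderOf h) :
    orderOf (⟨ofAdd v, h⟩ : G H V) = orderOf h ∨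
      orderOf (⟨ofAdd v, h⟩ : G H V) = orderOf h * p := by
  have h1 : orderOf h ∣ orderOf (⟨ofAdd v, h⟩ : G H V) := orderOf_right_dvd (⟨ofAdd v, h⟩ : G H V)
  have h2 : orderOf (⟨ofAdd v, h⟩ : G H V) ∣ orderOf h * p :=
    orderOf_dvd_of_pow_eq_one (pow_mul_eq_one hp v h)
  obtain ⟨d, hd⟩ := h1
  rw [hd] at h2 ⊢
  have h3 : d ∣ p := (Nat.mul_dvd_mul_iff_left hh).mp h2
  rcases (Nat.dvd_prime hpp).mp h3 with rfl | rfl
  · left; rw [mul_one]
  · right; rfl

theorem pow_orderOf_right (v : V) (h : H) :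
    (⟨ofAdd v, h⟩ : G H V) ^ orderOf h = ⟨ofAdd (Sj h v (orderOf h)), 1⟩ := by
  rw [mk_pow, pow_orderOf_eq_one]

/-- elements of order `r * s` with `r`, `s` different from `p` come from `H` -/
theorem exists_orderOf_mul_iff [Finite H] {p r s : ℕ} (hpp : p.Prime) (hp : ∀ v : V, p • v = 0)
    (hr : r.Prime) (hs : s.Prime) (hrp : r ≠ p) (hsp : s ≠ p) :
    (∃ g : G H V, orderOf g = r * s) ↔ ∃ h : H, orderOf h = r * s := by
  constructor
  · rintro ⟨g, hg⟩
    obtain ⟨v, h, rfl⟩ := exists_rep g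
    refine ⟨h, ?_⟩
    rcases orderOf_eq_or hpp hp v h (orderOf_pos h) with h1 | h1
    · rw [← h1, hg]
    · exfalso
      have hdvd : p ∣ r * s := by rw [← hg, h1]; exact Dvd.intro_left _ rfl
      rcases (Nat.Prime.dvd_mul hpp).mp hdvd with h2 | h2
      · exact hrp ((Nat.prime_dvd_prime_iff_eq hpp hr).mp h2).symm
      · exact hsp ((Nat.prime_dvd_prime_iff_eq hpp hs).mp h2).symm
  · rintro ⟨h, hh⟩
    exact ⟨SemidirectProduct.inr h, by rw [orderOf_inr, hh]⟩

/-- elements of order `p * s` come from `H` or from an element of order `s` with a non-zero norm -/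
theorem exists_orderOf_p_mul_iff [Finite H] {p s : ℕ} (hpp : p.Prime) (hp : ∀ v : V, p • v = 0)
    (hs : s.Prime) (hsp : s ≠ p) :
    (∃ g : G H V, orderOf g = p * s) ↔
      ((∃ h : H, orderOf h = p * s) ∨ ∃ (h : H) (v : V), orderOf h = s ∧ Sj h v s ≠ 0) := by
  constructor
  · rintro ⟨g, hg⟩
    obtain ⟨v, h, rfl⟩ := exists_rep g
    rcases orderOf_eq_or hpp hp v h (orderOf_pos h) with h1 | h1
    · left; exact ⟨h, by rw [← h1, hg]⟩
    · right
      have hm : orderOf h = s := by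
        rw [hg, mul_comm] at h1
        exact (Nat.eq_of_mul_eq_mul_right hpp.pos h1).symm
      refine ⟨h, v, hm, ?_⟩
      intro h0
      have h2 : (⟨ofAdd v, h⟩ : G H V) ^ s = 1 := by
        rw [mk_pow, h0, ← hm, pow_orderOf_eq_one, mk_eq_one_iff]
        exact ⟨rfl, rfl⟩
      have h3 := orderOf_dvd_of_pow_eq_one h2
      rw [hg] at h3
      have h4 := Nat.le_of_dvd hs.pos h3
      have h5 : 2 * s ≤ p * s := Nat.mul_le_mul_right s hpp.two_le
      have h6 := hs.pos
      omega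
  · rintro (⟨h, hh⟩ | ⟨h, v, hh, hv⟩)
    · exact ⟨SemidirectProduct.inr h, by rw [orderOf_inr, hh]⟩
    · refine ⟨⟨ofAdd v, h⟩, ?_⟩
      rcases orderOf_eq_or hpp hp v h (orderOf_pos h) with h1 | h1
      · exfalso
        apply hv
        have h2 : (⟨ofAdd v, h⟩ : G H V) ^ s = 1 := by
          rw [← hh, ← h1]; exact pow_orderOf_eq_one _
        rw [mk_pow, mk_eq_one_iff] at h2
        exact h2.1
      · rw [h1, hh, mul_comm]

instance [Finite H] [Finite V] : Finite (G H V) :=
  Finite.of_equiv _ SemidirectProduct.equivProd.symm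

theorem card_G : Nat.card (G H V) = Nat.card V * Nat.card H := by
  rw [SemidirectProduct.card]
  congr 1

theorem card_V_eq_pow [Finite V] {p : ℕ} (hpp : p.Prime) (hp : ∀ v : V, p • v = 0) :
    ∃ d : ℕ, Nat.card V = p ^ d := by
  have : Fact p.Prime := ⟨hpp⟩
  have hP : IsPGroup p (Multiplicative V) := by
    intro g
    refine ⟨1, ?_⟩
    rw [pow_one]
    show ofAdd (p • toAdd g) = 1
    rw [hp]; rfl
  obtain ⟨d, hd⟩ := IsPGroup.iff_card.mp hP
  exact ⟨d, hd⟩

/-- the primes dividing the order of `V ⋊ H` -/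
theorem prime_dvd_card_iff [Finite H] [Finite V] {p : ℕ} (hpp : p.Prime)
    (hp : ∀ v : V, p • v = 0) (hV : ∃ v : V, v ≠ 0) (r : ℕ) (hr : r.Prime) :
    r ∣ Nat.card (G H V) ↔ (r = p ∨ r ∣ Nat.card H) := by
  obtain ⟨d, hd⟩ := card_V_eq_pow hpp hp
  have hd0 : d ≠ 0 := by
    rintro rfl
    rw [pow_zero] at hd
    obtain ⟨v, hv⟩ := hV
    have : Subsingleton V := (Nat.card_eq_one_iff_unique.mp hd).1
    exact hv (Subsingleton.elim v 0)
  rw [card_G, hd, Nat.Prime.dvd_mul hr]
  constructor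
  · rintro (h | h)
    · left
      exact (Nat.prime_dvd_prime_iff_eq hr hpp).mp (Nat.Prime.dvd_of_dvd_pow hr h)
    · right; exact h
  · rintro (rfl | h)
    · left; exact dvd_pow_self r hd0
    · right; exact h

end gen

/-! ### powers of the module -/

section pi

variable {H : Type*} [Group H] {V : Type*} [AddCommGroup V] [DistribMulAction H V]

theorem Sj_pi (k : ℕ) (h : H) (f : Fin k → V) (j : ℕ) (i : Fin k) :
    Sj h f j i = Sj h (f i) j := by
  induction j with
  | zero => rw [Sj_zero, Sj_zero]; rfl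
  | succ j ih => rw [Sj_succ, Sj_succ, Pi.add_apply, ih]; rfl

theorem exists_Sj_pi_ne_iff (k : ℕ) (hk : 0 < k) (s : ℕ) :
    (∃ (h : H) (f : Fin k → V), orderOf h = s ∧ Sj h f s ≠ 0) ↔
      ∃ (h : H) (v : V), orderOf h = s ∧ Sj h v s ≠ 0 := by
  constructor
  · rintro ⟨h, f, hh, hf⟩
    have : ∃ i, Sj h f s i ≠ 0 := by
      by_contra hcon
      have hcon' : ∀ i, Sj h f s i = 0 := fun i => by
        by_contra hne
        exact hcon ⟨i, hne⟩
      exact hf (funext hcon')
    obtain ⟨i, hi⟩ := this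
    rw [Sj_pi] at hi
    exact ⟨h, f i, hh, hi⟩
  · rintro ⟨h, v, hh, hv⟩
    refine ⟨h, fun _ => v, hh, ?_⟩
    intro h0
    apply hv
    have := congrFun h0 ⟨0, hk⟩
    rwa [Sj_pi] at this

end pi

/-- groups of unbounded order `(Fin k → V) ⋊ H`, their prime divisors and their elements of order
a product of two primes, in terms of `H` and `V` -/
theorem exists_large {H : Type} [Group H] [Finite H] {V : Type} [AddCommGroup V] [Finite V]
    [DistribMulAction H V] {p : ℕ} (hpp : p.Prime) (hp : ∀ v : V, p • v = 0)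
    (hV : ∃ v : V, v ≠ 0) (N : ℕ) :
    ∃ (K : Type) (_ : Group K) (_ : Finite K), N < Nat.card K ∧
      (∀ r : ℕ, r.Prime → (r ∣ Nat.card K ↔ (r = p ∨ r ∣ Nat.card H))) ∧
      (∀ r s : ℕ, r.Prime → s.Prime → r ≠ p → s ≠ p →
        ((∃ g : K, orderOf g = r * s) ↔ ∃ h : H, orderOf h = r * s)) ∧
      (∀ s : ℕ, s.Prime → s ≠ p →
        ((∃ g : K, orderOf g = p * s) ↔
          ((∃ h : H, orderOf h = p * s) ∨ ∃ (h : H) (v : V), orderOf h = s ∧ Sj h v s ≠ 0))) := by
  have hpk : ∀ f : Fin (N + 1) → V, p • f = 0 := fun f => funext fun i => hp (f i)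
  have hVk : ∃ f : Fin (N + 1) → V, f ≠ 0 := by
    obtain ⟨v, hv⟩ := hV
    exact ⟨fun _ => v, fun h0 => hv (congrFun h0 0)⟩
  refine ⟨G H (Fin (N + 1) → V), inferInstance, inferInstance, ?_, ?_, ?_, ?_⟩
  · rw [card_G, Nat.card_fun, Nat.card_fin]
    have h2 : 2 ≤ Nat.card V := by
      obtain ⟨v, hv⟩ := hV
      have : Nontrivial V := ⟨⟨v, 0, hv⟩⟩
      exact Finite.one_lt_card
    have h3 : 0 < Nat.card H := Nat.card_pos
    calc N < 2 ^ (N + 1) := by
          have := Nat.lt_two_pow_self (n := N + 1); omega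
      _ ≤ Nat.card V ^ (N + 1) := Nat.pow_le_pow_left h2 _
      _ ≤ Nat.card V ^ (N + 1) * Nat.card H := Nat.le_mul_of_pos_right _ h3
  · intro r hr
    exact prime_dvd_card_iff hpp hpk hVk r hr
  · intro r s hr hs hrp hsp
    exact exists_orderOf_mul_iff hpp hpk hr hs hrp hsp
  · intro s hs hsp
    rw [exists_orderOf_p_mul_iff hpp hpk hs hsp, exists_Sj_pi_ne_iff (N + 1) (Nat.succ_pos N) s]

end Cfsg.Agent.Lib.Helper29.PGraphSD
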