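import Mathlib
import Cfsg.Agent.Lib.Helper4.PSLpCert

set_option autoImplicit false
set_option linter.unusedVariables false

/-!
# Faster certificates for the recognition of `PSL₂(p)` (helper29)

A pruned form `CertFast` of helper4's `Cert p r tbl False`: the translation part `d` of the affine map
in the Bruhat-type relation is determined by evaluating the relation at `0`.
-/

namespace Cfsg.Agent.Helper29.PSLpMore

open Cfsg.Agent.Helper4.PSLp

/-- pruned certificate -/
def CertFast (p : ℕ) (r : ZMod p) (tbl : List ℕ) : Prop :=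
  (∀ x : ZMod p, x ≠ 0 → r ^ (tbl.getD x.val 0) = x) ∧
  ∀ s1 a b : ZMod p, s1 ^ (p / 2) = 1 → a ≠ 0 → b ≠ 0 →
    (∃ d : ZMod p, d ≠ 0 ∧ candF tbl s1 a b d + a = 0 ∧ ∃ s : ZMod p, s ^ (p / 2) = 1 ∧
      ∀ y : Option (ZMod p),
        tauO (candF tbl s1 a b) (addO (tauO (candF tbl s1 a b) y) 1)
          = addO (tauO (candF tbl s1 a b) (affO s d y)) a) →
    s1 * (r * r) = 1 ∧ b * r = a ∧ ∃ ρ : ZMod p, ρ * ρ = -a

instance {p : ℕ} [NeZero p] (r : ZMod p) (tbl : List ℕ) :
    Decidable (CertFast p r tbl) := by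
  unfold CertFast; infer_instance

theorem cert_of_certFast {p : ℕ} (r : ZMod p) (tbl : List ℕ) (h : CertFast p r tbl) :
    Cert p r tbl False := by
  refine ⟨h.1, ?_⟩
  intro s1 a b hs1 ha hb _ hex
  apply h.2 s1 a b hs1 ha hb
  obtain ⟨s, d, hs, hy⟩ := hex
  have h0 := hy (some 0)
  have hd : d ≠ 0 := by
    intro hd0
    subst hd0
    simp [tauO, addO, affO] at h0
  refine ⟨d, hd, ?_, s, hs, hy⟩
  simp [tauO, addO, affO, hd] at h0
  exact h0.symm

set_option maxRecDepth 100000 in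
theorem cert17 : CertFast 17 3 [0, 0, 14, 1, 12, 5, 15, 11, 10, 2, 3, 7, 13, 4, 9, 6, 8] := by
  decide +kernel

set_option maxRecDepth 100000 in
theorem cert19 : CertFast 19 2 [0, 0, 1, 13, 2, 16, 14, 6, 3, 8, 17, 12, 15, 5, 7, 11, 4, 10, 9] := by
  decide +kernel

set_option maxRecDepth 100000 in
theorem cert23 : CertFast 23 5
    [0, 0, 2, 16, 4, 1, 18, 19, 6, 10, 3, 9, 20, 14, 21, 17, 8, 7, 12, 15, 5, 13, 11] := by
  decide +kernel

end Cfsg.Agent.Helper29.PSLpMore
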