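import Cfsg.Agent.Lib.Helper28.BSGSPerm
import Cfsg.Agent.Lib.Helper20.A10Core

/-!
# Submodules of the permutation module over `F₂` spanned by bit masks

The functions `Fin n → ZMod 2` are given by bit masks; the subgroup spanned by a list of masks is
shown to be invariant under a permutation given by a table through an exclusive-or certificate.
The norm `f + σ f + … + σ^(k-1) f` is computed through sums of bits along the cycles.
-/

set_option autoImplicit false

namespace Cfsg.Agent.Lib.Helper29.PermMod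

open Cfsg.Agent.Lib.Helper28.BSGS Cfsg.Agent.Lib.Helper20.A10Core

/-- bit `x` of `m` -/
def bitAt (m x : ℕ) : ℕ := (m >>> x) % 2

theorem bitAt_eq (m x : ℕ) : bitAt m x = (m.testBit x).toNat := by
  unfold bitAt
  rw [Nat.shiftRight_eq_div_pow, Nat.toNat_testBit]

theorem bitAt_xor (a b x : ℕ) : bitAt (a ^^^ b) x = (bitAt a x + bitAt b x) % 2 := by
  rw [bitAt_eq, bitAt_eq, bitAt_eq, Nat.testBit_xor]
  cases a.testBit x <;> cases b.testBit x <;> rfl

theorem bitAt_zero (x : ℕ) : bitAt 0 x = 0 := by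
  unfold bitAt
  rw [Nat.zero_shiftRight]

/-- the function of a bit mask -/
def rowF (n m : ℕ) : Fin n → ZMod 2 := fun x => ((bitAt m x.val : ℕ) : ZMod 2)

theorem rowF_xor (n a b : ℕ) : rowF n (a ^^^ b) = rowF n a + rowF n b := by
  funext x
  show ((bitAt (a ^^^ b) x.val : ℕ) : ZMod 2) = ((bitAt a x.val : ℕ) : ZMod 2) + ((bitAt b x.val : ℕ) : ZMod 2)
  rw [bitAt_xor, ZMod.natCast_mod, Nat.cast_add]

theorem rowF_zero (n : ℕ) : rowF n 0 = 0 := by
  funext x
  show ((bitAt 0 x.val : ℕ) : ZMod 2) = 0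
  rw [bitAt_zero, Nat.cast_zero]

/-- exclusive or of a list of masks -/
def xorAll : List ℕ → ℕ
  | [] => 0
  | m :: ms => m ^^^ xorAll ms

/-- the subgroup spanned by the masks -/
def W (n : ℕ) (masks : List ℕ) : AddSubgroup (Fin n → ZMod 2) :=
  AddSubgroup.closure {f | ∃ m ∈ masks, f = rowF n m}

theorem rowF_mem {n : ℕ} {masks : List ℕ} {m : ℕ} (hm : m ∈ masks) : rowF n m ∈ W n masks :=
  AddSubgroup.subset_closure ⟨m, hm, rfl⟩

theorem rowF_xorAll_mem {n : ℕ} {masks : List ℕ} :
    ∀ l : List ℕ, (∀ m ∈ l, m ∈ masks ∨ m = 0) → rowF n (xorAll l) ∈ W n masks := by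
  intro l
  induction l with
  | nil => intro _; rw [xorAll, rowF_zero]; exact (W n masks).zero_mem
  | cons m ms ih =>
    intro h
    rw [xorAll, rowF_xor]
    apply (W n masks).add_mem
    · rcases h m List.mem_cons_self with hm | hm
      · exact rowF_mem hm
      · rw [hm, rowF_zero]; exact (W n masks).zero_mem
    · exact ih fun m' hm' => h m' (List.mem_cons_of_mem _ hm')

theorem getD_mem_or (masks : List ℕ) (i : ℕ) : masks.getD i 0 ∈ masks ∨ masks.getD i 0 = 0 := by
  by_cases hi : i < masks.length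
  · left
    rw [List.getD_eq_getElem _ _ hi]
    exact List.getElem_mem hi
  · right
    rw [List.getD_eq_default _ _ (Nat.le_of_not_lt hi)]

/-- the action of the permutations on the functions -/
def act {n : ℕ} (σ : Equiv.Perm (Fin n)) (f : Fin n → ZMod 2) : Fin n → ZMod 2 := fun x => f (σ⁻¹ x)

theorem act_one {n : ℕ} (f : Fin n → ZMod 2) : act 1 f = f := rfl

theorem act_mul {n : ℕ} (σ τ : Equiv.Perm (Fin n)) (f : Fin n → ZMod 2) :
    act (σ * τ) f = act σ (act τ f) := by
  funext x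
  show f ((σ * τ)⁻¹ x) = f (τ⁻¹ (σ⁻¹ x))
  rw [mul_inv_rev]; rfl

theorem act_add {n : ℕ} (σ : Equiv.Perm (Fin n)) (f g : Fin n → ZMod 2) :
    act σ (f + g) = act σ f + act σ g := rfl

theorem act_zero {n : ℕ} (σ : Equiv.Perm (Fin n)) : act σ (0 : Fin n → ZMod 2) = 0 := rfl

theorem act_neg {n : ℕ} (σ : Equiv.Perm (Fin n)) (f : Fin n → ZMod 2) :
    act σ (-f) = -act σ f := rfl

/-- the permutations leaving the subgroup invariant -/
def stabW (n : ℕ) (masks : List ℕ) : Subgroup (Equiv.Perm (Fin n)) where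
  carrier := {σ | ∀ f ∈ W n masks, act σ f ∈ W n masks ∧ act σ⁻¹ f ∈ W n masks}
  one_mem' := fun f hf => ⟨hf, by rw [inv_one]; exact hf⟩
  mul_mem' := by
    intro σ τ hσ hτ f hf
    constructor
    · rw [act_mul]; exact (hσ _ (hτ f hf).1).1
    · rw [mul_inv_rev, act_mul]; exact (hτ _ (hσ f hf).2).2
  inv_mem' := by
    intro σ hσ f hf
    rw [inv_inv]
    exact ⟨(hσ f hf).2, (hσ f hf).1⟩

theorem mem_stabW_of_act {n : ℕ} {masks : List ℕ} (σ : Equiv.Perm (Fin n))
    (h : ∀ m ∈ masks, act σ (rowF n m) ∈ W n masks) : σ ∈ stabW n masks := by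
  have h1 : ∀ f ∈ W n masks, act σ f ∈ W n masks := by
    intro f hf
    induction hf using AddSubgroup.closure_induction with
    | mem f hf =>
      obtain ⟨m, hm, rfl⟩ := hf
      exact h m hm
    | zero => rw [act_zero]; exact (W n masks).zero_mem
    | add f g _ _ ihf ihg => rw [act_add]; exact (W n masks).add_mem ihf ihg
    | neg f _ ih => rw [act_neg]; exact (W n masks).neg_mem ih
  have hpow : ∀ k : ℕ, ∀ f ∈ W n masks, act (σ ^ k) f ∈ W n masks := by
    intro k
    induction k with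
    | zero => intro f hf; rw [pow_zero, act_one]; exact hf
    | succ k ih => intro f hf; rw [pow_succ, act_mul]; exact ih _ (h1 f hf)
  have hinv : σ⁻¹ = σ ^ (orderOf σ - 1) := by
    apply inv_eq_of_mul_eq_one_right
    rw [← pow_succ', Nat.sub_add_cancel (orderOf_pos σ), pow_orderOf_eq_one]
  intro f hf
  refine ⟨h1 f hf, ?_⟩
  rw [hinv]
  exact hpow _ f hf

/-- certificate for one mask: the image is `yc.1`, the exclusive or of the masks with the listed
numbers -/
def rowCertOK (n w : ℕ) (masks : List ℕ) (tv m : ℕ) (yc : ℕ × List ℕ) : Bool :=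
  Nat.beq (xorAll (yc.2.map fun i => masks.getD i 0)) yc.1 &&
  (List.range n).all fun x => Nat.beq (bitAt m (look w tv x)) (bitAt yc.1 x)

/-- certificates for a list of masks -/
def genCertOK (n w : ℕ) (masks : List ℕ) (tv : ℕ) : List ℕ → List (ℕ × List ℕ) → Bool
  | [], _ => true
  | _ :: _, [] => false
  | m :: ms, yc :: ycs => rowCertOK n w masks tv m yc && genCertOK n w masks tv ms ycs

theorem genCertOK_spec (n w : ℕ) (masks : List ℕ) (tv : ℕ) :
    ∀ (ms : List ℕ) (ycs : List (ℕ × List ℕ)), genCertOK n w masks tv ms ycs = true →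
    ∀ m ∈ ms, ∃ yc, rowCertOK n w masks tv m yc = true := by
  intro ms
  induction ms with
  | nil => intro _ _ m hm; simp at hm
  | cons m0 ms ih =>
    intro ycs h m hm
    cases ycs with
    | nil => simp [genCertOK] at h
    | cons yc ycs =>
      rw [genCertOK, Bool.and_eq_true] at h
      rcases List.mem_cons.mp hm with rfl | hm'
      · exact ⟨yc, h.1⟩
      · exact ih ycs h.2 m hm'

theorem act_rowF_mem {n w : ℕ} {masks : List ℕ} {tu tv : ℕ} (hp : pairOK n w tu tv = true)
    {m : ℕ} {yc : ℕ × List ℕ} (h : rowCertOK n w masks tv m yc = true) :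
    act (permOf n w tu tv) (rowF n m) ∈ W n masks := by
  unfold rowCertOK at h
  rw [Bool.and_eq_true, List.all_eq_true] at h
  obtain ⟨h1, h2⟩ := h
  have h1' := Nat.eq_of_beq_eq_true h1
  have : act (permOf n w tu tv) (rowF n m) = rowF n yc.1 := by
    funext x
    show ((bitAt m ((permOf n w tu tv)⁻¹ x).val : ℕ) : ZMod 2) = ((bitAt yc.1 x.val : ℕ) : ZMod 2)
    rw [permOf_inv_apply hp, Nat.eq_of_beq_eq_true (h2 x.val (List.mem_range.mpr x.isLt))]
  rw [this, ← h1']
  apply rowF_xorAll_mem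
  intro m' hm'
  rw [List.mem_map] at hm'
  obtain ⟨i, _, rfl⟩ := hm'
  exact getD_mem_or masks i

/-- the generated group leaves the subgroup invariant -/
theorem genGroup_le_stabW (n w : ℕ) [NeZero n] (masks : List ℕ) (gens : List (ℕ × ℕ))
    (hg : gensOK n w gens = true)
    (hc : ∀ g ∈ gens, ∃ ycs, genCertOK n w masks g.2 masks ycs = true) :
    genGroup n w gens ≤ stabW n masks := by
  unfold genGroup
  rw [Subgroup.closure_le]
  intro s hs
  have hs' : s ∈ List.map (fun g => permOf n w g.1 g.2) gens := hs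
  rw [List.mem_map] at hs'
  obtain ⟨g, hgm, rfl⟩ := hs'
  obtain ⟨ycs, hycs⟩ := hc g hgm
  apply mem_stabW_of_act
  intro m hm
  obtain ⟨yc, hyc⟩ := genCertOK_spec n w masks g.2 masks ycs hycs m hm
  exact act_rowF_mem (gensOK_spec n w hg g hgm) hyc

section module

variable (n : ℕ) (masks : List ℕ)

instance : SMul ↥(stabW n masks) ↥(W n masks) :=
  ⟨fun σ v => ⟨act σ.1 v.1, (σ.2 v.1 v.2).1⟩⟩

theorem smul_val (σ : ↥(stabW n masks)) (v : ↥(W n masks)) : (σ • v).1 = act σ.1 v.1 := rfl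

instance : DistribMulAction ↥(stabW n masks) ↥(W n masks) where
  one_smul v := Subtype.ext (act_one v.1)
  mul_smul σ τ v := Subtype.ext (act_mul σ.1 τ.1 v.1)
  smul_zero σ := Subtype.ext (act_zero σ.1)
  smul_add σ u v := Subtype.ext (act_add σ.1 u.1 v.1)

theorem two_nsmul_eq_zero (v : ↥(W n masks)) : 2 • v = 0 := by
  apply Subtype.ext
  funext x
  show (2 • v.1) x = 0
  rw [two_nsmul]
  exact CharTwo.add_self_eq_zero (v.1 x)

instance : Finite ↥(W n masks) := inferInstance

end module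

/-- the norm -/
def nrm {n : ℕ} (σ : Equiv.Perm (Fin n)) (f : Fin n → ZMod 2) (k : ℕ) : Fin n → ZMod 2 :=
  fun x => ∑ i ∈ Finset.range k, f ((σ ^ i)⁻¹ x)

theorem Sj_val {n : ℕ} {masks : List ℕ} (σ : ↥(stabW n masks)) (v : ↥(W n masks)) (k : ℕ) :
    (Sj σ v k).1 = nrm σ.1 v.1 k := by
  induction k with
  | zero => rw [Sj_zero]; funext x; simp [nrm]
  | succ k ih =>
    rw [Sj_succ, AddSubgroup.coe_add, ih]
    funext x
    show nrm σ.1 v.1 k x + (σ ^ k • v).1 x = nrm σ.1 v.1 (k + 1) x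
    unfold nrm
    rw [Finset.sum_range_succ]
    rfl

theorem nrm_add {n : ℕ} (σ : Equiv.Perm (Fin n)) (f g : Fin n → ZMod 2) (k : ℕ) :
    nrm σ (f + g) k = nrm σ f k + nrm σ g k := by
  funext x
  show ∑ i ∈ Finset.range k, (f + g) ((σ ^ i)⁻¹ x) = _
  simp only [Pi.add_apply, Finset.sum_add_distrib]
  rfl

theorem nrm_zero {n : ℕ} (σ : Equiv.Perm (Fin n)) (k : ℕ) :
    nrm σ (0 : Fin n → ZMod 2) k = 0 := by
  funext x
  simp [nrm]

theorem nrm_neg {n : ℕ} (σ : Equiv.Perm (Fin n)) (f : Fin n → ZMod 2) (k : ℕ) :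
    nrm σ (-f) k = -nrm σ f k := by
  funext x
  simp [nrm]

/-- sum of the bits along a cycle -/
def sumBits (w tv m : ℕ) : ℕ → ℕ → ℕ
  | 0, _ => 0
  | k + 1, x => bitAt m x + sumBits w tv m k (look w tv x)

theorem nrm_rowF {n w tu tv : ℕ} (hp : pairOK n w tu tv = true) (m : ℕ) :
    ∀ (k : ℕ) (x : Fin n),
      nrm (permOf n w tu tv) (rowF n m) k x = ((sumBits w tv m k x.val : ℕ) : ZMod 2) := by
  intro k
  induction k with
  | zero => intro x; simp [nrm, sumBits]
  | succ k ih =>
    intro x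
    have h1 : nrm (permOf n w tu tv) (rowF n m) (k + 1) x =
        rowF n m x + nrm (permOf n w tu tv) (rowF n m) k ((permOf n w tu tv)⁻¹ x) := by
      unfold nrm
      rw [Finset.sum_range_succ', add_comm]
      congr 1
    rw [h1, ih, permOf_inv_apply hp, sumBits, Nat.cast_add]
    rfl

/-- all masks have norm zero -/
def zeroNormOK (n w tv k : ℕ) (masks : List ℕ) : Bool :=
  masks.all fun m => (List.range n).all fun x => Nat.beq (sumBits w tv m k x % 2) 0

theorem natCast_zmod_two (a : ℕ) : ((a : ℕ) : ZMod 2) = ((a % 2 : ℕ) : ZMod 2) := by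
  rw [ZMod.natCast_mod]

theorem nrm_eq_zero {n w tu tv k : ℕ} {masks : List ℕ} (hp : pairOK n w tu tv = true)
    (h : zeroNormOK n w tv k masks = true) :
    ∀ f ∈ W n masks, nrm (permOf n w tu tv) f k = 0 := by
  unfold zeroNormOK at h
  rw [List.all_eq_true] at h
  intro f hf
  induction hf using AddSubgroup.closure_induction with
  | mem f hf =>
    obtain ⟨m, hm, rfl⟩ := hf
    have h1 := h m hm
    rw [List.all_eq_true] at h1
    funext x
    rw [nrm_rowF hp, natCast_zmod_two,
      Nat.eq_of_beq_eq_true (h1 x.val (List.mem_range.mpr x.isLt))]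
    rfl
  | zero => exact nrm_zero _ _
  | add f g _ _ ihf ihg => rw [nrm_add, ihf, ihg, add_zero]
  | neg f _ ih => rw [nrm_neg, ih, neg_zero]

/-- the mask has a non-zero norm value at the point `x` -/
def oneNormOK (n w tv k m x : ℕ) : Bool :=
  Nat.blt x n && Nat.beq (sumBits w tv m k x % 2) 1

theorem nrm_ne_zero {n w tu tv k m x : ℕ} (hp : pairOK n w tu tv = true)
    (h : oneNormOK n w tv k m x = true) :
    nrm (permOf n w tu tv) (rowF n m) k ≠ 0 := by
  unfold oneNormOK at h
  rw [Bool.and_eq_true] at h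
  obtain ⟨h1, h2⟩ := h
  have hx : x < n := by rw [Nat.blt_eq] at h1; exact h1
  intro h0
  have h3 := congrFun h0 ⟨x, hx⟩
  rw [nrm_rowF hp, natCast_zmod_two, Nat.eq_of_beq_eq_true h2] at h3
  exact one_ne_zero h3

end Cfsg.Agent.Lib.Helper29.PermMod
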