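import Mathlib
import Cfsg.Agent.S0904
import Cfsg.Agent.Lib.Helper7.PrimeSylowNC

/-!
# Simple groups of order `p^a q^b r` (helper29 library)

`exists_relIndex`: in a simple group of order `p^a q^b r` (`p^a q^b ≠ 1`) with Sylow
`r`-subgroup `S`, the numbers `e = |N(S) : S|` and `n = n_r` satisfy `e ∣ r - 1`, `e ≠ 1`,
`n ≡ 1 [MOD r]`, `e * n = p^a q^b`.  Uses helper7's S0904 (`C(S) = S`) and Burnside's transfer.
-/

set_option autoImplicit false

namespace Cfsg.Agent.Helper29.PrimeOnce

open Cfsg.Agent.Lib.Helper7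

theorem exists_relIndex {G : Type*} [Group G] [Finite G] [IsSimpleGroup G] (p q r a b : ℕ)
    (hp : p.Prime) (hq : q.Prime) (hr : r.Prime) (hpq : p ≠ q) (hpr : p ≠ r) (hqr : q ≠ r)
    (hcard : Nat.card G = p ^ a * q ^ b * r) (hm1 : p ^ a * q ^ b ≠ 1) :
    ∃ e n : ℕ, e ∣ r - 1 ∧ e ≠ 1 ∧ n ≡ 1 [MOD r] ∧ e * n = p ^ a * q ^ b := by
  haveI : Fact r.Prime := ⟨hr⟩
  obtain ⟨S⟩ : Nonempty (Sylow r G) := inferInstance
  have hC : Subgroup.centralizer ((S : Subgroup G) : Set G) = (S : Subgroup G) :=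
    Cfsg.Agent.S0904.result p q r a b hp hq hpq hpr hqr hcard S
  have hrm : ¬ r ∣ p ^ a * q ^ b := by
    intro h
    rcases (Nat.Prime.dvd_mul hr).mp h with h | h
    · exact hpr ((Nat.prime_dvd_prime_iff_eq hr hp).mp (hr.dvd_of_dvd_pow h)).symm
    · exact hqr ((Nat.prime_dvd_prime_iff_eq hr hq).mp (hr.dvd_of_dvd_pow h)).symm
  have hS : Nat.card (S : Subgroup G) = r := by
    apply card_eq_prime_of_sylow S
    · rw [hcard]
      exact Dvd.intro_left _ rfl
    · rw [hcard]
      intro h
      rw [sq] at h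
      exact hrm (Nat.dvd_of_mul_dvd_mul_right hr.pos h)
  have hrel := relIndex_centralizer_normalizer_dvd_sub_one (S : Subgroup G) hr hS
  rw [hC] at hrel
  have hle : (S : Subgroup G) ≤ Subgroup.normalizer ((S : Subgroup G) : Set G) :=
    Subgroup.le_normalizer
  have hN : Nat.card (Subgroup.normalizer ((S : Subgroup G) : Set G))
      = r * (S : Subgroup G).relIndex (Subgroup.normalizer ((S : Subgroup G) : Set G)) := by
    have h1 := Subgroup.card_mul_index
      ((S : Subgroup G).subgroupOf (Subgroup.normalizer ((S : Subgroup G) : Set G)))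
    rw [Nat.card_congr (Subgroup.subgroupOfEquivOfLe hle).toEquiv, hS] at h1
    exact h1.symm
  have hn : Nat.card (Sylow r G) = (Subgroup.normalizer ((S : Subgroup G) : Set G)).index :=
    Sylow.card_eq_index_normalizer S
  have hmod : Nat.card (Sylow r G) ≡ 1 [MOD r] := card_sylow_modEq_one r G
  have hidx := Subgroup.card_mul_index (Subgroup.normalizer ((S : Subgroup G) : Set G))
  rw [hN, hcard, ← hn] at hidx
  refine ⟨(S : Subgroup G).relIndex (Subgroup.normalizer ((S : Subgroup G) : Set G)),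
    Nat.card (Sylow r G), hrel, ?_, hmod, ?_⟩
  · intro he1
    have hNle : Subgroup.normalizer ((S : Subgroup G) : Set G) ≤
        Subgroup.centralizer ((S : Subgroup G) : Set G) := by
      rw [hC]
      exact Subgroup.relIndex_eq_one.mp he1
    rcases sylow_eq_bot_or_top_of_normalizer_le_centralizer S hNle with h | h
    · rw [h, Subgroup.card_bot] at hS
      exact hr.one_lt.ne hS
    · rw [h, Subgroup.card_top, hcard] at hS
      apply hm1
      have h1 : p ^ a * q ^ b * r = 1 * r := by rw [hS, one_mul]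
      exact Nat.eq_of_mul_eq_mul_right hr.pos h1
  · have h1 : r * ((S : Subgroup G).relIndex (Subgroup.normalizer ((S : Subgroup G) : Set G)) *
        Nat.card (Sylow r G)) = r * (p ^ a * q ^ b) := by
      rw [← mul_assoc, hidx]
      ring
    exact Nat.eq_of_mul_eq_mul_left hr.pos h1

end Cfsg.Agent.Helper29.PrimeOnce
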