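import Mathlib

/-!
# RU1: avoidance lemmas and basic definitions for products of two regular unipotents
-/

set_option autoImplicit false

namespace Cfsg.Agent.Lib.Helper29.RU

open Module

section Avoid

variable {K : Type*} [Field K] {V : Type*} [AddCommGroup V] [Module K V]

/-- A vector space over a field with an injection `Fin m ↪ K` is not the union of `m` proper
subspaces. -/
theorem exists_notMem_of_embedding (m : ℕ) (e : Fin m ↪ K) (W : Fin m → Submodule K V)
    (hW : ∀ i, W i ≠ ⊤) : ∃ v : V, ∀ i, v ∉ W i := by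
  induction m with
  | zero => exact ⟨0, fun i => i.elim0⟩
  | succ m ih =>
    obtain ⟨p, hp⟩ := ih ((Fin.castSuccEmb).trans e) (fun i => W i.castSucc) (fun i => hW _)
    by_cases hpl : p ∈ W (Fin.last m)
    · obtain ⟨q, hq⟩ : ∃ q : V, q ∉ W (Fin.last m) := by
        by_contra hcon
        push Not at hcon
        exact hW (Fin.last m) (eq_top_iff.mpr fun v _ => hcon v)
      by_contra hcon
      push Not at hcon
      -- every `q + e j • p` lies in some `W i`, necessarily with `i ≠ last`
      have hex : ∀ j : Fin (m + 1), ∃ i : Fin m, q + e j • p ∈ W i.castSucc := by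
        intro j
        obtain ⟨i, hi⟩ := hcon (q + e j • p)
        induction i using Fin.lastCases with
        | last =>
          exfalso
          apply hq
          have := (W (Fin.last m)).sub_mem hi ((W (Fin.last m)).smul_mem (e j) hpl)
          simpa using this
        | cast i => exact ⟨i, hi⟩
      choose f hf using hex
      obtain ⟨j, j', hne, hfe⟩ := Fintype.exists_ne_map_eq_of_card_lt f (by simp)
      have h1 := hf j
      have h2 := hf j'
      rw [hfe] at h1
      have h3 := (W (f j').castSucc).sub_mem h1 h2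
      have h4 : (q + e j • p) - (q + e j' • p) = (e j - e j') • p := by
        rw [sub_smul]; abel
      rw [h4] at h3
      have hne' : e j - e j' ≠ 0 := sub_ne_zero.mpr (fun h => hne (e.injective h))
      have h5 := (W (f j').castSucc).smul_mem (e j - e j')⁻¹ h3
      rw [smul_smul, inv_mul_cancel₀ hne', one_smul] at h5
      exact hp _ h5
    · refine ⟨p, fun i => ?_⟩
      induction i using Fin.lastCases with
      | last => exact hpl
      | cast i => exact hp i

theorem exists_embedding_four (hK : 4 ≤ Cardinal.mk K) : Nonempty (Fin 4 ↪ K) := by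
  apply Cardinal.lift_mk_le'.mp
  rw [Cardinal.mk_fin, Cardinal.lift_uzero]
  simpa using hK

/-- Over a field with at least four elements, four proper subspaces do not cover. -/
theorem exists_notMem_four (hK : 4 ≤ Cardinal.mk K) (W1 W2 W3 W4 : Submodule K V)
    (h1 : W1 ≠ ⊤) (h2 : W2 ≠ ⊤) (h3 : W3 ≠ ⊤) (h4 : W4 ≠ ⊤) :
    ∃ v : V, v ∉ W1 ∧ v ∉ W2 ∧ v ∉ W3 ∧ v ∉ W4 := by
  obtain ⟨e⟩ := exists_embedding_four hK
  obtain ⟨v, hv⟩ := exists_notMem_of_embedding 4 e ![W1, W2, W3, W4] (by
    intro i; fin_cases i <;> simpa)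
  exact ⟨v, by simpa using hv 0, by simpa using hv 1, by simpa using hv 2, by simpa using hv 3⟩

/-- A functional vanishing at `u` and nonzero at four given vectors outside `K ∙ u`. -/
theorem exists_dual_four (hK : 4 ≤ Cardinal.mk K) (u v1 v2 v3 v4 : V)
    (h1 : v1 ∉ Submodule.span K {u}) (h2 : v2 ∉ Submodule.span K {u})
    (h3 : v3 ∉ Submodule.span K {u}) (h4 : v4 ∉ Submodule.span K {u}) :
    ∃ φ : Dual K V, φ u = 0 ∧ φ v1 ≠ 0 ∧ φ v2 ≠ 0 ∧ φ v3 ≠ 0 ∧ φ v4 ≠ 0 := by
  set N : Submodule K V := Submodule.span K {u} with hN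
  have hne : ∀ v : V, v ∉ N → (LinearMap.ker (LinearMap.applyₗ (R := K) (M₂ := K) (N.mkQ v)) :
      Submodule K (Dual K (V ⧸ N))) ≠ ⊤ := by
    intro v hv htop
    have hq : N.mkQ v ≠ 0 := by
      rw [Ne, Submodule.mkQ_apply, Submodule.Quotient.mk_eq_zero]; exact hv
    apply hq
    rw [← Module.forall_dual_apply_eq_zero_iff K]
    intro ψ
    have : ψ ∈ (LinearMap.ker (LinearMap.applyₗ (R := K) (M₂ := K) (N.mkQ v)) :
      Submodule K (Dual K (V ⧸ N))) := by rw [htop]; trivial
    simpa using this
  obtain ⟨ψ, hψ1, hψ2, hψ3, hψ4⟩ := exists_notMem_four hK _ _ _ _ (hne v1 h1) (hne v2 h2)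
    (hne v3 h3) (hne v4 h4)
  refine ⟨ψ ∘ₗ N.mkQ, ?_, ?_, ?_, ?_, ?_⟩
  · have : N.mkQ u = 0 := by
      rw [Submodule.mkQ_apply, Submodule.Quotient.mk_eq_zero]
      exact Submodule.mem_span_singleton_self u
    simp [this]
  · simpa using hψ1
  · simpa using hψ2
  · simpa using hψ3
  · simpa using hψ4

end Avoid

section Defs

variable {K : Type*} [Field K] {V : Type*} [AddCommGroup V] [Module K V]

/-- Regular unipotent: `A - 1` is nilpotent and the fixed space of `A` lies in a line. -/
def IsRU (A : End K V) : Prop :=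
  (∃ k : ℕ, (A - 1) ^ k = 0) ∧ ∃ p : V, ∀ v : V, A v = v → ∃ t : K, v = t • p

/-- `S` is a product `A * B` of two regular unipotents with `x` nonzero on the fixed line of `B`
and `y` outside the range of `A - 1`. -/
def Good (S : End K V) (x : Dual K V) (y : V) : Prop :=
  ∃ A B : End K V, S = A * B ∧ IsRU A ∧ IsRU B ∧ (∀ v, B v = v → x v = 0 → v = 0) ∧
    ∀ w, A w - w ≠ y

/-- The class preserved by the compression step. -/
def Star (S : End K V) : Prop :=
  finrank K V = 1 ∨
    ((∀ c : K, S ≠ c • (1 : End K V)) ∧ 2 ≤ finrank K (LinearMap.range (S - 1)))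

end Defs

end Cfsg.Agent.Lib.Helper29.RU
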