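import Cfsg.Agent.Lib.Helper29.RU9
import Cfsg.Agent.Lib.Helper21.ConjJ

/-!
# RU10: nonscalar endomorphisms of determinant one are products of two regular unipotents
-/

set_option autoImplicit false

namespace Cfsg.Agent.Lib.Helper29.RU

open Module

universe u v

variable {K : Type u} [Field K]

theorem exists_isRU_mul (hK : 4 ≤ Cardinal.mk K) {V : Type v} [AddCommGroup V] [Module K V]
    [FiniteDimensional K V] (hn : 3 ≤ finrank K V) (S : End K V)
    (hdet : LinearMap.det S = 1) (hns : ∀ c : K, S ≠ c • (1 : End K V)) :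
    ∃ A B : End K V, S = A * B ∧ IsRU A ∧ IsRU B := by
  by_cases hr : 2 ≤ finrank K (LinearMap.range (S - 1))
  · obtain ⟨y, hy⟩ := (Module.finrank_pos_iff_exists_ne_zero (R := K) (M := V)).mp (by omega)
    obtain ⟨x, hx⟩ : ∃ x : Dual K V, x y ≠ 0 := by
      by_contra hcon
      push Not at hcon
      exact hy ((Module.forall_dual_apply_eq_zero_iff K y).mp hcon)
    have hx0 : x ≠ 0 := by
      rintro rfl; exact hx rfl
    obtain ⟨m, hm⟩ : ∃ m, finrank K V = m + 1 := ⟨finrank K V - 1, by omega⟩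
    obtain ⟨A, B, hAB, hA, hB, -, -⟩ :=
      good_of_star hK m V hm S hdet (Or.inr ⟨hns, hr⟩) x hx0 y hy
    exact ⟨A, B, hAB, hA, hB⟩
  · -- transvection case
    have hR0 : S - 1 ≠ 0 := by
      intro h
      apply hns 1
      rw [one_smul]; exact sub_eq_zero.mp h
    obtain ⟨v0, hv0⟩ : ∃ v0, (S - 1) v0 ≠ 0 := by
      by_contra hcon
      push Not at hcon
      exact hR0 (LinearMap.ext hcon)
    set a := (S - 1) v0 with ha
    have hspan : LinearMap.range (S - 1) = Submodule.span K {a} := by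
      symm
      apply Submodule.eq_of_le_of_finrank_le
      · rw [Submodule.span_le]
        rintro _ rfl
        exact ⟨v0, rfl⟩
      · rw [finrank_span_singleton hv0]; omega
    obtain ⟨ψ0, hψ0⟩ : ∃ ψ : Dual K V, ψ a ≠ 0 := by
      by_contra hcon
      push Not at hcon
      exact hv0 ((Module.forall_dual_apply_eq_zero_iff K a).mp hcon)
    set ψ : Dual K V := (ψ0 a)⁻¹ • ψ0 with hψ
    have hψa : ψ a = 1 := by simp [hψ, inv_mul_cancel₀ hψ0]
    set α : Dual K V := ψ ∘ₗ (S - 1) with hα
    have hSv : ∀ v, (S - 1) v = α v • a := by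
      intro v
      have hmem : (S - 1) v ∈ Submodule.span K {a} := by rw [← hspan]; exact ⟨v, rfl⟩
      obtain ⟨t, ht⟩ := Submodule.mem_span_singleton.mp hmem
      rw [hα, LinearMap.comp_apply, ← ht, map_smul, hψa, smul_eq_mul, mul_one]
    have hS : S = 1 + α.smulRight a := by
      apply LinearMap.ext
      intro v
      have := hSv v
      rw [LinearMap.sub_apply, Module.End.one_apply, sub_eq_iff_eq_add] at this
      rw [this, LinearMap.add_apply, Module.End.one_apply, LinearMap.smulRight_apply, add_comm]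
    have hα0 : α ≠ 0 := by
      intro h
      apply hv0
      rw [ha, hSv, h]; simp
    have hαa : α a = 0 := by
      have h1 : S = LinearMap.transvection α a := by
        rw [hS]
        apply LinearMap.ext
        intro v
        simp [LinearMap.transvection.apply, LinearMap.smulRight_apply]
      have h2 := hdet
      rw [h1, LinearMap.transvection.det] at h2
      simpa using h2
    obtain ⟨A, B, hAB, hA, hB⟩ := transvection_eq_mul hn a α hv0 hα0 hαa
    exact ⟨A, B, hS.trans hAB, hA, hB⟩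

/-- **Matrix form.** -/
theorem exists_conj_mul (hK : 4 ≤ Cardinal.mk K) (n : ℕ) (hn : 3 ≤ n) (J g : GL (Fin n) K)
    (hJ : ∀ i j : Fin n, (J : Matrix (Fin n) (Fin n) K) i j =
      if i = j then 1 else if j.val = i.val + 1 then 1 else 0)
    (hg : ¬ ∃ c : K, (g : Matrix (Fin n) (Fin n) K) = c • (1 : Matrix (Fin n) (Fin n) K))
    (hdet : (g : Matrix (Fin n) (Fin n) K).det = 1) :
    ∃ x y : GL (Fin n) K, g = (x * J * x⁻¹) * (y * J * y⁻¹) := by
  set S : End K (Fin n → K) := Matrix.toLin' (g : Matrix (Fin n) (Fin n) K) with hS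
  have hdetS : LinearMap.det S = 1 := by rw [hS, LinearMap.det_toLin', hdet]
  have hns : ∀ c : K, S ≠ c • (1 : End K (Fin n → K)) := by
    intro c hc
    apply hg
    refine ⟨c, ?_⟩
    apply Matrix.toLin'.injective
    rw [← hS, hc, map_smul, Matrix.toLin'_one]
    rfl
  have hfin : 3 ≤ finrank K (Fin n → K) := by rw [Module.finrank_fin_fun]; exact hn
  obtain ⟨A, B, hAB, hA, hB⟩ := exists_isRU_mul hK hfin S hdetS hns
  have key : ∀ C : End K (Fin n → K), IsRU C →
      ∃ X : GL (Fin n) K, LinearMap.toMatrix' C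
        = ((X * J * X⁻¹ : GL (Fin n) K) : Matrix (Fin n) (Fin n) K) := by
    rintro C ⟨⟨k, hk⟩, p, hp⟩
    apply Cfsg.Agent.Lib.Helper21.ConjJ.conj_J J hJ
    · refine ⟨k, ?_⟩
      have h := congrArg (LinearMap.toMatrixAlgEquiv' (R := K) (n := Fin n)) hk
      rw [map_pow, map_sub, map_one, map_zero] at h
      exact h
    · refine ⟨p, fun v hv => hp v ?_⟩
      rw [LinearMap.toMatrix'_mulVec] at hv
      exact hv
  obtain ⟨X, hX⟩ := key A hA
  obtain ⟨Y, hY⟩ := key B hB
  refine ⟨X, Y, ?_⟩
  apply Units.ext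
  have h1 : (g : Matrix (Fin n) (Fin n) K) = LinearMap.toMatrix' S := by
    rw [hS, LinearMap.toMatrix'_toLin']
  rw [h1, hAB, Module.End.mul_eq_comp, LinearMap.toMatrix'_comp, hX, hY]
  rfl

end Cfsg.Agent.Lib.Helper29.RU
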