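import Cfsg.Agent.Lib.Helper29.RU1

/-!
# RU2: the compression (Schur complement) step
-/

set_option autoImplicit false

namespace Cfsg.Agent.Lib.Helper29.RU

open Module

variable {K : Type*} [Field K] {V : Type*} [AddCommGroup V] [Module K V]

/-- `v ↦ S v - φ ((S - 1) v) • S b`. -/
def cmpMap (S : End K V) (φ : Dual K V) (b : V) : End K V :=
  S - (φ ∘ₗ (S - 1)).smulRight (S b)

theorem cmpMap_apply (S : End K V) (φ : Dual K V) (b v : V) :
    cmpMap S φ b v = S v - (φ (S v) - φ v) • S b := by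
  simp [cmpMap, LinearMap.smulRight_apply]

theorem cmpMap_mem (S : End K V) (φ : Dual K V) (b : V) (h2 : φ (S b) = 1) :
    LinearMap.ker φ ≤ (LinearMap.ker φ).comap (cmpMap S φ b) := by
  intro v hv
  rw [LinearMap.mem_ker] at hv
  rw [Submodule.mem_comap, LinearMap.mem_ker, cmpMap_apply]
  simp [hv, h2]

/-- The compression of `S` to `ker φ`. -/
def cmp (S : End K V) (φ : Dual K V) (b : V) (h2 : φ (S b) = 1) : End K (LinearMap.ker φ) :=
  (cmpMap S φ b).restrict (cmpMap_mem S φ b h2)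

theorem cmp_coe (S : End K V) (φ : Dual K V) (b : V) (h2 : φ (S b) = 1)
    (v : LinearMap.ker φ) :
    ((cmp S φ b h2 v : LinearMap.ker φ) : V) = S v - φ (S v) • S b := by
  have hv : φ (v : V) = 0 := v.2
  simp [cmp, cmpMap_apply, hv]

/-- The projection onto `ker φ` along `b`. -/
def projKer (φ : Dual K V) (b : V) (h1 : φ b = 1) : V →ₗ[K] LinearMap.ker φ :=
  LinearMap.codRestrict (LinearMap.ker φ) (LinearMap.id - φ.smulRight b) (by
    intro v
    simp [LinearMap.mem_ker, LinearMap.smulRight_apply, h1])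

theorem projKer_coe (φ : Dual K V) (b : V) (h1 : φ b = 1) (v : V) :
    ((projKer φ b h1 v : LinearMap.ker φ) : V) = v - φ v • b := by
  change ((LinearMap.id : V →ₗ[K] V) - φ.smulRight b) v = v - φ v • b
  simp [LinearMap.smulRight_apply]

theorem projKer_of_mem (φ : Dual K V) (b : V) (h1 : φ b = 1) (v : LinearMap.ker φ) :
    projKer φ b h1 (v : V) = v := by
  apply Subtype.ext
  rw [projKer_coe]
  have hv : φ (v : V) = 0 := v.2
  simp [hv]

theorem projKer_b (φ : Dual K V) (b : V) (h1 : φ b = 1) : projKer φ b h1 b = 0 := by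
  apply Subtype.ext
  rw [projKer_coe]
  simp [h1]

theorem coe_projKer_add (φ : Dual K V) (b : V) (h1 : φ b = 1) (v : V) :
    v = φ v • b + ((projKer φ b h1 v : LinearMap.ker φ) : V) := by
  rw [projKer_coe]; abel

/-- the functional `φ ∘ S` restricted to `ker φ` -/
def cmpXi (S : End K V) (φ : Dual K V) : Dual K (LinearMap.ker φ) :=
  (φ ∘ₗ S) ∘ₗ (LinearMap.ker φ).subtype

theorem cmpXi_apply (S : End K V) (φ : Dual K V) (w : LinearMap.ker φ) :
    cmpXi S φ w = φ (S (w : V)) := rfl

/-- the vector `S b - b` of `ker φ` -/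
def cmpEta (S : End K V) (φ : Dual K V) (b : V) (h1 : φ b = 1) (h2 : φ (S b) = 1) :
    LinearMap.ker φ :=
  ⟨S b - b, by simp [LinearMap.mem_ker, h1, h2]⟩

/-- lift of the first factor -/
def liftA (S : End K V) (φ : Dual K V) (b : V) (h1 : φ b = 1) (A' : End K (LinearMap.ker φ)) :
    End K V :=
  φ.smulRight (S b) + (LinearMap.ker φ).subtype ∘ₗ A' ∘ₗ projKer φ b h1

/-- lift of the second factor -/
def liftB (S : End K V) (φ : Dual K V) (b : V) (h1 : φ b = 1) (B' : End K (LinearMap.ker φ)) :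
    End K V :=
  (φ ∘ₗ S).smulRight b + (LinearMap.ker φ).subtype ∘ₗ B' ∘ₗ projKer φ b h1

theorem liftA_apply (S : End K V) (φ : Dual K V) (b : V) (h1 : φ b = 1)
    (A' : End K (LinearMap.ker φ)) (v : V) :
    liftA S φ b h1 A' v = φ v • S b + ((A' (projKer φ b h1 v) : LinearMap.ker φ) : V) := by
  simp [liftA, LinearMap.smulRight_apply]

theorem liftB_apply (S : End K V) (φ : Dual K V) (b : V) (h1 : φ b = 1)
    (B' : End K (LinearMap.ker φ)) (v : V) :
    liftB S φ b h1 B' v = φ (S v) • b + ((B' (projKer φ b h1 v) : LinearMap.ker φ) : V) := by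
  simp [liftB, LinearMap.smulRight_apply]

theorem phi_coe (φ : Dual K V) (w : LinearMap.ker φ) : φ (w : V) = 0 := w.2

theorem liftA_mul_liftB (S : End K V) (φ : Dual K V) (b : V) (h1 : φ b = 1) (h2 : φ (S b) = 1)
    (A' B' : End K (LinearMap.ker φ)) (h : cmp S φ b h2 = A' * B') :
    S = liftA S φ b h1 A' * liftB S φ b h1 B' := by
  apply LinearMap.ext
  intro v
  rw [Module.End.mul_apply, liftA_apply, liftB_apply]
  have e1 : φ (φ (S v) • b + ((B' (projKer φ b h1 v) : LinearMap.ker φ) : V)) = φ (S v) := by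
    simp [h1]
  have e2 : projKer φ b h1 (φ (S v) • b + ((B' (projKer φ b h1 v) : LinearMap.ker φ) : V))
      = B' (projKer φ b h1 v) := by
    rw [map_add, map_smul, projKer_b, smul_zero, zero_add, projKer_of_mem]
  rw [e1, e2]
  have e3 : A' (B' (projKer φ b h1 v)) = cmp S φ b h2 (projKer φ b h1 v) := by
    rw [h]; rfl
  rw [e3, cmp_coe, projKer_coe]
  simp only [map_sub, map_smul, smul_eq_mul, h2, mul_one]
  rw [sub_smul]
  abel

theorem liftA_sub_one_apply (S : End K V) (φ : Dual K V) (b : V) (h1 : φ b = 1)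
    (h2 : φ (S b) = 1) (A' : End K (LinearMap.ker φ)) (v : V) :
    (liftA S φ b h1 A' - 1) v
      = ((φ v • cmpEta S φ b h1 h2 + (A' - 1) (projKer φ b h1 v) : LinearMap.ker φ) : V) := by
  rw [LinearMap.sub_apply, Module.End.one_apply, liftA_apply]
  simp only [cmpEta, Submodule.coe_add, Submodule.coe_smul, LinearMap.sub_apply,
    Module.End.one_apply, Submodule.coe_sub, projKer_coe]
  rw [smul_sub]
  abel

theorem liftA_sub_one_pow_coe (S : End K V) (φ : Dual K V) (b : V) (h1 : φ b = 1)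
    (h2 : φ (S b) = 1) (A' : End K (LinearMap.ker φ)) (k : ℕ) (w : LinearMap.ker φ) :
    ((liftA S φ b h1 A' - 1) ^ k) (w : V) = (((A' - 1) ^ k) w : LinearMap.ker φ) := by
  induction k generalizing w with
  | zero => simp
  | succ k ih =>
    rw [pow_succ, Module.End.mul_apply, liftA_sub_one_apply S φ b h1 h2, pow_succ,
      Module.End.mul_apply, ← ih]
    congr 2
    rw [phi_coe, zero_smul, zero_add, projKer_of_mem]

theorem isRU_liftA (S : End K V) (φ : Dual K V) (b : V) (h1 : φ b = 1) (h2 : φ (S b) = 1)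
    (A' : End K (LinearMap.ker φ)) (hA : IsRU A')
    (hη : ∀ w, A' w - w ≠ cmpEta S φ b h1 h2) : IsRU (liftA S φ b h1 A') := by
  obtain ⟨⟨k, hk⟩, p', hp'⟩ := hA
  refine ⟨⟨k + 1, ?_⟩, (p' : V), ?_⟩
  · apply LinearMap.ext
    intro v
    rw [pow_succ, Module.End.mul_apply, liftA_sub_one_apply S φ b h1 h2,
      liftA_sub_one_pow_coe S φ b h1 h2, hk]
    simp
  · intro v hv
    have h0 : (liftA S φ b h1 A' - 1) v = 0 := by
      rw [LinearMap.sub_apply, Module.End.one_apply, hv, sub_self]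
    rw [liftA_sub_one_apply S φ b h1 h2] at h0
    have h0' : φ v • cmpEta S φ b h1 h2 + (A' - 1) (projKer φ b h1 v) = 0 :=
      Subtype.ext (by simpa using h0)
    have hφv : φ v = 0 := by
      by_contra hne
      apply hη (-(φ v)⁻¹ • projKer φ b h1 v)
      have h3 : (A' - 1) (projKer φ b h1 v) = -(φ v • cmpEta S φ b h1 h2) :=
        eq_neg_of_add_eq_zero_right h0'
      have h4 : A' (-(φ v)⁻¹ • projKer φ b h1 v) - (-(φ v)⁻¹ • projKer φ b h1 v)
          = -(φ v)⁻¹ • (A' - 1) (projKer φ b h1 v) := by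
        rw [LinearMap.sub_apply, Module.End.one_apply, map_smul, smul_sub]
      rw [h4, h3, smul_neg, neg_smul, neg_neg, smul_smul, inv_mul_cancel₀ hne, one_smul]
    rw [hφv, zero_smul, zero_add, LinearMap.sub_apply, Module.End.one_apply, sub_eq_zero] at h0'
    obtain ⟨t, ht⟩ := hp' _ h0'
    refine ⟨t, ?_⟩
    have h5 := coe_projKer_add φ b h1 v
    rw [hφv, zero_smul, zero_add, ht] at h5
    simpa using h5

theorem liftA_sub_ne (S : End K V) (φ : Dual K V) (b : V) (h1 : φ b = 1) (h2 : φ (S b) = 1)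
    (A' : End K (LinearMap.ker φ)) (y : V) (hy : φ y ≠ 0) (w : V) :
    liftA S φ b h1 A' w - w ≠ y := by
  intro h
  apply hy
  have h0 : (liftA S φ b h1 A' - 1) w = y := by
    rw [LinearMap.sub_apply, Module.End.one_apply, h]
  rw [← h0, liftA_sub_one_apply S φ b h1 h2]
  exact phi_coe φ _

theorem liftB_sub_one_apply (S : End K V) (φ : Dual K V) (b : V) (h1 : φ b = 1)
    (B' : End K (LinearMap.ker φ)) (v : V) :
    (liftB S φ b h1 B' - 1) v
      = (φ (S v) - φ v) • b + (((B' - 1) (projKer φ b h1 v) : LinearMap.ker φ) : V) := by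
  rw [LinearMap.sub_apply, Module.End.one_apply, liftB_apply]
  simp only [LinearMap.sub_apply, Module.End.one_apply, Submodule.coe_sub, projKer_coe]
  rw [sub_smul]
  abel

theorem projKer_liftB_sub_one (S : End K V) (φ : Dual K V) (b : V) (h1 : φ b = 1)
    (B' : End K (LinearMap.ker φ)) (v : V) :
    projKer φ b h1 ((liftB S φ b h1 B' - 1) v) = (B' - 1) (projKer φ b h1 v) := by
  rw [liftB_sub_one_apply, map_add, map_smul, projKer_b, smul_zero, zero_add, projKer_of_mem]

theorem projKer_liftB_sub_one_pow (S : End K V) (φ : Dual K V) (b : V) (h1 : φ b = 1)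
    (B' : End K (LinearMap.ker φ)) (k : ℕ) (v : V) :
    projKer φ b h1 (((liftB S φ b h1 B' - 1) ^ k) v) = ((B' - 1) ^ k) (projKer φ b h1 v) := by
  induction k generalizing v with
  | zero => simp
  | succ k ih =>
    rw [pow_succ', Module.End.mul_apply, projKer_liftB_sub_one, ih, pow_succ',
      Module.End.mul_apply]

theorem liftB_sub_one_b (S : End K V) (φ : Dual K V) (b : V) (h1 : φ b = 1) (h2 : φ (S b) = 1)
    (B' : End K (LinearMap.ker φ)) : (liftB S φ b h1 B' - 1) b = 0 := by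
  rw [liftB_sub_one_apply, projKer_b, map_zero, h1, h2]
  simp

theorem eq_smul_of_projKer_eq_zero (φ : Dual K V) (b : V) (h1 : φ b = 1) (u : V)
    (hu : projKer φ b h1 u = 0) : u = φ u • b := by
  have h := coe_projKer_add φ b h1 u
  rw [hu] at h
  simpa using h

theorem isRU_liftB (S : End K V) (φ : Dual K V) (b : V) (h1 : φ b = 1) (h2 : φ (S b) = 1)
    (B' : End K (LinearMap.ker φ)) (hB : IsRU B')
    (hξ : ∀ w, B' w = w → cmpXi S φ w = 0 → w = 0) :
    IsRU (liftB S φ b h1 B') ∧ ∀ v, liftB S φ b h1 B' v = v → v = φ v • b := by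
  obtain ⟨⟨k, hk⟩, -⟩ := hB
  have hfix : ∀ v, liftB S φ b h1 B' v = v → v = φ v • b := by
    intro v hv
    have h0 : (liftB S φ b h1 B' - 1) v = 0 := by
      rw [LinearMap.sub_apply, Module.End.one_apply, hv, sub_self]
    have h3 : (B' - 1) (projKer φ b h1 v) = 0 := by
      rw [← projKer_liftB_sub_one, h0, map_zero]
    have h4 : B' (projKer φ b h1 v) = projKer φ b h1 v := by
      rwa [LinearMap.sub_apply, Module.End.one_apply, sub_eq_zero] at h3
    rw [liftB_sub_one_apply, h3] at h0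
    have hb : b ≠ 0 := by
      intro hb; rw [hb, map_zero] at h1; exact zero_ne_one h1
    have h5 : φ (S v) - φ v = 0 := by
      have : (φ (S v) - φ v) • b = 0 := by simpa using h0
      exact (smul_eq_zero.mp this).resolve_right hb
    apply eq_smul_of_projKer_eq_zero φ b h1
    apply hξ _ h4
    rw [cmpXi_apply, projKer_coe, map_sub, map_smul, map_sub, map_smul, h2]
    simpa using h5
  refine ⟨⟨⟨k + 1, ?_⟩, b, fun v hv => ⟨φ v, hfix v hv⟩⟩, hfix⟩
  apply LinearMap.ext
  intro v
  rw [pow_succ', Module.End.mul_apply]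
  have h6 : projKer φ b h1 (((liftB S φ b h1 B' - 1) ^ k) v) = 0 := by
    rw [projKer_liftB_sub_one_pow, hk]; simp
  rw [eq_smul_of_projKer_eq_zero φ b h1 _ h6, map_smul, liftB_sub_one_b S φ b h1 h2]
  simp

/-- **The compression step**: a good factorisation of the compression lifts. -/
theorem good_of_cmp (S : End K V) (φ : Dual K V) (b : V) (h1 : φ b = 1) (h2 : φ (S b) = 1)
    (x : Dual K V) (y : V) (hx : x b ≠ 0) (hy : φ y ≠ 0)
    (h : Good (cmp S φ b h2) (cmpXi S φ) (cmpEta S φ b h1 h2)) : Good S x y := by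
  obtain ⟨A', B', hAB, hA, hB, hξ, hη⟩ := h
  obtain ⟨hB1, hB2⟩ := isRU_liftB S φ b h1 h2 B' hB hξ
  refine ⟨liftA S φ b h1 A', liftB S φ b h1 B', liftA_mul_liftB S φ b h1 h2 A' B' hAB,
    isRU_liftA S φ b h1 h2 A' hA hη, hB1, ?_, liftA_sub_ne S φ b h1 h2 A' y hy⟩
  intro v hv hxv
  have h3 := hB2 v hv
  rw [h3, map_smul, smul_eq_mul] at hxv
  rcases mul_eq_zero.mp hxv with h4 | h4
  · rw [h3, h4, zero_smul]
  · exact absurd h4 hx

theorem cmpMap_eq_mul (S : End K V) (φ : Dual K V) (b : V) :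
    cmpMap S φ b = S * LinearMap.transvection (-(φ ∘ₗ (S - 1))) b := by
  apply LinearMap.ext
  intro v
  rw [cmpMap_apply, Module.End.mul_apply, LinearMap.transvection.apply]
  simp only [LinearMap.neg_apply, LinearMap.comp_apply, LinearMap.sub_apply,
    Module.End.one_apply, map_add, map_smul, map_sub]
  rw [neg_smul]
  abel

theorem det_cmp [FiniteDimensional K V] (S : End K V) (φ : Dual K V) (b : V) (h1 : φ b = 1)
    (h2 : φ (S b) = 1) : LinearMap.det (cmp S φ b h2) = LinearMap.det S := by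
  have hd : LinearMap.det (cmpMap S φ b) = LinearMap.det S := by
    rw [cmpMap_eq_mul, map_mul, LinearMap.transvection.det]
    simp [h1, h2]
  have hq : (LinearMap.ker φ).mapQ (LinearMap.ker φ) (cmpMap S φ b) (cmpMap_mem S φ b h2)
      = LinearMap.id := by
    apply LinearMap.ext
    intro q
    induction q using Submodule.Quotient.induction_on with
    | _ v =>
      rw [Submodule.mapQ_apply, LinearMap.id_apply, Submodule.Quotient.eq, LinearMap.mem_ker,
        cmpMap_apply]
      simp [h2]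
  have h := LinearMap.det_eq_det_mul_det (LinearMap.ker φ) (cmpMap S φ b) (cmpMap_mem S φ b h2)
  rw [hq, LinearMap.det_id, mul_one] at h
  rw [← hd, h]
  rfl

end Cfsg.Agent.Lib.Helper29.RU
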