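import Cfsg.Agent.Lib.Helper29.RU2

/-!
# RU3: properties of the compression
-/

set_option autoImplicit false

namespace Cfsg.Agent.Lib.Helper29.RU

open Module

variable {K : Type*} [Field K] {V : Type*} [AddCommGroup V] [Module K V]

theorem cmp_smul_coe (S : End K V) (φ : Dual K V) (b : V) (h2 : φ (S b) = 1) (c : K)
    (hc : cmp S φ b h2 = c • (1 : End K (LinearMap.ker φ))) (v : LinearMap.ker φ) :
    S (v : V) - φ (S (v : V)) • S b = c • (v : V) := by
  rw [← cmp_coe S φ b h2 v, hc]
  simp

/-- If the compression is the scalar `c ≠ 0`, then `φ` kills the `c`-eigenvectors of `S`. -/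
theorem phi_eq_zero_of_cmp_eq_smul (S : End K V) (φ : Dual K V) (b : V) (h1 : φ b = 1)
    (h2 : φ (S b) = 1) (hb : S b ≠ b) (c : K) (hc0 : c ≠ 0)
    (hc : cmp S φ b h2 = c • (1 : End K (LinearMap.ker φ))) (g : V) (hg : S g = c • g) :
    φ g = 0 := by
  have h := cmp_smul_coe S φ b h2 c hc (projKer φ b h1 g)
  rw [projKer_coe] at h
  simp only [map_sub, map_smul, hg, smul_eq_mul, h2, mul_one] at h
  -- h : c • g - φ g • S b - (c * φ g - φ g) • S b = c • (g - φ g • b)
  have h3 : (c * φ g) • (S b - b) = 0 := by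
    have : (c * φ g) • (S b - b) = c • (g - φ g • b)
        - (c • g - φ g • S b - (c * φ g - φ g) • S b) := by
      rw [smul_sub, smul_sub, sub_smul, mul_smul, mul_smul]
      abel
    rw [this, h]; simp
  rcases smul_eq_zero.mp h3 with h4 | h4
  · exact (mul_eq_zero.mp h4).resolve_left hc0
  · exact absurd (sub_eq_zero.mp h4) hb

/-- If the compression is a scalar `c`, then `S - c` has rank at most two. -/
theorem finrank_range_le_two_of_cmp_eq_smul [FiniteDimensional K V] (S : End K V)
    (φ : Dual K V) (b : V) (h1 : φ b = 1)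
    (h2 : φ (S b) = 1) (c : K)
    (hc : cmp S φ b h2 = c • (1 : End K (LinearMap.ker φ))) :
    finrank K (LinearMap.range (S - c • (1 : End K V))) ≤ 2 := by
  have hle : LinearMap.range (S - c • (1 : End K V)) ≤
      Submodule.span K ({S b, (S - c • (1 : End K V)) b} : Set V) := by
    rintro _ ⟨v, rfl⟩
    have h := cmp_smul_coe S φ b h2 c hc (projKer φ b h1 v)
    have hv := coe_projKer_add φ b h1 v
    set w : V := ((projKer φ b h1 v : LinearMap.ker φ) : V) with hw
    have h5 : (S - c • (1 : End K V)) v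
        = φ v • (S - c • (1 : End K V)) b + φ (S w) • S b := by
      have h6 : (S - c • (1 : End K V)) w = φ (S w) • S b := by
        simp only [LinearMap.sub_apply, LinearMap.smul_apply, Module.End.one_apply]
        rw [← h]; abel
      conv_lhs => rw [hv]
      rw [map_add, map_smul, h6]
    rw [h5]
    apply Submodule.add_mem
    · exact Submodule.smul_mem _ _ (Submodule.subset_span (by simp))
    · exact Submodule.smul_mem _ _ (Submodule.subset_span (by simp))
  calc finrank K (LinearMap.range (S - c • (1 : End K V)))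
      ≤ finrank K (Submodule.span K ({S b, (S - c • (1 : End K V)) b} : Set V)) :=
        Submodule.finrank_mono hle
    _ ≤ 2 := by
        classical
        have h3 : finrank K (Submodule.span K
            ((({S b, (S - c • (1 : End K V)) b} : Finset V)) : Set V)) ≤ _ :=
          finrank_span_finset_le_card (R := K) ({S b, (S - c • (1 : End K V)) b} : Finset V)
        have h2' : ({S b, (S - c • (1 : End K V)) b} : Finset V).card ≤ 2 :=
          Finset.card_le_two
        rw [Finset.coe_insert, Finset.coe_singleton] at h3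
        omega

/-- If the compression is a scalar `c ≠ 0` and `φ ∘ S` does not vanish on `ker φ`, then
`b` lies in the range of `S - c`. -/
theorem mem_range_of_cmp_eq_smul (S : End K V) (φ : Dual K V) (b : V)
    (h2 : φ (S b) = 1) (c : K) (hc0 : c ≠ 0)
    (hc : cmp S φ b h2 = c • (1 : End K (LinearMap.ker φ)))
    (hξ : ∃ v : LinearMap.ker φ, φ (S (v : V)) ≠ 0) :
    b ∈ LinearMap.range (S - c • (1 : End K V)) := by
  obtain ⟨v, hv⟩ := hξ
  have h := cmp_smul_coe S φ b h2 c hc v
  have hSb : S b ∈ LinearMap.range (S - c • (1 : End K V)) := by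
    refine ⟨(φ (S (v : V)))⁻¹ • (v : V), ?_⟩
    have h6 : (S - c • (1 : End K V)) (v : V) = φ (S (v : V)) • S b := by
      simp only [LinearMap.sub_apply, LinearMap.smul_apply, Module.End.one_apply]
      rw [← h]; abel
    rw [map_smul, h6, smul_smul, inv_mul_cancel₀ hv, one_smul]
  have h7 : c • b ∈ LinearMap.range (S - c • (1 : End K V)) := by
    have : c • b = S b - (S - c • (1 : End K V)) b := by
      simp only [LinearMap.sub_apply, LinearMap.smul_apply, Module.End.one_apply]; abel
    rw [this]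
    exact Submodule.sub_mem _ hSb ⟨b, rfl⟩
  have := Submodule.smul_mem _ c⁻¹ h7
  rwa [smul_smul, inv_mul_cancel₀ hc0, one_smul] at this

/-- Fixed vectors of the compression. -/
theorem cmp_fix (S : End K V) (φ : Dual K V) (b : V) (h2 : φ (S b) = 1)
    (v : LinearMap.ker φ) (hv : cmp S φ b h2 v = v) :
    S (v : V) - (v : V) = φ (S (v : V)) • S b := by
  have h := cmp_coe S φ b h2 v
  rw [hv] at h
  calc S (v : V) - (v : V) = S (v : V) - (S (v : V) - φ (S (v : V)) • S b) := by rw [← h]
    _ = φ (S (v : V)) • S b := by abel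

/-- If `b` is not in the range of `S - 1`, fixed vectors of the compression are fixed by `S`. -/
theorem cmp_fix_of_notMem (S : End K V) (φ : Dual K V) (b : V) (h2 : φ (S b) = 1)
    (hb : b ∉ LinearMap.range (S - 1))
    (v : LinearMap.ker φ) (hv : cmp S φ b h2 v = v) : S (v : V) = (v : V) := by
  have h := cmp_fix S φ b h2 v hv
  by_cases h0 : φ (S (v : V)) = 0
  · rw [h0, zero_smul] at h; exact sub_eq_zero.mp h
  · exfalso
    apply hb
    refine ⟨(φ (S (v : V)))⁻¹ • (v : V) - b, ?_⟩
    rw [map_sub, map_smul]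
    simp only [LinearMap.sub_apply, Module.End.one_apply]
    rw [h, smul_smul, inv_mul_cancel₀ h0, one_smul]
    abel

theorem phi_ne_zero (φ : Dual K V) (b : V) (h1 : φ b = 1) : φ ≠ 0 := by
  intro h; rw [h, LinearMap.zero_apply] at h1; exact zero_ne_one h1

theorem finrank_ker_cmp_sub_one_le [FiniteDimensional K V] (S : End K V) (φ : Dual K V) (b : V)
    (h2 : φ (S b) = 1) (hb : b ∉ LinearMap.range (S - 1)) :
    finrank K (LinearMap.ker (cmp S φ b h2 - 1))
      ≤ finrank K (LinearMap.ker (S - 1) ⊓ LinearMap.ker φ : Submodule K V) := by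
  rw [← Submodule.finrank_map_subtype_eq (LinearMap.ker φ) (LinearMap.ker (cmp S φ b h2 - 1))]
  apply Submodule.finrank_mono
  intro x hx
  obtain ⟨v, hv, rfl⟩ := Submodule.mem_map.mp hx
  have hv' : cmp S φ b h2 v = v := by
    have := LinearMap.mem_ker.mp hv
    rwa [LinearMap.sub_apply, Module.End.one_apply, sub_eq_zero] at this
  have h3 := cmp_fix_of_notMem S φ b h2 hb v hv'
  refine Submodule.mem_inf.mpr ⟨?_, v.2⟩
  rw [LinearMap.mem_ker, LinearMap.sub_apply, Module.End.one_apply]
  exact sub_eq_zero.mpr h3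

theorem two_le_finrank_range_cmp_sub_one [FiniteDimensional K V] (S : End K V) (φ : Dual K V)
    (b : V) (h1 : φ b = 1) (h2 : φ (S b) = 1) (hb : b ∉ LinearMap.range (S - 1))
    (h : 3 ≤ finrank K (LinearMap.range (S - 1)) ∨
      (2 ≤ finrank K (LinearMap.range (S - 1)) ∧ ∃ f, S f = f ∧ φ f ≠ 0)) :
    2 ≤ finrank K (LinearMap.range (cmp S φ b h2 - 1)) := by
  have e1 := Module.Dual.finrank_ker_add_one_of_ne_zero (phi_ne_zero φ b h1)
  have e2 := LinearMap.finrank_range_add_finrank_ker (cmp S φ b h2 - 1)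
  have e3 := LinearMap.finrank_range_add_finrank_ker (S - 1)
  have e4 := finrank_ker_cmp_sub_one_le S φ b h2 hb
  have e5 : finrank K (LinearMap.ker (S - 1) ⊓ LinearMap.ker φ : Submodule K V)
      ≤ finrank K (LinearMap.ker (S - 1)) := Submodule.finrank_mono inf_le_left
  rcases h with h | ⟨h, f, hf1, hf2⟩
  · omega
  · have e6 : finrank K (LinearMap.ker (S - 1) ⊓ LinearMap.ker φ : Submodule K V)
        < finrank K (LinearMap.ker (S - 1)) := by
      apply Submodule.finrank_lt_finrank_of_lt
      refine lt_of_le_of_ne inf_le_left ?_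
      intro heq
      have hf : f ∈ LinearMap.ker (S - 1) := by
        rw [LinearMap.mem_ker, LinearMap.sub_apply, Module.End.one_apply, hf1, sub_self]
      rw [← heq] at hf
      exact hf2 (LinearMap.mem_ker.mp hf.2)
    omega

theorem finrank_ker_cmp_sub_one_le_one [FiniteDimensional K V] (S : End K V) (φ : Dual K V)
    (b : V) (h2 : φ (S b) = 1) (hinj : ∀ v, S v = v → v = 0) :
    finrank K (LinearMap.ker (cmp S φ b h2 - 1)) ≤ 1 := by
  have hg : Function.Injective
      ((cmpXi S φ) ∘ₗ (LinearMap.ker (cmp S φ b h2 - 1)).subtype) := by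
    rw [← LinearMap.ker_eq_bot, LinearMap.ker_eq_bot']
    intro v hv
    have hv' : cmp S φ b h2 (v : LinearMap.ker φ) = v := by
      have := LinearMap.mem_ker.mp v.2
      rwa [LinearMap.sub_apply, Module.End.one_apply, sub_eq_zero] at this
    have h3 := cmp_fix S φ b h2 v hv'
    have h4 : φ (S ((v : LinearMap.ker φ) : V)) = 0 := hv
    rw [h4, zero_smul, sub_eq_zero] at h3
    have h5 := hinj _ h3
    exact Subtype.ext (Subtype.ext h5)
  have := LinearMap.finrank_le_finrank_of_injective hg
  simpa using this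

theorem two_le_finrank_range_cmp_sub_one' [FiniteDimensional K V] (S : End K V) (φ : Dual K V)
    (b : V) (h1 : φ b = 1) (h2 : φ (S b) = 1) (hinj : ∀ v, S v = v → v = 0)
    (hn : 4 ≤ finrank K V) :
    2 ≤ finrank K (LinearMap.range (cmp S φ b h2 - 1)) := by
  have e1 := Module.Dual.finrank_ker_add_one_of_ne_zero (phi_ne_zero φ b h1)
  have e2 := LinearMap.finrank_range_add_finrank_ker (cmp S φ b h2 - 1)
  have e3 := finrank_ker_cmp_sub_one_le_one S φ b h2 hinj
  omega

theorem cmp_fix_eq_zero (S : End K V) (φ : Dual K V) (b : V)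
    (h2 : φ (S b) = 1) (hinj : ∀ v, S v = v → v = 0) (z : V) (hz : S z - z = b)
    (hφz : φ (z + b) ≠ 0) (v : LinearMap.ker φ) (hv : cmp S φ b h2 v = v) : v = 0 := by
  have h3 := cmp_fix S φ b h2 v hv
  set t := φ (S (v : V)) with ht
  have h4 : S ((v : V) - t • (z + b)) = (v : V) - t • (z + b) := by
    have hz' : S z = z + b := by rw [← hz]; abel
    have h3' : S (v : V) = (v : V) + t • S b := by rw [← h3]; abel
    rw [map_sub, map_smul, map_add, hz', h3']
    simp only [smul_add]
    abel
  have h5 := hinj _ h4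
  have h6 : (v : V) = t • (z + b) := sub_eq_zero.mp h5
  have h7 : φ (v : V) = 0 := v.2
  rw [h6, map_smul, smul_eq_mul] at h7
  have ht0 : t = 0 := (mul_eq_zero.mp h7).resolve_right hφz
  apply Subtype.ext
  rw [h6, ht0, zero_smul]; rfl

theorem two_le_finrank_range_cmp_sub_one'' [FiniteDimensional K V] (S : End K V) (φ : Dual K V)
    (b : V) (h1 : φ b = 1) (h2 : φ (S b) = 1) (hinj : ∀ v, S v = v → v = 0) (z : V)
    (hz : S z - z = b) (hφz : φ (z + b) ≠ 0) (hn : 3 ≤ finrank K V) :
    2 ≤ finrank K (LinearMap.range (cmp S φ b h2 - 1)) := by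
  have e1 := Module.Dual.finrank_ker_add_one_of_ne_zero (phi_ne_zero φ b h1)
  have e2 := LinearMap.finrank_range_add_finrank_ker (cmp S φ b h2 - 1)
  have e3 : LinearMap.ker (cmp S φ b h2 - 1) = ⊥ := by
    rw [LinearMap.ker_eq_bot']
    intro v hv
    apply cmp_fix_eq_zero S φ b h2 hinj z hz hφz v
    rwa [LinearMap.sub_apply, Module.End.one_apply, sub_eq_zero] at hv
  rw [e3, finrank_bot] at e2
  omega

theorem pow_eq_one_of_cmp_eq_smul [FiniteDimensional K V] (S : End K V) (φ : Dual K V) (b : V)
    (h1 : φ b = 1) (h2 : φ (S b) = 1) (hdet : LinearMap.det S = 1) (c : K)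
    (hc : cmp S φ b h2 = c • (1 : End K (LinearMap.ker φ))) :
    c ^ finrank K (LinearMap.ker φ) = 1 := by
  have h := det_cmp S φ b h1 h2
  rw [hc, LinearMap.det_smul, hdet] at h
  simpa using h

end Cfsg.Agent.Lib.Helper29.RU
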