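import Cfsg.Agent.Lib.Helper29.RU4

/-!
# RU5: selection of the vector `b` and the functional `φ`
-/

set_option autoImplicit false

namespace Cfsg.Agent.Lib.Helper29.RU

open Module

variable {K : Type*} [Field K] {V : Type*} [AddCommGroup V] [Module K V]

theorem exists_phi (hK : 4 ≤ Cardinal.mk K) (S : End K V) (b y v3 v4 : V)
    (hne : ∀ c : K, S b ≠ c • b)
    (hy : y ∉ Submodule.span K {S b - b}) (h3 : v3 ∉ Submodule.span K {S b - b})
    (h4 : v4 ∉ Submodule.span K {S b - b}) :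
    ∃ φ : Dual K V, φ b = 1 ∧ φ (S b) = 1 ∧ φ y ≠ 0 ∧ φ v3 ≠ 0 ∧ φ v4 ≠ 0 := by
  obtain ⟨ψ, h0, hb, hy', h3', h4'⟩ := exists_dual_four hK (S b - b) b y v3 v4
    (notMem_span_of_not_eigen S b hne) hy h3 h4
  have hSb : ψ (S b) = ψ b := by
    rw [map_sub, sub_eq_zero] at h0; exact h0
  refine ⟨(ψ b)⁻¹ • ψ, ?_, ?_, ?_, ?_, ?_⟩
  · simp [inv_mul_cancel₀ hb]
  · simp [hSb, inv_mul_cancel₀ hb]
  · simpa using ⟨hb, hy'⟩
  · simpa using ⟨hb, h3'⟩
  · simpa using ⟨hb, h4'⟩

theorem cmpXi_ne_zero (S : End K V) (φ : Dual K V) (b : V) (h1 : φ b = 1) (h2 : φ (S b) = 1)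
    (v : V) (hv : φ (S v - v) ≠ 0) : cmpXi S φ ≠ 0 := by
  intro h
  apply hv
  have h3 : cmpXi S φ (projKer φ b h1 v) = 0 := by rw [h]; rfl
  rw [cmpXi_apply, projKer_coe, map_sub, map_smul, map_sub, map_smul, h2] at h3
  rw [map_sub]; simpa using h3

theorem cmpXi_exists (S : End K V) (φ : Dual K V) (h : cmpXi S φ ≠ 0) :
    ∃ v : LinearMap.ker φ, φ (S (v : V)) ≠ 0 := by
  by_contra hcon
  push Not at hcon
  apply h
  apply LinearMap.ext
  intro v
  exact hcon v

theorem cmpEta_ne_zero (S : End K V) (φ : Dual K V) (b : V) (h1 : φ b = 1) (h2 : φ (S b) = 1)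
    (hb : S b ≠ b) : cmpEta S φ b h1 h2 ≠ 0 := by
  intro h
  apply hb
  have := congrArg Subtype.val h
  simpa [cmpEta, sub_eq_zero] using this

theorem exists_b_fix (hK : 4 ≤ Cardinal.mk K) [FiniteDimensional K V] (S : End K V)
    (hr : 2 ≤ finrank K (LinearMap.range (S - 1))) (x : Dual K V) (hx : x ≠ 0) (y : V)
    (f : V) (hf0 : f ≠ 0) (hf : S f = f) (E : Submodule K V) (hE : E ≠ ⊤) :
    ∃ b, x b ≠ 0 ∧ S b - b ∉ Submodule.span K {y} ∧ (∀ l : K, S b ≠ l • b) ∧
      b ∉ LinearMap.range (S - 1) ∧ b ∉ E := by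
  obtain ⟨b, hb1, hb2, hb3, hb4⟩ := exists_notMem_four hK (LinearMap.ker x)
    ((Submodule.span K {y}).comap (S - 1)) (LinearMap.range (S - 1)) E
    (ker_dual_ne_top x hx) (comap_span_ne_top S y hr) (range_sub_one_ne_top_of_fix S f hf0 hf) hE
  have hb2' : S b - b ∉ Submodule.span K {y} := by
    intro h; apply hb2
    rw [Submodule.mem_comap]; simpa using h
  have hSb : S b ≠ b := by
    intro h; apply hb2'
    rw [h, sub_self]; exact Submodule.zero_mem _
  exact ⟨b, fun h => hb1 (LinearMap.mem_ker.mpr h), hb2',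
    not_eigen_of_notMem_one S b hSb hb3, hb3, hb4⟩

theorem exists_b_nofix (hK : 4 ≤ Cardinal.mk K) [FiniteDimensional K V] (S : End K V)
    (hns : ∀ c : K, S ≠ c • (1 : End K V))
    (hr : 2 ≤ finrank K (LinearMap.range (S - 1))) (x : Dual K V) (hx : x ≠ 0) (y : V)
    (c0 : K) :
    ∃ b, x b ≠ 0 ∧ S b - b ∉ Submodule.span K {y} ∧ (∀ l : K, S b ≠ l • b) ∧
      ((∃ g, g ≠ 0 ∧ S g = c0 • g) → b ∉ LinearMap.range (S - c0 • (1 : End K V))) := by
  have main : ∀ c : K, (∃ g, g ≠ 0 ∧ S g = c • g) →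
      ∃ b, x b ≠ 0 ∧ S b - b ∉ Submodule.span K {y} ∧ (∀ l : K, S b ≠ l • b) ∧
        b ∉ LinearMap.range (S - c • (1 : End K V)) := by
    rintro c ⟨g, hg0, hg⟩
    obtain ⟨b, hb1, hb2, hb3, hb4⟩ := exists_notMem_four hK (LinearMap.ker x)
      ((Submodule.span K {y}).comap (S - 1)) (LinearMap.ker (S - c • (1 : End K V)))
      (LinearMap.range (S - c • (1 : End K V)))
      (ker_dual_ne_top x hx) (comap_span_ne_top S y hr) (ker_ne_top_of_ne_smul S c (hns c))
      (range_ne_top_of_eigen S c g hg0 hg)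
    have hb2' : S b - b ∉ Submodule.span K {y} := by
      intro h; apply hb2
      rw [Submodule.mem_comap]; simpa using h
    have hb3' : S b ≠ c • b := by
      intro h; apply hb3
      rw [LinearMap.mem_ker]
      simp [h]
    exact ⟨b, fun h => hb1 (LinearMap.mem_ker.mpr h), hb2',
      not_eigen_of_notMem S c b hb3' hb4, hb4⟩
  by_cases h0 : ∃ g, g ≠ 0 ∧ S g = c0 • g
  · obtain ⟨b, hb1, hb2, hb3, hb4⟩ := main c0 h0
    exact ⟨b, hb1, hb2, hb3, fun _ => hb4⟩
  · by_cases h1 : ∃ c : K, ∃ g, g ≠ 0 ∧ S g = c • g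
    · obtain ⟨c, hc⟩ := h1
      obtain ⟨b, hb1, hb2, hb3, -⟩ := main c hc
      exact ⟨b, hb1, hb2, hb3, fun h => absurd h h0⟩
    · obtain ⟨b, hb1, hb2, -, -⟩ := exists_notMem_four hK (LinearMap.ker x)
        ((Submodule.span K {y}).comap (S - 1)) (LinearMap.ker x) (LinearMap.ker x)
        (ker_dual_ne_top x hx) (comap_span_ne_top S y hr) (ker_dual_ne_top x hx)
        (ker_dual_ne_top x hx)
      have hb1' : x b ≠ 0 := fun h => hb1 (LinearMap.mem_ker.mpr h)
      have hb0 : b ≠ 0 := by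
        rintro rfl; exact hb1' (map_zero x)
      refine ⟨b, hb1', ?_, ?_, fun h => absurd h h0⟩
      · intro h; apply hb2
        rw [Submodule.mem_comap]; simpa using h
      · intro l hl
        exact h1 ⟨l, b, hb0, hl⟩

theorem exists_v34 [FiniteDimensional K V] (S : End K V) (hn : 4 ≤ finrank K V)
    (hr : 2 ≤ finrank K (LinearMap.range (S - 1))) (u : V) :
    ∃ v3 v4 : V, v3 ∉ Submodule.span K {u} ∧ v4 ∉ Submodule.span K {u} ∧
      (∀ c : K, finrank K (LinearMap.range (S - c • (1 : End K V))) ≤ 2 →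
        S v3 = c • v3 ∨ S v4 = c • v4) ∧
      (v3 ∈ LinearMap.range (S - 1) ∨ v4 ∈ LinearMap.range (S - 1)) := by
  obtain ⟨i1, hi1, hi1'⟩ := exists_mem_notMem_span (LinearMap.range (S - 1)) hr u
  have key : ∀ c : K, finrank K (LinearMap.range (S - c • (1 : End K V))) ≤ 2 →
      ∃ g, S g = c • g ∧ g ∉ Submodule.span K {u} := by
    intro c hc
    have e1 := LinearMap.finrank_range_add_finrank_ker (S - c • (1 : End K V))
    obtain ⟨g, hg, hg'⟩ := exists_mem_notMem_span (LinearMap.ker (S - c • (1 : End K V)))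
      (by omega) u
    refine ⟨g, ?_, hg'⟩
    rw [LinearMap.mem_ker] at hg
    simp only [LinearMap.sub_apply, LinearMap.smul_apply, Module.End.one_apply] at hg
    exact sub_eq_zero.mp hg
  have eigen_range : ∀ c : K, c ≠ 1 → ∀ g, S g = c • g → g ∈ LinearMap.range (S - 1) := by
    intro c hc g hg
    refine ⟨(c - 1)⁻¹ • g, ?_⟩
    rw [map_smul, LinearMap.sub_apply, Module.End.one_apply, hg]
    have : c • g - g = (c - 1) • g := by rw [sub_smul, one_smul]
    rw [this, smul_smul, inv_mul_cancel₀ (sub_ne_zero.mpr hc), one_smul]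
  have ne0 : ∀ g : V, g ∉ Submodule.span K {u} → g ≠ 0 := by
    rintro g hg rfl; exact hg (Submodule.zero_mem _)
  by_cases h1 : ∃ c1 : K, finrank K (LinearMap.range (S - c1 • (1 : End K V))) ≤ 2
  · obtain ⟨c1, hc1⟩ := h1
    obtain ⟨g1, hg1, hg1'⟩ := key c1 hc1
    by_cases h2 : ∃ c2 : K, c2 ≠ c1 ∧ finrank K (LinearMap.range (S - c2 • (1 : End K V))) ≤ 2
    · obtain ⟨c2, hne, hc2⟩ := h2
      obtain ⟨g2, hg2, hg2'⟩ := key c2 hc2
      refine ⟨g1, g2, hg1', hg2', ?_, ?_⟩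
      · intro c hc
        by_cases e1 : c = c1
        · left; rw [e1]; exact hg1
        · by_cases e2 : c = c2
          · right; rw [e2]; exact hg2
          · exfalso
            obtain ⟨g, hg, hg'⟩ := key c hc
            exact three_eigen_false S hn c1 c2 c (Ne.symm hne) (Ne.symm e1) (Ne.symm e2) hc1 hc2
              g (ne0 g hg') hg
      · by_cases e : c1 = 1
        · right
          exact eigen_range c2 (by rw [← e]; exact hne) g2 hg2
        · left
          exact eigen_range c1 e g1 hg1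
    · push Not at h2
      refine ⟨g1, i1, hg1', hi1', ?_, Or.inr hi1⟩
      intro c hc
      by_cases e1 : c = c1
      · left; rw [e1]; exact hg1
      · exfalso
        have := h2 c e1
        omega
  · push Not at h1
    refine ⟨i1, i1, hi1', hi1', ?_, Or.inl hi1⟩
    intro c hc
    exfalso
    have := h1 c
    omega

end Cfsg.Agent.Lib.Helper29.RU
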