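import Cfsg.Agent.Lib.Helper29.RU5

/-!
# RU6: an invariant plane with determinant one forces the eigenvalue one (dimension three)
-/

set_option autoImplicit false

namespace Cfsg.Agent.Lib.Helper29.RU

open Module

variable {K : Type*} [Field K] {V : Type*} [AddCommGroup V] [Module K V]

/-- An endomorphism of a one-dimensional space with determinant one is the identity. -/
theorem eq_one_of_det_eq_one_of_finrank_one {Q : Type*} [AddCommGroup Q] [Module K Q]
    [FiniteDimensional K Q] (hQ : finrank K Q = 1) (T : End K Q) (hT : LinearMap.det T = 1) :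
    T = 1 := by
  obtain ⟨q0, hq0, hq⟩ : ∃ q0 : Q, q0 ≠ 0 ∧ ∀ w : Q, ∃ c : K, c • q0 = w := by
    obtain ⟨q0, hq0⟩ := finrank_eq_one_iff'.mp hQ
    exact ⟨q0, hq0.1, hq0.2⟩
  obtain ⟨c, hc⟩ := hq (T q0)
  have hTc : T = c • (1 : End K Q) := by
    apply LinearMap.ext
    intro w
    obtain ⟨d, rfl⟩ := hq w
    rw [map_smul, ← hc, LinearMap.smul_apply, Module.End.one_apply, smul_comm]
  rw [hTc, LinearMap.det_smul, hQ] at hT
  have : c = 1 := by simpa using hT
  rw [hTc, this, one_smul]

theorem det_restrict_pair [FiniteDimensional K V] (S : End K V) (b : V) (β : K)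
    (hLI : LinearIndependent K ![b, S b]) (hSS : S (S b) = β • S b - b)
    (hD : Submodule.span K (Set.range ![b, S b]) ≤
      (Submodule.span K (Set.range ![b, S b])).comap S) :
    LinearMap.det (S.restrict hD) = 1 := by
  set B := Basis.span hLI with hB
  have hB0 : ((B 0 : Submodule.span K (Set.range ![b, S b])) : V) = b := by
    rw [hB, Basis.span_apply]; rfl
  have hB1 : ((B 1 : Submodule.span K (Set.range ![b, S b])) : V) = S b := by
    rw [hB, Basis.span_apply]; rfl
  have e0 : S.restrict hD (B 0) = B 1 := by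
    apply Subtype.ext
    rw [LinearMap.coe_restrict_apply, hB0, hB1]
  have e1 : S.restrict hD (B 1) = β • B 1 - B 0 := by
    apply Subtype.ext
    rw [LinearMap.coe_restrict_apply, hB1, hSS]
    simp [hB0, hB1]
  have hM : LinearMap.toMatrix B B (S.restrict hD) = !![0, -1; 1, β] := by
    ext i j
    rw [LinearMap.toMatrix_apply]
    fin_cases j
    · simp only [Fin.zero_eta, e0, Basis.repr_self]
      fin_cases i <;> simp
    · simp only [Fin.mk_one, e1, map_sub, map_smul, Basis.repr_self]
      fin_cases i <;> simp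
  rw [← LinearMap.det_toMatrix B, hM, Matrix.det_fin_two_of]
  ring

theorem linearIndependent_pair_of_not_eigen (S : End K V) (b : V) (hne : ∀ l : K, S b ≠ l • b) :
    LinearIndependent K ![b, S b] := by
  rw [LinearIndependent.pair_iff]
  intro s t hst
  have hb0 : b ≠ 0 := by
    rintro rfl
    apply hne 0
    simp
  have ht : t = 0 := by
    by_contra ht
    apply hne (-(t⁻¹ * s))
    have : t • S b = -(s • b) := by
      rw [eq_neg_iff_add_eq_zero, add_comm]; exact hst
    have h2 : S b = t⁻¹ • (t • S b) := by rw [smul_smul, inv_mul_cancel₀ ht, one_smul]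
    rw [h2, this, smul_neg, smul_smul, neg_smul]
  rw [ht, zero_smul, add_zero] at hst
  exact ⟨(smul_eq_zero.mp hst).resolve_right hb0, ht⟩

/-- In dimension three, with `det S = 1` and no fixed vectors, the vector `z + b` (where
`(S - 1) z = b`) is not a multiple of `S b - b`. -/
theorem notMem_span_of_det [FiniteDimensional K V] (S : End K V) (hdet : LinearMap.det S = 1)
    (hn : finrank K V = 3) (hinj : ∀ v, S v = v → v = 0) (b : V) (hne : ∀ l : K, S b ≠ l • b)
    (z : V) (hz : S z - z = b) : z + b ∉ Submodule.span K {S b - b} := by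
  intro hmem
  obtain ⟨t, ht⟩ := Submodule.mem_span_singleton.mp hmem
  have hz' : S z = z + b := by rw [← hz]; abel
  have hzt : z = t • (S b - b) - b := by rw [ht]; abel
  have ht0 : t ≠ 0 := by
    rintro rfl
    rw [zero_smul, zero_sub] at hzt
    rw [hzt, map_neg] at hz'
    apply hne 0
    rw [zero_smul]
    have : - S b = 0 := by rw [hz']; abel
    exact neg_eq_zero.mp this
  have hSS : S (S b) = ((2 * t + 1) / t) • S b - b := by
    have h1 : S z = t • (S (S b) - S b) - S b := by
      rw [hzt]; simp [map_sub, map_smul]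
    have h2 : t • S (S b) = (2 * t + 1) • S b - t • b := by
      have h3 : t • (S (S b) - S b) - S b = t • (S b - b) := by rw [← h1, hz', ← ht]
      have h4 : t • S (S b) = t • (S b - b) + t • S b + S b := by
        rw [← h3, smul_sub]; abel
      rw [h4]; module
    have h5 : S (S b) = t⁻¹ • (t • S (S b)) := by
      rw [smul_smul, inv_mul_cancel₀ ht0, one_smul]
    rw [h5, h2, smul_sub, smul_smul, smul_smul, inv_mul_cancel₀ ht0, one_smul, div_eq_inv_mul]
  have hLI := linearIndependent_pair_of_not_eigen S b hne
  set D := Submodule.span K (Set.range ![b, S b]) with hDdef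
  have hbD : b ∈ D := Submodule.subset_span ⟨0, rfl⟩
  have hSbD : S b ∈ D := Submodule.subset_span ⟨1, rfl⟩
  have hD : D ≤ D.comap S := by
    rw [hDdef, Submodule.span_le]
    rintro _ ⟨i, rfl⟩
    fin_cases i
    · exact hSbD
    · change S (S b) ∈ D
      rw [hSS]
      exact D.sub_mem (D.smul_mem _ hSbD) hbD
  have hdetD := det_restrict_pair S b _ hLI hSS hD
  have hfD : finrank K D = 2 := by
    rw [hDdef, finrank_span_eq_card hLI]; simp
  have hmul := LinearMap.det_eq_det_mul_det D S hD
  rw [hdet, hdetD, one_mul] at hmul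
  have hQ : finrank K (V ⧸ D) = 1 := by
    have := Submodule.finrank_quotient_add_finrank D
    omega
  have hT := eq_one_of_det_eq_one_of_finrank_one hQ _ hmul.symm
  -- so `S v - v ∈ D` for all `v`
  have hle : LinearMap.range (S - 1) ≤ D := by
    rintro _ ⟨v, rfl⟩
    have h6 : D.mapQ D S hD (D.mkQ v) = D.mkQ v := by rw [hT]; rfl
    rw [Submodule.mkQ_apply, Submodule.mapQ_apply, Submodule.Quotient.eq] at h6
    simpa using h6
  have hker : LinearMap.ker (S - 1) = ⊥ := by
    rw [LinearMap.ker_eq_bot']
    intro v hv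
    apply hinj
    rw [LinearMap.sub_apply, Module.End.one_apply, sub_eq_zero] at hv
    exact hv
  have e1 := LinearMap.finrank_range_add_finrank_ker (S - 1)
  rw [hker, finrank_bot] at e1
  have e2 := Submodule.finrank_mono hle
  omega

end Cfsg.Agent.Lib.Helper29.RU
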