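import Cfsg.Agent.Lib.Helper29.RU6

/-!
# RU7: the selection step: from `Star S` to a compression satisfying `Star`
-/

set_option autoImplicit false

namespace Cfsg.Agent.Lib.Helper29.RU

open Module

variable {K : Type*} [Field K] {V : Type*} [AddCommGroup V] [Module K V]

theorem ne_zero_of_cmp_eq_smul [FiniteDimensional K V] (S : End K V) (φ : Dual K V) (b : V)
    (h1 : φ b = 1) (h2 : φ (S b) = 1) (hdet : LinearMap.det S = 1) (hn : 2 ≤ finrank K V)
    (c : K) (hc : cmp S φ b h2 = c • (1 : End K (LinearMap.ker φ))) : c ≠ 0 := by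
  have e1 := Module.Dual.finrank_ker_add_one_of_ne_zero (phi_ne_zero φ b h1)
  have h := pow_eq_one_of_cmp_eq_smul S φ b h1 h2 hdet c hc
  rintro rfl
  rw [zero_pow (by omega)] at h
  exact zero_ne_one h

theorem cmp_ne_one_of_rank [FiniteDimensional K V] (S : End K V) (φ : Dual K V) (b : V)
    (h2 : φ (S b) = 1) (hr : 2 ≤ finrank K (LinearMap.range (cmp S φ b h2 - 1))) :
    cmp S φ b h2 ≠ (1 : K) • (1 : End K (LinearMap.ker φ)) := by
  intro h
  rw [one_smul] at h
  rw [h, sub_self, LinearMap.range_zero, finrank_bot] at hr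
  omega

/-- The compression satisfies `Star` (dimension at least four). -/
theorem star_cmp_four [FiniteDimensional K V] (S : End K V) (φ : Dual K V) (b : V)
    (h1 : φ b = 1) (h2 : φ (S b) = 1) (hdet : LinearMap.det S = 1) (hn : 4 ≤ finrank K V)
    (hSb : S b ≠ b) (v3 v4 : V) (hφ3 : φ v3 ≠ 0) (hφ4 : φ v4 ≠ 0)
    (h34 : ∀ c : K, finrank K (LinearMap.range (S - c • (1 : End K V))) ≤ 2 →
      S v3 = c • v3 ∨ S v4 = c • v4)
    (hr : 2 ≤ finrank K (LinearMap.range (S - 1)))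
    (hcase : b ∉ LinearMap.range (S - 1) ∨ ∀ v, S v = v → v = 0) :
    Star (cmp S φ b h2) := by
  right
  constructor
  · intro c hc
    have hc0 := ne_zero_of_cmp_eq_smul S φ b h1 h2 hdet (by omega) c hc
    have hrk := finrank_range_le_two_of_cmp_eq_smul S φ b h1 h2 c hc
    rcases h34 c hrk with h | h
    · exact hφ3 (phi_eq_zero_of_cmp_eq_smul S φ b h1 h2 hSb c hc0 hc v3 h)
    · exact hφ4 (phi_eq_zero_of_cmp_eq_smul S φ b h1 h2 hSb c hc0 hc v4 h)
  · rcases hcase with hb | hinj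
    · apply two_le_finrank_range_cmp_sub_one S φ b h1 h2 hb
      by_cases hr3 : 3 ≤ finrank K (LinearMap.range (S - 1))
      · exact Or.inl hr3
      · right
        refine ⟨hr, ?_⟩
        have h1' : finrank K (LinearMap.range (S - (1 : K) • (1 : End K V))) ≤ 2 := by
          rw [one_smul]; omega
        rcases h34 1 h1' with h | h
        · exact ⟨v3, by simpa using h, hφ3⟩
        · exact ⟨v4, by simpa using h, hφ4⟩
    · exact two_le_finrank_range_cmp_sub_one' S φ b h1 h2 hinj hn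

/-- The result of the selection step. -/
def StepResult (S : End K V) (x : Dual K V) (y : V) : Prop :=
  ∃ (b : V) (φ : Dual K V) (h1 : φ b = 1) (h2 : φ (S b) = 1), x b ≠ 0 ∧ φ y ≠ 0 ∧
    cmpXi S φ ≠ 0 ∧ cmpEta S φ b h1 h2 ≠ 0 ∧ Star (cmp S φ b h2) ∧
    LinearMap.det (cmp S φ b h2) = 1

theorem exists_step_four (hK : 4 ≤ Cardinal.mk K) [FiniteDimensional K V] (S : End K V)
    (hdet : LinearMap.det S = 1) (hn : 4 ≤ finrank K V) (hns : ∀ c : K, S ≠ c • (1 : End K V))
    (hr : 2 ≤ finrank K (LinearMap.range (S - 1))) (x : Dual K V) (hx : x ≠ 0) (y : V)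
    (hy : y ≠ 0) : StepResult S x y := by
  -- choose `b`
  obtain ⟨b, hxb, hyb, hne, hcase⟩ : ∃ b, x b ≠ 0 ∧ S b - b ∉ Submodule.span K {y} ∧
      (∀ l : K, S b ≠ l • b) ∧ (b ∉ LinearMap.range (S - 1) ∨ ∀ v, S v = v → v = 0) := by
    by_cases hfix : ∃ f, f ≠ 0 ∧ S f = f
    · obtain ⟨f, hf0, hf⟩ := hfix
      obtain ⟨b, hb1, hb2, hb3, hb4, -⟩ := exists_b_fix hK S hr x hx y f hf0 hf (LinearMap.ker x)
        (ker_dual_ne_top x hx)
      exact ⟨b, hb1, hb2, hb3, Or.inl hb4⟩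
    · obtain ⟨b, hb1, hb2, hb3, -⟩ := exists_b_nofix hK S hns hr x hx y 0
      refine ⟨b, hb1, hb2, hb3, Or.inr ?_⟩
      intro v hv
      by_contra hv0
      exact hfix ⟨v, hv0, hv⟩
  have hSb : S b ≠ b := by simpa using hne 1
  obtain ⟨v3, v4, h3, h4, h34, hrange⟩ := exists_v34 S hn hr (S b - b)
  obtain ⟨φ, h1, h2, hφy, hφ3, hφ4⟩ := exists_phi hK S b y v3 v4 hne
    (notMem_span_of_notMem_span _ y hy hyb) h3 h4
  refine ⟨b, φ, h1, h2, hxb, hφy, ?_, cmpEta_ne_zero S φ b h1 h2 hSb,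
    star_cmp_four S φ b h1 h2 hdet hn hSb v3 v4 hφ3 hφ4 h34 hr hcase, ?_⟩
  · rcases hrange with ⟨w, hw⟩ | ⟨w, hw⟩
    · apply cmpXi_ne_zero S φ b h1 h2 w
      rw [LinearMap.sub_apply, Module.End.one_apply] at hw
      rw [hw]; exact hφ3
    · apply cmpXi_ne_zero S φ b h1 h2 w
      rw [LinearMap.sub_apply, Module.End.one_apply] at hw
      rw [hw]; exact hφ4
  · rw [det_cmp S φ b h1 h2, hdet]

theorem exists_z_of_inj [FiniteDimensional K V] (S : End K V) (hinj : ∀ v, S v = v → v = 0)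
    (b : V) : ∃ z, S z - z = b := by
  have hker : LinearMap.ker (S - 1) = ⊥ := by
    rw [LinearMap.ker_eq_bot']
    intro v hv
    apply hinj
    rw [LinearMap.sub_apply, Module.End.one_apply, sub_eq_zero] at hv
    exact hv
  have hsurj : Function.Surjective ⇑(S - (1 : End K V)) :=
    LinearMap.injective_iff_surjective.mp (LinearMap.ker_eq_bot.mp hker)
  obtain ⟨z, hz⟩ := hsurj b
  exact ⟨z, by simpa using hz⟩

theorem sq_cases (c : K) (h : c ^ 2 = 1) : c = 1 ∨ c = -1 := by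
  have : (c - 1) * (c + 1) = 0 := by ring_nf; rw [h]; ring
  rcases mul_eq_zero.mp this with h1 | h1
  · left; exact sub_eq_zero.mp h1
  · right; exact eq_neg_of_add_eq_zero_left h1

/-- scalar compressions in dimension three: the scalar is `-1 ≠ 1` and `-1` is an eigenvalue. -/
theorem cmp_eq_smul_three [FiniteDimensional K V] (S : End K V) (φ : Dual K V) (b : V)
    (h1 : φ b = 1) (h2 : φ (S b) = 1) (hdet : LinearMap.det S = 1) (hn : finrank K V = 3)
    (hr : 2 ≤ finrank K (LinearMap.range (cmp S φ b h2 - 1))) (c : K)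
    (hc : cmp S φ b h2 = c • (1 : End K (LinearMap.ker φ))) :
    c = -1 ∧ (2 : K) ≠ 0 ∧ ∃ g, g ≠ 0 ∧ S g = (-1 : K) • g := by
  have e1 := Module.Dual.finrank_ker_add_one_of_ne_zero (phi_ne_zero φ b h1)
  have hk : finrank K (LinearMap.ker φ) = 2 := by omega
  have hpow := pow_eq_one_of_cmp_eq_smul S φ b h1 h2 hdet c hc
  rw [hk] at hpow
  have hc1 : c ≠ 1 := by
    rintro rfl
    exact cmp_ne_one_of_rank S φ b h2 hr hc
  have hcm : c = -1 := (sq_cases c hpow).resolve_left hc1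
  refine ⟨hcm, ?_, ?_⟩
  · intro h20
    apply hc1
    rw [hcm]
    have : (1 : K) + 1 = 0 := by rw [one_add_one_eq_two]; exact h20
    exact neg_eq_of_add_eq_zero_left this
  · have hrk := finrank_range_le_two_of_cmp_eq_smul S φ b h1 h2 c hc
    have e2 := LinearMap.finrank_range_add_finrank_ker (S - c • (1 : End K V))
    have hpos : 0 < finrank K (LinearMap.ker (S - c • (1 : End K V))) := by omega
    obtain ⟨g, hg0⟩ := (Module.finrank_pos_iff_exists_ne_zero).mp hpos
    refine ⟨(g : V), fun h => hg0 (Subtype.ext h), ?_⟩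
    have hg := LinearMap.mem_ker.mp g.2
    simp only [LinearMap.sub_apply, LinearMap.smul_apply, Module.End.one_apply] at hg
    rw [← hcm]
    exact sub_eq_zero.mp hg

theorem exists_step_three_fix (hK : 4 ≤ Cardinal.mk K) [FiniteDimensional K V] (S : End K V)
    (hdet : LinearMap.det S = 1) (hn : finrank K V = 3)
    (hr : 2 ≤ finrank K (LinearMap.range (S - 1))) (x : Dual K V) (hx : x ≠ 0) (y : V)
    (hy : y ≠ 0) (f : V) (hf0 : f ≠ 0) (hf : S f = f) : StepResult S x y := by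
  classical
  -- the extra subspace to avoid
  obtain ⟨E, hE, hE1, hE2⟩ : ∃ E : Submodule K V, E ≠ ⊤ ∧
      (∀ v, S (S v - v) - (S v - v) = 0 → v ∈ E) ∧
      (((2 : K) ≠ 0 ∧ ∃ g, g ≠ 0 ∧ S g = (-1 : K) • g) →
        E = LinearMap.range (S - (-1 : K) • (1 : End K V))) := by
    by_cases hcond : (2 : K) ≠ 0 ∧ ∃ g, g ≠ 0 ∧ S g = (-1 : K) • g
    · obtain ⟨h20, g, hg0, hg⟩ := hcond
      exact ⟨LinearMap.range (S - (-1 : K) • (1 : End K V)), range_ne_top_of_eigen S (-1) g hg0 hg,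
        fun v hv => mem_range_of_sq S h20 v hv, fun _ => rfl⟩
    · refine ⟨LinearMap.ker ((S - 1) * (S - 1)), ?_, ?_, fun h => absurd h hcond⟩
      · intro htop
        have hzero : (S - 1) * (S - 1) = 0 := LinearMap.ker_eq_top.mp htop
        have hle : LinearMap.range (S - 1) ≤ LinearMap.ker (S - 1) := by
          rintro _ ⟨v, rfl⟩
          rw [LinearMap.mem_ker, ← Module.End.mul_apply, hzero, LinearMap.zero_apply]
        have e1 := LinearMap.finrank_range_add_finrank_ker (S - 1)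
        have e2 := Submodule.finrank_mono hle
        omega
      · intro v hv
        rw [LinearMap.mem_ker, Module.End.mul_apply]
        simpa using hv
  obtain ⟨b, hxb, hyb, hne, hbI, hbE⟩ := exists_b_fix hK S hr x hx y f hf0 hf E hE
  have hSb : S b ≠ b := by simpa using hne 1
  have hR2 : S (S b - b) - (S b - b) ≠ 0 := fun h => hbE (hE1 b h)
  -- `f ∉ span {S b - b}`
  have hf3 : f ∉ Submodule.span K {S b - b} := by
    intro hmem
    obtain ⟨t, ht⟩ := Submodule.mem_span_singleton.mp hmem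
    apply hR2
    have ht0 : t ≠ 0 := by
      rintro rfl; rw [zero_smul] at ht; exact hf0 ht.symm
    have h5 : S b - b = t⁻¹ • f := by rw [← ht, smul_smul, inv_mul_cancel₀ ht0, one_smul]
    rw [h5, map_smul, hf, sub_self]
  obtain ⟨i1, hi1, hi1'⟩ := exists_mem_notMem_span (LinearMap.range (S - 1)) hr (S b - b)
  obtain ⟨φ, h1, h2, hφy, hφ3, hφ4⟩ := exists_phi hK S b y f i1 hne
    (notMem_span_of_notMem_span _ y hy hyb) hf3 hi1'
  have hrank : 2 ≤ finrank K (LinearMap.range (cmp S φ b h2 - 1)) :=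
    two_le_finrank_range_cmp_sub_one S φ b h1 h2 hbI (Or.inr ⟨hr, f, hf, hφ3⟩)
  have hξ : cmpXi S φ ≠ 0 := by
    obtain ⟨w, hw⟩ := hi1
    apply cmpXi_ne_zero S φ b h1 h2 w
    rw [LinearMap.sub_apply, Module.End.one_apply] at hw
    rw [hw]; exact hφ4
  refine ⟨b, φ, h1, h2, hxb, hφy, hξ, cmpEta_ne_zero S φ b h1 h2 hSb, Or.inr ⟨?_, hrank⟩, ?_⟩
  · intro c hc
    obtain ⟨hcm, h20, hg⟩ := cmp_eq_smul_three S φ b h1 h2 hdet hn hrank c hc
    have hEeq := hE2 ⟨h20, hg⟩
    have hc0 : c ≠ 0 := ne_zero_of_cmp_eq_smul S φ b h1 h2 hdet (by omega) c hc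
    have := mem_range_of_cmp_eq_smul S φ b h2 c hc0 hc (cmpXi_exists S φ hξ)
    rw [hcm, ← hEeq] at this
    exact hbE this
  · rw [det_cmp S φ b h1 h2, hdet]

theorem exists_step_three_nofix (hK : 4 ≤ Cardinal.mk K) [FiniteDimensional K V] (S : End K V)
    (hdet : LinearMap.det S = 1) (hn : finrank K V = 3)
    (hns : ∀ c : K, S ≠ c • (1 : End K V))
    (hr : 2 ≤ finrank K (LinearMap.range (S - 1))) (x : Dual K V) (hx : x ≠ 0) (y : V)
    (hy : y ≠ 0) (hinj : ∀ v, S v = v → v = 0) : StepResult S x y := by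
  obtain ⟨b, hxb, hyb, hne, hbc⟩ := exists_b_nofix hK S hns hr x hx y (-1)
  have hSb : S b ≠ b := by simpa using hne 1
  obtain ⟨z, hz⟩ := exists_z_of_inj S hinj b
  have hz3 := notMem_span_of_det S hdet hn hinj b hne z hz
  obtain ⟨φ, h1, h2, hφy, hφ3, -⟩ := exists_phi hK S b y (z + b) b hne
    (notMem_span_of_notMem_span _ y hy hyb) hz3 (notMem_span_of_not_eigen S b hne)
  have hrank : 2 ≤ finrank K (LinearMap.range (cmp S φ b h2 - 1)) :=
    two_le_finrank_range_cmp_sub_one'' S φ b h1 h2 hinj z hz hφ3 (by omega)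
  have hξ : cmpXi S φ ≠ 0 := by
    apply cmpXi_ne_zero S φ b h1 h2 z
    rw [hz, h1]; exact one_ne_zero
  refine ⟨b, φ, h1, h2, hxb, hφy, hξ, cmpEta_ne_zero S φ b h1 h2 hSb, Or.inr ⟨?_, hrank⟩, ?_⟩
  · intro c hc
    obtain ⟨hcm, -, hg⟩ := cmp_eq_smul_three S φ b h1 h2 hdet hn hrank c hc
    have hc0 : c ≠ 0 := ne_zero_of_cmp_eq_smul S φ b h1 h2 hdet (by omega) c hc
    have := mem_range_of_cmp_eq_smul S φ b h2 c hc0 hc (cmpXi_exists S φ hξ)
    rw [hcm] at this
    exact hbc hg this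
  · rw [det_cmp S φ b h1 h2, hdet]

theorem exists_step_two (hK : 4 ≤ Cardinal.mk K) [FiniteDimensional K V] (S : End K V)
    (hdet : LinearMap.det S = 1) (hn : finrank K V = 2)
    (hns : ∀ c : K, S ≠ c • (1 : End K V))
    (hr : 2 ≤ finrank K (LinearMap.range (S - 1))) (x : Dual K V) (hx : x ≠ 0) (y : V)
    (hy : y ≠ 0) : StepResult S x y := by
  have hinj : ∀ v, S v = v → v = 0 := by
    have e1 := LinearMap.finrank_range_add_finrank_ker (S - 1)
    have hk : finrank K (LinearMap.ker (S - 1)) = 0 := by omega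
    have hker : LinearMap.ker (S - 1) = ⊥ := Submodule.finrank_eq_zero.mp hk
    intro v hv
    have : v ∈ LinearMap.ker (S - 1) := by
      rw [LinearMap.mem_ker, LinearMap.sub_apply, Module.End.one_apply, hv, sub_self]
    rw [hker] at this
    exact (Submodule.mem_bot K).mp this
  obtain ⟨b, hxb, hyb, hne, -⟩ := exists_b_nofix hK S hns hr x hx y 0
  have hSb : S b ≠ b := by simpa using hne 1
  obtain ⟨z, hz⟩ := exists_z_of_inj S hinj b
  have hb3 := notMem_span_of_not_eigen S b hne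
  obtain ⟨φ, h1, h2, hφy, -, -⟩ := exists_phi hK S b y b b hne
    (notMem_span_of_notMem_span _ y hy hyb) hb3 hb3
  have hξ : cmpXi S φ ≠ 0 := by
    apply cmpXi_ne_zero S φ b h1 h2 z
    rw [hz, h1]; exact one_ne_zero
  refine ⟨b, φ, h1, h2, hxb, hφy, hξ, cmpEta_ne_zero S φ b h1 h2 hSb, Or.inl ?_, ?_⟩
  · have e1 := Module.Dual.finrank_ker_add_one_of_ne_zero (phi_ne_zero φ b h1)
    omega
  · rw [det_cmp S φ b h1 h2, hdet]

/-- **The selection step.** -/
theorem exists_step (hK : 4 ≤ Cardinal.mk K) [FiniteDimensional K V] (S : End K V)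
    (hdet : LinearMap.det S = 1) (hn : 2 ≤ finrank K V) (hS : Star S)
    (x : Dual K V) (hx : x ≠ 0) (y : V) (hy : y ≠ 0) : StepResult S x y := by
  rcases hS with h | ⟨hns, hr⟩
  · omega
  · by_cases h2 : finrank K V = 2
    · exact exists_step_two hK S hdet h2 hns hr x hx y hy
    · by_cases h3 : finrank K V = 3
      · by_cases hfix : ∃ f, f ≠ 0 ∧ S f = f
        · obtain ⟨f, hf0, hf⟩ := hfix
          exact exists_step_three_fix hK S hdet h3 hr x hx y hy f hf0 hf
        · apply exists_step_three_nofix hK S hdet h3 hns hr x hx y hy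
          intro v hv
          by_contra hv0
          exact hfix ⟨v, hv0, hv⟩
      · exact exists_step_four hK S hdet (by omega) hns hr x hx y hy

end Cfsg.Agent.Lib.Helper29.RU
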