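import Cfsg.Agent.Lib.Helper29.RU7

/-!
# RU8: the induction: `Star S` and `det S = 1` imply `Good S x y`
-/

set_option autoImplicit false

namespace Cfsg.Agent.Lib.Helper29.RU

open Module

universe u v

variable {K : Type u} [Field K]

theorem good_of_finrank_one {V : Type v} [AddCommGroup V] [Module K V] [FiniteDimensional K V]
    (hV : finrank K V = 1) (S : End K V) (hdet : LinearMap.det S = 1) (x : Dual K V)
    (hx : x ≠ 0) (y : V) (hy : y ≠ 0) : Good S x y := by
  have hS : S = 1 := eq_one_of_det_eq_one_of_finrank_one hV S hdet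
  obtain ⟨q0, hq0, hq⟩ : ∃ q0 : V, q0 ≠ 0 ∧ ∀ w : V, ∃ c : K, c • q0 = w := by
    obtain ⟨q0, hq0⟩ := finrank_eq_one_iff'.mp hV
    exact ⟨q0, hq0.1, hq0.2⟩
  have hru : IsRU (1 : End K V) := by
    refine ⟨⟨1, by simp⟩, q0, fun v _ => ?_⟩
    obtain ⟨c, hc⟩ := hq v
    exact ⟨c, hc.symm⟩
  refine ⟨1, 1, by rw [hS, mul_one], hru, hru, ?_, ?_⟩
  · intro v _ hxv
    obtain ⟨c, rfl⟩ := hq v
    have hxq : x q0 ≠ 0 := by
      intro h0
      apply hx
      apply LinearMap.ext
      intro w
      obtain ⟨d, rfl⟩ := hq w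
      simp [h0]
    rw [map_smul, smul_eq_mul] at hxv
    rcases mul_eq_zero.mp hxv with h | h
    · rw [h, zero_smul]
    · exact absurd h hxq
  · intro w h
    apply hy
    rw [← h]; simp

/-- **Main induction.** -/
theorem good_of_star (hK : 4 ≤ Cardinal.mk K) :
    ∀ (n : ℕ) (V : Type v) [AddCommGroup V] [Module K V] [FiniteDimensional K V],
      finrank K V = n + 1 → ∀ S : End K V, LinearMap.det S = 1 → Star S →
        ∀ x : Dual K V, x ≠ 0 → ∀ y : V, y ≠ 0 → Good S x y := by
  intro n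
  induction n with
  | zero =>
    intro V _ _ _ hV S hdet _ x hx y hy
    exact good_of_finrank_one (by simpa using hV) S hdet x hx y hy
  | succ n ih =>
    intro V _ _ _ hV S hdet hS x hx y hy
    obtain ⟨b, φ, h1, h2, hxb, hφy, hξ, hη, hstar, hdet'⟩ :=
      exists_step hK S hdet (by omega) hS x hx y hy
    have e1 := Module.Dual.finrank_ker_add_one_of_ne_zero (phi_ne_zero φ b h1)
    have hV' : finrank K (LinearMap.ker φ) = n + 1 := by omega
    have := ih (LinearMap.ker φ) hV' (cmp S φ b h2) hdet' hstar (cmpXi S φ) hξ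
      (cmpEta S φ b h1 h2) hη
    exact good_of_cmp S φ b h1 h2 x y hxb hφy this

end Cfsg.Agent.Lib.Helper29.RU
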