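import Cfsg.Agent.Lib.Helper29.RU8

/-!
# RU9: transvections are products of two regular unipotents
-/

set_option autoImplicit false

namespace Cfsg.Agent.Lib.Helper29.RU

open Module

universe u v

variable {K : Type u} [Field K]

section Lift

variable {V : Type v} [AddCommGroup V] [Module K V]

theorem liftA_coe (S : End K V) (φ : Dual K V) (b : V) (h1 : φ b = 1)
    (A' : End K (LinearMap.ker φ)) (w : LinearMap.ker φ) :
    liftA S φ b h1 A' (w : V) = ((A' w : LinearMap.ker φ) : V) := by
  rw [liftA_apply, phi_coe, zero_smul, zero_add, projKer_of_mem]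

theorem liftA_fixed (S : End K V) (φ : Dual K V) (b : V) (h1 : φ b = 1) (h2 : φ (S b) = 1)
    (A' : End K (LinearMap.ker φ)) (p' : LinearMap.ker φ)
    (hp' : ∀ w, A' w = w → ∃ t : K, w = t • p')
    (hη : ∀ w, A' w - w ≠ cmpEta S φ b h1 h2) (v : V) (hv : liftA S φ b h1 A' v = v) :
    ∃ t : K, v = t • (p' : V) := by
  have h0 : (liftA S φ b h1 A' - 1) v = 0 := by
    rw [LinearMap.sub_apply, Module.End.one_apply, hv, sub_self]
  rw [liftA_sub_one_apply S φ b h1 h2] at h0
  have h0' : φ v • cmpEta S φ b h1 h2 + (A' - 1) (projKer φ b h1 v) = 0 :=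
    Subtype.ext (by simpa using h0)
  have hφv : φ v = 0 := by
    by_contra hne
    apply hη (-(φ v)⁻¹ • projKer φ b h1 v)
    have h3 : (A' - 1) (projKer φ b h1 v) = -(φ v • cmpEta S φ b h1 h2) :=
      eq_neg_of_add_eq_zero_right h0'
    have h4 : A' (-(φ v)⁻¹ • projKer φ b h1 v) - (-(φ v)⁻¹ • projKer φ b h1 v)
        = -(φ v)⁻¹ • (A' - 1) (projKer φ b h1 v) := by
      rw [LinearMap.sub_apply, Module.End.one_apply, map_smul, smul_sub]
    rw [h4, h3, smul_neg, neg_smul, neg_neg, smul_smul, inv_mul_cancel₀ hne, one_smul]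
  rw [hφv, zero_smul, zero_add, LinearMap.sub_apply, Module.End.one_apply, sub_eq_zero] at h0'
  obtain ⟨t, ht⟩ := hp' _ h0'
  refine ⟨t, ?_⟩
  have h5 := coe_projKer_add φ b h1 v
  rw [hφv, zero_smul, zero_add, ht] at h5
  simpa using h5

/-- The auxiliary map `1 + φ ⊗ ℓ` used to prescribe `S b = b + ℓ`. -/
def auxS (φ : Dual K V) (l : LinearMap.ker φ) : End K V := 1 + φ.smulRight (l : V)

theorem auxS_b (φ : Dual K V) (b : V) (h1 : φ b = 1) (l : LinearMap.ker φ) :
    auxS φ l b = b + (l : V) := by
  simp [auxS, LinearMap.smulRight_apply, h1]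

theorem phi_auxS_b (φ : Dual K V) (b : V) (h1 : φ b = 1) (l : LinearMap.ker φ) :
    φ (auxS φ l b) = 1 := by
  rw [auxS_b φ b h1, map_add, h1, phi_coe, add_zero]

theorem cmpEta_auxS (φ : Dual K V) (b : V) (h1 : φ b = 1) (l : LinearMap.ker φ) :
    cmpEta (auxS φ l) φ b h1 (phi_auxS_b φ b h1 l) = l := by
  apply Subtype.ext
  simp [cmpEta, auxS_b φ b h1]

end Lift

/-- A unipotent map with prescribed fixed line, having the fixed vector in the range of `A - 1`
when the dimension is at least two. -/
theorem exists_ru_fix :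
    ∀ (n : ℕ) (V : Type v) [AddCommGroup V] [Module K V] [FiniteDimensional K V],
      finrank K V = n + 1 → ∀ a : V, a ≠ 0 →
      ∃ A : End K V, (∃ k : ℕ, (A - 1) ^ k = 0) ∧ A a = a ∧
        (∀ v, A v = v → ∃ t : K, v = t • a) ∧
        (2 ≤ finrank K V → a ∈ LinearMap.range (A - 1)) := by
  intro n
  induction n with
  | zero =>
    intro V _ _ _ hV a ha
    refine ⟨1, ⟨1, by simp⟩, rfl, ?_, fun h => by omega⟩
    intro v _
    have := (finrank_eq_one_iff_of_nonzero' a ha).mp (by simpa using hV) v
    obtain ⟨c, hc⟩ := this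
    exact ⟨c, hc.symm⟩
  | succ n ih =>
    intro V _ _ _ hV a ha
    -- a functional vanishing at `a` and a vector `b` with `φ b = 1`
    obtain ⟨w, -, hw⟩ := exists_mem_notMem_span (⊤ : Submodule K V)
      (by rw [finrank_top]; omega) a
    obtain ⟨φ, hφa, hφw⟩ : ∃ φ : Dual K V, φ a = 0 ∧ φ w ≠ 0 := by
      set N : Submodule K V := Submodule.span K {a}
      have hq : N.mkQ w ≠ 0 := by
        rw [Ne, Submodule.mkQ_apply, Submodule.Quotient.mk_eq_zero]; exact hw
      obtain ⟨ψ, hψ⟩ : ∃ ψ : Dual K (V ⧸ N), ψ (N.mkQ w) ≠ 0 := by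
        by_contra hcon
        push Not at hcon
        exact hq ((Module.forall_dual_apply_eq_zero_iff K _).mp hcon)
      refine ⟨ψ ∘ₗ N.mkQ, ?_, hψ⟩
      have : N.mkQ a = 0 := by
        rw [Submodule.mkQ_apply, Submodule.Quotient.mk_eq_zero]
        exact Submodule.mem_span_singleton_self a
      simp [this]
    set b : V := (φ w)⁻¹ • w with hb
    have h1 : φ b = 1 := by simp [hb, inv_mul_cancel₀ hφw]
    set a' : LinearMap.ker φ := ⟨a, hφa⟩ with ha'
    have ha'0 : a' ≠ 0 := fun h => ha (congrArg Subtype.val h)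
    have e1 := Module.Dual.finrank_ker_add_one_of_ne_zero (phi_ne_zero φ b h1)
    have hH : finrank K (LinearMap.ker φ) = n + 1 := by omega
    obtain ⟨A', ⟨k, hk⟩, hA'a, hA'fix, hA'range⟩ := ih (LinearMap.ker φ) hH a' ha'0
    -- a vector outside the range of `A' - 1`
    obtain ⟨l, hl⟩ : ∃ l : LinearMap.ker φ, l ∉ LinearMap.range (A' - 1) := by
      by_contra hcon
      push Not at hcon
      have hsurj : Function.Surjective ⇑(A' - (1 : End K (LinearMap.ker φ))) := by
        intro y; exact hcon y
      have hinj := LinearMap.injective_iff_surjective.mpr hsurj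
      apply ha'0
      apply hinj
      rw [map_zero, LinearMap.sub_apply, Module.End.one_apply, hA'a, sub_self]
    have h2 := phi_auxS_b φ b h1 l
    have hη : ∀ w', A' w' - w' ≠ cmpEta (auxS φ l) φ b h1 h2 := by
      intro w' hw'
      apply hl
      rw [cmpEta_auxS] at hw'
      exact ⟨w', by rw [LinearMap.sub_apply, Module.End.one_apply, hw']⟩
    have hru := isRU_liftA (auxS φ l) φ b h1 h2 A' ⟨⟨k, hk⟩, a', hA'fix⟩ hη
    refine ⟨liftA (auxS φ l) φ b h1 A', hru.1, ?_, ?_, ?_⟩
    · have := liftA_coe (auxS φ l) φ b h1 A' a'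
      rw [hA'a] at this
      exact this
    · intro v hv
      exact liftA_fixed (auxS φ l) φ b h1 h2 A' a' hA'fix hη v hv
    · intro _
      by_cases hH2 : 2 ≤ finrank K (LinearMap.ker φ)
      · obtain ⟨u', hu'⟩ := hA'range hH2
        refine ⟨(u' : V), ?_⟩
        have := liftA_sub_one_pow_coe (auxS φ l) φ b h1 h2 A' 1 u'
        rw [pow_one, pow_one, hu'] at this
        exact this
      · -- `ker φ` is a line: `l` is a nonzero multiple of `a'`
        have hH1 : finrank K (LinearMap.ker φ) = 1 := by omega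
        obtain ⟨c, hc⟩ := (finrank_eq_one_iff_of_nonzero' a' ha'0).mp hH1 l
        have hc0 : c ≠ 0 := by
          rintro rfl
          apply hl
          rw [zero_smul] at hc
          rw [← hc]; exact Submodule.zero_mem _
        refine ⟨c⁻¹ • b, ?_⟩
        rw [map_smul, liftA_sub_one_apply (auxS φ l) φ b h1 h2, cmpEta_auxS, h1, one_smul,
          projKer_b, map_zero, add_zero, ← hc]
        simp [smul_smul, inv_mul_cancel₀ hc0, ha']

theorem add_pow_of_mul_eq_zero {R : Type*} [Ring R] (X Y : R) (hXY : X * Y = 0)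
    (hYX : Y * X = 0) (j : ℕ) : (X + Y) ^ (j + 1) = X ^ (j + 1) + Y ^ (j + 1) := by
  induction j with
  | zero => simp
  | succ j ih =>
    rw [pow_succ, ih, add_mul, mul_add, mul_add]
    have e1 : X ^ (j + 1) * Y = 0 := by rw [pow_succ, mul_assoc, hXY, mul_zero]
    have e2 : Y ^ (j + 1) * X = 0 := by rw [pow_succ, mul_assoc, hYX, mul_zero]
    rw [e1, e2, add_zero, zero_add, ← pow_succ, ← pow_succ]

/-- **Transvections are products of two regular unipotents** (dimension at least three). -/
theorem transvection_eq_mul {V : Type v} [AddCommGroup V] [Module K V] [FiniteDimensional K V]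
    (hn : 3 ≤ Module.finrank K V) (a : V) (α : Module.Dual K V) (ha : a ≠ 0) (hα : α ≠ 0)
    (hαa : α a = 0) :
    ∃ A B : Module.End K V, (1 : Module.End K V) + α.smulRight a = A * B ∧ IsRU A ∧ IsRU B := by
  obtain ⟨w, hw⟩ : ∃ w, α w ≠ 0 := by
    by_contra hcon
    push Not at hcon
    exact hα (LinearMap.ext hcon)
  set b : V := (α w)⁻¹ • w with hb
  have h1 : α b = 1 := by simp [hb, inv_mul_cancel₀ hw]
  set a' : LinearMap.ker α := ⟨a, hαa⟩ with ha'
  have ha'0 : a' ≠ 0 := fun h => ha (congrArg Subtype.val h)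
  have e1 := Module.Dual.finrank_ker_add_one_of_ne_zero (phi_ne_zero α b h1)
  obtain ⟨m, hm⟩ : ∃ m, finrank K (LinearMap.ker α) = m + 1 :=
    ⟨finrank K (LinearMap.ker α) - 1, by omega⟩
  obtain ⟨A', ⟨k, hk⟩, hA'a, hA'fix, hA'range⟩ := exists_ru_fix m (LinearMap.ker α) hm a' ha'0
  obtain ⟨u', hu'⟩ := hA'range (by omega)
  obtain ⟨l, hl⟩ : ∃ l : LinearMap.ker α, l ∉ LinearMap.range (A' - 1) := by
    by_contra hcon
    push Not at hcon
    have hsurj : Function.Surjective ⇑(A' - (1 : End K (LinearMap.ker α))) := by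
      intro y; exact hcon y
    have hinj := LinearMap.injective_iff_surjective.mpr hsurj
    apply ha'0
    apply hinj
    rw [map_zero, LinearMap.sub_apply, Module.End.one_apply, hA'a, sub_self]
  have h2 := phi_auxS_b α b h1 l
  have hη : ∀ w', A' w' - w' ≠ cmpEta (auxS α l) α b h1 h2 := by
    intro w' hw'
    apply hl
    rw [cmpEta_auxS] at hw'
    exact ⟨w', by rw [LinearMap.sub_apply, Module.End.one_apply, hw']⟩
  set A : End K V := liftA (auxS α l) α b h1 A' with hAdef
  have hAru : IsRU A := isRU_liftA (auxS α l) α b h1 h2 A' ⟨⟨k, hk⟩, a', hA'fix⟩ hη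
  have hAa : A a = a := by
    have := liftA_coe (auxS α l) α b h1 A' a'
    rw [hA'a] at this
    exact this
  have hAfix : ∀ v, A v = v → ∃ t : K, v = t • a := fun v hv =>
    liftA_fixed (auxS α l) α b h1 h2 A' a' hA'fix hη v hv
  -- `α ∘ (A - 1) = 0`
  have hαN : ∀ v, α ((A - 1) v) = 0 := by
    intro v
    rw [hAdef, liftA_sub_one_apply (auxS α l) α b h1 h2]
    exact phi_coe α _
  have hαA : ∀ v, α (A v) = α v := by
    intro v
    have := hαN v
    rw [LinearMap.sub_apply, Module.End.one_apply, map_sub, sub_eq_zero] at this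
    exact this
  -- `ker (A - 1)^2 ≤ ker α`
  have hN2 : ∀ v, (A - 1) ((A - 1) v) = 0 → α v = 0 := by
    intro v hv
    by_contra hαv
    rw [hAdef, liftA_sub_one_apply (auxS α l) α b h1 h2 A' v] at hv
    have h3 := liftA_sub_one_pow_coe (auxS α l) α b h1 h2 A' 1
      (α v • cmpEta (auxS α l) α b h1 h2 + (A' - 1) (projKer α b h1 v))
    rw [pow_one, pow_one] at h3
    rw [h3] at hv
    have h4 : (A' - 1) (α v • cmpEta (auxS α l) α b h1 h2 + (A' - 1) (projKer α b h1 v)) = 0 :=
      Subtype.ext (by simpa using hv)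
    rw [LinearMap.sub_apply, Module.End.one_apply, sub_eq_zero] at h4
    obtain ⟨t, ht⟩ := hA'fix _ h4
    rw [cmpEta_auxS] at ht
    -- `α v • l = (A' - 1) (t • u' - projKer v)`
    apply hl
    refine ⟨(α v)⁻¹ • (t • u' - projKer α b h1 v), ?_⟩
    rw [map_smul, map_sub, map_smul, hu', ← ht]
    rw [add_sub_cancel_right, smul_smul, inv_mul_cancel₀ hαv, one_smul]
  -- the inverse of `A`
  have hunit : IsUnit A := by
    have : A = 1 + (A - 1) := by abel
    rw [this]
    exact IsNilpotent.isUnit_one_add hAru.1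
  obtain ⟨U, hU⟩ := hunit
  set C : End K V := ((U⁻¹ : (End K V)ˣ) : End K V) with hC
  have hAC : A * C = 1 := by rw [← hU, hC]; exact Units.mul_inv U
  have hCA : C * A = 1 := by rw [← hU, hC]; exact Units.inv_mul U
  have hCa : C a = a := by
    have : C (A a) = a := by rw [← Module.End.mul_apply, hCA, Module.End.one_apply]
    rwa [hAa] at this
  have hαC : ∀ v, α (C v) = α v := by
    intro v
    have : A (C v) = v := by rw [← Module.End.mul_apply, hAC, Module.End.one_apply]
    rw [← hαA (C v), this]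
  set R : End K V := α.smulRight a with hR
  have hRv : ∀ v, R v = α v • a := fun v => by rw [hR, LinearMap.smulRight_apply]
  refine ⟨A, C + R, ?_, hAru, ?_⟩
  · rw [mul_add, hAC]
    congr 1
    apply LinearMap.ext
    intro v
    rw [Module.End.mul_apply, hRv, map_smul, hAa]
  · constructor
    · -- nilpotency of `(C - 1) + R`
      obtain ⟨k0, hk0⟩ := hAru.1
      have hX : C - 1 = -(C * (A - 1)) := by
        rw [mul_sub, hCA, mul_one]; abel
      have hcomm : Commute C (A - 1) := by
        have h5 : C * (A - 1) = (A - 1) * C := by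
          rw [mul_sub, sub_mul, hCA, hAC, mul_one, one_mul]
        exact h5
      have hXpow : (C - 1) ^ k0 = 0 := by
        rw [hX, neg_pow, hcomm.mul_pow, hk0, mul_zero, mul_zero]
      have hXY : (C - 1) * R = 0 := by
        apply LinearMap.ext
        intro v
        rw [Module.End.mul_apply, hRv, map_smul, LinearMap.sub_apply, Module.End.one_apply, hCa,
          sub_self, smul_zero, LinearMap.zero_apply]
      have hYX : R * (C - 1) = 0 := by
        apply LinearMap.ext
        intro v
        rw [Module.End.mul_apply, hRv, LinearMap.sub_apply, Module.End.one_apply, map_sub, hαC,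
          sub_self, zero_smul, LinearMap.zero_apply]
      have hYY : R * R = 0 := by
        apply LinearMap.ext
        intro v
        rw [Module.End.mul_apply, hRv, hRv, map_smul, hαa, smul_zero, zero_smul,
          LinearMap.zero_apply]
      refine ⟨k0 + 1 + 1, ?_⟩
      have h6 : C + R - 1 = (C - 1) + R := by abel
      rw [h6, add_pow_of_mul_eq_zero _ _ hXY hYX]
      have e1 : (C - 1) ^ (k0 + 1 + 1) = 0 := by
        rw [pow_add, pow_add, hXpow, zero_mul, zero_mul]
      have e2 : R ^ (k0 + 1 + 1) = 0 := by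
        rw [pow_succ, pow_succ, mul_assoc, hYY, mul_zero]
      rw [e1, e2, add_zero]
    · refine ⟨a, ?_⟩
      intro v hv
      rw [LinearMap.add_apply, hRv] at hv
      have h7 : A v = v + α v • a := by
        have := congrArg A hv
        rw [map_add, map_smul, hAa, ← Module.End.mul_apply, hAC, Module.End.one_apply] at this
        exact this.symm
      have h8 : (A - 1) v = α v • a := by
        rw [LinearMap.sub_apply, Module.End.one_apply, h7]; abel
      have h9 : (A - 1) ((A - 1) v) = 0 := by
        rw [h8, map_smul, LinearMap.sub_apply, Module.End.one_apply, hAa, sub_self, smul_zero]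
      have h10 := hN2 v h9
      rw [h10, zero_smul, add_zero] at h7
      exact hAfix v h7

end Cfsg.Agent.Lib.Helper29.RU
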