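import Mathlib
import Cfsg.Agent.Lib.Helper6.SimAut2
import Cfsg.Agent.Lib.Helper12.RU4.Defs

/-!
# S3174, Part III (helper29): `T/W ≅ D₈` and the chain `W < T₁ < T₂ < T`

Input: `T` a finite group whose upper central series has `|Z₁| = 2`, `|Z₂| = 4`, `|Z₃| = 8`, `Z₃` of exponent 2,
`W = C_T(Z₃)` of index `8`.  Output: see `main`.
-/

set_option autoImplicit false

namespace Cfsg.Agent.Lib.Helper29.RUD8

open Subgroup

section general

variable {T : Type*} [Group T]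

/-- the commutator map `t ↦ a t a⁻¹ t⁻¹` on a subgroup `S` centralising the abelian target `A`. -/
noncomputable def cHom (S A : Subgroup T) (a : T) (hA : ∀ t ∈ S, a * t * a⁻¹ * t⁻¹ ∈ A)
    (hc : ∀ t ∈ S, ∀ e ∈ A, t * e = e * t) : S →* A :=
  MonoidHom.mk' (fun t => ⟨a * t * a⁻¹ * t⁻¹, hA t t.2⟩) (by
    intro t t'
    apply Subtype.ext
    have h := hc t t.2 _ (hA t' t'.2)
    change a * ((t : T) * (t' : T)) * a⁻¹ * ((t : T) * (t' : T))⁻¹ =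
      (a * (t : T) * a⁻¹ * (t : T)⁻¹) * (a * (t' : T) * a⁻¹ * (t' : T)⁻¹)
    calc a * ((t : T) * (t' : T)) * a⁻¹ * ((t : T) * (t' : T))⁻¹
        = (a * (t : T) * a⁻¹ * (t : T)⁻¹) * ((t : T) * (a * (t' : T) * a⁻¹ * (t' : T)⁻¹)) * (t : T)⁻¹ := by
          group
      _ = (a * (t : T) * a⁻¹ * (t : T)⁻¹) * ((a * (t' : T) * a⁻¹ * (t' : T)⁻¹) * (t : T)) * (t : T)⁻¹ := by
          rw [h]
      _ = _ := by group)

theorem cHom_apply (S A : Subgroup T) (a : T) (hA : ∀ t ∈ S, a * t * a⁻¹ * t⁻¹ ∈ A)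
    (hc : ∀ t ∈ S, ∀ e ∈ A, t * e = e * t) (t : S) :
    ((cHom S A a hA hc t : A) : T) = a * (t : T) * a⁻¹ * (t : T)⁻¹ := rfl

theorem ker_cHom (S A : Subgroup T) (a : T) (hA : ∀ t ∈ S, a * t * a⁻¹ * t⁻¹ ∈ A)
    (hc : ∀ t ∈ S, ∀ e ∈ A, t * e = e * t) :
    (cHom S A a hA hc).ker = (centralizer ({a} : Set T)).subgroupOf S := by
  ext t
  rw [MonoidHom.mem_ker, mem_subgroupOf, mem_centralizer_iff]
  constructor
  · intro h x hx
    rw [Set.mem_singleton_iff] at hx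
    subst hx
    have h1 : x * (t : T) * x⁻¹ * (t : T)⁻¹ = 1 := by
      rw [← cHom_apply S A x hA hc t, h]; rfl
    calc x * (t : T) = (x * (t : T) * x⁻¹ * (t : T)⁻¹) * ((t : T) * x) := by group
      _ = (t : T) * x := by rw [h1, one_mul]
  · intro h
    apply Subtype.ext
    rw [cHom_apply]
    have h1 := h a (Set.mem_singleton a)
    change a * (t : T) * a⁻¹ * (t : T)⁻¹ = 1
    rw [h1]; group

theorem relIndex_centralizer_le (S A : Subgroup T) [Finite A] (a : T)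
    (hA : ∀ t ∈ S, a * t * a⁻¹ * t⁻¹ ∈ A)
    (hc : ∀ t ∈ S, ∀ e ∈ A, t * e = e * t) :
    (centralizer ({a} : Set T)).relIndex S ≤ Nat.card A := by
  rw [relIndex, ← ker_cHom S A a hA hc, index_ker]
  exact Subgroup.card_le_card_group _

/-- elements of an index-two overgroup. -/
theorem coset_two {A B : Subgroup T} (hAB : A ≤ B) (h2 : A.relIndex B = 2) {a y : T} (haB : a ∈ B)
    (haA : a ∉ A) (hyB : y ∈ B) (hyA : y ∉ A) : y * a⁻¹ ∈ A := by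
  have key : ((⟨y, hyB⟩ * ⟨a, haB⟩⁻¹ : B)) ∈ A.subgroupOf B ↔
      ((⟨y, hyB⟩ : B) ∈ A.subgroupOf B ↔ (⟨a, haB⟩⁻¹ : B) ∈ A.subgroupOf B) :=
    Subgroup.mul_mem_iff_of_index_two h2
  rw [inv_mem_iff] at key
  simp only [mem_subgroupOf] at key
  have := key.mpr (by simp [hyA, haA])
  simpa using this

theorem relIndex_of_card {A B : Subgroup T} [Finite B] (hAB : A ≤ B) {n : ℕ} (hn : 0 < n)
    (hA : Nat.card A = n) (hB : Nat.card B = 2 * n) : A.relIndex B = 2 := by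
  have h := relIndex_mul_relIndex (⊥ : Subgroup T) A B bot_le hAB
  rw [relIndex_bot_left, relIndex_bot_left, hA, hB] at h
  have : n * A.relIndex B = n * 2 := by rw [h]; ring
  exact Nat.eq_of_mul_eq_mul_left hn this

theorem exists_not_mem_of_card {A B : Subgroup T} [Finite B] (hAB : A ≤ B)
    (hlt : Nat.card A < Nat.card B) : ∃ a ∈ B, a ∉ A := by
  by_contra hcon
  push Not at hcon
  have : B ≤ A := hcon
  have h1 : A = B := le_antisymm hAB this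
  rw [h1] at hlt
  exact lt_irrefl _ hlt

end general

section main

variable {T : Type*} [Group T] [Finite T]

/-- hypotheses of Part III (outputs of Parts I and II). -/
structure Hyp (W : Subgroup T) : Prop where
  h1 : Nat.card (Subgroup.upperCentralSeries T 1) = 2
  h2 : Nat.card (Subgroup.upperCentralSeries T 2) = 4
  h3 : Nat.card (Subgroup.upperCentralSeries T 3) = 8
  hexp : ∀ y ∈ Subgroup.upperCentralSeries T 3, y * y = 1
  hW : W = centralizer ((Subgroup.upperCentralSeries T 3 : Subgroup T) : Set T)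
  hidx : W.index = 8

/-- `Hyp` together with chosen generators `a₁ ∈ Z₁`, `a₂ ∈ Z₂ ∖ Z₁`, `a₃ ∈ Z₃ ∖ Z₂`. -/
structure Cfg (W : Subgroup T) (a1 a2 a3 : T) : Prop extends Hyp W where
  ha1 : a1 ∈ Subgroup.upperCentralSeries T 1
  ha1ne : a1 ≠ 1
  hZ1 : ∀ y ∈ Subgroup.upperCentralSeries T 1, y = 1 ∨ y = a1
  ha2 : a2 ∈ Subgroup.upperCentralSeries T 2
  ha2n : a2 ∉ Subgroup.upperCentralSeries T 1
  hZ2 : ∀ y ∈ Subgroup.upperCentralSeries T 2, y ∉ Subgroup.upperCentralSeries T 1 → y * a2⁻¹ ∈ Subgroup.upperCentralSeries T 1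
  ha3 : a3 ∈ Subgroup.upperCentralSeries T 3
  ha3n : a3 ∉ Subgroup.upperCentralSeries T 2
  hZ3 : ∀ y ∈ Subgroup.upperCentralSeries T 3, y ∉ Subgroup.upperCentralSeries T 2 → y * a3⁻¹ ∈ Subgroup.upperCentralSeries T 2

theorem Z_le {i j : ℕ} (h : i ≤ j) : Subgroup.upperCentralSeries T i ≤ Subgroup.upperCentralSeries T j :=
  Subgroup.upperCentralSeries_mono T h

theorem central_of_mem_Z1 {y : T} (hy : y ∈ Subgroup.upperCentralSeries T 1) (g : T) : g * y = y * g := by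
  rw [Subgroup.upperCentralSeries_one, mem_center_iff] at hy
  exact hy g

theorem comm_mem_Z {n : ℕ} {y : T} (hy : y ∈ Subgroup.upperCentralSeries T (n + 1)) (t : T) :
    y * t * y⁻¹ * t⁻¹ ∈ Subgroup.upperCentralSeries T n := by
  have := Subgroup.mem_upperCentralSeries_succ_iff.mp hy t
  rwa [commutatorElement_def] at this

theorem exists_cfg {W : Subgroup T} (h : Hyp W) : ∃ a1 a2 a3 : T, Cfg W a1 a2 a3 := by
  obtain ⟨⟨a1, ha1⟩, hne, huniq⟩ := (Nat.card_eq_two_iff' (1 : Subgroup.upperCentralSeries T 1)).mp h.h1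
  have hr12 : (Subgroup.upperCentralSeries T 1).relIndex (Subgroup.upperCentralSeries T 2) = 2 :=
    relIndex_of_card (Z_le (by norm_num)) (by norm_num : 0 < 2) h.h1 (by rw [h.h2])
  have hr23 : (Subgroup.upperCentralSeries T 2).relIndex (Subgroup.upperCentralSeries T 3) = 2 :=
    relIndex_of_card (Z_le (by norm_num)) (by norm_num : 0 < 4) h.h2 (by rw [h.h3])
  obtain ⟨a2, ha2, ha2n⟩ := exists_not_mem_of_card (Z_le (by norm_num : 1 ≤ 2) : Subgroup.upperCentralSeries T 1 ≤ _)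
    (by rw [h.h1, h.h2]; norm_num)
  obtain ⟨a3, ha3, ha3n⟩ := exists_not_mem_of_card (Z_le (by norm_num : 2 ≤ 3) : Subgroup.upperCentralSeries T 2 ≤ _)
    (by rw [h.h2, h.h3]; norm_num)
  refine ⟨a1, a2, a3, ⟨h, ha1, ?_, ?_, ha2, ha2n, ?_, ha3, ha3n, ?_⟩⟩
  · intro h1
    apply hne
    exact Subtype.ext h1
  · intro y hy
    by_cases hy1 : y = 1
    · exact Or.inl hy1
    · right
      have := huniq ⟨y, hy⟩ (fun hc => hy1 (by simpa using congrArg Subtype.val hc))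
      simpa using congrArg Subtype.val this
  · intro y hy hyn
    exact coset_two (Z_le (by norm_num)) hr12 ha2 ha2n hy hyn
  · intro y hy hyn
    exact coset_two (Z_le (by norm_num)) hr23 ha3 ha3n hy hyn

/-- `T₂ = C_T(Z₂)`. -/
def T2 (T : Type*) [Group T] : Subgroup T :=
  centralizer ((Subgroup.upperCentralSeries T 2 : Subgroup T) : Set T)

/-- `T₁ = {t ∈ T₂ : [Z₃, t] ≤ Z₁}`. -/
def T1 (T : Type*) [Group T] : Subgroup T where
  carrier := {t | t ∈ T2 T ∧ ∀ y ∈ Subgroup.upperCentralSeries T 3,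
    y * t * y⁻¹ * t⁻¹ ∈ Subgroup.upperCentralSeries T 1}
  one_mem' := ⟨one_mem _, fun y _ => by simp⟩
  mul_mem' := by
    rintro t t' ⟨ht, h1⟩ ⟨ht', h1'⟩
    refine ⟨mul_mem ht ht', fun y hy => ?_⟩
    have e : y * (t * t') * y⁻¹ * (t * t')⁻¹ =
        (y * t * y⁻¹ * t⁻¹) * (t * (y * t' * y⁻¹ * t'⁻¹) * t⁻¹) := by group
    rw [e]
    exact mul_mem (h1 y hy) (Subgroup.Normal.conj_mem inferInstance _ (h1' y hy) t)
  inv_mem' := by
    rintro t ⟨ht, h1⟩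
    refine ⟨inv_mem ht, fun y hy => ?_⟩
    have e : y * t⁻¹ * y⁻¹ * t⁻¹⁻¹ = t⁻¹ * (y * t * y⁻¹ * t⁻¹)⁻¹ * t⁻¹⁻¹ := by group
    rw [e]
    exact Subgroup.Normal.conj_mem inferInstance _ (inv_mem (h1 y hy)) t⁻¹

omit [Finite T] in
theorem mem_T1_def {t : T} : t ∈ T1 T ↔ t ∈ T2 T ∧ ∀ y ∈ Subgroup.upperCentralSeries T 3,
    y * t * y⁻¹ * t⁻¹ ∈ Subgroup.upperCentralSeries T 1 := Iff.rfl

omit [Finite T] in
theorem T1_le_T2 : T1 T ≤ T2 T := fun _ h => h.1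

instance T2_normal : (T2 T).Normal := by
  unfold T2
  infer_instance

omit [Finite T] in
theorem T1_conj_mem {t : T} (ht : t ∈ T1 T) (g : T) : g * t * g⁻¹ ∈ T1 T := by
  obtain ⟨h2, h1⟩ := ht
  refine ⟨(T2_normal (T := T)).conj_mem t h2 g, fun y hy => ?_⟩
  have hy' : g⁻¹ * y * g⁻¹⁻¹ ∈ Subgroup.upperCentralSeries T 3 :=
    Subgroup.Normal.conj_mem inferInstance y hy g⁻¹
  have e : y * (g * t * g⁻¹) * y⁻¹ * (g * t * g⁻¹)⁻¹ =
      g * ((g⁻¹ * y * g⁻¹⁻¹) * t * (g⁻¹ * y * g⁻¹⁻¹)⁻¹ * t⁻¹) * g⁻¹ := by group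
  rw [e]
  exact Subgroup.Normal.conj_mem inferInstance _ (h1 _ hy') g

instance T1_normal : (T1 T).Normal := ⟨fun t ht g => T1_conj_mem ht g⟩

section cfg

variable {W : Subgroup T} {a1 a2 a3 : T}

theorem Cfg.a1_central (h : Cfg W a1 a2 a3) (g : T) : g * a1 = a1 * g := central_of_mem_Z1 h.ha1 g

theorem Cfg.sq (h : Cfg W a1 a2 a3) {y : T} (hy : y ∈ Subgroup.upperCentralSeries T 3) : y⁻¹ = y :=
  inv_eq_of_mul_eq_one_left (h.hexp y hy)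

/-- membership in `T₂` is commuting with `a₂`. -/
theorem Cfg.mem_T2_iff (h : Cfg W a1 a2 a3) {t : T} : t ∈ T2 T ↔ a2 * t = t * a2 := by
  unfold T2
  rw [mem_centralizer_iff]
  constructor
  · intro ht
    exact ht a2 h.ha2
  · intro ht y hy
    by_cases hy1 : y ∈ Subgroup.upperCentralSeries T 1
    · exact (central_of_mem_Z1 hy1 t).symm
    · have he := h.hZ2 y hy hy1
      have hc := central_of_mem_Z1 he t
      -- y = (y * a2⁻¹) * a2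
      calc y * t = (y * a2⁻¹) * (a2 * t) := by group
        _ = (y * a2⁻¹) * (t * a2) := by rw [ht]
        _ = ((y * a2⁻¹) * t) * a2 := by group
        _ = (t * (y * a2⁻¹)) * a2 := by rw [hc]
        _ = t * y := by group

theorem Cfg.T2_eq (h : Cfg W a1 a2 a3) : T2 T = centralizer ({a2} : Set T) := by
  ext t
  rw [h.mem_T2_iff, mem_centralizer_iff]
  constructor
  · intro ht x hx
    rw [Set.mem_singleton_iff] at hx
    subst hx
    exact ht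
  · intro ht
    exact ht a2 (Set.mem_singleton a2)

theorem Cfg.T2_index_le (h : Cfg W a1 a2 a3) : (T2 T).index ≤ 2 := by
  have := relIndex_centralizer_le (⊤ : Subgroup T) (Subgroup.upperCentralSeries T 1) a2
    (fun t _ => comm_mem_Z h.ha2 t) (fun t _ e he => central_of_mem_Z1 he t)
  rw [relIndex_top_right, ← h.T2_eq, h.h1] at this
  exact this

/-- membership in `W`. -/
theorem Cfg.mem_W_iff (h : Cfg W a1 a2 a3) {t : T} : t ∈ W ↔ t ∈ T2 T ∧ a3 * t = t * a3 := by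
  rw [h.hW, mem_centralizer_iff]
  constructor
  · intro ht
    refine ⟨?_, ht a3 h.ha3⟩
    unfold T2
    rw [mem_centralizer_iff]
    intro y hy
    exact ht y (Z_le (by norm_num : 2 ≤ 3) hy)
  · rintro ⟨ht2, ht3⟩ y hy
    unfold T2 at ht2
    rw [mem_centralizer_iff] at ht2
    by_cases hy2 : y ∈ Subgroup.upperCentralSeries T 2
    · exact ht2 y hy2
    · have he := h.hZ3 y hy hy2
      have hc := ht2 _ he
      calc y * t = (y * a3⁻¹) * (a3 * t) := by group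
        _ = (y * a3⁻¹) * (t * a3) := by rw [ht3]
        _ = ((y * a3⁻¹) * t) * a3 := by group
        _ = (t * (y * a3⁻¹)) * a3 := by rw [hc]
        _ = t * y := by group

theorem Cfg.W_le_T2 (h : Cfg W a1 a2 a3) : W ≤ T2 T := fun _ ht => (h.mem_W_iff.mp ht).1

theorem Cfg.W_eq (h : Cfg W a1 a2 a3) : W = T2 T ⊓ centralizer ({a3} : Set T) := by
  ext t
  rw [h.mem_W_iff, mem_inf, mem_centralizer_iff]
  constructor
  · rintro ⟨h2, h3⟩
    refine ⟨h2, fun x hx => ?_⟩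
    rw [Set.mem_singleton_iff] at hx
    subst hx
    exact h3
  · rintro ⟨h2, h3⟩
    exact ⟨h2, h3 a3 (Set.mem_singleton a3)⟩

theorem Cfg.hA3 (h : Cfg W a1 a2 a3) : ∀ t ∈ T2 T, a3 * t * a3⁻¹ * t⁻¹ ∈ Subgroup.upperCentralSeries T 2 :=
  fun t _ => comm_mem_Z h.ha3 t

omit [Finite T] in
theorem hc3 : ∀ t ∈ T2 T, ∀ e ∈ Subgroup.upperCentralSeries T 2, t * e = e * t := by
  intro t ht e he
  unfold T2 at ht
  rw [mem_centralizer_iff] at ht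
  exact (ht e he).symm

theorem Cfg.W_relIndex_le (h : Cfg W a1 a2 a3) : W.relIndex (T2 T) ≤ 4 := by
  have := relIndex_centralizer_le (T2 T) (Subgroup.upperCentralSeries T 2) a3 h.hA3 hc3
  rw [h.h2] at this
  have e : W.relIndex (T2 T) = (centralizer ({a3} : Set T)).relIndex (T2 T) := by
    rw [h.W_eq, inf_relIndex_left]
  rw [e]; exact this

theorem Cfg.indices (h : Cfg W a1 a2 a3) : (T2 T).index = 2 ∧ W.relIndex (T2 T) = 4 := by
  have h1 := relIndex_mul_index h.W_le_T2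
  rw [h.hidx] at h1
  have h2 := h.T2_index_le
  have h3 := h.W_relIndex_le
  have h4 : 0 < (T2 T).index := Nat.pos_of_ne_zero (Subgroup.index_ne_zero_of_finite)
  constructor
  · interval_cases hi : (T2 T).index
    · omega
    · rfl
  · interval_cases hi : (T2 T).index
    · omega
    · omega

/-- the commutator function `t ↦ a₃ t a₃⁻¹ t⁻¹`. -/
def C (a3 t : T) : T := a3 * t * a3⁻¹ * t⁻¹

omit [Finite T] in
theorem C_one (a3 : T) : C a3 1 = 1 := by unfold C; group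

theorem Cfg.C_mem (h : Cfg W a1 a2 a3) (t : T) : C a3 t ∈ Subgroup.upperCentralSeries T 2 :=
  comm_mem_Z h.ha3 t

omit [Finite T] in
theorem C_eq_one_iff {a3 t : T} : C a3 t = 1 ↔ a3 * t = t * a3 := by
  unfold C
  constructor
  · intro h1
    calc a3 * t = (a3 * t * a3⁻¹ * t⁻¹) * (t * a3) := by group
      _ = t * a3 := by rw [h1, one_mul]
  · intro h1
    rw [h1]; group

theorem Cfg.C_mul (h : Cfg W a1 a2 a3) {t : T} (ht : t ∈ T2 T) (t' : T) :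
    C a3 (t * t') = C a3 t * C a3 t' := by
  have hc := hc3 t ht _ (h.C_mem t')
  unfold C at hc ⊢
  calc a3 * (t * t') * a3⁻¹ * (t * t')⁻¹
      = (a3 * t * a3⁻¹ * t⁻¹) * (t * (a3 * t' * a3⁻¹ * t'⁻¹)) * t⁻¹ := by group
    _ = (a3 * t * a3⁻¹ * t⁻¹) * ((a3 * t' * a3⁻¹ * t'⁻¹) * t) * t⁻¹ := by rw [hc]
    _ = _ := by group

theorem Cfg.C_inv (h : Cfg W a1 a2 a3) {t : T} (ht : t ∈ T2 T) : C a3 t⁻¹ = (C a3 t)⁻¹ := by
  have h1 := h.C_mul (inv_mem ht) t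
  rw [inv_mul_cancel, C_one] at h1
  exact eq_inv_of_mul_eq_one_left h1.symm

theorem Cfg.mem_W_iff_C (h : Cfg W a1 a2 a3) {t : T} (ht : t ∈ T2 T) : t ∈ W ↔ C a3 t = 1 := by
  rw [h.mem_W_iff, C_eq_one_iff]
  exact ⟨fun hh => hh.2, fun hh => ⟨ht, hh⟩⟩

theorem Cfg.Z2_comm (h : Cfg W a1 a2 a3) {u v : T} (hu : u ∈ Subgroup.upperCentralSeries T 2)
    (hv : v ∈ Subgroup.upperCentralSeries T 2) : u * v = v * u := by
  by_cases hu1 : u ∈ Subgroup.upperCentralSeries T 1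
  · exact (central_of_mem_Z1 hu1 v).symm
  by_cases hv1 : v ∈ Subgroup.upperCentralSeries T 1
  · exact central_of_mem_Z1 hv1 u
  have eu := h.hZ2 u hu hu1
  have ev := h.hZ2 v hv hv1
  have c1 := central_of_mem_Z1 eu
  have c2 := central_of_mem_Z1 ev
  calc u * v = ((u * a2⁻¹) * a2) * ((v * a2⁻¹) * a2) := by group
    _ = (u * a2⁻¹) * (a2 * (v * a2⁻¹)) * a2 := by group
    _ = (u * a2⁻¹) * ((v * a2⁻¹) * a2) * a2 := by rw [c2 a2]
    _ = ((u * a2⁻¹) * (v * a2⁻¹)) * a2 * a2 := by group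
    _ = ((v * a2⁻¹) * (u * a2⁻¹)) * a2 * a2 := by rw [c2 (u * a2⁻¹)]
    _ = (v * a2⁻¹) * ((u * a2⁻¹) * a2) * a2 := by group
    _ = (v * a2⁻¹) * (a2 * (u * a2⁻¹)) * a2 := by rw [c1 a2]
    _ = v * u := by group

theorem Cfg.C_conj (h : Cfg W a1 a2 a3) {t : T} (ht : t ∈ T2 T) (g : T) :
    C a3 (g * t * g⁻¹) = g * C a3 t * g⁻¹ := by
  have he : a3 * g * a3⁻¹ * g⁻¹ ∈ Subgroup.upperCentralSeries T 2 := comm_mem_Z h.ha3 g
  have he' : g⁻¹ * (a3 * g * a3⁻¹ * g⁻¹)⁻¹ * g⁻¹⁻¹ ∈ Subgroup.upperCentralSeries T 2 :=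
    Subgroup.Normal.conj_mem inferInstance _ (inv_mem he) g⁻¹
  have hd : g * C a3 t * g⁻¹ ∈ Subgroup.upperCentralSeries T 2 :=
    Subgroup.Normal.conj_mem inferInstance _ (h.C_mem t) g
  have hte := hc3 t ht _ he'
  have hcomm := h.Z2_comm he hd
  unfold C at hd hcomm ⊢
  calc a3 * (g * t * g⁻¹) * a3⁻¹ * (g * t * g⁻¹)⁻¹
      = (a3 * g * a3⁻¹ * g⁻¹) * g * (a3 * t * a3⁻¹ * t⁻¹) *
          (t * (g⁻¹ * (a3 * g * a3⁻¹ * g⁻¹)⁻¹ * g⁻¹⁻¹)) * t⁻¹ * g⁻¹ := by group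
    _ = (a3 * g * a3⁻¹ * g⁻¹) * g * (a3 * t * a3⁻¹ * t⁻¹) *
          ((g⁻¹ * (a3 * g * a3⁻¹ * g⁻¹)⁻¹ * g⁻¹⁻¹) * t) * t⁻¹ * g⁻¹ := by rw [hte]
    _ = ((a3 * g * a3⁻¹ * g⁻¹) * (g * (a3 * t * a3⁻¹ * t⁻¹) * g⁻¹)) * (a3 * g * a3⁻¹ * g⁻¹)⁻¹ := by group
    _ = ((g * (a3 * t * a3⁻¹ * t⁻¹) * g⁻¹) * (a3 * g * a3⁻¹ * g⁻¹)) * (a3 * g * a3⁻¹ * g⁻¹)⁻¹ := by
        rw [hcomm]
    _ = g * (a3 * t * a3⁻¹ * t⁻¹) * g⁻¹ := by group

theorem Cfg.mem_T1_iff (h : Cfg W a1 a2 a3) {t : T} :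
    t ∈ T1 T ↔ t ∈ T2 T ∧ C a3 t ∈ Subgroup.upperCentralSeries T 1 := by
  rw [mem_T1_def]
  constructor
  · rintro ⟨h2, h1⟩
    exact ⟨h2, h1 a3 h.ha3⟩
  · rintro ⟨h2, h1⟩
    refine ⟨h2, fun y hy => ?_⟩
    by_cases hy2 : y ∈ Subgroup.upperCentralSeries T 2
    · have hc := hc3 t h2 y hy2
      have e : y * t * y⁻¹ * t⁻¹ = 1 := by
        calc y * t * y⁻¹ * t⁻¹ = y * (t * y⁻¹) * t⁻¹ := by group
          _ = y * (y⁻¹ * t) * t⁻¹ := by rw [hc3 t h2 y⁻¹ (inv_mem hy2)]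
          _ = 1 := by group
      rw [e]; exact one_mem _
    · have he := h.hZ3 y hy hy2
      have hc := hc3 t h2 _ (inv_mem he)
      have hcen := central_of_mem_Z1 h1 (y * a3⁻¹)
      unfold C at h1 hcen
      have e : y * t * y⁻¹ * t⁻¹ = a3 * t * a3⁻¹ * t⁻¹ := by
        calc y * t * y⁻¹ * t⁻¹
            = (y * a3⁻¹) * (a3 * t * a3⁻¹ * t⁻¹) * (t * (y * a3⁻¹)⁻¹) * t⁻¹ := by group
          _ = (y * a3⁻¹) * (a3 * t * a3⁻¹ * t⁻¹) * ((y * a3⁻¹)⁻¹ * t) * t⁻¹ := by rw [hc]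
          _ = ((y * a3⁻¹) * (a3 * t * a3⁻¹ * t⁻¹)) * (y * a3⁻¹)⁻¹ := by group
          _ = ((a3 * t * a3⁻¹ * t⁻¹) * (y * a3⁻¹)) * (y * a3⁻¹)⁻¹ := by rw [hcen]
          _ = a3 * t * a3⁻¹ * t⁻¹ := by group
      rw [e]; exact h1

theorem Cfg.W_le_T1 (h : Cfg W a1 a2 a3) : W ≤ T1 T := by
  intro t ht
  rw [h.mem_T1_iff]
  have h2 := h.W_le_T2 ht
  refine ⟨h2, ?_⟩
  rw [(h.mem_W_iff_C h2).mp ht]
  exact one_mem _

/-- `t ↦ a₃ t a₃⁻¹ t⁻¹` maps `T₂` onto `Z₂`. -/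
theorem Cfg.C_surj (h : Cfg W a1 a2 a3) {e : T} (he : e ∈ Subgroup.upperCentralSeries T 2) :
    ∃ t ∈ T2 T, C a3 t = e := by
  let c := cHom (T2 T) (Subgroup.upperCentralSeries T 2) a3 h.hA3 hc3
  have hk : c.ker.index = 4 := by
    have e1 : W.relIndex (T2 T) = (centralizer ({a3} : Set T)).relIndex (T2 T) := by
      rw [h.W_eq, inf_relIndex_left]
    rw [ker_cHom, ← relIndex, ← e1]
    exact h.indices.2
  have hr : c.range = ⊤ := by
    apply Subgroup.eq_top_of_card_eq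
    rw [← index_ker, hk, h.h2]
  obtain ⟨t, ht⟩ := MonoidHom.range_eq_top.mp hr ⟨e, he⟩
  refine ⟨t, t.2, ?_⟩
  have := congrArg Subtype.val ht
  rw [cHom_apply] at this
  exact this

omit [Finite T] in
theorem exists_not_mem_T2 (hi : (T2 T).index = 2) : ∃ x : T, x ∉ T2 T := by
  by_contra hcon
  push Not at hcon
  have : T2 T = ⊤ := (eq_top_iff' _).mpr hcon
  rw [this, index_top] at hi
  omega

/-- conjugating `a₂` by an element outside `T₂`. -/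
theorem Cfg.conj_a2 (h : Cfg W a1 a2 a3) {x : T} (hx : x ∉ T2 T) :
    x * a2 * x⁻¹ = a1 * a2 ∧ x⁻¹ * a2 * x = a1 * a2 := by
  have hne : a2 * x ≠ x * a2 := fun hc => hx (h.mem_T2_iff.mpr hc)
  have h1 : a2 * x * a2⁻¹ * x⁻¹ ∈ Subgroup.upperCentralSeries T 1 := comm_mem_Z h.ha2 x
  have h2 : a2 * x * a2⁻¹ * x⁻¹ = a1 := by
    rcases h.hZ1 _ h1 with h3 | h3
    · exfalso; apply hne
      calc a2 * x = (a2 * x * a2⁻¹ * x⁻¹) * (x * a2) := by group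
        _ = x * a2 := by rw [h3, one_mul]
    · exact h3
  have ha1inv : a1⁻¹ = a1 := h.sq (Z_le (by norm_num : 1 ≤ 3) h.ha1)
  have hc := h.a1_central
  constructor
  · calc x * a2 * x⁻¹ = (a2 * x * a2⁻¹ * x⁻¹)⁻¹ * a2 := by group
      _ = a1 * a2 := by rw [h2, ha1inv]
  · have h4 : x⁻¹ * a2 * x = x⁻¹ * (a2 * x * a2⁻¹ * x⁻¹) * x * a2 := by group
    rw [h4, h2]
    calc x⁻¹ * a1 * x * a2 = x⁻¹ * (a1 * x) * a2 := by group
      _ = x⁻¹ * (x * a1) * a2 := by rw [hc x]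
      _ = a1 * a2 := by group

/-- The outputs of Part III, in the form of the Part-III fields of `Helper12.RU4.Cfg`. -/
structure Out (W T1 T2 : Subgroup T) (z s x : T) : Prop where
  hWT1 : W ≤ T1
  hT12 : T1 ≤ T2
  hWn : W.Normal
  hT1n : T1.Normal
  hT2n : T2.Normal
  hT2def : T2 = centralizer ((Subgroup.upperCentralSeries T 2 : Subgroup T) : Set T)
  hZ2T2 : ∀ c ∈ Subgroup.upperCentralSeries T 2, ∀ t ∈ T2, c * t = t * c
  hWcen : ∀ t : T, (∀ c ∈ Subgroup.upperCentralSeries T 3, c * t = t * c) → t ∈ W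
  hz : z ∈ T1
  hzW : z ∉ W
  hT1 : ∀ t ∈ T1, t ∈ W ∨ z⁻¹ * t ∈ W
  hs : s ∈ T2
  hsT1 : s ∉ T1
  hT2 : ∀ t ∈ T2, t ∈ T1 ∨ s⁻¹ * t ∈ T1
  hxT2 : x ∉ T2
  hT : ∀ t : T, t ∈ T2 ∨ x⁻¹ * t ∈ T2
  hT2sq : ∀ t ∈ T2, t * t ∈ W
  hT1c : ∀ y ∈ T1, ∀ t : T, Cfsg.Agent.Lib.Helper12.RU4.cm y t ∈ W
  hT2c : ∀ y ∈ T2, ∀ t : T, Cfsg.Agent.Lib.Helper12.RU4.cm y t ∈ T1
  hx2 : z⁻¹ * (x * x) ∈ W
  hindex : T2.index = 2 ∧ T1.relIndex T2 = 2 ∧ W.relIndex T1 = 2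
  hnc : Cfsg.Agent.Lib.Helper12.RU4.cm x s ∉ W

open Cfsg.Agent.Lib.Helper12.RU4 in
theorem Cfg.exists_out (h : Cfg W a1 a2 a3) : ∃ z s x : T, Out W (T1 T) (T2 T) z s x := by
  have ha1inv : a1⁻¹ = a1 := h.sq (Z_le (by norm_num : 1 ≤ 3) h.ha1)
  have ha2inv : a2⁻¹ = a2 := h.sq (Z_le (by norm_num : 2 ≤ 3) h.ha2)
  have ha2sq : a2 * a2 = 1 := h.hexp a2 (Z_le (by norm_num : 2 ≤ 3) h.ha2)
  have ha1sq : a1 * a1 = 1 := h.hexp a1 (Z_le (by norm_num : 1 ≤ 3) h.ha1)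
  have ha1Z2 : a1 ∈ Subgroup.upperCentralSeries T 2 := Z_le (by norm_num : 1 ≤ 2) h.ha1
  obtain ⟨z, hz2, hCz⟩ := h.C_surj ha1Z2
  obtain ⟨s, hs2, hCs⟩ := h.C_surj h.ha2
  obtain ⟨x0, hx0⟩ := exists_not_mem_T2 h.indices.1
  have hWn : W.Normal := by rw [h.hW]; infer_instance
  have hzT1 : z ∈ T1 T := h.mem_T1_iff.mpr ⟨hz2, by rw [hCz]; exact h.ha1⟩
  have hzW : z ∉ W := fun hw => h.ha1ne (by rw [← hCz]; exact (h.mem_W_iff_C hz2).mp hw)
  have hsT1 : s ∉ T1 T := fun hs1 => h.ha2n (by have := (h.mem_T1_iff.mp hs1).2; rwa [hCs] at this)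
  have hsqT2 : ∀ y : T, y * y ∈ T2 T := by
    intro y
    exact (Subgroup.mul_mem_iff_of_index_two h.indices.1 (a := y) (b := y)).mpr Iff.rfl
  have hconjT2 : ∀ (g : T) {t : T}, t ∈ T2 T → g * t * g⁻¹ ∈ T2 T :=
    fun g t ht => (T2_normal (T := T)).conj_mem t ht g
  have hCx0 : C a3 (x0 * x0) ∈ Subgroup.upperCentralSeries T 1 := by
    have hconj := h.C_conj (hsqT2 x0) x0
    have e : x0 * (x0 * x0) * x0⁻¹ = x0 * x0 := by group
    rw [e] at hconj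
    by_contra hn
    have he := h.hZ2 _ (h.C_mem _) hn
    apply hx0
    rw [h.mem_T2_iff]
    have hcen := central_of_mem_Z1 (inv_mem he) x0
    have hcx : C a3 (x0 * x0) * x0 = x0 * C a3 (x0 * x0) := by
      calc C a3 (x0 * x0) * x0 = (x0 * C a3 (x0 * x0) * x0⁻¹) * x0 := by rw [← hconj]
        _ = x0 * C a3 (x0 * x0) := by group
    calc a2 * x0 = (C a3 (x0 * x0) * a2⁻¹)⁻¹ * (C a3 (x0 * x0) * x0) := by group
      _ = (C a3 (x0 * x0) * a2⁻¹)⁻¹ * (x0 * C a3 (x0 * x0)) := by rw [hcx]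
      _ = ((C a3 (x0 * x0) * a2⁻¹)⁻¹ * x0) * C a3 (x0 * x0) := by group
      _ = (x0 * (C a3 (x0 * x0) * a2⁻¹)⁻¹) * C a3 (x0 * x0) := by rw [hcen]
      _ = x0 * a2 := by group
  obtain ⟨x, hx, hCx⟩ : ∃ x, x ∉ T2 T ∧ C a3 (x * x) = a1 := by
    rcases h.hZ1 _ hCx0 with h1 | h1
    · refine ⟨x0 * s, ?_, ?_⟩
      · intro hc
        apply hx0
        have := (T2 T).mul_mem hc (inv_mem hs2)
        simpa using this
      · have e : (x0 * s) * (x0 * s) = (x0 * s * x0⁻¹) * ((x0 * x0) * s) := by group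
        rw [e, h.C_mul (hconjT2 x0 hs2) _, h.C_mul (hsqT2 x0) s, h.C_conj hs2 x0, h1, hCs, one_mul,
          (h.conj_a2 hx0).1, mul_assoc, ha2sq, mul_one]
    · exact ⟨x0, hx0, h1⟩
  have hWT1 := h.W_le_T1
  refine ⟨z, s, x, ⟨hWT1, T1_le_T2, hWn, inferInstance, inferInstance, rfl, ?_, ?_, hzT1, hzW, ?_, hs2, hsT1,
    ?_, hx, ?_, ?_, ?_, ?_, ?_, ?_, ?_⟩⟩
  · -- hZ2T2
    intro c hc t ht
    exact (hc3 t ht c hc).symm
  · -- hWcen
    intro t ht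
    rw [h.hW, mem_centralizer_iff]
    exact ht
  · -- hT1
    intro t ht
    obtain ⟨ht2, hC1⟩ := h.mem_T1_iff.mp ht
    rcases h.hZ1 _ hC1 with h1 | h1
    · exact Or.inl ((h.mem_W_iff_C ht2).mpr h1)
    · right
      rw [h.mem_W_iff_C ((T2 T).mul_mem (inv_mem hz2) ht2), h.C_mul (inv_mem hz2) t, h.C_inv hz2, hCz, h1,
        inv_mul_cancel]
  · -- hT2
    intro t ht
    by_cases hC1 : C a3 t ∈ Subgroup.upperCentralSeries T 1
    · exact Or.inl (h.mem_T1_iff.mpr ⟨ht, hC1⟩)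
    · right
      have he := h.hZ2 _ (h.C_mem t) hC1
      rw [h.mem_T1_iff]
      refine ⟨(T2 T).mul_mem (inv_mem hs2) ht, ?_⟩
      rw [h.C_mul (inv_mem hs2) t, h.C_inv hs2, hCs]
      have hcen := central_of_mem_Z1 he a2⁻¹
      have e : a2⁻¹ * C a3 t = C a3 t * a2⁻¹ := by
        calc a2⁻¹ * C a3 t = (a2⁻¹ * (C a3 t * a2⁻¹)) * a2 := by group
          _ = ((C a3 t * a2⁻¹) * a2⁻¹) * a2 := by rw [hcen]
          _ = C a3 t * a2⁻¹ := by group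
      rw [e]; exact he
  · -- hT
    intro t
    by_cases ht : t ∈ T2 T
    · exact Or.inl ht
    · right
      rw [Subgroup.mul_mem_iff_of_index_two h.indices.1, inv_mem_iff]
      exact ⟨fun hh => absurd hh hx, fun hh => absurd hh ht⟩
  · -- hT2sq
    intro t ht
    rw [h.mem_W_iff_C ((T2 T).mul_mem ht ht), h.C_mul ht t]
    exact h.hexp _ (Z_le (by norm_num : 2 ≤ 3) (h.C_mem t))
  · -- hT1c
    intro y hy t
    obtain ⟨hy2, hC1⟩ := h.mem_T1_iff.mp hy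
    have e : cm y t = y⁻¹ * (t⁻¹ * y * t⁻¹⁻¹) := by unfold cm; group
    have hm : t⁻¹ * y * t⁻¹⁻¹ ∈ T2 T := hconjT2 t⁻¹ hy2
    rw [e, h.mem_W_iff_C ((T2 T).mul_mem (inv_mem hy2) hm), h.C_mul (inv_mem hy2) _, h.C_inv hy2,
      h.C_conj hy2 t⁻¹]
    have hcen := central_of_mem_Z1 hC1 t⁻¹
    calc (C a3 y)⁻¹ * (t⁻¹ * C a3 y * t⁻¹⁻¹) = (C a3 y)⁻¹ * ((t⁻¹ * C a3 y) * t⁻¹⁻¹) := by group
      _ = (C a3 y)⁻¹ * ((C a3 y * t⁻¹) * t⁻¹⁻¹) := by rw [hcen]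
      _ = 1 := by group
  · -- hT2c
    intro y hy2 t
    have e : cm y t = y⁻¹ * (t⁻¹ * y * t⁻¹⁻¹) := by unfold cm; group
    have hm : t⁻¹ * y * t⁻¹⁻¹ ∈ T2 T := hconjT2 t⁻¹ hy2
    rw [e, h.mem_T1_iff]
    refine ⟨(T2 T).mul_mem (inv_mem hy2) hm, ?_⟩
    rw [h.C_mul (inv_mem hy2) _, h.C_inv hy2, h.C_conj hy2 t⁻¹]
    have := comm_mem_Z (n := 1) (inv_mem (h.C_mem y)) t⁻¹
    have e2 : (C a3 y)⁻¹ * (t⁻¹ * C a3 y * t⁻¹⁻¹) = (C a3 y)⁻¹ * t⁻¹ * (C a3 y)⁻¹⁻¹ * t⁻¹⁻¹ := by group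
    rw [e2]; exact this
  · -- hx2
    rw [h.mem_W_iff_C ((T2 T).mul_mem (inv_mem hz2) (hsqT2 x)), h.C_mul (inv_mem hz2) _, h.C_inv hz2, hCz,
      hCx, inv_mul_cancel]
  · -- hindex
    refine ⟨h.indices.1, ?_⟩
    have hm := relIndex_mul_relIndex W (T1 T) (T2 T) hWT1 T1_le_T2
    rw [h.indices.2] at hm
    have h1 : W.relIndex (T1 T) ≠ 1 := by
      intro h1
      exact hzW (relIndex_eq_one.mp h1 hzT1)
    have h2 : (T1 T).relIndex (T2 T) ≠ 1 := by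
      intro h2
      exact hsT1 (relIndex_eq_one.mp h2 hs2)
    have h3 : W.relIndex (T1 T) ≤ 4 := Nat.le_of_dvd (by norm_num) ⟨_, hm.symm⟩
    have h4 : (T1 T).relIndex (T2 T) ≤ 4 := Nat.le_of_dvd (by norm_num) ⟨_, by rw [mul_comm]; exact hm.symm⟩
    interval_cases ha : W.relIndex (T1 T) <;> interval_cases hb : (T1 T).relIndex (T2 T) <;> simp_all
  · -- hnc
    have e : cm x s = (x⁻¹ * s⁻¹ * x⁻¹⁻¹) * s := by unfold cm; group
    have hm : x⁻¹ * s⁻¹ * x⁻¹⁻¹ ∈ T2 T := hconjT2 x⁻¹ (inv_mem hs2)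
    rw [e, h.mem_W_iff_C ((T2 T).mul_mem hm hs2), h.C_mul hm s, h.C_conj (inv_mem hs2) x⁻¹, h.C_inv hs2, hCs,
      ha2inv, inv_inv, (h.conj_a2 hx).2, mul_assoc, ha2sq, mul_one]
    exact h.ha1ne

theorem Cfg.quot_dihedral (h : Cfg W a1 a2 a3) [hn : W.Normal] : Nonempty (T ⧸ W ≃* DihedralGroup 4) := by
  obtain ⟨z, s, x, o⟩ := h.exists_out
  have hcard : Nat.card (T ⧸ W) = 8 := by rw [← Subgroup.index_eq_card, h.hidx]
  have hzz : z * z ∈ W := o.hT2sq z (o.hT12 o.hz)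
  have hss : s * s ∈ W := o.hT2sq s o.hs
  have hsW : s ∉ W := fun hs => o.hsT1 (o.hWT1 hs)
  refine Cfsg.Agent.Lib.Helper6.SimAut.dihedral_of_card_eight hcard
    ⟨(x : T ⧸ W), (s : T ⧸ W), ?_⟩ (z : T ⧸ W) (s : T ⧸ W) ?_ ?_ ?_ ?_ ?_
  · intro hc
    apply o.hnc
    have h1 : ((x * s : T) : T ⧸ W) = ((s * x : T) : T ⧸ W) := by
      rw [QuotientGroup.mk_mul, QuotientGroup.mk_mul]; exact hc
    have h2 := (QuotientGroup.eq.mp h1.symm)
    have e : Cfsg.Agent.Lib.Helper12.RU4.cm x s = (s * x)⁻¹ * (x * s) := by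
      unfold Cfsg.Agent.Lib.Helper12.RU4.cm; group
    rw [e]; exact h2
  · intro hc
    have h2 := QuotientGroup.eq.mp hc
    apply o.hsT1
    have : s = z * (z⁻¹ * s) := by group
    rw [this]
    exact (T1 T).mul_mem o.hz (o.hWT1 h2)
  · intro hc
    exact o.hzW ((QuotientGroup.eq_one_iff z).mp hc)
  · intro hc
    exact hsW ((QuotientGroup.eq_one_iff s).mp hc)
  · rw [← QuotientGroup.mk_mul]; exact (QuotientGroup.eq_one_iff _).mpr hzz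
  · rw [← QuotientGroup.mk_mul]; exact (QuotientGroup.eq_one_iff _).mpr hss

end cfg

/-- **Part III of S3174.** -/
theorem main {W : Subgroup T} (h : Hyp W) :
    (∃ (_ : W.Normal), Nonempty (T ⧸ W ≃* DihedralGroup 4)) ∧
      ∃ z s x : T, Out W (T1 T) (T2 T) z s x := by
  obtain ⟨a1, a2, a3, hc⟩ := exists_cfg h
  obtain ⟨z, s, x, o⟩ := hc.exists_out
  haveI := o.hWn
  exact ⟨⟨o.hWn, hc.quot_dihedral⟩, z, s, x, o⟩

end main

end Cfsg.Agent.Lib.Helper29.RUD8
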