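import Cfsg.Agent.Lib.Helper8.ChevTd0

set_option autoImplicit false

/-! S2128 FO-T (helper29, for helper8): the torus of `²F₄(q)` acting on the class subgroups:
`tor_act`, `tor_surj`, `tor_LA`. -/

namespace Cfsg.Agent.Lib.Helper8.Chev

open Cfsg.Lie Matrix

namespace RF

section

variable {K : Type*} [Field K]

theorem torT_cartan :
    (chevF4.cartan 0 33 = 2 ∧ chevF4.cartan 1 33 = -1 ∧ chevF4.cartan 2 33 = 0 ∧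
      chevF4.cartan 3 33 = 0) ∧
    (chevF4.cartan 0 24 = 0 ∧ chevF4.cartan 1 24 = 0 ∧ chevF4.cartan 2 24 = -1 ∧
      chevF4.cartan 3 24 = 2) ∧
    (chevF4.cartan 0 14 = -2 ∧ chevF4.cartan 1 14 = 1 ∧ chevF4.cartan 2 14 = 0 ∧
      chevF4.cartan 3 14 = 0) ∧
    (chevF4.cartan 0 23 = 0 ∧ chevF4.cartan 1 23 = 0 ∧ chevF4.cartan 2 23 = 1 ∧
      chevF4.cartan 3 23 = -2) ∧
    (chevF4.cartan 0 25 = 0 ∧ chevF4.cartan 1 25 = -2 ∧ chevF4.cartan 2 25 = 2 ∧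
      chevF4.cartan 3 25 = -1) ∧
    (chevF4.cartan 0 27 = -1 ∧ chevF4.cartan 1 27 = 2 ∧ chevF4.cartan 2 27 = -1 ∧
      chevF4.cartan 3 27 = 0) ∧
    (chevF4.cartan 0 28 = -1 ∧ chevF4.cartan 1 28 = 0 ∧ chevF4.cartan 2 28 = 1 ∧
      chevF4.cartan 3 28 = -1) ∧
    (chevF4.cartan 0 30 = -2 ∧ chevF4.cartan 1 30 = 2 ∧ chevF4.cartan 2 30 = 0 ∧
      chevF4.cartan 3 30 = -1) := by decide +kernel

theorem torT_conj_two {G : Type*} [Group G] (c x y : G) :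
    c * (x * y) * c⁻¹ = (c * x * c⁻¹) * (c * y * c⁻¹) := by group

/-- a torus element acts on `x_A(t)` -/
theorem torT_XA_of (c : Fin chevF4.rank → Kˣ) (m : ℕ) (t α : K)
    (h24 : ((chiT chevF4 c 24 : Kˣ) : K) = α) (h33 : ((chiT chevF4 c 33 : Kˣ) : K) = α ^ 2 ^ m) :
    torMap chevF4 K c * XA m t * (torMap chevF4 K c)⁻¹ = XA m (α * t) := by
  unfold XA
  rw [torT_conj_two, torMap_XD_conj hDF4 c (by decide), torMap_XD_conj hDF4 c (by decide), h24,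
    h33, mul_pow]

/-- a torus element acts on `x_{-A}(t)` -/
theorem torT_XAm_of (c : Fin chevF4.rank → Kˣ) (m : ℕ) (t α : K)
    (h23 : ((chiT chevF4 c 23 : Kˣ) : K) = α) (h14 : ((chiT chevF4 c 14 : Kˣ) : K) = α ^ 2 ^ m) :
    torMap chevF4 K c * XAm m t * (torMap chevF4 K c)⁻¹ = XAm m (α * t) := by
  unfold XAm
  rw [torT_conj_two, torMap_XD_conj hDF4 c (by decide), torMap_XD_conj hDF4 c (by decide), h23,
    h14, mul_pow]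

/-- the characters of `h_A(a) h_B(b)` on the relevant roots -/
theorem torT_chars (m : ℕ) (a b : Kˣ) :
    (((chiT chevF4 (tup4 (a ^ 2 ^ m) (b ^ 2 ^ m) b a) 24 : Kˣ) : K) = (a : K) ^ 2 * (b : K)⁻¹) ∧
    (((chiT chevF4 (tup4 (a ^ 2 ^ m) (b ^ 2 ^ m) b a) 33 : Kˣ) : K) =
      ((a : K) ^ 2 ^ m) ^ 2 * ((b : K) ^ 2 ^ m)⁻¹) ∧
    (((chiT chevF4 (tup4 (a ^ 2 ^ m) (b ^ 2 ^ m) b a) 23 : Kˣ) : K) = ((a : K) ^ 2)⁻¹ * (b : K)) ∧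
    (((chiT chevF4 (tup4 (a ^ 2 ^ m) (b ^ 2 ^ m) b a) 14 : Kˣ) : K) =
      (((a : K) ^ 2 ^ m) ^ 2)⁻¹ * ((b : K) ^ 2 ^ m)) ∧
    (((chiT chevF4 (tup4 (a ^ 2 ^ m) (b ^ 2 ^ m) b a) 25 : Kˣ) : K) =
      (((b : K) ^ 2 ^ m) ^ 2)⁻¹ * (b : K) ^ 2 * (a : K)⁻¹) ∧
    (((chiT chevF4 (tup4 (a ^ 2 ^ m) (b ^ 2 ^ m) b a) 27 : Kˣ) : K) =
      ((a : K) ^ 2 ^ m)⁻¹ * ((b : K) ^ 2 ^ m) ^ 2 * (b : K)⁻¹) ∧
    (((chiT chevF4 (tup4 (a ^ 2 ^ m) (b ^ 2 ^ m) b a) 28 : Kˣ) : K) =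
      ((a : K) ^ 2 ^ m)⁻¹ * (b : K) * (a : K)⁻¹) ∧
    (((chiT chevF4 (tup4 (a ^ 2 ^ m) (b ^ 2 ^ m) b a) 30 : Kˣ) : K) =
      (((a : K) ^ 2 ^ m) ^ 2)⁻¹ * ((b : K) ^ 2 ^ m) ^ 2 * (a : K)⁻¹) := by
  obtain ⟨⟨a1, a2, a3, a4⟩, ⟨b1, b2, b3, b4⟩, ⟨c1, c2, c3, c4⟩, ⟨d1, d2, d3, d4⟩,
    ⟨e1, e2, e3, e4⟩, ⟨f1, f2, f3, f4⟩, ⟨g1, g2, g3, g4⟩, ⟨h1, h2, h3, h4⟩⟩ := torT_cartan
  refine ⟨?_, ?_, ?_, ?_, ?_, ?_, ?_, ?_⟩
  · rw [chiT_tup4, b1, b2, b3, b4]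
    simp
    ring
  · rw [chiT_tup4, a1, a2, a3, a4]
    simp
  · rw [chiT_tup4, d1, d2, d3, d4]
    simp
    ring
  · rw [chiT_tup4, c1, c2, c3, c4]
    simp
  · rw [chiT_tup4, e1, e2, e3, e4]
    simp
  · rw [chiT_tup4, f1, f2, f3, f4]
    simp
  · rw [chiT_tup4, g1, g2, g3, g4]
    simp
  · rw [chiT_tup4, h1, h2, h3, h4]
    simp

variable [CharP K 2] [Fintype K]

/-- a torus element acts on `x_R(t, u)` -/
theorem torT_XR_of {m : ℕ} (hK : Fintype.card K = 2 ^ (2 * m + 1)) (c : Fin chevF4.rank → Kˣ)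
    (t u β : K)
    (h25 : ((chiT chevF4 c 25 : Kˣ) : K) = β) (h27 : ((chiT chevF4 c 27 : Kˣ) : K) = β ^ 2 ^ m)
    (h28 : ((chiT chevF4 c 28 : Kˣ) : K) = β * β ^ 2 ^ m)
    (h30 : ((chiT chevF4 c 30 : Kˣ) : K) = β * (β ^ 2 ^ m) ^ 2) :
    torMap chevF4 K c * XR m t u * (torMap chevF4 K c)⁻¹ =
      XR m (β * t) (β * β ^ 2 ^ m * u) := by
  unfold XR
  rw [torMap_N4G _ (by decide) (by decide) (by decide) (by decide), h25, h27, h28, h30,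
    ← N4G_scale hK]


/-- the action of `h_A(a) h_B(b)` on the two positive class subgroups -/
theorem torT_act_AB {m : ℕ} (hK : Fintype.card K = 2 ^ (2 * m + 1)) (a b : Kˣ) (α β : K)
    (hα : α = (a : K) ^ 2 * (b : K)⁻¹)
    (hβ : β = (((b : K) ^ 2 ^ m) ^ 2)⁻¹ * (b : K) ^ 2 * (a : K)⁻¹) :
    (∀ t, (hA m a * hB m b) * XA m t * (hA m a * hB m b)⁻¹ = XA m (α * t)) ∧
    ∀ t u, (hA m a * hB m b) * XR m t u * (hA m a * hB m b)⁻¹ =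
      XR m (β * t) (β * β ^ 2 ^ m * u) := by
  obtain ⟨x24, x33, -, -, x25, x27, x28, x30⟩ := torT_chars (K := K) m a b
  have hA0 : (a : K) ≠ 0 := a.ne_zero
  have hB0 : (b : K) ≠ 0 := b.ne_zero
  have hAθ0 : (a : K) ^ 2 ^ m ≠ 0 := pow_ne_zero _ hA0
  have hBθ0 : (b : K) ^ 2 ^ m ≠ 0 := pow_ne_zero _ hB0
  have hS : (((b : K) ^ 2 ^ m) ^ 2 ^ m) ^ 2 = (b : K) := by
    have := pow_theta hK (b : K)
    rwa [pow_mul'] at this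
  have hβθ : β ^ 2 ^ m = (b : K)⁻¹ * ((b : K) ^ 2 ^ m) ^ 2 * ((a : K) ^ 2 ^ m)⁻¹ := by
    rw [hβ, mul_pow, mul_pow, inv_pow, inv_pow, pow_right_comm ((b : K) ^ 2 ^ m) 2 (2 ^ m), hS,
      pow_right_comm (b : K) 2 (2 ^ m)]
  rw [← torMap_tupF4]
  constructor
  · intro t
    apply torT_XA_of
    · rw [x24, hα]
    · rw [x33, hα, mul_pow, inv_pow, pow_right_comm (a : K) 2 (2 ^ m)]
  · intro t u
    apply torT_XR_of hK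
    · rw [x25, hβ]
    · rw [x27, hβθ]
      ring
    · rw [x28, hβθ, hβ]
      field_simp
    · rw [x30, hβθ, hβ]
      field_simp

omit [CharP K 2] [Fintype K] in
/-- the action of `h_A(a) h_B(b)` on the negative class subgroup of type `A` -/
theorem torT_act_Am (m : ℕ) (a b : Kˣ) (α : K) (hα : α = ((a : K) ^ 2)⁻¹ * (b : K)) (t : K) :
    (hA m a * hB m b) * XAm m t * (hA m a * hB m b)⁻¹ = XAm m (α * t) := by
  obtain ⟨-, -, x23, x14, -, -, -, -⟩ := torT_chars (K := K) m a b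
  rw [← torMap_tupF4]
  apply torT_XAm_of
  · rw [x23, hα]
  · rw [x14, hα, mul_pow, inv_pow, pow_right_comm (a : K) 2 (2 ^ m)]

omit [Fintype K] in
/-- `n_A = x_A(1) x_{-A}(1) x_A(1)` -/
theorem torT_nP_A_eq (m : ℕ) : nP chevF4 K [0, 3] = XA m 1 * XAm m 1 * XA m 1 := by
  apply Units.ext
  rw [nP_A_mat, ← f4_nA_mat two_eq_zero', Units.val_mul, Units.val_mul, coe_XA, coe_XAm,
    pairWord_mat, pairWord_mat, one_pow]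
  simp only [wNF_cons, wN_nil, mul_one, Matrix.mul_assoc]

/-- the torus elements `h_A(a)` lie in `⟨X_A, X_{-A}⟩` -/
theorem torT_hA_mem_LA {m : ℕ} (hK : Fintype.card K = 2 ^ (2 * m + 1)) (a : Kˣ) :
    hA m a ∈ Subgroup.closure {g : GL chevF4.Idx K | ∃ t : K, g = XA m t ∨ g = XAm m t} := by
  obtain ⟨y, rfl⟩ := unit_sq_surj hK a
  have hXA : ∀ t : K, XA m t ∈
      Subgroup.closure {g : GL chevF4.Idx K | ∃ t : K, g = XA m t ∨ g = XAm m t} :=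
    fun t => Subgroup.subset_closure ⟨t, Or.inl rfl⟩
  have hXAm : ∀ t : K, XAm m t ∈
      Subgroup.closure {g : GL chevF4.Idx K | ∃ t : K, g = XA m t ∨ g = XAm m t} :=
    fun t => Subgroup.subset_closure ⟨t, Or.inr rfl⟩
  have hn : nP chevF4 K [0, 3] ∈
      Subgroup.closure {g : GL chevF4.Idx K | ∃ t : K, g = XA m t ∨ g = XAm m t} := by
    rw [torT_nP_A_eq m]
    exact mul_mem (mul_mem (hXA 1) (hXAm 1)) (hXA 1)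
  have e1 : hA m y = hA m y * hB m 1 := by rw [hB_one, mul_one]
  have c1 : hA m y * XA m 1 * (hA m y)⁻¹ = XA m ((y : K) ^ 2 * (1 : K)⁻¹ * 1) := by
    have := (torT_act_AB hK y 1 ((y : K) ^ 2 * (1 : K)⁻¹) _ (by rw [Units.val_one]) rfl).1 1
    rwa [← e1] at this
  have c2 : hA m y * XAm m 1 * (hA m y)⁻¹ = XAm m (((y : K) ^ 2)⁻¹ * (1 : K) * 1) := by
    have := torT_act_Am m y 1 (((y : K) ^ 2)⁻¹ * (1 : K)) (by rw [Units.val_one]) 1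
    rwa [← e1] at this
  have hc : hA m y * nP chevF4 K [0, 3] * (hA m y)⁻¹ ∈
      Subgroup.closure {g : GL chevF4.Idx K | ∃ t : K, g = XA m t ∨ g = XAm m t} := by
    have e : hA m y * nP chevF4 K [0, 3] * (hA m y)⁻¹ =
        (hA m y * XA m 1 * (hA m y)⁻¹) * (hA m y * XAm m 1 * (hA m y)⁻¹) *
          (hA m y * XA m 1 * (hA m y)⁻¹) := by
      rw [torT_nP_A_eq m]
      group
    rw [e, c1, c2]
    exact mul_mem (mul_mem (hXA _) (hXAm _)) (hXA _)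
  rw [sq, hA_mul, inv_conj_of_comm (nP_A_hA m y)]
  exact mul_mem hc (inv_mem hn)

end

section

variable {K : Type*} [Field K] [Fintype K] [CharP K 2] {m : ℕ}
  {σ : GL chevF4.Idx K → GL chevF4.Idx K}

/-- the action of the torus `H¹` on the two positive class subgroups -/
theorem tor_act (hK : Fintype.card K = 2 ^ (2 * m + 1)) {h : GL chevF4.Idx K}
    (hh : h ∈ chevF4.diagonalSubgroup K ⊓ twistedF4 K (2 ^ m)) :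
    ∃ a b : Kˣ, (∀ t, h * XA m t * h⁻¹ = XA m ((a : K) * t)) ∧
      ∀ t u, h * XR m t u * h⁻¹ = XR m ((b : K) * t) ((b : K) * (b : K) ^ 2 ^ m * u) := by
  obtain ⟨σ, X⟩ := exists_xEnd_F4 hK m
  obtain ⟨a₁, b₁, rfl⟩ := (mem_diag_inf_twistedF4 hK X h).mp hh
  refine ⟨a₁ ^ 2 * b₁⁻¹, ((b₁ ^ 2 ^ m) ^ 2)⁻¹ * b₁ ^ 2 * a₁⁻¹, ?_⟩
  exact torT_act_AB hK a₁ b₁ _ _ (by push_cast; rfl) (by push_cast; rfl)

/-- every pair of scalars comes from an element of the torus -/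
theorem tor_surj (hK : Fintype.card K = 2 ^ (2 * m + 1)) (a b : Kˣ) :
    ∃ h ∈ chevF4.diagonalSubgroup K ⊓ twistedF4 K (2 ^ m),
      (∀ t, h * XA m t * h⁻¹ = XA m ((a : K) * t)) ∧
      ∀ t u, h * XR m t u * h⁻¹ = XR m ((b : K) * t) ((b : K) * (b : K) ^ 2 ^ m * u) := by
  obtain ⟨σ, X⟩ := exists_xEnd_F4 hK m
  obtain ⟨a₁, ha₁⟩ : ∃ a₁ : Kˣ, a₁ = a ^ 2 * (a ^ 2 ^ m) ^ 2 * b ^ 3 * (b ^ 2 ^ m) ^ 4 := ⟨_, rfl⟩
  obtain ⟨b₁, hb₁⟩ : ∃ b₁ : Kˣ, b₁ = a ^ 3 * (a ^ 2 ^ m) ^ 4 * b ^ 6 * (b ^ 2 ^ m) ^ 8 := ⟨_, rfl⟩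
  have hA0 : (a : K) ≠ 0 := a.ne_zero
  have hB0 : (b : K) ≠ 0 := b.ne_zero
  have hAθ0 : (a : K) ^ 2 ^ m ≠ 0 := pow_ne_zero _ hA0
  have hBθ0 : (b : K) ^ 2 ^ m ≠ 0 := pow_ne_zero _ hB0
  have hSA : (((a : K) ^ 2 ^ m) ^ 2 ^ m) ^ 2 = (a : K) := by
    have := pow_theta hK (a : K)
    rwa [pow_mul'] at this
  have hSB : (((b : K) ^ 2 ^ m) ^ 2 ^ m) ^ 2 = (b : K) := by
    have := pow_theta hK (b : K)
    rwa [pow_mul'] at this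
  have ca : (a₁ : K) = (a : K) ^ 2 * ((a : K) ^ 2 ^ m) ^ 2 * (b : K) ^ 3 * ((b : K) ^ 2 ^ m) ^ 4 := by
    rw [ha₁]; push_cast; rfl
  have cb : (b₁ : K) = (a : K) ^ 3 * ((a : K) ^ 2 ^ m) ^ 4 * (b : K) ^ 6 * ((b : K) ^ 2 ^ m) ^ 8 := by
    rw [hb₁]; push_cast; rfl
  have cbθ : (b₁ : K) ^ 2 ^ m =
      ((a : K) ^ 2 ^ m) ^ 3 * (a : K) ^ 2 * ((b : K) ^ 2 ^ m) ^ 6 * (b : K) ^ 4 := by
    rw [cb, mul_pow, mul_pow, mul_pow, pow_right_comm (a : K) 3 (2 ^ m),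
      pow_right_comm ((a : K) ^ 2 ^ m) 4 (2 ^ m), pow_right_comm (b : K) 6 (2 ^ m),
      pow_right_comm ((b : K) ^ 2 ^ m) 8 (2 ^ m)]
    have e4 : (((a : K) ^ 2 ^ m) ^ 2 ^ m) ^ 4 = (a : K) ^ 2 := by
      rw [show (4 : ℕ) = 2 * 2 from rfl, pow_mul, hSA]
    have e8 : (((b : K) ^ 2 ^ m) ^ 2 ^ m) ^ 8 = (b : K) ^ 4 := by
      rw [show (8 : ℕ) = 2 * 4 from rfl, pow_mul, hSB]
    rw [e4, e8]
  refine ⟨hA m a₁ * hB m b₁, (mem_diag_inf_twistedF4 hK X _).mpr ⟨a₁, b₁, rfl⟩, ?_⟩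
  apply torT_act_AB hK a₁ b₁
  · rw [ca, cb]
    field_simp
  · rw [cbθ, ca, cb]
    field_simp

/-- the torus of `⟨X_A, X_{-A}⟩` acts on `X_R` by all scalars -/
theorem tor_LA (hK : Fintype.card K = 2 ^ (2 * m + 1)) (a : Kˣ) :
    ∃ h ∈ Subgroup.closure {g : GL chevF4.Idx K | ∃ t : K, g = XA m t ∨ g = XAm m t},
      ∀ t u, h * XR m t u * h⁻¹ = XR m ((a : K) * t) ((a : K) * (a : K) ^ 2 ^ m * u) := by
  refine ⟨hA m a⁻¹, torT_hA_mem_LA hK a⁻¹, ?_⟩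
  intro t u
  rw [tor_XR hK a⁻¹ t u, Units.val_inv_eq_inv_val, inv_inv]

end

end RF

end Cfsg.Agent.Lib.Helper8.Chev
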