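import Mathlib
import Cfsg.Agent.Lib.Helper29.S2222Defs
import Cfsg.Agent.Lib.Helper19.S2222FO2
import Cfsg.Agent.Lib.Helper6.S2222FO3
import Cfsg.Agent.Lib.Helper6.S2222FO5
import Cfsg.Agent.Lib.Helper27.S2222FO4

set_option autoImplicit false

namespace Cfsg.Agent.Lib.Helper29.S2222

open Equiv

universe u

section Main

variable {α : Type u} [DecidableEq α] [Finite α]

theorem hcov_of_sylow (S : Sylow 2 (Perm α)) : ∀ x y : α,
    (∀ z, z ≠ x → swap x z ∉ (S : Subgroup (Perm α))) →
    (∀ z, z ≠ y → swap y z ∉ (S : Subgroup (Perm α))) → x = y :=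
  fun _ _ hx hy => Cfsg.Agent.Lib.Helper19.S2222.covered_of_sylow S hx hy

theorem card_edge (S : Sylow 2 (Perm α)) :
    Nat.card (Edge (S : Subgroup (Perm α))) = Nat.card α / 2 := by
  have h1 := Cfsg.Agent.Lib.Helper6.S2222FO.two_mul_card_edge_le (S := (S : Subgroup (Perm α))) S.isPGroup'
  have h2 := Cfsg.Agent.Lib.Helper6.S2222FO.card_le_two_mul_card_edge_add_one _ S.isPGroup' (hcov_of_sylow S)
  omega

/-- the conjugation action of the normalizer on the edges, as a homomorphism. -/
noncomputable def phi (S : Subgroup (Perm α)) :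
    ↥(Subgroup.normalizer (S : Set (Perm α))) →* Perm (Edge S) :=
  MulAction.toPermHom _ _

theorem phi_apply (S : Subgroup (Perm α)) (g : ↥(Subgroup.normalizer (S : Set (Perm α))))
    (τ : Edge S) : ((phi S g τ : Edge S) : Perm α) = g.1 * τ.1 * g.1⁻¹ := rfl

/-- the image of `S` in `Perm (Edge S)`. -/
noncomputable def Sbar (S : Subgroup (Perm α)) : Subgroup (Perm (Edge S)) :=
  (S.subgroupOf (Subgroup.normalizer (S : Set (Perm α)))).map (phi S)

theorem card_Sbar (S : Sylow 2 (Perm α)) :
    Nat.card (Sbar (S : Subgroup (Perm α))) =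
      2 ^ (Nat.card (Perm (Edge (S : Subgroup (Perm α))))).factorization 2 := by
  classical
  set S0 : Subgroup (Perm α) := (S : Subgroup (Perm α)) with hS0
  set N := Subgroup.normalizer (S0 : Set (Perm α)) with hN
  set ψ : ↥(S0.subgroupOf N) →* Perm (Edge S0) := (phi S0).comp (S0.subgroupOf N).subtype with hψ
  have hrange : ψ.range = Sbar S0 := by
    rw [hψ, MonoidHom.range_comp, Subgroup.range_subtype]
    rfl
  -- cardinalities
  have hcardS : Nat.card (S0.subgroupOf N) = 2 ^ ((Nat.card α).factorial).factorization 2 := by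
    rw [Nat.card_congr (Subgroup.subgroupOfEquivOfLe (Subgroup.le_normalizer)).toEquiv,
      S.card_eq_multiplicity, Nat.card_perm]
  have hmul : Nat.card ψ.ker * Nat.card ψ.range = Nat.card (S0.subgroupOf N) := by
    rw [← Subgroup.index_ker]
    exact Subgroup.card_mul_index ψ.ker
  -- kernel bound
  have hker : Nat.card ψ.ker ≤ 2 ^ Nat.card (Edge S0) := by
    let ι : ↥(S0.subgroupOf N) →* Perm α := (Subgroup.subtype N).comp (S0.subgroupOf N).subtype
    have hι : Function.Injective ι := by
      intro x y h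
      exact Subtype.ext (Subtype.ext h)
    have hcard : Nat.card (ψ.ker.map ι) = Nat.card ψ.ker :=
      Nat.card_congr (Subgroup.equivMapOfInjective ψ.ker ι hι).symm.toEquiv
    rw [← hcard]
    apply Cfsg.Agent.Lib.Helper27.S2222FO4.card_le_of_commute_edges S0 S.isPGroup' (hcov_of_sylow S)
    rintro k ⟨x, hx, rfl⟩ τ
    have hx' : ψ x = 1 := hx
    have h1 : ψ x τ = τ := by rw [hx']; rfl
    have h2 : (x.1.1 : Perm α) * τ.1 * (x.1.1 : Perm α)⁻¹ = τ.1 := congrArg Subtype.val h1
    show (x.1.1 : Perm α) * τ.1 = τ.1 * x.1.1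
    calc (x.1.1 : Perm α) * τ.1 = ((x.1.1 : Perm α) * τ.1 * (x.1.1 : Perm α)⁻¹) * x.1.1 := by group
      _ = τ.1 * x.1.1 := by rw [h2]
  -- range is a 2-group
  have hp : IsPGroup 2 (Sbar S0) := by
    have : IsPGroup 2 (S0.subgroupOf N) :=
      S.isPGroup'.comap_of_injective N.subtype (Subgroup.subtype_injective _)
    exact this.map _
  obtain ⟨k, hk⟩ := IsPGroup.iff_card.mp hp
  have hk2 : k ≤ (Nat.card (Perm (Edge S0))).factorization 2 := by
    have hdvd : 2 ^ k ∣ Nat.card (Perm (Edge S0)) := by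
      rw [← hk]; exact Subgroup.card_subgroup_dvd_card _
    have hne : Nat.card (Perm (Edge S0)) ≠ 0 := Nat.card_pos.ne'
    exact (Nat.Prime.pow_dvd_iff_le_factorization Nat.prime_two hne).mp hdvd
  rw [hrange, hcardS, hk] at hmul
  rw [hk]
  congr 1
  apply le_antisymm hk2
  -- lower bound
  have hleg := factorization_two_factorial (Nat.card α)
  have hm : Nat.card (Edge S0) = Nat.card α / 2 := card_edge S
  have hperm : Nat.card (Perm (Edge S0)) = (Nat.card α / 2).factorial := by
    rw [Nat.card_perm, hm]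
  rw [hperm]
  rw [hleg, pow_add] at hmul
  rw [hm] at hker
  by_contra hlt
  push Not at hlt
  have h3 : 2 ^ k < 2 ^ ((Nat.card α / 2).factorial).factorization 2 :=
    Nat.pow_lt_pow_right (by norm_num) hlt
  have h4 : Nat.card ψ.ker * 2 ^ k <
      2 ^ (Nat.card α / 2) * 2 ^ ((Nat.card α / 2).factorial).factorization 2 := by
    calc Nat.card ψ.ker * 2 ^ k ≤ 2 ^ (Nat.card α / 2) * 2 ^ k := Nat.mul_le_mul_right _ hker
      _ < _ := Nat.mul_lt_mul_of_pos_left h3 (by positivity)
  omega

/-- the image of a Sylow 2-subgroup in `Perm (Edge S)` is a Sylow 2-subgroup. -/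
noncomputable def SbarSylow (S : Sylow 2 (Perm α)) :
    Sylow 2 (Perm (Edge (S : Subgroup (Perm α)))) :=
  Sylow.ofCard (Sbar (S : Subgroup (Perm α))) (card_Sbar S)

theorem coe_SbarSylow (S : Sylow 2 (Perm α)) :
    ((SbarSylow S : Sylow 2 (Perm (Edge (S : Subgroup (Perm α))))) :
      Subgroup (Perm (Edge (S : Subgroup (Perm α))))) = Sbar (S : Subgroup (Perm α)) := rfl

theorem phi_mem_normalizer (S : Subgroup (Perm α))
    (g : ↥(Subgroup.normalizer (S : Set (Perm α)))) :
    phi S g ∈ Subgroup.normalizer ((Sbar S : Subgroup (Perm (Edge S))) : Set (Perm (Edge S))) := by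
  have key : ∀ (g : ↥(Subgroup.normalizer (S : Set (Perm α)))) (x : Perm (Edge S)),
      x ∈ Sbar S → phi S g * x * (phi S g)⁻¹ ∈ Sbar S := by
    rintro g x ⟨s, hs, rfl⟩
    refine ⟨g * s * g⁻¹, ?_, by simp⟩
    have hs' : (s : Perm α) ∈ S := hs
    show ((g * s * g⁻¹ : ↥(Subgroup.normalizer (S : Set (Perm α)))) : Perm α) ∈ S
    have := (Subgroup.mem_normalizer_iff.mp g.2 (s : Perm α)).mp hs'
    simpa using this
  rw [Subgroup.mem_normalizer_iff]
  intro x
  constructor
  · exact key g x
  · intro h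
    have := key g⁻¹ _ h
    simpa [mul_assoc] using this

end Main

/-- an element of odd order normalizing a Sylow 2-subgroup of `Perm α` is trivial. -/
theorem eq_one_of_mem_normalizer_aux (n : ℕ) : ∀ (α : Type u) [DecidableEq α] [Finite α],
    Nat.card α = n → ∀ (S : Sylow 2 (Perm α)) (g : Perm α),
    g ∈ Subgroup.normalizer ((S : Subgroup (Perm α)) : Set (Perm α)) →
    Odd (orderOf g) → g = 1 := by
  induction n using Nat.strong_induction_on with
  | _ n ih =>
    intro α _ _ hn S g hg hodd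
    rcases Nat.eq_zero_or_pos n with h0 | hpos
    · have hα : IsEmpty α := by
        rw [h0] at hn
        rcases (Nat.card_eq_zero.mp hn) with h | h
        · exact h
        · exact absurd ‹Finite α› (not_finite_iff_infinite.mpr h)
      exact Subsingleton.elim _ _
    classical
    have hβ : Nat.card (Edge (S : Subgroup (Perm α))) = n / 2 := by rw [card_edge S, hn]
    have hlt : n / 2 < n := Nat.div_lt_self hpos (by norm_num)
    have hg' := phi_mem_normalizer (S : Subgroup (Perm α)) ⟨g, hg⟩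
    have hodd' : Odd (orderOf (phi (S : Subgroup (Perm α)) ⟨g, hg⟩)) := by
      have h1 : orderOf (phi (S : Subgroup (Perm α)) ⟨g, hg⟩) ∣ orderOf g := by
        have h2 : orderOf (⟨g, hg⟩ : ↥(Subgroup.normalizer ((S : Subgroup (Perm α)) : Set (Perm α))))
            = orderOf g := Subgroup.orderOf_mk g hg
        rw [← h2]
        exact orderOf_map_dvd _ _
      exact Odd.of_dvd_nat hodd h1
    have h1 := ih (n / 2) hlt (Edge (S : Subgroup (Perm α))) hβ (SbarSylow S)
      (phi (S : Subgroup (Perm α)) ⟨g, hg⟩) (by rw [coe_SbarSylow]; exact hg') hodd'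
    apply Cfsg.Agent.Lib.Helper6.S2222FO.eq_one_of_commute_edges (S : Subgroup (Perm α)) (hcov_of_sylow S) g hodd
    intro τ
    have h2 : phi (S : Subgroup (Perm α)) ⟨g, hg⟩ τ = τ := by rw [h1]; rfl
    have h3 : g * τ.1 * g⁻¹ = τ.1 := congrArg Subtype.val h2
    calc g * τ.1 = (g * τ.1 * g⁻¹) * g := by group
      _ = τ.1 * g := by rw [h3]

section Main2

variable {α : Type u} [DecidableEq α] [Finite α]

/-- Sylow 2-subgroups of `Perm α` are self-normalizing. -/
theorem normalizer_sylow_perm (S : Sylow 2 (Perm α)) :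
    Subgroup.normalizer ((S : Subgroup (Perm α)) : Set (Perm α)) = S := by
  have hp : IsPGroup 2 (Subgroup.normalizer ((S : Subgroup (Perm α)) : Set (Perm α))) := by
    intro g
    -- orderOf g = 2^a * m with m odd; g^(2^a) has odd order m
    obtain ⟨a, m, hm, hgm⟩ := Nat.exists_eq_two_pow_mul_odd (n := orderOf (g : Perm α))
      (orderOf_pos _).ne'
    refine ⟨a, ?_⟩
    have hmem : (g : Perm α) ^ 2 ^ a ∈
        Subgroup.normalizer ((S : Subgroup (Perm α)) : Set (Perm α)) :=
      Subgroup.pow_mem _ g.2 _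
    have hord : orderOf ((g : Perm α) ^ 2 ^ a) = m := by
      rw [orderOf_pow' _ (by positivity), hgm, Nat.gcd_eq_right (Dvd.intro _ rfl)]
      exact Nat.mul_div_cancel_left m (by positivity)
    have h1 := eq_one_of_mem_normalizer_aux _ α rfl S _ hmem (hord ▸ hm)
    exact Subtype.ext (by simpa using h1)
  exact S.is_maximal' hp Subgroup.le_normalizer

end Main2

end Cfsg.Agent.Lib.Helper29.S2222
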