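import Mathlib
import Cfsg.Agent.Lib.Helper29.S2222Defs
import Cfsg.Agent.Lib.Helper19.S2222FO6
import Cfsg.Agent.Lib.Helper29.S2222Main

set_option autoImplicit false

namespace Cfsg.Agent.Lib.Helper29.S2222

open Equiv

universe u

section Alt

variable {α : Type u} [Fintype α] [DecidableEq α]

theorem edge_disjoint {S : Subgroup (Perm α)} (hS : IsPGroup 2 S) {a b c d : α}
    (hab : a ≠ b) (hcd : c ≠ d) (h1 : swap a b ∈ S) (h2 : swap c d ∈ S)
    (hne : swap a b ≠ swap c d) : a ≠ c ∧ a ≠ d ∧ b ≠ c ∧ b ≠ d := by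
  refine ⟨?_, ?_, ?_, ?_⟩
  · rintro rfl
    exact hne (by rw [partner_unique hS (Ne.symm hab) (Ne.symm hcd) h1 h2])
  · rintro rfl
    rw [swap_comm c a] at h2 hne
    exact hne (by rw [partner_unique hS (Ne.symm hab) hcd h1 h2])
  · rintro rfl
    rw [swap_comm a b] at h1 hne
    exact hne (by rw [partner_unique hS hab (Ne.symm hcd) h1 h2])
  · rintro rfl
    rw [swap_comm a b] at h1 hne
    rw [swap_comm c b] at h2 hne
    exact hne (by rw [partner_unique hS hab hcd h1 h2])

/-- with at least 6 points, a Sylow 2-subgroup of `Perm α` is determined by its even part. -/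
theorem sylow_eq_of_even_le (hα : 6 ≤ Fintype.card α) (S S' : Sylow 2 (Perm α))
    (h : (S : Subgroup (Perm α)) ⊓ alternatingGroup α ≤ S') : S = S' := by
  classical
  have hm : Nat.card (Edge (S : Subgroup (Perm α))) = Nat.card α / 2 := card_edge S
  haveI : Fintype (Edge (S : Subgroup (Perm α))) := Fintype.ofFinite _
  have h3 : 3 ≤ Fintype.card (Edge (S : Subgroup (Perm α))) := by
    rw [← Nat.card_eq_fintype_card, hm, Nat.card_eq_fintype_card]
    omega
  have huniq : ∀ x y z : α, y ≠ x → z ≠ x → swap x y ∈ (S' : Subgroup (Perm α)) →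
      swap x z ∈ (S' : Subgroup (Perm α)) → y = z :=
    fun x y z hy hz h1 h2 => partner_unique S'.isPGroup' hy hz h1 h2
  have hedge : ∀ τ : Edge (S : Subgroup (Perm α)), τ.1 ∈ (S' : Subgroup (Perm α)) := by
    intro τ
    have hc : 1 < (Finset.univ.erase τ).card := by
      rw [Finset.card_erase_of_mem (Finset.mem_univ _), Finset.card_univ]; omega
    obtain ⟨τ2, h2, τ3, h3', h23⟩ := Finset.one_lt_card.mp hc
    have h2τ : τ2 ≠ τ := (Finset.mem_erase.mp h2).1
    have h3τ : τ3 ≠ τ := (Finset.mem_erase.mp h3').1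
    obtain ⟨a, b, hab, hτ⟩ := τ.2.2
    obtain ⟨c, d, hcd, hτ2⟩ := τ2.2.2
    obtain ⟨e, f, hef, hτ3⟩ := τ3.2.2
    have m1 : swap a b ∈ (S : Subgroup (Perm α)) := hτ ▸ τ.2.1
    have m2 : swap c d ∈ (S : Subgroup (Perm α)) := hτ2 ▸ τ2.2.1
    have m3 : swap e f ∈ (S : Subgroup (Perm α)) := hτ3 ▸ τ3.2.1
    have n12 : swap a b ≠ swap c d := by
      intro hh; exact h2τ (Subtype.ext (by rw [hτ2, ← hh, hτ]))
    have n13 : swap a b ≠ swap e f := by
      intro hh; exact h3τ (Subtype.ext (by rw [hτ3, ← hh, hτ]))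
    have n23 : swap c d ≠ swap e f := by
      intro hh; exact h23 (Subtype.ext (by rw [hτ2, hh, hτ3]))
    obtain ⟨hac, had, hbc, hbd⟩ := edge_disjoint S.isPGroup' hab hcd m1 m2 n12
    obtain ⟨hae, haf, hbe, hbf⟩ := edge_disjoint S.isPGroup' hab hef m1 m3 n13
    obtain ⟨hce, hcf, hde, hdf⟩ := edge_disjoint S.isPGroup' hcd hef m2 m3 n23
    have e1 : swap a b * swap c d ∈ (S' : Subgroup (Perm α)) := by
      apply h
      rw [Subgroup.mem_inf]
      refine ⟨Subgroup.mul_mem _ m1 m2, ?_⟩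
      rw [Equiv.Perm.mem_alternatingGroup, map_mul, Equiv.Perm.sign_swap hab,
        Equiv.Perm.sign_swap hcd]
      rfl
    have e2 : swap a b * swap e f ∈ (S' : Subgroup (Perm α)) := by
      apply h
      rw [Subgroup.mem_inf]
      refine ⟨Subgroup.mul_mem _ m1 m3, ?_⟩
      rw [Equiv.Perm.mem_alternatingGroup, map_mul, Equiv.Perm.sign_swap hab,
        Equiv.Perm.sign_swap hef]
      rfl
    rw [hτ]
    exact Cfsg.Agent.Lib.Helper19.S2222.edge_mem_of_even_le (S' : Subgroup (Perm α)) huniq (hcov_of_sylow S')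
      hab hac had hae haf hbc hbd hbe hbf hcd hce hcf hde hdf hef e1 e2
  have hle : (S : Subgroup (Perm α)) ≤ S' := by
    intro s hs
    by_cases hsgn : Equiv.Perm.sign s = 1
    · exact h (Subgroup.mem_inf.mpr ⟨hs, Equiv.Perm.mem_alternatingGroup.mpr hsgn⟩)
    · have hs1 : Equiv.Perm.sign s = -1 := (Int.units_eq_one_or _).resolve_left hsgn
      have hne : Nonempty (Edge (S : Subgroup (Perm α))) := by
        rw [← Fintype.card_pos_iff]; omega
      obtain ⟨τ⟩ := hne
      obtain ⟨a, b, hab, hτ⟩ := τ.2.2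
      have m1 : swap a b ∈ (S : Subgroup (Perm α)) := hτ ▸ τ.2.1
      have h1 : s * swap a b ∈ (S' : Subgroup (Perm α)) := by
        apply h
        rw [Subgroup.mem_inf]
        refine ⟨Subgroup.mul_mem _ hs m1, ?_⟩
        rw [Equiv.Perm.mem_alternatingGroup, map_mul, Equiv.Perm.sign_swap hab, hs1]
        rfl
      have h2 : swap a b ∈ (S' : Subgroup (Perm α)) := hτ ▸ hedge τ
      have h3 : s = (s * swap a b) * (swap a b)⁻¹ := by group
      rw [h3]
      exact Subgroup.mul_mem _ h1 (Subgroup.inv_mem _ h2)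
  exact Sylow.ext (S.is_maximal' S'.isPGroup' hle).symm

/-- Sylow 2-subgroups of `A_n`, `n ≥ 6`, are self-normalizing. -/
theorem normalizer_sylow_alternating (hα : 6 ≤ Fintype.card α)
    (T : Sylow 2 (alternatingGroup α)) :
    Subgroup.normalizer ((T : Subgroup (alternatingGroup α)) : Set (alternatingGroup α)) = T := by
  apply le_antisymm _ Subgroup.le_normalizer
  intro g hg
  have hT' : IsPGroup 2 ((T : Subgroup (alternatingGroup α)).map (alternatingGroup α).subtype) :=
    T.isPGroup'.map _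
  obtain ⟨S, hS⟩ := hT'.exists_le_sylow
  have hinf : (S : Subgroup (Perm α)) ⊓ alternatingGroup α =
      (T : Subgroup (alternatingGroup α)).map (alternatingGroup α).subtype := by
    have h1 : IsPGroup 2 ((S : Subgroup (Perm α)).subgroupOf (alternatingGroup α)) :=
      S.isPGroup'.comap_of_injective (alternatingGroup α).subtype (Subgroup.subtype_injective _)
    have h2 : (T : Subgroup (alternatingGroup α)) ≤
        (S : Subgroup (Perm α)).subgroupOf (alternatingGroup α) := by
      intro t ht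
      exact hS ⟨t, ht, rfl⟩
    have h3 := T.is_maximal' h1 h2
    rw [← h3, Subgroup.subgroupOf_map_subtype]
  have hS' : (S : Subgroup (Perm α)) ⊓ alternatingGroup α ≤
      (((g : Perm α) • S : Sylow 2 (Perm α)) : Subgroup (Perm α)) := by
    rw [hinf]
    rintro _ ⟨t, ht, rfl⟩
    have h1 : g⁻¹ * t * g ∈ (T : Subgroup (alternatingGroup α)) := by
      have := (Subgroup.mem_normalizer_iff.mp (inv_mem hg) t).mp ht
      simpa using this
    rw [Sylow.coe_subgroup_smul, Subgroup.mem_pointwise_smul_iff_inv_smul_mem]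
    show (MulAut.conj (g : Perm α))⁻¹ ((alternatingGroup α).subtype t) ∈ (S : Subgroup (Perm α))
    have h2 : (MulAut.conj (g : Perm α))⁻¹ ((alternatingGroup α).subtype t) =
        (alternatingGroup α).subtype (g⁻¹ * t * g) := by
      simp [MulAut.conj_inv_apply]
    rw [h2]
    exact hS ⟨_, h1, rfl⟩
  have heq : S = (g : Perm α) • S := sylow_eq_of_even_le hα S _ hS'
  have hgN : (g : Perm α) ∈ Subgroup.normalizer ((S : Subgroup (Perm α)) : Set (Perm α)) :=
    Sylow.smul_eq_iff_mem_normalizer.mp heq.symm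
  rw [normalizer_sylow_perm S] at hgN
  have hmem : (g : Perm α) ∈ (S : Subgroup (Perm α)) ⊓ alternatingGroup α :=
    Subgroup.mem_inf.mpr ⟨hgN, g.2⟩
  rw [hinf] at hmem
  obtain ⟨t, ht, hte⟩ := hmem
  have : t = g := Subtype.ext hte
  exact this ▸ ht

end Alt

end Cfsg.Agent.Lib.Helper29.S2222
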