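import Mathlib
import Cfsg.Agent.Lib.Helper14.MatBN2
import Cfsg.Agent.Lib.Helper6.S2314FOA

set_option autoImplicit false
set_option linter.unusedSectionVars false

namespace Cfsg.Agent.Lib.Helper29.S2316SP5

open Cfsg.Agent.Lib.Helper3 Cfsg.Agent.Lib.Helper8.Weyl Cfsg.Agent.Lib.Helper8.BNCox
open Cfsg.Agent.Lib.Helper14.BNSt Cfsg.Agent.Lib.Helper14.BNChar
open Cfsg.Agent.Lib.Helper6.S2314FOA

/-- the descent criterion for a representative of the longest element (abstract `(B,N)`-pair);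
first half of `Cfsg.Agent.Lib.Helper14.MatBN.Setup.exists_w0`. -/
theorem exists_longest {G : Type*} [Group G] [Fintype G] (P : Cfsg.BNPair G) :
    ∃ n0 : P.N, ∀ s ∈ P.S, ∃ a ∈ P.B, s * (a * (n0 : G)) ∈ BN.C P (n0 : G) := by
  classical
  have hN := tNormal P
  have : Fintype P.S := Fintype.ofFinite _
  set n0 : P.N := repN P (exSys P).w0 with hn0
  refine ⟨n0, ?_⟩
  intro s hs
  have hsN : s ∈ P.N := P.subset hs
  have hdl := (exSys P).w0_DL ⟨s, hs⟩
  unfold ExSys.DL at hdl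
  have e : sW P ⟨s, hs⟩ * (exSys P).w0 = proj P ⟨s * (n0 : G), P.N.mul_mem hsN n0.2⟩ := by
    rw [← proj_repN P (exSys P).w0, ← proj_S, ← map_mul]
    rfl
  rw [e, ← proj_repN P (exSys P).w0, ell_proj, ell_proj] at hdl
  have hrel : BN.Rel P (n0 : G) (s * (s * (n0 : G))) := (BN.rel_sq_mul P hs n0.2).symm
  obtain ⟨g, hg, b, hb, hmem⟩ := BN.exists_smul_mem_of_reduction P n0.2 hs
    (P.N.mul_mem hsN n0.2) hrel hdl
  obtain ⟨b1, hb1, b2, hb2, rfl⟩ := (BN.mem_C P).mp hg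
  refine ⟨b * b1, P.B.mul_mem hb hb1, ?_⟩
  have := BN.mul_right_mem_C P (P.B.inv_mem hb2) hmem
  have e2 : s * b * (b1 * (n0 : G) * b2) * b2⁻¹ = s * (b * b1 * (n0 : G)) := by group
  rw [e2] at this
  exact this

/-- **SP-5** for S2316. -/
theorem exists_longest_par {G : Type*} [Group G] [Fintype G] (P : Cfsg.BNPair G) (J : Set P.S) :
    ∃ n : G, n ∈ P.N ∧ n ∈ par P J ∧ ∀ s ∈ J, ∃ a ∈ P.B, (s : G) * (a * n) ∈ BN.C P n := by
  classical
  set M : Subgroup G := par P J with hM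
  have hBM : P.B ≤ M := B_le_par P J
  set Q : Cfsg.BNPair ↥M := subBN P M hBM with hQ
  haveI : Fintype ↥M := Fintype.ofFinite _
  obtain ⟨n0, hn0⟩ := exists_longest Q
  refine ⟨((n0 : ↥M) : G), ?_, (n0 : ↥M).2, ?_⟩
  · exact Subgroup.mem_subgroupOf.1 n0.2
  · intro s hs
    have hr : s ∈ Set.range (embS P (par P J) (B_le_par P J)) := by
      rw [range_embS]; exact hs
    obtain ⟨x, hx⟩ := hr
    obtain ⟨a, ha, hmem⟩ := hn0 (x : ↥M) x.2
    refine ⟨((a : ↥M) : G), Subgroup.mem_subgroupOf.1 ha, ?_⟩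
    have h1 := (mem_C_subBN P M hBM _ _).1 hmem
    have hxs : ((x : ↥M) : G) = (s : G) := by
      have := congrArg Subtype.val hx
      exact this
    rw [← hxs]
    simpa using h1

end Cfsg.Agent.Lib.Helper29.S2316SP5
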