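import Mathlib
import Cfsg.Agent.Lib.Helper11.S3282Defs
import Cfsg.Agent.Lib.Helper12.S3282G1a

/-!
S3282 (architect helper11), piece G2a: for `y ∈ K#`, the number of ways of writing `y` as a product
of two involutions is `|K|`.
-/

set_option autoImplicit false

namespace Cfsg.Agent.Lib.Helper29.S3282G2a

open Cfsg Cfsg.Agent.Lib.Helper11 Cfsg.Agent.Lib.Helper11.S3282
open Cfsg.Agent.Lib.Helper12.S3282G1a

universe u

variable {G : Type u} [Group G] {t s : G} {K : Subgroup G}

theorem sq_of_order_two {u : G} (hu : orderOf u = 2) : u * u = 1 := by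
  have h1 := pow_orderOf_eq_one u
  rw [hu, pow_two] at h1
  exact h1

theorem inv_of_order_two {u : G} (hu : orderOf u = 2) : u⁻¹ = u :=
  inv_eq_of_mul_eq_one_right (sq_of_order_two hu)

theorem G2_beta_K (h : Hyp t s K) {y : G} (hy : y ∈ K) (hy1 : y ≠ 1) :
    Cfsg.Agent.Lib.Helper11.S3282.beta y = Nat.card K := by
  unfold Cfsg.Agent.Lib.Helper11.S3282.beta
  symm
  have hu : ∀ k : K, orderOf ((k : G) * s) = 2 := fun k =>
    G1_invol_of_not_mem h (mul_s_mem_H h k.2) (mul_s_not_mem h k.2)
  have hvH : ∀ k : K, (k : G) * s * y ∈ Subgroup.centralizer ({t} : Set G) := fun k =>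
    Subgroup.mul_mem _ (mul_s_mem_H h k.2) (h.hKH hy)
  have hvK : ∀ k : K, (k : G) * s * y ∉ K := by
    intro k hc
    apply mul_s_not_mem h k.2
    have := K.mul_mem hc (K.inv_mem hy)
    rwa [mul_inv_cancel_right] at this
  have hv : ∀ k : K, orderOf ((k : G) * s * y) = 2 := fun k =>
    G1_invol_of_not_mem h (hvH k) (hvK k)
  let f : K → {p : G × G // orderOf p.1 = 2 ∧ orderOf p.2 = 2 ∧ p.1 * p.2 = y} := fun k =>
    ⟨((k : G) * s, ((k : G) * s)⁻¹ * y), by
      refine ⟨hu k, ?_, by group⟩
      show orderOf (((k : G) * s)⁻¹ * y) = 2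
      rw [inv_of_order_two (hu k)]
      exact hv k⟩
  have hf : Function.Bijective f := by
    constructor
    · intro k1 k2 h12
      have h1 : (k1 : G) * s = (k2 : G) * s := congrArg (fun p => p.1.1) h12
      exact Subtype.ext (mul_right_cancel h1)
    · rintro ⟨⟨u, v⟩, hu2, hv2, huv⟩
      simp only at hu2 hv2 huv
      have hv' : v = u⁻¹ * y := by rw [← huv]; group
      have huinv := inv_of_order_two hu2
      have hinvert : u * y * u⁻¹ = y⁻¹ := by
        have h1 := sq_of_order_two hv2
        rw [hv', huinv] at h1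
        -- u y u y = 1
        have h2 : u * y * u = y⁻¹ := by
          have : u * y * u * y = 1 := by rw [← h1]; group
          exact eq_inv_of_mul_eq_one_left this
        rw [huinv]
        exact h2
      have huH : u ∈ Subgroup.centralizer ({t} : Set G) := by
        apply G1_fusion h hy hy1
        rw [hinvert]
        exact K.inv_mem hy
      rcases G1_mem_H h huH with huK | ⟨k, hk, rfl⟩
      · exfalso
        have hut : u = t := G1_invol_K h huK hu2
        have hvK' : v ∈ K := by
          rw [hv']
          exact K.mul_mem (K.inv_mem huK) hy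
        have hvt : v = t := G1_invol_K h hvK' hv2
        apply hy1
        rw [← huv, hut, hvt]
        exact t_sq h
      · refine ⟨⟨k, hk⟩, ?_⟩
        apply Subtype.ext
        show ((k * s, (k * s)⁻¹ * y) : G × G) = (k * s, v)
        rw [hv']
  exact Nat.card_congr (Equiv.ofBijective f hf)

end Cfsg.Agent.Lib.Helper29.S3282G2a
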