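import Mathlib
import Cfsg.Prelude.Def_OddOrderLocal

/-!
# S4018, part A: basic structure of `C(P)` (helper29)
-/

set_option autoImplicit false
set_option linter.unusedSectionVars false

namespace Cfsg.Agent.Lib.Helper29.S4018

variable {G : Type*} [Group G] [Finite G]

/-- the hypotheses of S4018 together with simplicity -/
structure Setup (P : Sylow 3 G) : Prop where
  hab : IsMulCommutative P
  hN : Nat.card (Subgroup.normalizer ((P : Subgroup G) : Set G)) = 4 * Nat.card P
  hC : Nat.card (Subgroup.centralizer ((P : Subgroup G) : Set G)) = 2 * Nat.card P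
  hTI : Cfsg.IsTISubset (Subgroup.centralizer ((P : Subgroup G) : Set G) : Set G)
  heven : ∀ H : Subgroup G, H ≠ ⊤ → 2 ∣ Nat.card H → Nat.card H ∣ 4 * Nat.card P
  simple : IsSimpleGroup G

/-- index two facts (copy of the 5040 tool, kept here to keep imports light) -/
theorem idx_two (T S : Subgroup G) (hTS : T ≤ S) (h : Nat.card S = 2 * Nat.card T) :
    (∀ s ∈ S, ∀ t ∈ T, s * t * s⁻¹ ∈ T) ∧
      (∀ a ∈ S, ∀ b ∈ S, a ∉ T → b ∉ T → a * b ∈ T) := by
  have hidx : (T.subgroupOf S).index = 2 := by
    have h1 := Subgroup.card_mul_index (T.subgroupOf S)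
    rw [Nat.card_congr (Subgroup.subgroupOfEquivOfLe hTS).toEquiv, h] at h1
    have hpos : 0 < Nat.card T := Nat.card_pos
    have : Nat.card T * (T.subgroupOf S).index = Nat.card T * 2 := by rw [h1]; ring
    exact Nat.eq_of_mul_eq_mul_left hpos this
  haveI hnorm : (T.subgroupOf S).Normal := Subgroup.normal_of_index_eq_two hidx
  constructor
  · intro s hs t ht
    have := hnorm.conj_mem ⟨t, hTS ht⟩ (Subgroup.mem_subgroupOf.mpr ht) ⟨s, hs⟩
    exact Subgroup.mem_subgroupOf.mp this
  · intro a ha b hb haT hbT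
    have h1 := Subgroup.mul_mem_iff_of_index_two hidx (a := (⟨a, ha⟩ : S)) (b := (⟨b, hb⟩ : S))
    have h2 : (⟨a, ha⟩ : S) * ⟨b, hb⟩ ∈ T.subgroupOf S := by
      rw [h1]
      constructor
      · intro h; exact absurd (Subgroup.mem_subgroupOf.mp h) haT
      · intro h; exact absurd (Subgroup.mem_subgroupOf.mp h) hbT
    exact Subgroup.mem_subgroupOf.mp h2

variable {P : Sylow 3 G}

theorem Setup.comm_P (h : Setup P) : ∀ x ∈ (P : Subgroup G), ∀ y ∈ (P : Subgroup G), x * y = y * x := by
  intro x hx y hy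
  have := (h.hab.is_comm).comm (⟨x, hx⟩ : (P : Subgroup G)) ⟨y, hy⟩
  exact congrArg Subtype.val this

theorem Setup.P_le_C (h : Setup P) :
    (P : Subgroup G) ≤ Subgroup.centralizer ((P : Subgroup G) : Set G) := by
  intro x hx
  rw [Subgroup.mem_centralizer_iff]
  intro y hy
  exact h.comm_P y hy x hx

theorem Setup.C_le_N (_h : Setup P) :
    Subgroup.centralizer ((P : Subgroup G) : Set G) ≤
      Subgroup.normalizer ((P : Subgroup G) : Set G) :=
  Subgroup.centralizer_le_normalizer _

/-- `|P| = 3 ^ a` with `a ≥ 1` -/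
theorem Setup.exists_card (h : Setup P) : ∃ a : ℕ, 1 ≤ a ∧ Nat.card P = 3 ^ a := by
  obtain ⟨a, ha⟩ := P.2.exists_card_eq
  refine ⟨a, ?_, ha⟩
  by_contra h0
  have ha0 : a = 0 := by omega
  rw [ha0, pow_zero] at ha
  have hbot : (P : Subgroup G) = ⊥ := Subgroup.card_eq_one.mp ha
  have h1 := h.hN
  have h2 := h.hC
  rw [hbot] at h1 h2
  have hn : Subgroup.normalizer ((⊥ : Subgroup G) : Set G) = ⊤ := by
    exact Subgroup.normalizer_eq_top_iff.mpr (inferInstance : (⊥ : Subgroup G).Normal)
  have hc : Subgroup.centralizer ((⊥ : Subgroup G) : Set G) = ⊤ := by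
    rw [Subgroup.coe_bot]
    ext g
    simp [Subgroup.mem_centralizer_iff]
  rw [hn] at h1
  rw [hc] at h2
  rw [Subgroup.card_bot] at h1 h2
  omega

theorem Setup.odd_card (h : Setup P) : Odd (Nat.card P) := by
  obtain ⟨a, _, ha⟩ := h.exists_card
  rw [ha]
  exact Odd.pow (by decide)

theorem Setup.card_pos (_h : Setup P) : 0 < Nat.card P := Nat.card_pos

/-- an element of `P` whose square is trivial is trivial -/
theorem Setup.eq_one_of_sq (h : Setup P) {x : G} (hx : x ∈ (P : Subgroup G)) (h2 : x * x = 1) :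
    x = 1 := by
  have h1 : orderOf x ∣ 2 := orderOf_dvd_of_pow_eq_one (by rw [pow_two]; exact h2)
  have h3 : orderOf x ∣ Nat.card P := by
    have := Subgroup.orderOf_dvd_natCard (P : Subgroup G) hx
    exact this
  obtain ⟨k, hk⟩ := h.odd_card
  have h4 : orderOf x ∣ 1 := by
    have : orderOf x ∣ Nat.gcd 2 (Nat.card P) := Nat.dvd_gcd h1 h3
    rw [hk] at this
    have hg : Nat.gcd 2 (2 * k + 1) = 1 := by
      rw [Nat.gcd_comm, Nat.gcd_rec]
      simp
    rwa [hg] at this
  exact orderOf_eq_one_iff.mp (Nat.dvd_one.mp h4)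

/-- the involution of `C(P)` -/
theorem Setup.exists_v (h : Setup P) :
    ∃ v ∈ Subgroup.centralizer ((P : Subgroup G) : Set G), orderOf v = 2 := by
  haveI : Fact (Nat.Prime 2) := ⟨Nat.prime_two⟩
  have hdvd : 2 ∣ Nat.card (Subgroup.centralizer ((P : Subgroup G) : Set G)) := by
    rw [h.hC]; exact dvd_mul_right 2 _
  obtain ⟨v, hv⟩ := exists_prime_orderOf_dvd_card' 2 hdvd
  refine ⟨(v : G), v.2, ?_⟩
  rw [← hv]
  exact (Subgroup.orderOf_coe v)

theorem sq_of_order_two {v : G} (hv : orderOf v = 2) : v * v = 1 := by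
  have := pow_orderOf_eq_one v
  rwa [hv, pow_two] at this

theorem ne_one_of_order_two {v : G} (hv : orderOf v = 2) : v ≠ 1 := by
  intro h
  rw [h, orderOf_one] at hv
  omega

theorem inv_of_order_two {v : G} (hv : orderOf v = 2) : v⁻¹ = v :=
  inv_eq_of_mul_eq_one_left (sq_of_order_two hv)

theorem order_two_of {v : G} (h1 : v ≠ 1) (h2 : v * v = 1) : orderOf v = 2 := by
  have : orderOf v ∣ 2 := orderOf_dvd_of_pow_eq_one (by rw [pow_two]; exact h2)
  rcases (Nat.dvd_prime Nat.prime_two).mp this with h | h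
  · exact absurd (orderOf_eq_one_iff.mp h) h1
  · exact h

theorem Setup.v_not_mem (h : Setup P) {v : G} (hv : orderOf v = 2) : v ∉ (P : Subgroup G) := by
  intro hvP
  exact ne_one_of_order_two hv (h.eq_one_of_sq hvP (sq_of_order_two hv))

theorem Setup.C_cases (h : Setup P) {v : G}
    (hvC : v ∈ Subgroup.centralizer ((P : Subgroup G) : Set G)) (hv : orderOf v = 2) {x : G}
    (hx : x ∈ Subgroup.centralizer ((P : Subgroup G) : Set G)) :
    x ∈ (P : Subgroup G) ∨ v * x ∈ (P : Subgroup G) := by
  by_cases hxP : x ∈ (P : Subgroup G)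
  · exact Or.inl hxP
  · exact Or.inr ((idx_two _ _ h.P_le_C h.hC).2 v hvC x hx (h.v_not_mem hv) hxP)

theorem Setup.C_comm (h : Setup P) :
    ∀ x ∈ Subgroup.centralizer ((P : Subgroup G) : Set G),
      ∀ y ∈ Subgroup.centralizer ((P : Subgroup G) : Set G), x * y = y * x := by
  obtain ⟨v, hvC, hv⟩ := h.exists_v
  have hv2 := sq_of_order_two hv
  have hvi := inv_of_order_two hv
  -- elements of `P` commute with everything in `C`
  have hPc : ∀ p ∈ (P : Subgroup G), ∀ y ∈ Subgroup.centralizer ((P : Subgroup G) : Set G),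
      p * y = y * p := by
    intro p hp y hy
    exact (Subgroup.mem_centralizer_iff.mp hy) p hp
  intro x hx y hy
  rcases h.C_cases hvC hv hx with hxP | hxP
  · exact hPc x hxP y hy
  · rcases h.C_cases hvC hv hy with hyP | hyP
    · exact (hPc y hyP x hx).symm
    · -- x = v * p, y = v * q
      have hx' : x = v * (v * x) := by rw [← mul_assoc, hv2, one_mul]
      have hy' : y = v * (v * y) := by rw [← mul_assoc, hv2, one_mul]
      have e1 := hPc (v * x) hxP v hvC
      have e2 := hPc (v * y) hyP v hvC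
      have e3 := h.comm_P _ hxP _ hyP
      rw [hx', hy']
      calc v * (v * x) * (v * (v * y)) = v * ((v * x) * v) * (v * y) := by group
        _ = v * (v * (v * x)) * (v * y) := by rw [e1]
        _ = v * v * ((v * x) * (v * y)) := by group
        _ = v * v * ((v * y) * (v * x)) := by rw [e3]
        _ = v * (v * (v * y)) * (v * x) := by group
        _ = v * ((v * y) * v) * (v * x) := by rw [e2]
        _ = v * (v * y) * (v * (v * x)) := by group

/-- `v` is the only involution of `C(P)` -/
theorem Setup.unique_inv (h : Setup P) {v : G}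
    (hvC : v ∈ Subgroup.centralizer ((P : Subgroup G) : Set G)) (hv : orderOf v = 2) {u : G}
    (huC : u ∈ Subgroup.centralizer ((P : Subgroup G) : Set G)) (hu : orderOf u = 2) : u = v := by
  rcases h.C_cases hvC hv huC with huP | huP
  · exact absurd huP (h.v_not_mem hu)
  · have hc := h.C_comm v hvC u huC
    have h1 : (v * u) * (v * u) = 1 := by
      calc (v * u) * (v * u) = v * (u * v) * u := by group
        _ = v * (v * u) * u := by rw [hc]
        _ = (v * v) * (u * u) := by group
        _ = 1 := by rw [sq_of_order_two hv, sq_of_order_two hu, one_mul]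
    have h2 := h.eq_one_of_sq huP h1
    have : u = v⁻¹ := by
      rw [eq_inv_iff_mul_eq_one, ← hc, h2]
    rw [this, inv_of_order_two hv]

end Cfsg.Agent.Lib.Helper29.S4018
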