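import Mathlib
import Cfsg.Agent.Lib.Helper29.S4018A
import Cfsg.Agent.Lib.Helper2.KleinFourSylow

/-!
# S4018, part B: the Sylow 2-subgroups are Klein four groups, one class of involutions (helper29)
-/

set_option autoImplicit false
set_option linter.unusedSectionVars false

namespace Cfsg.Agent.Lib.Helper29.S4018

variable {G : Type*} [Group G] [Finite G] {P : Sylow 3 G}

theorem Setup.card_N_dvd (h : Setup P) : 4 * Nat.card P ∣ Nat.card G := by
  rw [← h.hN]
  exact Subgroup.card_subgroup_dvd_card _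

theorem Setup.twelve_le (h : Setup P) : 12 ≤ Nat.card G := by
  obtain ⟨a, ha, hm⟩ := h.exists_card
  have h1 := Nat.le_of_dvd Nat.card_pos h.card_N_dvd
  have h3 : 3 ^ 1 ≤ 3 ^ a := Nat.pow_le_pow_right (by norm_num) ha
  rw [hm] at h1
  omega

/-- the order of a Sylow 2-subgroup is 4 -/
theorem Setup.card_sylow2 (h : Setup P) (S : Sylow 2 G) : Nat.card S = 4 := by
  haveI : Fact (Nat.Prime 2) := ⟨Nat.prime_two⟩
  obtain ⟨a, ha, hm⟩ := h.exists_card
  obtain ⟨k, hk⟩ := S.2.exists_card_eq
  have h4G : 2 ^ 2 ∣ Nat.card G := by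
    have : (4 : ℕ) ∣ 4 * Nat.card P := dvd_mul_right 4 _
    exact this.trans h.card_N_dvd
  have h4 : 2 ^ 2 ∣ Nat.card S := S.pow_dvd_card_of_pow_dvd_card h4G
  -- `S ≠ ⊤`
  have hne : (S : Subgroup G) ≠ ⊤ := by
    intro htop
    have hc : Nat.card G = 2 ^ k := by
      rw [← hk, htop, Subgroup.card_top]
    have h3 : 3 ∣ Nat.card G := by
      have : 3 ∣ 4 * Nat.card P := by
        rw [hm]
        exact Dvd.dvd.mul_left (dvd_pow_self 3 (by omega)) 4
      exact this.trans h.card_N_dvd
    rw [hc] at h3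
    have := (Nat.Prime.dvd_of_dvd_pow Nat.prime_three h3)
    omega
  have h2 : 2 ∣ Nat.card S := (dvd_pow_self 2 (by norm_num)).trans h4
  have hdvd := h.heven S hne h2
  rw [hk, hm] at hdvd
  have hcop : Nat.Coprime (2 ^ k) (3 ^ a) := by
    apply Nat.Coprime.pow
    decide
  have h5 : 2 ^ k ∣ 4 := hcop.dvd_of_dvd_mul_right hdvd
  rw [hk] at h4 ⊢
  exact Nat.dvd_antisymm h5 h4

/-- a normal complement to a Sylow 2-subgroup does not exist -/
theorem Setup.no_complement (h : Setup P) (S : Sylow 2 G) (K : Subgroup G) (hK : K.Normal)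
    (hc : K.IsComplement' S) : False := by
  haveI := h.simple
  have hmul := hc.card_mul_card
  rw [h.card_sylow2 S] at hmul
  rcases hK.eq_bot_or_eq_top with hb | ht
  · rw [hb, Subgroup.card_bot] at hmul
    have := h.twelve_le
    omega
  · rw [ht, Subgroup.card_top] at hmul
    have : 0 < Nat.card G := Nat.card_pos
    omega

theorem Setup.not_cyclic_sylow2 (h : Setup P) (S : Sylow 2 G) : ¬ IsCyclic S := by
  intro hcyc
  have hmin : (Nat.card G).minFac = 2 := by
    rw [Nat.minFac_eq_two_iff]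
    have : (2 : ℕ) ∣ 4 * Nat.card P := Dvd.dvd.mul_right (by norm_num) _
    exact this.trans h.card_N_dvd
  have hcompl := IsCyclic.isComplement' hmin hcyc
  exact h.no_complement S _ inferInstance hcompl

/-- there is no element of order 4 -/
theorem Setup.orderOf_ne_four (h : Setup P) (w : G) : orderOf w ≠ 4 := by
  intro hw
  haveI : Fact (Nat.Prime 2) := ⟨Nat.prime_two⟩
  have hZ : IsPGroup 2 (Subgroup.zpowers w) := by
    apply IsPGroup.of_card (n := 2)
    rw [Nat.card_zpowers, hw]; norm_num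
  obtain ⟨S, hS⟩ := hZ.exists_le_sylow
  have hcard : Nat.card (Subgroup.zpowers w) = Nat.card S := by
    rw [Nat.card_zpowers, hw, h.card_sylow2 S]
  have heq : Subgroup.zpowers w = (S : Subgroup G) :=
    Subgroup.eq_of_le_of_card_ge hS (le_of_eq hcard.symm)
  apply h.not_cyclic_sylow2 S
  have : IsCyclic (Subgroup.zpowers w) := inferInstance
  rw [heq] at this
  exact this

/-- every 2-element has square one -/
theorem Setup.sq_eq_one_of_mem_sylow2 (h : Setup P) (S : Sylow 2 G) {x : G}
    (hx : x ∈ (S : Subgroup G)) : x * x = 1 := by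
  have h1 : orderOf x ∣ 4 := by
    rw [← h.card_sylow2 S]
    exact Subgroup.orderOf_dvd_natCard _ hx
  have h2 : orderOf x ∣ 2 := by
    have hle : orderOf x ≤ 4 := Nat.le_of_dvd (by norm_num) h1
    have hne := h.orderOf_ne_four x
    have hpos : 0 < orderOf x := orderOf_pos x
    interval_cases hx : orderOf x
    · norm_num
    · norm_num
    · norm_num at h1
    · exact absurd rfl hne
  have := orderOf_dvd_iff_pow_eq_one.mp h2
  rwa [pow_two] at this

theorem Setup.isKleinFour (h : Setup P) (S : Sylow 2 G) : IsKleinFour (S : Subgroup G) := by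
  refine ⟨h.card_sylow2 S, ?_⟩
  haveI : Nontrivial (S : Subgroup G) := by
    rw [← Finite.one_lt_card_iff_nontrivial, h.card_sylow2 S]
    norm_num
  rw [Monoid.exponent_eq_prime_iff Nat.prime_two]
  intro g hg
  apply order_two_of hg
  have := h.sq_eq_one_of_mem_sylow2 S g.2
  exact Subtype.ext this

/-- all involutions are conjugate -/
theorem Setup.isConj_of_involutions (h : Setup P) {t u : G} (ht : orderOf t = 2)
    (hu : orderOf u = 2) : IsConj t u := by
  haveI : Fact (Nat.Prime 2) := ⟨Nat.prime_two⟩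
  obtain ⟨S⟩ : Nonempty (Sylow 2 G) := inferInstance
  have hK := h.isKleinFour S
  have h13 := Cfsg.Agent.Lib.Helper2.card_invClasses_eq_one_or_three S hK
  have h3 := Cfsg.Agent.Lib.Helper2.card_invClasses_eq_three_iff S hK
  have h1 : Nat.card (Cfsg.Agent.Lib.Helper2.InvClasses G) = 1 := by
    rcases h13 with h1 | h3'
    · exact h1
    · exfalso
      obtain ⟨N, hN, hcompl⟩ := h3.mp h3'
      exact h.no_complement S N hN hcompl
  have hsub : Subsingleton (Cfsg.Agent.Lib.Helper2.InvClasses G) :=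
    (Nat.card_eq_one_iff_unique.mp h1).1
  have := hsub.elim ⟨ConjClasses.mk t, t, ht, rfl⟩ ⟨ConjClasses.mk u, u, hu, rfl⟩
  exact ConjClasses.mk_eq_mk_iff_isConj.mp (congrArg Subtype.val this)

end Cfsg.Agent.Lib.Helper29.S4018
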