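import Mathlib
import Cfsg.Agent.Lib.Helper29.S4018B
import Cfsg.Agent.S0074

/-!
# S4018, part C: the elements of `N(P) \ C(P)` are involutions inverting `C(P)` (helper29)
-/

set_option autoImplicit false
set_option linter.unusedSectionVars false

namespace Cfsg.Agent.Lib.Helper29.S4018

open scoped commutatorElement

variable {G : Type*} [Group G] [Finite G] {P : Sylow 3 G}

theorem Setup.not_comm (h : Setup P) : ¬ ∀ x y : G, x * y = y * x := by
  intro hc
  have h1 : Subgroup.centralizer ((P : Subgroup G) : Set G) = ⊤ := by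
    ext g
    simp only [Subgroup.mem_centralizer_iff, Subgroup.mem_top, iff_true]
    intro x _
    exact hc x g
  have h2 : Subgroup.normalizer ((P : Subgroup G) : Set G) = ⊤ := by
    rw [eq_top_iff, ← h1]
    exact h.C_le_N
  have e1 := h.hN
  have e2 := h.hC
  rw [h1] at e2
  rw [h2] at e1
  have := h.card_pos
  omega

theorem Setup.commutator_eq_top (h : Setup P) : commutator G = ⊤ := by
  haveI := h.simple
  have hn : (commutator G).Normal := inferInstance
  rcases hn.eq_bot_or_eq_top with hb | ht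
  · exfalso
    apply h.not_comm
    intro x y
    have : ⁅x, y⁆ ∈ commutator G := by
      rw [commutator_def]
      exact Subgroup.commutator_mem_commutator (Subgroup.mem_top x) (Subgroup.mem_top y)
    rw [hb, Subgroup.mem_bot] at this
    exact commutatorElement_eq_one_iff_mul_comm.mp this
  · exact ht

theorem Setup.P_le_commutator_N (h : Setup P) :
    (P : Subgroup G) ≤ ⁅Subgroup.normalizer ((P : Subgroup G) : Set G),
      Subgroup.normalizer ((P : Subgroup G) : Set G)⁆ := by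
  haveI : Fact (Nat.Prime 3) := ⟨Nat.prime_three⟩
  have := Cfsg.Agent.S0074.result P h.hab
  rw [h.commutator_eq_top, top_inf_eq] at this
  intro x hx
  have hx' : x ∈ ⁅Subgroup.normalizer ((P : Subgroup G) : Set G),
      Subgroup.normalizer ((P : Subgroup G) : Set G)⁆ ⊓ (P : Subgroup G) := by
    have hx2 : x ∈ (P : Subgroup G) := hx
    rw [this] at hx2
    exact hx2
  exact hx'.1

/-- `C` is normalized by `N` -/
theorem Setup.conj_mem_C (h : Setup P) {n : G}
    (hn : n ∈ Subgroup.normalizer ((P : Subgroup G) : Set G)) {c : G}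
    (hc : c ∈ Subgroup.centralizer ((P : Subgroup G) : Set G)) :
    n * c * n⁻¹ ∈ Subgroup.centralizer ((P : Subgroup G) : Set G) :=
  (idx_two _ _ h.C_le_N (by rw [h.hN, h.hC]; ring)).1 n hn c hc

/-- the product of two elements of `N \\ C` lies in `C` -/
theorem Setup.mul_mem_C (h : Setup P) {a b : G}
    (ha : a ∈ Subgroup.normalizer ((P : Subgroup G) : Set G))
    (hb : b ∈ Subgroup.normalizer ((P : Subgroup G) : Set G))
    (haC : a ∉ Subgroup.centralizer ((P : Subgroup G) : Set G))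
    (hbC : b ∉ Subgroup.centralizer ((P : Subgroup G) : Set G)) :
    a * b ∈ Subgroup.centralizer ((P : Subgroup G) : Set G) :=
  (idx_two _ _ h.C_le_N (by rw [h.hN, h.hC]; ring)).2 a ha b hb haC hbC

/-- conjugation by elements of `N \\ C` on `C` does not depend on the element -/
theorem Setup.conj_indep (h : Setup P) {n y : G}
    (hn : n ∈ Subgroup.normalizer ((P : Subgroup G) : Set G))
    (hy : y ∈ Subgroup.normalizer ((P : Subgroup G) : Set G))
    (hnC : n ∉ Subgroup.centralizer ((P : Subgroup G) : Set G))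
    (hyC : y ∉ Subgroup.centralizer ((P : Subgroup G) : Set G)) {c : G}
    (hc : c ∈ Subgroup.centralizer ((P : Subgroup G) : Set G)) :
    n * c * n⁻¹ = y * c * y⁻¹ := by
  have hyi : y⁻¹ ∉ Subgroup.centralizer ((P : Subgroup G) : Set G) := by
    intro hh; exact hyC (by simpa using inv_mem hh)
  have h1 := h.mul_mem_C (inv_mem hy) hn hyi hnC
  have h2 := h.C_comm _ h1 c hc
  calc n * c * n⁻¹ = y * ((y⁻¹ * n) * c) * (y⁻¹ * n)⁻¹ * y⁻¹ := by group
    _ = y * (c * (y⁻¹ * n)) * (y⁻¹ * n)⁻¹ * y⁻¹ := by rw [h2]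
    _ = y * c * y⁻¹ := by group

/-- the subgroup of `C` inverted by `y` -/
def invSub (h : Setup P) (y : G) : Subgroup G where
  carrier := {g | g ∈ Subgroup.centralizer ((P : Subgroup G) : Set G) ∧ y * g * y⁻¹ = g⁻¹}
  one_mem' := ⟨one_mem _, by simp⟩
  mul_mem' := by
    rintro a b ⟨ha, ha'⟩ ⟨hb, hb'⟩
    refine ⟨mul_mem ha hb, ?_⟩
    have hc := h.C_comm a ha b hb
    calc y * (a * b) * y⁻¹ = (y * a * y⁻¹) * (y * b * y⁻¹) := by group
      _ = a⁻¹ * b⁻¹ := by rw [ha', hb']
      _ = (b * a)⁻¹ := by group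
      _ = (a * b)⁻¹ := by rw [hc]
  inv_mem' := by
    rintro a ⟨ha, ha'⟩
    refine ⟨inv_mem ha, ?_⟩
    calc y * a⁻¹ * y⁻¹ = (y * a * y⁻¹)⁻¹ := by group
      _ = (a⁻¹)⁻¹ := by rw [ha']

theorem mem_invSub (h : Setup P) {y g : G} :
    g ∈ invSub h y ↔ g ∈ Subgroup.centralizer ((P : Subgroup G) : Set G) ∧ y * g * y⁻¹ = g⁻¹ :=
  Iff.rfl

/-- `[y, c]` is inverted by `y` -/
theorem Setup.phi_mem (h : Setup P) {y : G}
    (hy : y ∈ Subgroup.normalizer ((P : Subgroup G) : Set G))
    (hyC : y ∉ Subgroup.centralizer ((P : Subgroup G) : Set G)) {c : G}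
    (hc : c ∈ Subgroup.centralizer ((P : Subgroup G) : Set G)) :
    y * c * y⁻¹ * c⁻¹ ∈ invSub h y := by
  rw [mem_invSub]
  refine ⟨mul_mem (h.conj_mem_C hy hc) (inv_mem hc), ?_⟩
  have hy2 := h.mul_mem_C hy hy hyC hyC
  have h2 := h.C_comm _ hy2 c hc
  calc y * (y * c * y⁻¹ * c⁻¹) * y⁻¹ = ((y * y) * c) * (y * y)⁻¹ * (y * c⁻¹ * y⁻¹) := by group
    _ = (c * (y * y)) * (y * y)⁻¹ * (y * c⁻¹ * y⁻¹) := by rw [h2]
    _ = (y * c * y⁻¹ * c⁻¹)⁻¹ := by group

theorem Setup.commutator_le_invSub (h : Setup P) {y : G}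
    (hy : y ∈ Subgroup.normalizer ((P : Subgroup G) : Set G))
    (hyC : y ∉ Subgroup.centralizer ((P : Subgroup G) : Set G)) :
    ⁅Subgroup.normalizer ((P : Subgroup G) : Set G),
      Subgroup.normalizer ((P : Subgroup G) : Set G)⁆ ≤ invSub h y := by
  -- case (ii): `n ∉ C`, `c ∈ C`
  have key : ∀ n ∈ Subgroup.normalizer ((P : Subgroup G) : Set G),
      n ∉ Subgroup.centralizer ((P : Subgroup G) : Set G) →
      ∀ c ∈ Subgroup.centralizer ((P : Subgroup G) : Set G), ⁅n, c⁆ ∈ invSub h y := by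
    intro n hn hnC c hc
    rw [commutatorElement_def, h.conj_indep hn hy hnC hyC hc]
    exact h.phi_mem hy hyC hc
  rw [Subgroup.commutator_le]
  intro g₁ hg₁ g₂ hg₂
  by_cases h1 : g₁ ∈ Subgroup.centralizer ((P : Subgroup G) : Set G)
  · by_cases h2 : g₂ ∈ Subgroup.centralizer ((P : Subgroup G) : Set G)
    · have : ⁅g₁, g₂⁆ = 1 := by
        rw [commutatorElement_eq_one_iff_mul_comm]
        exact h.C_comm g₁ h1 g₂ h2
      rw [this]; exact one_mem _
    · have := key g₂ hg₂ h2 g₁ h1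
      rw [← commutatorElement_inv]
      exact inv_mem this
  · by_cases h2 : g₂ ∈ Subgroup.centralizer ((P : Subgroup G) : Set G)
    · exact key g₁ hg₁ h1 g₂ h2
    · -- `⁅g₁, g₂⁆ = ⁅g₁, g₂ * g₁⁻¹⁆`
      have h1i : g₁⁻¹ ∉ Subgroup.centralizer ((P : Subgroup G) : Set G) := by
        intro hh; exact h1 (by simpa using inv_mem hh)
      have h3 := h.mul_mem_C hg₂ (inv_mem hg₁) h2 h1i
      have e : ⁅g₁, g₂⁆ = ⁅g₁, g₂ * g₁⁻¹⁆ := by
        rw [commutatorElement_def, commutatorElement_def]; group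
      rw [e]
      exact key g₁ hg₁ h1 _ h3

/-- elements of `N \\ C` invert `P` -/
theorem Setup.inverts_P (h : Setup P) {y : G}
    (hy : y ∈ Subgroup.normalizer ((P : Subgroup G) : Set G))
    (hyC : y ∉ Subgroup.centralizer ((P : Subgroup G) : Set G)) {p : G}
    (hp : p ∈ (P : Subgroup G)) : y * p * y⁻¹ = p⁻¹ :=
  ((mem_invSub h).mp (h.commutator_le_invSub hy hyC (h.P_le_commutator_N hp))).2

/-- elements of `N` centralize the involution `v` of `C` -/
theorem Setup.conj_v (h : Setup P) {v : G}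
    (hvC : v ∈ Subgroup.centralizer ((P : Subgroup G) : Set G)) (hv : orderOf v = 2) {n : G}
    (hn : n ∈ Subgroup.normalizer ((P : Subgroup G) : Set G)) : n * v * n⁻¹ = v := by
  apply h.unique_inv hvC hv (h.conj_mem_C hn hvC)
  apply order_two_of
  · intro h1
    apply ne_one_of_order_two hv
    calc v = n⁻¹ * (n * v * n⁻¹) * n := by group
      _ = 1 := by rw [h1]; group
  · calc n * v * n⁻¹ * (n * v * n⁻¹) = n * (v * v) * n⁻¹ := by group
      _ = 1 := by rw [sq_of_order_two hv]; group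

/-- elements of `N \\ C` invert `C` -/
theorem Setup.inverts_C (h : Setup P) {y : G}
    (hy : y ∈ Subgroup.normalizer ((P : Subgroup G) : Set G))
    (hyC : y ∉ Subgroup.centralizer ((P : Subgroup G) : Set G)) {c : G}
    (hc : c ∈ Subgroup.centralizer ((P : Subgroup G) : Set G)) : y * c * y⁻¹ = c⁻¹ := by
  obtain ⟨v, hvC, hv⟩ := h.exists_v
  have hv2 := sq_of_order_two hv
  rcases h.C_cases hvC hv hc with hcP | hcP
  · exact h.inverts_P hy hyC hcP
  · have e1 := h.inverts_P hy hyC hcP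
    have e2 := h.conj_v hvC hv hy
    have e3 := h.C_comm v hvC c hc
    have e4 : y * c * y⁻¹ = (y * v * y⁻¹)⁻¹ * (y * (v * c) * y⁻¹) := by group
    rw [e4, e1, e2, inv_of_order_two hv, e3]
    calc v * (c * v)⁻¹ = v * v⁻¹ * c⁻¹ := by group
      _ = c⁻¹ := by group

/-- elements of `N \\ C` are involutions -/
theorem Setup.orderOf_of_not_mem_C (h : Setup P) {y : G}
    (hy : y ∈ Subgroup.normalizer ((P : Subgroup G) : Set G))
    (hyC : y ∉ Subgroup.centralizer ((P : Subgroup G) : Set G)) : orderOf y = 2 := by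
  have hy1 : y ≠ 1 := by
    intro h1; apply hyC; rw [h1]; exact one_mem _
  apply order_two_of hy1
  have hy2 := h.mul_mem_C hy hy hyC hyC
  have e := h.inverts_C hy hyC hy2
  -- `y * y = (y * y)⁻¹`, so `y ^ 4 = 1`
  have e' : y * y = (y * y)⁻¹ := by
    calc y * y = y * (y * y) * y⁻¹ := by group
      _ = (y * y)⁻¹ := e
  by_contra hne
  apply h.orderOf_ne_four y
  have h4 : y ^ 4 = 1 := by
    have : (y * y) * (y * y) = 1 := by
      nth_rewrite 1 [e']
      group
    calc y ^ 4 = (y * y) * (y * y) := by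
          rw [show (4 : ℕ) = 2 + 2 from rfl, pow_add, pow_two]
      _ = 1 := this
  have hd : orderOf y ∣ 4 := orderOf_dvd_of_pow_eq_one h4
  have hle : orderOf y ≤ 4 := Nat.le_of_dvd (by norm_num) hd
  have hpos := orderOf_pos y
  have h1' : orderOf y ≠ 1 := fun hh => hy1 (orderOf_eq_one_iff.mp hh)
  have h2' : orderOf y ≠ 2 := by
    intro hh
    exact hne (sq_of_order_two hh)
  interval_cases ho : orderOf y
  · exact absurd rfl h1'
  · exact absurd rfl h2'
  · norm_num at hd
  · rfl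

end Cfsg.Agent.Lib.Helper29.S4018
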