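import Mathlib
import Cfsg.Agent.Lib.Helper29.S4018C
import Cfsg.Agent.Lib.Helper2.Column

/-!
# S4018, part D: `C(v) = N(P)`, the set normalizer of `C(P)`, order of `G` (helper29)
-/

set_option autoImplicit false
set_option linter.unusedSectionVars false

namespace Cfsg.Agent.Lib.Helper29.S4018

variable {G : Type*} [Group G] [Finite G] {P : Sylow 3 G}

theorem mem_cent_singleton {u g : G} :
    g ∈ Subgroup.centralizer ({u} : Set G) ↔ u * g = g * u := by
  rw [Subgroup.mem_centralizer_iff]
  constructor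
  · intro h; exact h u rfl
  · intro h y hy
    rw [Set.mem_singleton_iff] at hy
    rw [hy]; exact h

theorem Setup.N_le_Cv (h : Setup P) {v : G}
    (hvC : v ∈ Subgroup.centralizer ((P : Subgroup G) : Set G)) (hv : orderOf v = 2) :
    Subgroup.normalizer ((P : Subgroup G) : Set G) ≤ Subgroup.centralizer ({v} : Set G) := by
  intro n hn
  rw [mem_cent_singleton]
  have := h.conj_v hvC hv hn
  calc v * n = (n * v * n⁻¹) * n := by rw [this]
    _ = n * v := by group

theorem Setup.Cv_ne_top (h : Setup P) {v : G} (hv : orderOf v = 2) :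
    Subgroup.centralizer ({v} : Set G) ≠ ⊤ := by
  intro htop
  haveI := h.simple
  have hvc : v ∈ Subgroup.center G := by
    rw [Subgroup.mem_center_iff]
    intro g
    have : g ∈ Subgroup.centralizer ({v} : Set G) := by rw [htop]; exact Subgroup.mem_top g
    exact (mem_cent_singleton.mp this).symm
  have hn : (Subgroup.center G).Normal := inferInstance
  rcases hn.eq_bot_or_eq_top with hb | ht
  · rw [hb, Subgroup.mem_bot] at hvc
    exact ne_one_of_order_two hv hvc
  · apply h.not_comm
    intro x y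
    have : y ∈ Subgroup.center G := by rw [ht]; exact Subgroup.mem_top y
    exact ((Subgroup.mem_center_iff.mp this) x)

theorem Setup.Cv_eq_N (h : Setup P) {v : G}
    (hvC : v ∈ Subgroup.centralizer ((P : Subgroup G) : Set G)) (hv : orderOf v = 2) :
    Subgroup.centralizer ({v} : Set G) = Subgroup.normalizer ((P : Subgroup G) : Set G) := by
  have hle := h.N_le_Cv hvC hv
  have hvmem : v ∈ Subgroup.centralizer ({v} : Set G) := mem_cent_singleton.mpr rfl
  have h2 : 2 ∣ Nat.card (Subgroup.centralizer ({v} : Set G)) := by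
    rw [← hv]
    exact Subgroup.orderOf_dvd_natCard _ hvmem
  have hd := h.heven _ (h.Cv_ne_top hv) h2
  have hle2 : Nat.card (Subgroup.centralizer ({v} : Set G)) ≤
      Nat.card (Subgroup.normalizer ((P : Subgroup G) : Set G)) := by
    rw [h.hN]
    exact Nat.le_of_dvd (by have := h.card_pos; omega) hd
  exact (Subgroup.eq_of_le_of_card_ge hle hle2).symm

theorem Setup.card_Cv (h : Setup P) {v : G}
    (hvC : v ∈ Subgroup.centralizer ((P : Subgroup G) : Set G)) (hv : orderOf v = 2) :
    Nat.card (Subgroup.centralizer ({v} : Set G)) = 4 * Nat.card P := by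
  rw [h.Cv_eq_N hvC hv, h.hN]

/-- characterization of `P` inside `C` -/
theorem Setup.mem_P_iff (h : Setup P) {x : G} :
    x ∈ (P : Subgroup G) ↔
      x ∈ Subgroup.centralizer ((P : Subgroup G) : Set G) ∧ x ^ Nat.card P = 1 := by
  constructor
  · intro hx
    refine ⟨h.P_le_C hx, ?_⟩
    have := pow_card_eq_one' (G := (P : Subgroup G)) (x := ⟨x, hx⟩)
    exact congrArg Subtype.val this
  · rintro ⟨hxC, hpow⟩
    obtain ⟨v, hvC, hv⟩ := h.exists_v
    rcases h.C_cases hvC hv hxC with hxP | hxP
    · exact hxP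
    · exfalso
      have h1 : (v * x) ^ Nat.card P = 1 := by
        have := pow_card_eq_one' (G := (P : Subgroup G)) (x := ⟨v * x, hxP⟩)
        exact congrArg Subtype.val this
      have hcomm : Commute v x := h.C_comm v hvC x hxC
      rw [hcomm.mul_pow, hpow, mul_one] at h1
      obtain ⟨k, hk⟩ := h.odd_card
      rw [hk, pow_succ, pow_mul, pow_two, sq_of_order_two hv, one_pow, one_mul] at h1
      exact ne_one_of_order_two hv h1

/-- the set normalizer of `C(P)` is `N(P)` -/
theorem Setup.normalizer_C (h : Setup P) :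
    Subgroup.normalizer ((Subgroup.centralizer ((P : Subgroup G) : Set G) : Subgroup G) : Set G)
      = Subgroup.normalizer ((P : Subgroup G) : Set G) := by
  apply le_antisymm
  · intro g hg
    rw [Subgroup.mem_normalizer_iff] at hg ⊢
    intro p
    rw [h.mem_P_iff, h.mem_P_iff, ← hg p]
    have : (g * p * g⁻¹) ^ Nat.card P = g * p ^ Nat.card P * g⁻¹ := conj_pow
    rw [this]
    constructor
    · rintro ⟨h1, h2⟩
      refine ⟨h1, ?_⟩
      rw [h2]; group
    · rintro ⟨h1, h2⟩
      refine ⟨h1, ?_⟩
      calc p ^ Nat.card P = g⁻¹ * (g * p ^ Nat.card P * g⁻¹) * g := by group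
        _ = 1 := by rw [h2]; group
  · intro n hn
    rw [Subgroup.mem_normalizer_iff]
    intro c
    constructor
    · intro hc
      exact h.conj_mem_C hn hc
    · intro hc
      have := h.conj_mem_C (inv_mem hn) hc
      have e : n⁻¹ * (n * c * n⁻¹) * n⁻¹⁻¹ = c := by group
      rwa [e] at this

/-- `|G| = 4 m K` -/
theorem Setup.exists_K (h : Setup P) : ∃ K : ℕ, Nat.card G = 4 * Nat.card P * K := h.card_N_dvd

/-- the number of conjugates of `v` -/
theorem Setup.card_conj_v (h : Setup P) {v : G}
    (hvC : v ∈ Subgroup.centralizer ((P : Subgroup G) : Set G)) (hv : orderOf v = 2) {K : ℕ}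
    (hK : Nat.card G = 4 * Nat.card P * K) : Nat.card {x : G // IsConj v x} = K := by
  have h1 := Cfsg.Agent.Lib.Helper2.card_centralizer_mul_card_conj v
  rw [h.card_Cv hvC hv, hK] at h1
  have hpos : 0 < 4 * Nat.card P := by have := h.card_pos; omega
  exact Nat.eq_of_mul_eq_mul_left hpos h1

theorem orderOf_of_conj {a b : G} (h : IsConj a b) : orderOf b = orderOf a := by
  obtain ⟨g, hg⟩ := isConj_iff.mp h
  rw [← hg]
  have := (MulAut.conj g).orderOf_eq a
  rwa [MulAut.conj_apply] at this

/-- the pair count at `1` -/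
theorem Setup.pair_one (h : Setup P) {v : G}
    (hvC : v ∈ Subgroup.centralizer ((P : Subgroup G) : Set G)) (hv : orderOf v = 2) {K : ℕ}
    (hK : Nat.card G = 4 * Nat.card P * K) :
    Nat.card {p : G × G // IsConj v p.1 ∧ IsConj v p.2 ∧ p.1 * p.2 = 1} = K := by
  rw [← h.card_conj_v hvC hv hK]
  apply Nat.card_congr
  refine ⟨fun p => ⟨p.1.1, p.2.1⟩, fun x => ⟨(x.1, x.1), x.2, x.2, ?_⟩, ?_, ?_⟩
  · have := orderOf_of_conj x.2
    rw [hv] at this
    exact sq_of_order_two this
  · rintro ⟨⟨a, b⟩, h1, h2, h3⟩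
    simp only [Subtype.mk.injEq, Prod.mk.injEq, true_and]
    have ha : orderOf a = 2 := by rw [orderOf_of_conj h1, hv]
    have : b = a⁻¹ := (eq_inv_of_mul_eq_one_right h3)
    rw [this, inv_of_order_two ha]
  · rintro ⟨x, hx⟩
    rfl

end Cfsg.Agent.Lib.Helper29.S4018
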