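import Mathlib
import Cfsg.Agent.Lib.Helper29.S4018D

/-!
# S4018, part E: the pair counts (helper29)
-/

set_option autoImplicit false
set_option linter.unusedSectionVars false

namespace Cfsg.Agent.Lib.Helper29.S4018

variable {G : Type*} [Group G] [Finite G] {P : Sylow 3 G}

/-- the TI property in usable form -/
theorem Setup.mem_N_of_conj (h : Setup P) {g x : G}
    (hx : x ∈ Subgroup.centralizer ((P : Subgroup G) : Set G)) (hx1 : x ≠ 1)
    (hg : g * x * g⁻¹ ∈ Subgroup.centralizer ((P : Subgroup G) : Set G)) :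
    g ∈ Subgroup.normalizer ((P : Subgroup G) : Set G) := by
  by_contra hgN
  rw [← h.normalizer_C] at hgN
  exact hx1 (h.hTI g hgN x hx hg)

theorem Setup.card_diff (h : Setup P) :
    Nat.card {x : G // x ∈ Subgroup.normalizer ((P : Subgroup G) : Set G) ∧
      x ∉ Subgroup.centralizer ((P : Subgroup G) : Set G)} = 2 * Nat.card P := by
  have h1 : Nat.card {x : G // x ∈ Subgroup.normalizer ((P : Subgroup G) : Set G) ∧
      x ∉ Subgroup.centralizer ((P : Subgroup G) : Set G)}
      = (((Subgroup.normalizer ((P : Subgroup G) : Set G) : Subgroup G) : Set G) \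
        ((Subgroup.centralizer ((P : Subgroup G) : Set G) : Subgroup G) : Set G)).ncard := by
    rw [← Nat.card_coe_set_eq]
    rfl
  rw [h1, Set.ncard_sdiff (by exact_mod_cast h.C_le_N)]
  have e1 : (((Subgroup.normalizer ((P : Subgroup G) : Set G) : Subgroup G) : Set G)).ncard
      = 4 * Nat.card P := by
    rw [← Nat.card_coe_set_eq]; exact h.hN
  have e2 : (((Subgroup.centralizer ((P : Subgroup G) : Set G) : Subgroup G) : Set G)).ncard
      = 2 * Nat.card P := by
    rw [← Nat.card_coe_set_eq]; exact h.hC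
  rw [e1, e2]
  omega

/-- the pair count at a nontrivial element of `C` -/
theorem Setup.pair_C (h : Setup P) {v : G}
    (hvC : v ∈ Subgroup.centralizer ((P : Subgroup G) : Set G)) (hv : orderOf v = 2) {w : G}
    (hw : w ∈ Subgroup.centralizer ((P : Subgroup G) : Set G)) (hw1 : w ≠ 1) :
    Nat.card {p : G × G // IsConj v p.1 ∧ IsConj v p.2 ∧ p.1 * p.2 = w} = 2 * Nat.card P := by
  rw [← h.card_diff]
  apply Nat.card_congr
  refine ⟨fun p => ⟨p.1.1, ?_⟩, fun x => ⟨(x.1, x.1⁻¹ * w), ?_, ?_, ?_⟩, ?_, ?_⟩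
  · -- the first component lies in `N \ C`
    obtain ⟨⟨a, b⟩, h1, h2, h3⟩ := p
    simp only at h1 h2 h3 ⊢
    have ha : orderOf a = 2 := by rw [orderOf_of_conj h1, hv]
    have hb : orderOf b = 2 := by rw [orderOf_of_conj h2, hv]
    have hinv : a * w * a⁻¹ = w⁻¹ := by
      rw [← h3, inv_of_order_two ha]
      calc a * (a * b) * a = (a * a) * b * a := by group
        _ = b * a := by rw [sq_of_order_two ha, one_mul]
        _ = b⁻¹ * a⁻¹ := by rw [inv_of_order_two ha, inv_of_order_two hb]
        _ = (a * b)⁻¹ := by group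
    have haN : a ∈ Subgroup.normalizer ((P : Subgroup G) : Set G) := by
      apply h.mem_N_of_conj hw hw1
      rw [hinv]; exact inv_mem hw
    refine ⟨haN, ?_⟩
    intro haC
    have hav : a = v := h.unique_inv hvC hv haC ha
    have hc := h.C_comm a haC w hw
    have hw2 : w * w = 1 := by
      have : w = w⁻¹ := by
        calc w = a * w * a⁻¹ := by rw [hc]; group
          _ = w⁻¹ := hinv
      calc w * w = w * w⁻¹ := by nth_rewrite 2 [this]; rfl
        _ = 1 := mul_inv_cancel w
    have hwv : w = v := h.unique_inv hvC hv hw (order_two_of hw1 hw2)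
    have hb1 : b = 1 := by
      have : a * b = a * 1 := by
        rw [h3, hwv, hav, mul_one]
      exact mul_left_cancel this
    rw [hb1, orderOf_one] at hb
    omega
  · -- `x ~ v`
    exact h.isConj_of_involutions hv (h.orderOf_of_not_mem_C x.2.1 x.2.2)
  · -- `x⁻¹ w ~ v`
    apply h.isConj_of_involutions hv
    have hx := h.orderOf_of_not_mem_C x.2.1 x.2.2
    have hinv := h.inverts_C x.2.1 x.2.2 hw
    apply order_two_of
    · intro h1
      apply x.2.2
      have h1' : x.1⁻¹ * w = 1 := h1
      have : w = x.1 := by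
        calc w = x.1 * (x.1⁻¹ * w) := by group
          _ = x.1 := by rw [h1', mul_one]
      rw [← this]; exact hw
    · rw [inv_of_order_two hx]
      calc x.1 * w * (x.1 * w) = (x.1 * w * x.1⁻¹) * (x.1 * x.1) * w := by group
        _ = 1 := by rw [hinv, sq_of_order_two hx]; group
  · simp
  · rintro ⟨⟨a, b⟩, h1, h2, h3⟩
    simp only [Subtype.mk.injEq, Prod.mk.injEq, true_and]
    rw [← h3]; group
  · rintro ⟨x, hx⟩
    rfl

/-- the pair count away from the conjugates of `C` -/
theorem Setup.pair_zero (h : Setup P) {v : G}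
    (hvC : v ∈ Subgroup.centralizer ((P : Subgroup G) : Set G)) (hv : orderOf v = 2) {w : G}
    (hw1 : w ≠ 1)
    (hw : ∀ g : G, g⁻¹ * w * g ∉ Subgroup.centralizer ((P : Subgroup G) : Set G)) :
    Nat.card {p : G × G // IsConj v p.1 ∧ IsConj v p.2 ∧ p.1 * p.2 = w} = 0 := by
  haveI : Fact (Nat.Prime 3) := ⟨Nat.prime_three⟩
  haveI := h.simple
  rw [Nat.card_eq_zero]
  left
  constructor
  rintro ⟨⟨a, b⟩, h1, h2, h3⟩
  simp only at h1 h2 h3
  have ha : orderOf a = 2 := by rw [orderOf_of_conj h1, hv]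
  have hb : orderOf b = 2 := by rw [orderOf_of_conj h2, hv]
  have hinv : a * w * a⁻¹ = w⁻¹ := by
    rw [← h3, inv_of_order_two ha]
    calc a * (a * b) * a = (a * a) * b * a := by group
      _ = b * a := by rw [sq_of_order_two ha, one_mul]
      _ = b⁻¹ * a⁻¹ := by rw [inv_of_order_two ha, inv_of_order_two hb]
      _ = (a * b)⁻¹ := by group
  -- the normalizer of `⟨w⟩`
  set T : Subgroup G := Subgroup.normalizer ((Subgroup.zpowers w : Subgroup G) : Set G) with hT
  have haT : a ∈ T := by
    rw [hT, Subgroup.mem_normalizer_iff_map_conj_eq]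
    have : (Subgroup.zpowers w).map ((MulAut.conj a : G ≃* G) : G →* G)
        = Subgroup.zpowers (a * w * a⁻¹) := by
      rw [MonoidHom.map_zpowers]
      rfl
    rw [show (Subgroup.zpowers w).map (MulAut.conj a) = (Subgroup.zpowers w).map
      ((MulAut.conj a : G ≃* G) : G →* G) from rfl, this, hinv, Subgroup.zpowers_inv]
  have hwT : w ∈ T := by
    rw [hT]
    exact Subgroup.le_normalizer (Subgroup.mem_zpowers w)
  have hTtop : T ≠ ⊤ := by
    intro htop
    have hn : (Subgroup.zpowers w).Normal := Subgroup.normalizer_eq_top_iff.mp htop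
    rcases hn.eq_bot_or_eq_top with hb' | ht'
    · apply hw1
      have : w ∈ Subgroup.zpowers w := Subgroup.mem_zpowers w
      rw [hb', Subgroup.mem_bot] at this
      exact this
    · apply h.not_comm
      intro x y
      have hx : x ∈ Subgroup.zpowers w := by rw [ht']; exact Subgroup.mem_top x
      have hy : y ∈ Subgroup.zpowers w := by rw [ht']; exact Subgroup.mem_top y
      obtain ⟨i, rfl⟩ := Subgroup.mem_zpowers_iff.mp hx
      obtain ⟨j, rfl⟩ := Subgroup.mem_zpowers_iff.mp hy
      rw [← zpow_add, ← zpow_add, add_comm]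
  have h2T : 2 ∣ Nat.card T := by
    rw [← ha]; exact Subgroup.orderOf_dvd_natCard _ haT
  have hdvd : orderOf w ∣ 4 * Nat.card P :=
    (Subgroup.orderOf_dvd_natCard _ hwT).trans (h.heven T hTtop h2T)
  obtain ⟨k, hk1, hk⟩ := h.exists_card
  by_cases h3o : 3 ∣ orderOf w
  · -- an element of order 3 in `⟨w⟩`
    set z := w ^ (orderOf w / 3) with hz
    have hzo : orderOf z = 3 := orderOf_pow_orderOf_div (orderOf_pos w).ne' h3o
    have hZ : IsPGroup 3 (Subgroup.zpowers z) := by
      apply IsPGroup.of_card (n := 1)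
      rw [Nat.card_zpowers, hzo, pow_one]
    obtain ⟨Q, hQ⟩ := hZ.exists_le_sylow
    obtain ⟨g, hg⟩ := MulAction.exists_smul_eq G Q P
    have hzP : g * z * g⁻¹ ∈ (P : Subgroup G) := by
      have : g * z * g⁻¹ ∈ ((g • Q : Sylow 3 G) : Subgroup G) := by
        rw [Sylow.smul_def, Sylow.pointwise_smul_def]
        exact ⟨z, hQ (Subgroup.mem_zpowers z), rfl⟩
      rw [hg] at this
      exact this
    have hz1 : g * z * g⁻¹ ≠ 1 := by
      intro h1
      have : z = 1 := by
        calc z = g⁻¹ * (g * z * g⁻¹) * g := by group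
          _ = 1 := by rw [h1]; group
      rw [this, orderOf_one] at hzo
      omega
    have hcomm : w * z = z * w := by
      rw [hz, ← pow_succ', ← pow_succ]
    -- `w' = g w g⁻¹` centralizes `z' = g z g⁻¹`
    have hcomm' : (g * w * g⁻¹) * (g * z * g⁻¹) * (g * w * g⁻¹)⁻¹ = g * z * g⁻¹ := by
      calc (g * w * g⁻¹) * (g * z * g⁻¹) * (g * w * g⁻¹)⁻¹ = g * (w * z) * w⁻¹ * g⁻¹ := by group
        _ = g * (z * w) * w⁻¹ * g⁻¹ := by rw [hcomm]
        _ = g * z * g⁻¹ := by group
    have hwN : g * w * g⁻¹ ∈ Subgroup.normalizer ((P : Subgroup G) : Set G) := by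
      apply h.mem_N_of_conj (h.P_le_C hzP) hz1
      rw [hcomm']; exact h.P_le_C hzP
    have hwC : g * w * g⁻¹ ∈ Subgroup.centralizer ((P : Subgroup G) : Set G) := by
      by_contra hnC
      have := h.inverts_P hwN hnC hzP
      rw [hcomm'] at this
      apply hz1
      apply h.eq_one_of_sq hzP
      nth_rewrite 1 [this]
      exact inv_mul_cancel _
    apply hw g⁻¹
    rw [inv_inv]; exact hwC
  · -- `orderOf w ∣ 4`
    have hcop : Nat.Coprime (orderOf w) (3 ^ k) := by
      apply Nat.Coprime.pow_right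
      exact (Nat.Prime.coprime_iff_not_dvd Nat.prime_three).mpr h3o |>.symm
    rw [hk] at hdvd
    have hd4 : orderOf w ∣ 4 := hcop.dvd_of_dvd_mul_right hdvd
    have hle : orderOf w ≤ 4 := Nat.le_of_dvd (by norm_num) hd4
    have hpos := orderOf_pos w
    have hne4 := h.orderOf_ne_four w
    have hne1 : orderOf w ≠ 1 := fun hh => hw1 (orderOf_eq_one_iff.mp hh)
    have hwo : orderOf w = 2 := by
      interval_cases ho : orderOf w
      · exact absurd rfl hne1
      · rfl
      · norm_num at hd4
      · exact absurd rfl hne4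
    obtain ⟨g, hg⟩ := isConj_iff.mp (h.isConj_of_involutions hwo hv)
    apply hw g⁻¹
    rw [inv_inv, hg]
    exact hvC

end Cfsg.Agent.Lib.Helper29.S4018
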