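import Mathlib
import Cfsg.Agent.Lib.Helper29.S4018E
import Cfsg.Agent.Lib.Helper23.S4018D
import Cfsg.Agent.Lib.Helper25.Linear
import Cfsg.Agent.Lib.Helper2.Column

/-!
# S4018, part F: the arithmetic contradiction from the character identity (helper29)
-/

set_option autoImplicit false
set_option linter.unusedSectionVars false

namespace Cfsg.Agent.Lib.Helper29.S4018

open scoped ComplexConjugate

/-- The final contradiction, given the character identity for every irreducible character. -/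
theorem final {G : Type*} [Group G] [Fintype G] [DecidableEq G]
    (C : Subgroup G) [Fintype C] (v : G) (a m K : ℕ) (ha : 1 ≤ a) (hm : m = 3 ^ a)
    (hCcard : Nat.card C = 2 * m)
    (hCv : Nat.card (Subgroup.centralizer ({v} : Set G)) = 4 * m)
    (hG : Nat.card G = 4 * m * K)
    (hid : ∀ χ : G → ℂ, Cfsg.IsIrrCharacter G χ →
      ∃ (d : ℕ) (s : ℤ) (c : ℕ), 0 < d ∧ d ∣ Nat.card G ∧ χ 1 = (d : ℂ) ∧ χ v = (s : ℂ) ∧
        (∑ g : C, χ (g : G)) = (2 * (m : ℂ) * (c : ℂ)) ∧
        (K : ℤ) * s ^ 2 = (d : ℤ) ^ 2 + 2 * m * d * (2 * m * c - d)) : False := by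
  classical
  haveI : Fintype (Cfsg.IrrCharacter G) := Fintype.ofFinite _
  have hmpos : 0 < m := by rw [hm]; positivity
  have hm3 : 3 ≤ m := by
    rw [hm]
    calc 3 = 3 ^ 1 := by norm_num
      _ ≤ 3 ^ a := Nat.pow_le_pow_right (by norm_num) ha
  -- the trivial character pins down `K`
  have hK : K + 2 * m = 4 * m ^ 2 + 1 := by
    obtain ⟨d, s, c, hd, _, h1, hv, hsum, hident⟩ :=
      hid (fun _ => (1 : ℂ)) Cfsg.Agent.Lib.Helper25.isIrrCharacter_one
    have hd1 : d = 1 := by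
      have : ((1 : ℕ) : ℂ) = (d : ℂ) := by simpa using h1
      exact (Nat.cast_injective this).symm
    have hs1 : s = 1 := by
      have : ((1 : ℤ) : ℂ) = (s : ℂ) := by simpa using hv
      exact (Int.cast_injective this).symm
    have hc1 : c = 1 := by
      simp only [Finset.sum_const, Finset.card_univ, nsmul_eq_mul, mul_one] at hsum
      rw [← Nat.card_eq_fintype_card, hCcard] at hsum
      have : ((2 * m : ℕ) : ℂ) = ((2 * m * c : ℕ) : ℂ) := by
        push_cast at hsum ⊢; exact hsum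
      have h2 := Nat.cast_injective this
      have : 2 * m * 1 = 2 * m * c := by rw [mul_one]; exact h2
      exact (Nat.eq_of_mul_eq_mul_left (by omega) this).symm
    rw [hd1, hs1, hc1] at hident
    have : (K : ℤ) + 2 * m = 4 * (m : ℤ) ^ 2 + 1 := by
      have e := hident
      push_cast at e
      linarith
    exact_mod_cast this
  choose d s c hd hdvd hχ1 hχv _ hident using
    (fun χ : Cfsg.IrrCharacter G => hid χ.1 χ.2)
  -- column orthogonality at `1` and at `v`
  have hS1 : ∑ χ : Cfsg.IrrCharacter G, (d χ : ℤ) ^ 2 = (Nat.card G : ℤ) := by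
    have h1 := Cfsg.Agent.Lib.Helper2.column_orthogonality (G := G) 1 1
    rw [if_pos (IsConj.refl 1)] at h1
    have hc1 : Subgroup.centralizer ({1} : Set G) = ⊤ := by
      ext g
      simp [Subgroup.mem_centralizer_iff]
    rw [hc1, Subgroup.card_top] at h1
    have : ((∑ χ : Cfsg.IrrCharacter G, (d χ : ℤ) ^ 2 : ℤ) : ℂ) = ((Nat.card G : ℤ) : ℂ) := by
      push_cast
      rw [← h1]
      apply Finset.sum_congr rfl
      intro χ _
      rw [hχ1 χ, map_natCast]
      ring
    exact Int.cast_injective this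
  have hSv : ∑ χ : Cfsg.IrrCharacter G, (s χ) ^ 2 = ((4 * m : ℕ) : ℤ) := by
    have h1 := Cfsg.Agent.Lib.Helper2.column_orthogonality (G := G) v v
    rw [if_pos (IsConj.refl v), hCv] at h1
    have : ((∑ χ : Cfsg.IrrCharacter G, (s χ) ^ 2 : ℤ) : ℂ) = (((4 * m : ℕ) : ℤ) : ℂ) := by
      push_cast
      have h1' : ∑ χ : Cfsg.IrrCharacter G, (χ : G → ℂ) v * conj ((χ : G → ℂ) v)
          = 4 * (m : ℂ) := by
        rw [h1]; push_cast; ring
      rw [← h1']
      apply Finset.sum_congr rfl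
      intro χ _
      rw [hχv χ, map_intCast]
      ring
    exact Int.cast_injective this
  -- each `χ` has `d² = s²`
  have heq : ∀ χ : Cfsg.IrrCharacter G, (d χ : ℤ) ^ 2 = (s χ) ^ 2 := by
    intro χ
    have hd2 : (d χ) ^ 2 ≤ 4 * m * K := by
      have h1 : (d χ : ℤ) ^ 2 ≤ ∑ χ : Cfsg.IrrCharacter G, (d χ : ℤ) ^ 2 :=
        Finset.single_le_sum (f := fun χ : Cfsg.IrrCharacter G => (d χ : ℤ) ^ 2)
          (fun i _ => sq_nonneg _) (Finset.mem_univ χ)
      rw [hS1, hG] at h1
      exact_mod_cast h1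
    have hs2 : (s χ) ^ 2 ≤ 4 * m := by
      have h1 : (s χ) ^ 2 ≤ ∑ χ : Cfsg.IrrCharacter G, (s χ) ^ 2 :=
        Finset.single_le_sum (f := fun χ : Cfsg.IrrCharacter G => (s χ) ^ 2)
          (fun i _ => sq_nonneg _) (Finset.mem_univ χ)
      rw [hSv] at h1
      exact_mod_cast h1
    have hdv : d χ ∣ 4 * m * K := by rw [← hG]; exact hdvd χ
    apply Cfsg.Agent.Lib.Helper23.S4018D.dioph a ha m K (d χ) (s χ) ((d χ : ℤ) - c χ) hm hK (hd χ)
      hdv hd2 hs2
    have e := hident χ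
    have hKz : (K : ℤ) = 4 * (m : ℤ) ^ 2 + 1 - 2 * m := by
      have : ((K + 2 * m : ℕ) : ℤ) = ((4 * m ^ 2 + 1 : ℕ) : ℤ) := by rw [hK]
      push_cast at this
      linarith
    have e2 : (K : ℤ) * ((d χ : ℤ) ^ 2 - (s χ) ^ 2) = (K : ℤ) * (d χ : ℤ) ^ 2 -
        ((d χ : ℤ) ^ 2 + 2 * m * d χ * (2 * m * c χ - d χ)) := by
      rw [← e]; ring
    rw [e2, hKz]
    ring
  -- contradiction
  have : (Nat.card G : ℤ) = ((4 * m : ℕ) : ℤ) := by
    rw [← hS1, ← hSv]
    exact Finset.sum_congr rfl (fun χ _ => heq χ)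
  have h4 : Nat.card G = 4 * m := by exact_mod_cast this
  rw [hG] at h4
  have hK1 : K = 1 := by
    have : 4 * m * K = 4 * m * 1 := by rw [mul_one]; exact h4
    exact Nat.eq_of_mul_eq_mul_left (by omega) this
  rw [hK1] at hK
  nlinarith

end Cfsg.Agent.Lib.Helper29.S4018
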