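import Mathlib
import Cfsg.Agent.Lib.Helper3.SFDefs

set_option autoImplicit false

namespace Cfsg.Agent.Lib.Helper29.S4130FO6

open Subgroup Cfsg.Agent.Lib.Helper3.SF

variable {G : Type*} [Group G]

/-- the commutator map `a ↦ a x a⁻¹ x⁻¹` on a normal abelian subgroup is a homomorphism. -/
noncomputable def commHom (Q : Subgroup G) (hQn : Q.Normal)
    (hab : ∀ a ∈ Q, ∀ b ∈ Q, a * b = b * a) (x : G) : Q →* G where
  toFun a := (a : G) * x * (a : G)⁻¹ * x⁻¹
  map_one' := by simp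
  map_mul' a b := by
    have hA := a.2
    have hB := b.2
    have huQ : x * (a : G)⁻¹ * x⁻¹ ∈ Q := hQn.conj_mem _ (Q.inv_mem hA) x
    have huB : (x * (a : G)⁻¹ * x⁻¹) * (b : G) = (b : G) * (x * (a : G)⁻¹ * x⁻¹) :=
      hab _ huQ _ hB
    have e1 : ((a : G) * (b : G))⁻¹ = (a : G)⁻¹ * (b : G)⁻¹ := by
      rw [mul_inv_rev]; exact hab _ (Q.inv_mem hB) _ (Q.inv_mem hA)
    show ((a * b : Q) : G) * x * ((a * b : Q) : G)⁻¹ * x⁻¹ = _
    rw [Subgroup.coe_mul, e1]
    calc (a : G) * (b : G) * x * ((a : G)⁻¹ * (b : G)⁻¹) * x⁻¹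
        = (a : G) * ((b : G) * (x * (a : G)⁻¹ * x⁻¹)) * (x * (b : G)⁻¹ * x⁻¹) := by group
      _ = (a : G) * ((x * (a : G)⁻¹ * x⁻¹) * (b : G)) * (x * (b : G)⁻¹ * x⁻¹) := by rw [huB]
      _ = ((a : G) * x * (a : G)⁻¹ * x⁻¹) * ((b : G) * x * (b : G)⁻¹ * x⁻¹) := by group

theorem commHom_apply (Q : Subgroup G) (hQn : Q.Normal)
    (hab : ∀ a ∈ Q, ∀ b ∈ Q, a * b = b * a) (x : G) (a : Q) :
    commHom Q hQn hab x a = (a : G) * x * (a : G)⁻¹ * x⁻¹ := rfl

/-- **FO-6a** for S4130. -/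
theorem FO6a_abelian_sylow [Finite G] (p : ℕ) [Fact p.Prime]
    (h : SqFree G) (P : Sylow p G) (hcomm : commutator G ≤ (P : Subgroup G))
    (hab : ∀ a ∈ (P : Subgroup G), ∀ b ∈ (P : Subgroup G), a * b = b * a) :
    Nat.card (commutator G) ∣ p := by
  classical
  have hpp : p.Prime := Fact.out
  set Q : Subgroup G := (P : Subgroup G) with hQ
  have hcomm_mem : ∀ g k : G, g * k * g⁻¹ * k⁻¹ ∈ Q := fun g k => hcomm (by
    rw [_root_.commutator_def]
    have := Subgroup.commutator_mem_commutator (Subgroup.mem_top g) (Subgroup.mem_top k)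
    rwa [commutatorElement_def] at this)
  have hQn : Q.Normal := ⟨fun n hn g => by
    have : g * n * g⁻¹ = (g * n * g⁻¹ * n⁻¹) * n := by group
    rw [this]; exact Q.mul_mem (hcomm_mem g n) hn⟩
  haveI := hQn
  have hQp : IsPGroup p Q := P.isPGroup'
  have hidx : ¬ p ∣ Q.index := P.not_dvd_index
  -- the lines
  set φ : G → (Q →* G) := fun x => commHom Q hQn hab x with hφ
  set L : G → Subgroup G := fun x => (φ x).range with hL
  have hLmem : ∀ x w, w ∈ L x ↔ ∃ a : Q, (a : G) * x * (a : G)⁻¹ * x⁻¹ = w := by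
    intro x w
    rw [hL]
    show w ∈ (φ x).range ↔ _
    rw [MonoidHom.mem_range]
    rfl
  have hLQ : ∀ x, L x ≤ Q := by
    intro x w hw
    obtain ⟨a, rfl⟩ := (hLmem x w).mp hw
    have : (a : G) * x * (a : G)⁻¹ * x⁻¹ = (a : G) * (x * (a : G)⁻¹ * x⁻¹) := by group
    rw [this]
    exact Q.mul_mem a.2 (hQn.conj_mem _ (Q.inv_mem a.2) x)
  -- (F1)
  have hLcard : ∀ x, Nat.card (L x) ∣ p := by
    intro x
    have hker : (φ x).ker = (centralizer ({x} : Set G)).subgroupOf Q := by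
      ext a
      rw [MonoidHom.mem_ker, Subgroup.mem_subgroupOf, Subgroup.mem_centralizer_singleton_iff]
      show (a : G) * x * (a : G)⁻¹ * x⁻¹ = 1 ↔ _
      constructor
      · intro h1
        calc (a : G) * x = ((a : G) * x * (a : G)⁻¹ * x⁻¹) * (x * (a : G)) := by group
          _ = x * (a : G) := by rw [h1, one_mul]
      · intro h1
        calc (a : G) * x * (a : G)⁻¹ * x⁻¹ = ((a : G) * x) * (a : G)⁻¹ * x⁻¹ := by group
          _ = (x * (a : G)) * (a : G)⁻¹ * x⁻¹ := by rw [h1]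
          _ = 1 := by group
    have h1 : Nat.card (L x) = (φ x).ker.index := (Subgroup.index_ker (φ x)).symm
    rw [h1, hker]
    exact h.relIndex_dvd_prime Q hQp x
  -- (F3) conjugation invariance
  have hLconj : ∀ x g w, w ∈ L x → g * w * g⁻¹ ∈ L x := by
    intro x g w hw
    obtain ⟨a, rfl⟩ := (hLmem x w).mp hw
    have hbQ : g * (a : G) * g⁻¹ ∈ Q := hQn.conj_mem _ a.2 g
    refine (hLmem x _).mpr ⟨⟨g * (a : G) * g⁻¹, hbQ⟩, ?_⟩
    show (g * (a : G) * g⁻¹) * x * (g * (a : G) * g⁻¹)⁻¹ * x⁻¹ = _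
    have hcQ : g * x * g⁻¹ * x⁻¹ ∈ Q := hcomm_mem g x
    have htQ : x * (g * (a : G) * g⁻¹)⁻¹ * x⁻¹ ∈ Q := hQn.conj_mem _ (Q.inv_mem hbQ) x
    have hct := hab _ hcQ _ htQ
    calc (g * (a : G) * g⁻¹) * x * (g * (a : G) * g⁻¹)⁻¹ * x⁻¹
        = (g * (a : G) * g⁻¹) * (x * (g * (a : G) * g⁻¹)⁻¹ * x⁻¹) *
            ((g * x * g⁻¹ * x⁻¹) * (g * x * g⁻¹ * x⁻¹)⁻¹) := by group
      _ = (g * (a : G) * g⁻¹) * ((x * (g * (a : G) * g⁻¹)⁻¹ * x⁻¹) * (g * x * g⁻¹ * x⁻¹)) *
            (g * x * g⁻¹ * x⁻¹)⁻¹ := by group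
      _ = (g * (a : G) * g⁻¹) * ((g * x * g⁻¹ * x⁻¹) * (x * (g * (a : G) * g⁻¹)⁻¹ * x⁻¹)) *
            (g * x * g⁻¹ * x⁻¹)⁻¹ := by rw [hct]
      _ = g * ((a : G) * x * (a : G)⁻¹ * x⁻¹) * g⁻¹ := by group
  -- (F2) an element of L x commuting with x is trivial
  have hLfix : ∀ x w, w ∈ L x → w * x = x * w → w = 1 := by
    intro x w hw hwx
    obtain ⟨v, hv⟩ := (hLmem x w).mp hw
    have hwQ : w ∈ Q := hLQ x hw
    have hxv : x * (v : G) * x⁻¹ = w⁻¹ * (v : G) := by rw [← hv]; group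
    have hxw : x * w * x⁻¹ = w := by rw [← hwx]; group
    have hpow : ∀ i : ℕ, x ^ i * (v : G) * (x ^ i)⁻¹ = (w ^ i)⁻¹ * (v : G) := by
      intro i
      induction i with
      | zero => simp
      | succ i ih =>
        have e : x ^ (i + 1) * (v : G) * (x ^ (i + 1))⁻¹
            = x * (x ^ i * (v : G) * (x ^ i)⁻¹) * x⁻¹ := by rw [pow_succ']; group
        rw [e, ih]
        have hxwi : x * (w ^ i)⁻¹ * x⁻¹ = (w ^ i)⁻¹ := by
          have hc : Commute x w := hwx.symm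
          have := (hc.pow_right i).eq
          calc x * (w ^ i)⁻¹ * x⁻¹ = ((x * w ^ i) * x⁻¹)⁻¹ := by group
            _ = ((w ^ i * x) * x⁻¹)⁻¹ := by rw [this]
            _ = (w ^ i)⁻¹ := by group
        calc x * ((w ^ i)⁻¹ * (v : G)) * x⁻¹ = (x * (w ^ i)⁻¹ * x⁻¹) * (x * (v : G) * x⁻¹) := by
              group
          _ = (w ^ i)⁻¹ * (w⁻¹ * (v : G)) := by rw [hxwi, hxv]
          _ = (w ^ (i + 1))⁻¹ * (v : G) := by rw [pow_succ]; group
    have hxm : x ^ Q.index ∈ Q := Subgroup.pow_index_mem Q x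
    have h1 := hpow Q.index
    have h2 : x ^ Q.index * (v : G) * (x ^ Q.index)⁻¹ = (v : G) := by
      rw [hab _ hxm _ v.2]; group
    rw [h2] at h1
    have h3 : w ^ Q.index = 1 := by
      have : (w ^ Q.index)⁻¹ * (v : G) = 1 * (v : G) := by rw [← h1, one_mul]
      have := mul_right_cancel this
      exact inv_eq_one.mp this
    obtain ⟨k, hk⟩ := hQp ⟨w, hwQ⟩
    have hk' : w ^ (p ^ k) = 1 := by
      have := congrArg Subtype.val hk
      simpa using this
    have hd1 : orderOf w ∣ Q.index := orderOf_dvd_of_pow_eq_one h3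
    have hd2 : orderOf w ∣ p ^ k := orderOf_dvd_of_pow_eq_one hk'
    have hcop : Nat.Coprime (p ^ k) Q.index :=
      Nat.Coprime.pow_left k ((Nat.Prime.coprime_iff_not_dvd hpp).mpr hidx)
    have : orderOf w ∣ 1 := by
      have := Nat.dvd_gcd hd2 hd1
      rwa [hcop] at this
    exact orderOf_eq_one_iff.mp (Nat.dvd_one.mp this)
  -- there is a common line
  have hcommon : ∃ L0 : Subgroup G, Nat.card L0 ∣ p ∧ ∀ x, L x ≤ L0 := by
    by_cases hall : ∀ x, L x = ⊥
    · exact ⟨⊥, by simp, fun x => by rw [hall x]⟩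
    · push Not at hall
      obtain ⟨x₁, hx₁⟩ := hall
      refine ⟨L x₁, hLcard x₁, ?_⟩
      have hc1 : Nat.card (L x₁) = p := by
        rcases (Nat.dvd_prime hpp).mp (hLcard x₁) with h1 | h1
        · exact absurd (Subgroup.card_eq_one.mp h1) hx₁
        · exact h1
      intro x₂
      by_contra hnle
      have hc2 : Nat.card (L x₂) = p := by
        rcases (Nat.dvd_prime hpp).mp (hLcard x₂) with h1 | h1
        · exfalso; apply hnle; rw [Subgroup.card_eq_one.mp h1]; exact bot_le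
        · exact h1
      -- L x₁ ⊓ L x₂ = ⊥
      have hinf : L x₁ ⊓ L x₂ = ⊥ := by
        have hd : Nat.card (L x₁ ⊓ L x₂ : Subgroup G) ∣ p := by
          rw [← hc2]; exact Subgroup.card_dvd_of_le inf_le_right
        rcases (Nat.dvd_prime hpp).mp hd with h1 | h1
        · exact Subgroup.card_eq_one.mp h1
        · exfalso
          apply hnle
          have : L x₁ ⊓ L x₂ = L x₂ := by
            apply Subgroup.eq_of_le_of_card_ge inf_le_right
            rw [h1, hc2]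
          rw [← this]; exact inf_le_left
      -- x₂ centralizes L x₁ and x₁ centralizes L x₂
      have hcen : ∀ (x y : G), L x ⊓ L y = ⊥ → ∀ w ∈ L x, w * y = y * w := by
        intro x y hxy w hw
        have h1 : w * y * w⁻¹ * y⁻¹ ∈ L y := (hLmem y _).mpr ⟨⟨w, hLQ x hw⟩, rfl⟩
        have h2 : w * y * w⁻¹ * y⁻¹ ∈ L x := by
          have : w * y * w⁻¹ * y⁻¹ = w * (y * w⁻¹ * y⁻¹) := by group
          rw [this]
          exact (L x).mul_mem hw (hLconj x y _ ((L x).inv_mem hw))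
        have h3 : w * y * w⁻¹ * y⁻¹ ∈ L x ⊓ L y := Subgroup.mem_inf.mpr ⟨h2, h1⟩
        rw [hxy, Subgroup.mem_bot] at h3
        calc w * y = (w * y * w⁻¹ * y⁻¹) * (y * w) := by group
          _ = y * w := by rw [h3, one_mul]
      have hcen12 := hcen x₁ x₂ hinf
      have hcen21 := hcen x₂ x₁ (by rw [inf_comm]; exact hinf)
      -- L x₁ ≤ L (x₁ * x₂) and L x₂ ≤ L (x₁ * x₂)
      -- injective self-map of L x on itself
      have hsurj : ∀ x, ∀ w ∈ L x, ∃ u ∈ L x, u * x * u⁻¹ * x⁻¹ = w := by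
        intro x
        let f : L x → L x := fun u => ⟨(u : G) * x * (u : G)⁻¹ * x⁻¹, by
          have : (u : G) * x * (u : G)⁻¹ * x⁻¹ = (u : G) * (x * (u : G)⁻¹ * x⁻¹) := by group
          rw [this]
          exact (L x).mul_mem u.2 (hLconj x x _ ((L x).inv_mem u.2))⟩
        have hfinj : Function.Injective f := by
          intro u u' huu
          have h1 : (u : G) * x * (u : G)⁻¹ * x⁻¹ = (u' : G) * x * (u' : G)⁻¹ * x⁻¹ :=
            congrArg Subtype.val huu
          -- (u'⁻¹ u) commutes with x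
          have h2 : ((u' : G)⁻¹ * (u : G)) * x = x * ((u' : G)⁻¹ * (u : G)) := by
            have : (u : G) * x * (u : G)⁻¹ = (u' : G) * x * (u' : G)⁻¹ := by
              have := congrArg (fun t => t * x) h1
              simpa [mul_assoc] using this
            calc ((u' : G)⁻¹ * (u : G)) * x = (u' : G)⁻¹ * ((u : G) * x * (u : G)⁻¹) * (u : G) := by
                  group
              _ = (u' : G)⁻¹ * ((u' : G) * x * (u' : G)⁻¹) * (u : G) := by rw [this]
              _ = x * ((u' : G)⁻¹ * (u : G)) := by group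
          have h3 : (u' : G)⁻¹ * (u : G) ∈ L x := (L x).mul_mem ((L x).inv_mem u'.2) u.2
          have h4 := hLfix x _ h3 h2
          apply Subtype.ext
          have : (u : G) = (u' : G) * ((u' : G)⁻¹ * (u : G)) := by group
          rw [this, h4, mul_one]
        have hfsurj : Function.Surjective f := Finite.surjective_of_injective hfinj
        intro w hw
        obtain ⟨u, hu⟩ := hfsurj ⟨w, hw⟩
        exact ⟨u, u.2, congrArg Subtype.val hu⟩
      have hle1 : L x₁ ≤ L (x₁ * x₂) := by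
        intro w hw
        obtain ⟨u, hu, rfl⟩ := hsurj x₁ w hw
        refine (hLmem _ _).mpr ⟨⟨u, hLQ x₁ hu⟩, ?_⟩
        show u * (x₁ * x₂) * u⁻¹ * (x₁ * x₂)⁻¹ = _
        have h1 : u⁻¹ * x₂ = x₂ * u⁻¹ := hcen12 _ ((L x₁).inv_mem hu)
        calc u * (x₁ * x₂) * u⁻¹ * (x₁ * x₂)⁻¹ = u * x₁ * (x₂ * u⁻¹) * x₂⁻¹ * x₁⁻¹ := by group
          _ = u * x₁ * (u⁻¹ * x₂) * x₂⁻¹ * x₁⁻¹ := by rw [h1]
          _ = u * x₁ * u⁻¹ * x₁⁻¹ := by group
      have hle2 : L x₂ ≤ L (x₁ * x₂) := by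
        intro w hw
        obtain ⟨u, hu, rfl⟩ := hsurj x₂ w hw
        refine (hLmem _ _).mpr ⟨⟨u, hLQ x₂ hu⟩, ?_⟩
        show u * (x₁ * x₂) * u⁻¹ * (x₁ * x₂)⁻¹ = _
        have h0 : x₂ * u⁻¹ * x₂⁻¹ ∈ L x₂ := hLconj x₂ x₂ _ ((L x₂).inv_mem hu)
        have h1 : (x₂ * u⁻¹ * x₂⁻¹) * x₁ = x₁ * (x₂ * u⁻¹ * x₂⁻¹) := hcen21 _ h0
        calc u * (x₁ * x₂) * u⁻¹ * (x₁ * x₂)⁻¹ = u * (x₁ * (x₂ * u⁻¹ * x₂⁻¹)) * x₁⁻¹ := by group
          _ = u * ((x₂ * u⁻¹ * x₂⁻¹) * x₁) * x₁⁻¹ := by rw [h1]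
          _ = u * x₂ * u⁻¹ * x₂⁻¹ := by group
      -- cardinalities
      have heq1 : L x₁ = L (x₁ * x₂) := by
        apply Subgroup.eq_of_le_of_card_ge hle1
        rw [hc1]
        exact Nat.le_of_dvd hpp.pos (hLcard (x₁ * x₂))
      apply hnle
      rw [heq1]; exact hle2
  obtain ⟨L0, hL0card, hL0⟩ := hcommon
  -- N = [Q, G]
  set N : Subgroup G := ⁅Q, (⊤ : Subgroup G)⁆ with hN
  haveI hNn : N.Normal := Subgroup.commutator_normal Q ⊤
  have hNL0 : N ≤ L0 := by
    rw [hN, Subgroup.commutator_le]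
    intro a ha x _
    rw [commutatorElement_def]
    exact hL0 x ((hLmem x _).mpr ⟨⟨a, ha⟩, rfl⟩)
  have hNQ : N ≤ Q := Subgroup.commutator_le_left Q ⊤
  -- quotient
  have hGN : commutator G ≤ N := by
    set f : G →* G ⧸ N := QuotientGroup.mk' N with hf
    have hfs : Function.Surjective f := QuotientGroup.mk'_surjective N
    have hPc : Q.map f ≤ center (G ⧸ N) := by
      rintro _ ⟨a, ha, rfl⟩
      rw [Subgroup.mem_center_iff]
      intro y
      obtain ⟨g, rfl⟩ := hfs y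
      rw [← map_mul, ← map_mul]
      have hmem : (a * g)⁻¹ * (g * a) ∈ N := by
        have h3 : (a * g)⁻¹ * (g * a) = g⁻¹ * (a⁻¹ * g * a * g⁻¹) * g := by group
        have h4 : a⁻¹ * g * a * g⁻¹ ∈ N := by
          have := Subgroup.commutator_mem_commutator (Q.inv_mem ha) (Subgroup.mem_top g)
          rw [commutatorElement_def] at this
          simpa using this
        rw [h3]
        have := hNn.conj_mem _ h4 g⁻¹
        simpa using this
      have : f (a * g) = f (g * a) := by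
        rw [hf]
        exact (QuotientGroup.eq).mpr hmem
      exact this.symm
    have hGP : commutator (G ⧸ N) ≤ Q.map f := by
      have h1 : commutator (G ⧸ N) = (commutator G).map f := by
        rw [_root_.commutator_def, _root_.commutator_def, Subgroup.map_commutator,
          ← MonoidHom.range_eq_map, MonoidHom.range_eq_top.mpr hfs]
      rw [h1]
      exact Subgroup.map_mono hcomm
    have hcop : (Nat.card (Q.map f)).Coprime (Q.map f).index := by
      have hidx' : (Q.map f).index = Q.index := by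
        rw [Subgroup.index_map, MonoidHom.range_eq_top.mpr hfs, Subgroup.index_top, mul_one,
          hf, QuotientGroup.ker_mk', sup_eq_left.mpr hNQ]
      rw [hidx']
      have hd : Nat.card (Q.map f) ∣ Nat.card Q := Subgroup.card_map_dvd Q f
      obtain ⟨n, hn⟩ := hQp.exists_card_eq
      rw [hn] at hd
      have : Nat.Coprime (p ^ n) Q.index :=
        Nat.Coprime.pow_left n ((Nat.Prime.coprime_iff_not_dvd hpp).mpr hidx)
      exact Nat.Coprime.coprime_dvd_left hd this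
    have hbot := commutator_eq_bot_of_central (Q.map f) hPc hGP hcop
    have h1 : (commutator G).map f = ⊥ := by
      rw [← hbot, _root_.commutator_def, _root_.commutator_def, Subgroup.map_commutator,
        ← MonoidHom.range_eq_map, MonoidHom.range_eq_top.mpr hfs]
    have h2 := (Subgroup.map_eq_bot_iff (commutator G)).mp h1
    rwa [hf, QuotientGroup.ker_mk'] at h2
  exact dvd_trans (Subgroup.card_dvd_of_le (hGN.trans hNL0)) hL0card

end Cfsg.Agent.Lib.Helper29.S4130FO6
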