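import Mathlib
import Cfsg.Agent.Lib.Helper3.SFDefs

set_option autoImplicit false

namespace Cfsg.Agent.Lib.Helper29.S4130FO6

open Subgroup Cfsg.Agent.Lib.Helper3.SF

variable {G : Type*} [Group G]

/-- a subgroup of index dividing `p` in a finite `p`-group contains the derived subgroup. -/
theorem commutator_le_of_relIndex_dvd_prime [Finite G] {p : ℕ} [hp : Fact p.Prime]
    (P K : Subgroup G) (hP : IsPGroup p P) (hidx : K.relIndex P ∣ p) : ⁅P, P⁆ ≤ K := by
  rcases (Nat.dvd_prime hp.out).mp hidx with h1 | h1
  · have hPK : P ≤ K := Subgroup.relIndex_eq_one.mp h1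
    rw [Subgroup.commutator_le]
    intro a ha b hb
    rw [commutatorElement_def]
    exact K.mul_mem (K.mul_mem (K.mul_mem (hPK ha) (hPK hb)) (K.inv_mem (hPK ha)))
      (K.inv_mem (hPK hb))
  · have hidx' : (K.subgroupOf P).index = p := h1
    obtain ⟨n, hn⟩ := hP.exists_card_eq
    have hn0 : n ≠ 0 := by
      intro h0
      rw [h0, pow_zero] at hn
      have := Subgroup.index_dvd_card (K.subgroupOf P)
      rw [hidx', hn] at this
      exact hp.out.one_lt.ne' (Nat.dvd_one.mp this)
    haveI hnorm : (K.subgroupOf P).Normal := by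
      apply Subgroup.normal_of_index_eq_minFac_card
      rw [hidx', hn, Nat.Prime.pow_minFac hp.out hn0]
    have hq : Nat.card (P ⧸ K.subgroupOf P) = p := by
      rw [← Subgroup.index_eq_card]; exact hidx'
    haveI : IsCyclic (P ⧸ K.subgroupOf P) := isCyclic_of_prime_card hq
    have hcomm : IsMulCommutative (P ⧸ K.subgroupOf P) :=
      ⟨⟨fun a b => IsCyclic.commGroup.mul_comm a b⟩⟩
    have hle := Subgroup.Normal.quotient_commutative_iff_commutator_le.mp hcomm
    rw [← Subgroup.map_subtype_commutator]
    calc map P.subtype (_root_.commutator P) ≤ map P.subtype (K.subgroupOf P) :=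
          Subgroup.map_mono hle
      _ ≤ K := by rw [Subgroup.subgroupOf_map_subtype]; exact inf_le_left

/-- if `g` commutes with a product of commuting elements of coprime orders, it commutes with the
first factor. -/
theorem commute_left_of_commute_mul {g y x : G} (hyx : Commute y x)
    (hcop : (orderOf y).Coprime (orderOf x)) (hg : Commute g (y * x)) : Commute g y := by
  have h1 : Commute g ((y * x) ^ orderOf x) := hg.pow_right _
  rw [hyx.mul_pow, pow_orderOf_eq_one, mul_one] at h1
  obtain ⟨b, hb⟩ := exists_pow_eq_self_of_coprime (x := y) (n := orderOf x) hcop.symm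
  rw [← hb]
  exact h1.pow_right b

/-- pairwise commuting generators generate a commutative subgroup. -/
theorem closure_commute_of_pairwise (S : Set G) (hS : ∀ a ∈ S, ∀ b ∈ S, a * b = b * a) :
    ∀ a ∈ closure S, ∀ b ∈ closure S, a * b = b * a := by
  have h1 : closure S ≤ centralizer S := by
    rw [Subgroup.closure_le]
    intro a ha
    rw [SetLike.mem_coe, Subgroup.mem_centralizer_iff]
    intro b hb
    exact hS b hb a ha
  have h2 : closure S ≤ centralizer (closure S : Set G) := by
    rw [Subgroup.closure_le]
    intro a ha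
    rw [SetLike.mem_coe, Subgroup.mem_centralizer_iff]
    intro b hb
    have := h1 hb
    rw [Subgroup.mem_centralizer_iff] at this
    exact (this a ha).symm
  intro a ha b hb
  have := h2 ha
  rw [Subgroup.mem_centralizer_iff] at this
  exact (this b hb).symm

/-- **FO-6b** for S4130. -/
theorem FO6b_nonabelian_sylow [Finite G] (p : ℕ) [Fact p.Prime]
    (h : SqFree G) (P : Sylow p G) (hPn : (P : Subgroup G).Normal)
    (hnab : ¬ ∀ a ∈ (P : Subgroup G), ∀ b ∈ (P : Subgroup G), a * b = b * a)
    (x : G) (hx : (orderOf x).Coprime p) :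
    x ∈ centralizer ((P : Subgroup G) : Set G) := by
  classical
  have hpp : p.Prime := Fact.out
  haveI := hPn
  have hPp : IsPGroup p (P : Subgroup G) := P.isPGroup'
  by_contra hxc
  apply hnab
  -- orders of elements of P are coprime to the order of x
  have hord : ∀ y ∈ (P : Subgroup G), (orderOf y).Coprime (orderOf x) := by
    intro y hy
    obtain ⟨k, hk⟩ := hPp ⟨y, hy⟩
    have hk' : y ^ (p ^ k) = 1 := by
      have := congrArg Subtype.val hk
      simpa using this
    have hd : orderOf y ∣ p ^ k := orderOf_dvd_of_pow_eq_one hk'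
    exact Nat.Coprime.coprime_dvd_left hd (Nat.Coprime.pow_left k hx.symm)
  set D : Subgroup G := (P : Subgroup G) ⊓ centralizer ({x} : Set G) with hD
  have hDP : D ≤ (P : Subgroup G) := inf_le_left
  have hDx : ∀ d ∈ D, d * x = x * d := by
    intro d hd
    have := (Subgroup.mem_inf.mp hd).2
    exact Subgroup.mem_centralizer_singleton_iff.mp this
  have hrel : D.relIndex (P : Subgroup G) = (centralizer ({x} : Set G)).relIndex (P : Subgroup G) :=
    Subgroup.inf_relIndex_left _ _
  have hrelp : D.relIndex (P : Subgroup G) = p := by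
    have h1 := h.relIndex_dvd_prime (P : Subgroup G) hPp x
    rw [← hrel] at h1
    rcases (Nat.dvd_prime hpp).mp h1 with h2 | h2
    · exfalso
      apply hxc
      have hPD : (P : Subgroup G) ≤ D := Subgroup.relIndex_eq_one.mp h2
      rw [Subgroup.mem_centralizer_iff]
      intro a ha
      exact hDx a (hPD ha)
    · exact h2
  -- (i) D is abelian
  have hDab : ∀ y ∈ D, ∀ d ∈ D, d * y = y * d := by
    intro y hy d hd
    have hyP : y ∈ (P : Subgroup G) := hDP hy
    have hyx : Commute y x := hDx y hy
    set K : Subgroup G := (P : Subgroup G) ⊓ centralizer ({y * x} : Set G) with hK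
    have hKD : K ≤ D := by
      intro g hg
      have hg1 := (Subgroup.mem_inf.mp hg).1
      have hg2 : g * (y * x) = (y * x) * g :=
        Subgroup.mem_centralizer_singleton_iff.mp (Subgroup.mem_inf.mp hg).2
      refine Subgroup.mem_inf.mpr ⟨hg1, ?_⟩
      rw [Subgroup.mem_centralizer_singleton_iff]
      have hg3 : Commute g (x * y) := by rw [← hyx.eq]; exact hg2
      exact (commute_left_of_commute_mul hyx.symm (hord y hyP).symm hg3).eq
    have hKy : K ≤ centralizer ({y} : Set G) := by
      intro g hg
      have hg2 : g * (y * x) = (y * x) * g :=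
        Subgroup.mem_centralizer_singleton_iff.mp (Subgroup.mem_inf.mp hg).2
      rw [Subgroup.mem_centralizer_singleton_iff]
      exact (commute_left_of_commute_mul hyx (hord y hyP) hg2).eq
    have hKrel : K.relIndex (P : Subgroup G) ∣ p := by
      have h1 := h.relIndex_dvd_prime (P : Subgroup G) hPp (y * x)
      rwa [← Subgroup.inf_relIndex_left (P : Subgroup G) (centralizer ({y * x} : Set G))] at h1
    have hmul := Subgroup.relIndex_mul_relIndex K D (P : Subgroup G) hKD hDP
    rw [hrelp] at hmul
    have hone : K.relIndex D = 1 := by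
      rw [← hmul] at hKrel
      have h2 : K.relIndex D * p ∣ 1 * p := by rwa [one_mul]
      have h3 := (Nat.mul_dvd_mul_iff_right hpp.pos).mp h2
      exact Nat.dvd_one.mp h3
    have hDK : D ≤ K := Subgroup.relIndex_eq_one.mp hone
    exact Subgroup.mem_centralizer_singleton_iff.mp (hKy (hDK hd))
  -- (ii) commutators of P lie in D
  have hcomD : ⁅(P : Subgroup G), (P : Subgroup G)⁆ ≤ D :=
    commutator_le_of_relIndex_dvd_prime (P : Subgroup G) D hPp (by rw [hrelp])
  -- (iii)
  obtain ⟨a, haP, haD⟩ : ∃ a ∈ (P : Subgroup G), a ∉ D := by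
    by_contra hno
    push Not at hno
    have hPD : (P : Subgroup G) ≤ D := hno
    have := Subgroup.relIndex_eq_one.mpr hPD
    rw [hrelp] at this
    exact hpp.one_lt.ne' this
  set a' : G := x * a * x⁻¹ with ha'
  have ha'P : a' ∈ (P : Subgroup G) := hPn.conj_mem a haP x
  set r : G := a⁻¹ * a' with hr
  have hrP : r ∈ (P : Subgroup G) := (P : Subgroup G).mul_mem ((P : Subgroup G).inv_mem haP) ha'P
  -- r commutes with D
  have hrD : ∀ d ∈ D, r * d = d * r := by
    intro d hd
    have hdP := hDP hd
    have hdx := hDx d hd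
    set c : G := a * d * a⁻¹ * d⁻¹ with hc
    have hcD : c ∈ D := by
      have := hcomD (Subgroup.commutator_mem_commutator haP hdP)
      rwa [commutatorElement_def] at this
    have hcx := hDx c hcD
    have e1 : a * d = c * d * a := by rw [hc]; group
    have e1' : d * a⁻¹ = a⁻¹ * (c * d) := by
      have : a * d * a⁻¹ = c * d := by rw [e1]; group
      rw [← this]; group
    have hxc' : x * c * x⁻¹ = c := by rw [← hcx]; group
    have hxd' : x * d * x⁻¹ = d := by rw [← hdx]; group
    have e2 : a' * d = c * d * a' := by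
      calc a' * d = (x * a * x⁻¹) * (x * d * x⁻¹) := by rw [hxd']
        _ = x * (a * d) * x⁻¹ := by group
        _ = x * (c * d * a) * x⁻¹ := by rw [e1]
        _ = (x * c * x⁻¹) * (x * d * x⁻¹) * (x * a * x⁻¹) := by group
        _ = c * d * a' := by rw [hxc', hxd']
    calc r * d = a⁻¹ * (a' * d) := by rw [hr]; group
      _ = a⁻¹ * (c * d * a') := by rw [e2]
      _ = (a⁻¹ * (c * d)) * a' := by group
      _ = (d * a⁻¹) * a' := by rw [e1']
      _ = d * r := by rw [hr]; group
  -- r ∉ D
  have hrnD : r ∉ D := by
    intro hrD'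
    have hrx := hDx r hrD'
    have hxr' : x * r * x⁻¹ = r := by rw [← hrx]; group
    have hconj : a' = a * r := by rw [hr]; group
    have hpow : ∀ i : ℕ, x ^ i * a * (x ^ i)⁻¹ = a * r ^ i := by
      intro i
      induction i with
      | zero => simp
      | succ i ih =>
        have : x ^ (i + 1) * a * (x ^ (i + 1))⁻¹ = x * (x ^ i * a * (x ^ i)⁻¹) * x⁻¹ := by
          rw [pow_succ']; group
        rw [this, ih]
        have hxri : x * r ^ i * x⁻¹ = r ^ i := by
          have hc : Commute x r := by
            have : x * r = r * x := hrx.symm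
            exact this
          have := (hc.pow_right i).eq
          rw [this]; group
        calc x * (a * r ^ i) * x⁻¹ = (x * a * x⁻¹) * (x * r ^ i * x⁻¹) := by group
          _ = a' * (x * r ^ i * x⁻¹) := by rw [ha']
          _ = a * r * r ^ i := by rw [hconj, hxri]
          _ = a * r ^ (i + 1) := by rw [pow_succ']; group
    have h1 := hpow (orderOf x)
    rw [pow_orderOf_eq_one] at h1
    have h2 : r ^ orderOf x = 1 := by
      have : a * r ^ orderOf x = a * 1 := by rw [← h1]; group
      exact mul_left_cancel this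
    have h3 : orderOf r ∣ orderOf x := orderOf_dvd_of_pow_eq_one h2
    have h4 : orderOf r = 1 := by
      have hc := hord r hrP
      exact Nat.Coprime.eq_one_of_dvd hc h3
    have hr1 : r = 1 := orderOf_eq_one_iff.mp h4
    apply haD
    refine Subgroup.mem_inf.mpr ⟨haP, ?_⟩
    rw [Subgroup.mem_centralizer_singleton_iff]
    have haa : a' = a := by
      rw [hconj, hr1, mul_one]
    have haa' : x * a * x⁻¹ = a := by rw [← ha']; exact haa
    calc a * x = (x * a * x⁻¹) * x := by rw [haa']
      _ = x * a := by group
  -- P ≤ D ⊔ zpowers r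
  set S : Set G := (D : Set G) ∪ {r} with hS
  have hSab : ∀ u ∈ S, ∀ v ∈ S, u * v = v * u := by
    intro u hu v hv
    rcases hu with hu | hu <;> rcases hv with hv | hv
    · exact hDab v hv u hu
    · rw [Set.mem_singleton_iff] at hv; subst hv; exact (hrD u hu).symm
    · rw [Set.mem_singleton_iff] at hu; subst hu; exact hrD v hv
    · rw [Set.mem_singleton_iff] at hu hv; rw [hu, hv]
  set E : Subgroup G := closure S with hE
  have hDE : D ≤ E := by
    intro d hd
    exact Subgroup.subset_closure (Or.inl hd)
  have hrE : r ∈ E := Subgroup.subset_closure (Or.inr rfl)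
  have hEP : E ≤ (P : Subgroup G) := by
    rw [hE, Subgroup.closure_le]
    intro u hu
    rcases hu with hu | hu
    · exact hDP hu
    · rw [Set.mem_singleton_iff] at hu; rw [hu]; exact hrP
  have hmul2 := Subgroup.relIndex_mul_relIndex D E (P : Subgroup G) hDE hEP
  rw [hrelp] at hmul2
  have hPE : (P : Subgroup G) ≤ E := by
    have hdv : E.relIndex (P : Subgroup G) ∣ p := Dvd.intro_left _ hmul2
    rcases (Nat.dvd_prime hpp).mp hdv with h1 | h1
    · exact Subgroup.relIndex_eq_one.mp h1
    · exfalso
      rw [h1] at hmul2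
      have h2 : D.relIndex E = 1 := by
        have : D.relIndex E * p = 1 * p := by rw [hmul2, one_mul]
        exact Nat.eq_of_mul_eq_mul_right hpp.pos this
      exact hrnD (Subgroup.relIndex_eq_one.mp h2 hrE)
  have hEab := closure_commute_of_pairwise S hSab
  intro u hu v hv
  exact hEab u (hPE hu) v (hPE hv)

end Cfsg.Agent.Lib.Helper29.S4130FO6
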