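import Mathlib

set_option autoImplicit false

namespace Cfsg.Agent.Lib.Helper29.S4706FO5

open Equiv

/-- a permutation of order `p` on `p` points is a full cycle. -/
theorem full_cycle_of_orderOf {α : Type*} [Fintype α] [DecidableEq α] {p : ℕ} (hp : p.Prime)
    (hα : Fintype.card α = p) (σ : Perm α) (hσ : orderOf σ = p) :
    σ.IsCycle ∧ ∀ a, σ a ≠ a := by
  have hc : σ.IsCycle := Equiv.Perm.isCycle_of_prime_order'' (hα ▸ hp) (by rw [hσ, hα])
  refine ⟨hc, ?_⟩
  have h1 : σ.support.card = Fintype.card α := by rw [← hc.orderOf, hσ, hα]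
  have h2 : σ.support = Finset.univ := Finset.eq_univ_of_card _ h1
  intro a
  have : a ∈ σ.support := by rw [h2]; exact Finset.mem_univ a
  exact Equiv.Perm.mem_support.mp this

/-- FO-5 (initial reductions) for S4706. -/
theorem initial {α : Type*} [Fintype α] [DecidableEq α] {p : ℕ} [Fact p.Prime] (hp : 2 < p)
    (hα : Fintype.card α = p) (G : Subgroup (Equiv.Perm α)) (P : Sylow p G)
    (hN : Nat.card (Subgroup.normalizer ((P : Subgroup G) : Set G)) = 2 * p) :
    Nat.card P = p ∧ Subgroup.centralizer ((P : Subgroup G) : Set G) = (P : Subgroup G) ∧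
      MulAction.IsPretransitive G α ∧
      (∀ g : G, g ≠ 1 → (∃ k : G, k * g * k⁻¹ ∈ (P : Subgroup G)) → ∀ a : α, g • a ≠ a) ∧
      (p = 3 → (P : Subgroup G).Normal) := by
  classical
  have hpp : p.Prime := Fact.out
  -- step 1 : |P| = p
  have hPle : (P : Subgroup G) ≤ Subgroup.normalizer ((P : Subgroup G) : Set G) :=
    Subgroup.le_normalizer
  have hdvd1 : Nat.card (P : Subgroup G) ∣ 2 * p := by
    rw [← hN]; exact Subgroup.card_dvd_of_le hPle
  have hdvdG : 2 * p ∣ Nat.card G := by
    rw [← hN]; exact Subgroup.card_subgroup_dvd_card _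
  have hcardP : Nat.card (P : Subgroup G) = p := by
    have h1 := P.card_eq_multiplicity
    have hpos : (Nat.card G).factorization p ≠ 0 := by
      intro h0
      have hpd : p ∣ Nat.card G := dvd_trans (dvd_mul_left p 2) hdvdG
      have hne : Nat.card G ≠ 0 := Nat.card_pos.ne'
      have := (hpp.dvd_iff_one_le_factorization hne).mp hpd
      omega
    have hle : (Nat.card G).factorization p ≤ 1 := by
      by_contra hgt
      push Not at hgt
      have hp2 : p ^ 2 ∣ Nat.card (P : Subgroup G) := by
        rw [h1]; exact pow_dvd_pow p hgt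
      have hp3 : p ^ 2 ∣ 2 * p := dvd_trans hp2 hdvd1
      rw [pow_two] at hp3
      have hp4 : p ∣ 2 := by
        have := (Nat.mul_dvd_mul_iff_right hpp.pos).mp hp3
        exact this
      have := Nat.le_of_dvd (by norm_num) hp4
      omega
    have : (Nat.card G).factorization p = 1 := by omega
    rw [h1, this, pow_one]
  have hcardP' : Nat.card P = p := hcardP
  -- step 2 : a generator
  have hone : ∃ c : G, c ∈ (P : Subgroup G) ∧ c ≠ 1 := by
    by_contra hno
    push Not at hno
    have hbot : (P : Subgroup G) = ⊥ := by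
      rw [Subgroup.eq_bot_iff_forall]; exact hno
    rw [hbot, Subgroup.card_bot] at hcardP
    omega
  obtain ⟨c, hcP, hc1⟩ := hone
  have hordc : orderOf c = p := by
    have h1 : orderOf (⟨c, hcP⟩ : (P : Subgroup G)) ∣ p := by
      have h0 := orderOf_dvd_natCard (⟨c, hcP⟩ : (P : Subgroup G))
      rw [hcardP] at h0
      exact h0
    have h2 : orderOf (⟨c, hcP⟩ : (P : Subgroup G)) = orderOf c := Subgroup.orderOf_mk c hcP
    rw [h2] at h1
    rcases (Nat.dvd_prime hpp).mp h1 with h | h
    · exact absurd (orderOf_eq_one_iff.mp h) hc1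
    · exact h
  have hordc' : orderOf (c : Perm α) = p := by
    rw [Subgroup.orderOf_coe]; exact hordc
  have hzp : Subgroup.zpowers c = (P : Subgroup G) := by
    have hle : Subgroup.zpowers c ≤ (P : Subgroup G) := by
      rw [Subgroup.zpowers_le]; exact hcP
    apply Subgroup.eq_of_le_of_card_ge hle
    rw [Nat.card_zpowers, hordc, hcardP]
  obtain ⟨hcyc, hcfix⟩ := full_cycle_of_orderOf hpp hα (c : Perm α) hordc'
  -- transitivity via powers of c
  have htr : ∀ a b : α, ∃ i : ℕ, ((c : Perm α) ^ i) a = b := fun a b =>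
    hcyc.exists_pow_eq (hcfix a) (hcfix b)
  have hsm : ∀ (g : G) (a : α), g • a = (g : Perm α) a := fun _ _ => rfl
  refine ⟨hcardP', ?_, ?_, ?_, ?_⟩
  · -- centralizer
    apply le_antisymm
    · intro g hg
      rw [Subgroup.mem_centralizer_iff] at hg
      have hgc : c * g = g * c := hg c hcP
      have hgc' : (c : Perm α) * (g : Perm α) = (g : Perm α) * (c : Perm α) := by
        have := congrArg (fun t : G => (t : Perm α)) hgc
        simpa using this
      obtain ⟨a0⟩ : Nonempty α := by
        rw [← Fintype.card_pos_iff, hα]; exact hpp.pos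
      obtain ⟨i, hi⟩ := htr a0 ((g : Perm α) a0)
      have hcomm : ∀ j : ℕ, (c : Perm α) ^ j * (g : Perm α) = (g : Perm α) * (c : Perm α) ^ j := by
        intro j
        have : Commute (c : Perm α) (g : Perm α) := hgc'
        exact (this.pow_left j).eq
      have hgeq : (g : Perm α) = (c : Perm α) ^ i := by
        ext a
        obtain ⟨j, hj⟩ := htr a0 a
        rw [← hj]
        have h1 : (g : Perm α) (((c : Perm α) ^ j) a0) = ((c : Perm α) ^ j) ((g : Perm α) a0) := by
          have := congrArg (fun t : Perm α => t a0) (hcomm j)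
          simpa [Perm.mul_apply] using this.symm
        rw [h1, ← hi, ← Perm.mul_apply, ← Perm.mul_apply, ← pow_add, ← pow_add, add_comm]
      have hg2 : g = c ^ i := by
        apply Subtype.ext
        rw [hgeq]; simp
      rw [hg2]
      exact Subgroup.pow_mem _ hcP i
    · intro g hg
      rw [Subgroup.mem_centralizer_iff]
      intro h hh
      rw [← hzp] at hg hh
      obtain ⟨i, rfl⟩ := Subgroup.mem_zpowers_iff.mp hg
      obtain ⟨j, rfl⟩ := Subgroup.mem_zpowers_iff.mp hh
      rw [← zpow_add, ← zpow_add, add_comm]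
  · -- transitive
    refine ⟨fun a b => ?_⟩
    obtain ⟨i, hi⟩ := htr a b
    refine ⟨c ^ i, ?_⟩
    rw [hsm]
    simpa using hi
  · -- fixed point free
    intro g hg1 hk a
    obtain ⟨k, hkP⟩ := hk
    set h : G := k * g * k⁻¹ with hh
    have hh1 : h ≠ 1 := by
      intro h1
      apply hg1
      have : g = k⁻¹ * h * k := by rw [hh]; group
      rw [this, h1]; group
    have hordh : orderOf h = p := by
      have h1 : orderOf (⟨h, hkP⟩ : (P : Subgroup G)) ∣ p := by
        have h0 := orderOf_dvd_natCard (⟨h, hkP⟩ : (P : Subgroup G))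
        rw [hcardP] at h0
        exact h0
      have h2 : orderOf (⟨h, hkP⟩ : (P : Subgroup G)) = orderOf h := Subgroup.orderOf_mk h hkP
      rw [h2] at h1
      rcases (Nat.dvd_prime hpp).mp h1 with h' | h'
      · exact absurd (orderOf_eq_one_iff.mp h') hh1
      · exact h'
    have hordh' : orderOf (h : Perm α) = p := by
      rw [Subgroup.orderOf_coe]; exact hordh
    obtain ⟨_, hhfix⟩ := full_cycle_of_orderOf hpp hα (h : Perm α) hordh'
    intro hga
    apply hhfix ((k : Perm α) a)
    have hga' : (g : Perm α) a = a := hga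
    have : (h : Perm α) = (k : Perm α) * (g : Perm α) * (k : Perm α)⁻¹ := by
      rw [hh]; simp
    rw [this]
    simp [Perm.mul_apply, hga']
  · -- p = 3
    intro hp3
    subst hp3
    have hcardG : Nat.card G ≤ 6 := by
      have h1 : Nat.card G ≤ Nat.card (Perm α) := Subgroup.card_le_card_group G
      have h2 : Nat.card (Perm α) = 6 := by
        rw [Nat.card_perm, Nat.card_eq_fintype_card, hα]; rfl
      omega
    have htop : Subgroup.normalizer ((P : Subgroup G) : Set G) = ⊤ := by
      apply Subgroup.eq_top_of_le_card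
      rw [hN]; omega
    exact Subgroup.normalizer_eq_top_iff.mp htop

end Cfsg.Agent.Lib.Helper29.S4706FO5
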