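import Mathlib
import Cfsg.Prelude.Def_GeometricClasses
import Cfsg.Agent.Lib.Helper16.TensDefs
import Cfsg.Agent.Lib.Helper15.SLNormal

/-!
# S5637 piece FO-T4b (helper29): `SL_le_of_all_dd`
-/

set_option autoImplicit false

namespace Cfsg.Agent.Lib.Helper29.S5637T4b

open Matrix

section gen

variable {ι : Type} [Fintype ι] [DecidableEq ι] {F : Type*} [Field F]

/-- the elementary transvection as an element of `GL` -/
def tvE (x y : ι) (h : x ≠ y) (c : F) : GL ι F where
  val := Matrix.transvection x y c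
  inv := Matrix.transvection x y (-c)
  val_inv := by rw [Matrix.transvection_mul_transvection_same x y h, add_neg_cancel, Matrix.transvection_zero]
  inv_val := by rw [Matrix.transvection_mul_transvection_same x y h, neg_add_cancel, Matrix.transvection_zero]

theorem tvE_val (x y : ι) (h : x ≠ y) (c : F) :
    ((tvE x y h c : GL ι F) : Matrix ι ι F) = 1 + Matrix.single x y c := rfl

theorem tvE_inv_val (x y : ι) (h : x ≠ y) (c : F) :
    (((tvE x y h c)⁻¹ : GL ι F) : Matrix ι ι F) = 1 + Matrix.single x y (-c) := rfl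

/-- the commutator of two elementary transvections -/
theorem comm_single (x y z : ι) (hxy : x ≠ y) (hyz : y ≠ z) (hxz : x ≠ z) (c : F) :
    ((1 : Matrix ι ι F) + Matrix.single x y 1) * (1 + Matrix.single y z c) *
      (1 + Matrix.single x y (-1)) * (1 + Matrix.single y z (-c)) = 1 + Matrix.single x z c := by
  simp only [add_mul, mul_add, one_mul, mul_one, Matrix.single_mul_single_same,
    Matrix.single_mul_single_of_ne _ _ _ _ hyz.symm, Matrix.single_mul_single_of_ne _ _ _ _ hxy.symm,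
    Matrix.single_mul_single_of_ne _ _ _ _ hxz.symm,
    add_zero, one_mul, mul_one, mul_neg, neg_mul]
  simp only [← Matrix.single_neg]
  abel

/-- "all elementary transvections at position `(x, y)` lie in `M`" -/
def El (M : Subgroup (GL ι F)) (x y : ι) : Prop :=
  ∀ (c : F) (t : GL ι F), (t : Matrix ι ι F) = 1 + Matrix.single x y c → t ∈ M

theorem El.comm {M : Subgroup (GL ι F)} {x y z : ι} (h1 : El M x y) (h2 : El M y z)
    (hxy : x ≠ y) (hyz : y ≠ z) (hxz : x ≠ z) : El M x z := by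
  intro c t ht
  have hu : tvE x y hxy (1 : F) ∈ M := h1 1 _ (tvE_val x y hxy 1)
  have hv : tvE y z hyz c ∈ M := h2 c _ (tvE_val y z hyz c)
  have : t = tvE x y hxy (1 : F) * tvE y z hyz c * (tvE x y hxy (1 : F))⁻¹ * (tvE y z hyz c)⁻¹ := by
    apply Units.ext
    rw [Units.val_mul, Units.val_mul, Units.val_mul, tvE_val, tvE_val, tvE_inv_val, tvE_inv_val, ht,
      comm_single x y z hxy hyz hxz c]
  rw [this]
  exact M.mul_mem (M.mul_mem (M.mul_mem hu hv) (M.inv_mem hu)) (M.inv_mem hv)

/-- a subgroup of `GL` containing all elementary transvections contains `SL` -/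
theorem SL_le_of_forall_El [Nontrivial ι] (M : Subgroup (GL ι F))
    (hall : ∀ x y : ι, x ≠ y → El M x y) : Cfsg.Geo.specialLinear ι F ≤ M := by
  intro s hs
  have hdet : (s : Matrix ι ι F).det = 1 := by
    unfold Cfsg.Geo.specialLinear at hs
    rw [MonoidHom.mem_ker] at hs
    have := congrArg Units.val hs
    simpa using this
  have key : ∀ A : Matrix.SpecialLinearGroup ι F, ∀ g : GL ι F,
      (g : Matrix ι ι F) = (A : Matrix ι ι F) → g ∈ M := by
    intro A
    refine Cfsg.Agent.Lib.Helper15.SLn_transvection_induction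
      (fun A : Matrix.SpecialLinearGroup ι F => ∀ g : GL ι F,
        (g : Matrix ι ι F) = (A : Matrix ι ι F) → g ∈ M) ?_ ?_ A
    · intro i j hij c g hg
      apply hall i j hij c g
      rw [hg, Matrix.SpecialLinearGroup.transvection_coe]
    · intro A B hA hB g hg
      have : g = Matrix.SpecialLinearGroup.toGL A * Matrix.SpecialLinearGroup.toGL B :=
        Units.ext (by rw [Units.val_mul, hg, Matrix.SpecialLinearGroup.coe_mul]; rfl)
      rw [this]
      exact M.mul_mem (hA _ rfl) (hB _ rfl)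
  exact key ⟨(s : Matrix ι ι F), hdet⟩ s rfl

end gen

theorem exists_ne_fin {n : ℕ} (hn : 2 ≤ n) (u : Fin n) : ∃ r : Fin n, r ≠ u := by
  by_cases h0 : (⟨0, by omega⟩ : Fin n) ≠ u
  · exact ⟨_, h0⟩
  · refine ⟨⟨1, by omega⟩, ?_⟩
    intro h
    rw [not_not] at h0
    rw [← h0] at h
    simp [Fin.ext_iff] at h

theorem exists_third_fin {n : ℕ} (hn : 3 ≤ n) (u v : Fin n) : ∃ r : Fin n, r ≠ u ∧ r ≠ v := by
  by_cases h0 : (⟨0, by omega⟩ : Fin n) ≠ u ∧ (⟨0, by omega⟩ : Fin n) ≠ v
  · exact ⟨_, h0⟩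
  by_cases h1 : (⟨1, by omega⟩ : Fin n) ≠ u ∧ (⟨1, by omega⟩ : Fin n) ≠ v
  · exact ⟨_, h1⟩
  refine ⟨⟨2, by omega⟩, ?_, ?_⟩
  · intro h
    simp only [ne_eq, Fin.ext_iff, not_and_or, not_not] at h0 h1 h
    omega
  · intro h
    simp only [ne_eq, Fin.ext_iff, not_and_or, not_not] at h0 h1 h
    omega

variable {F : Type*} [Field F] {a b : ℕ}

/-- FO-T4b -/
theorem SL_le_of_all_dd (ha : 2 ≤ a) (hb : 3 ≤ b) (M : Subgroup (GL (Fin a × Fin b) F))
    (hdd : ∀ (p' q' : Fin a) (j j' : Fin b) (c : F), p' ≠ q' → j ≠ j' → ∀ t : GL (Fin a × Fin b) F,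
      (t : Matrix (Fin a × Fin b) (Fin a × Fin b) F) = 1 + Matrix.single (p', j) (q', j') c → t ∈ M) :
    Cfsg.Geo.specialLinear (Fin a × Fin b) F ≤ M := by
  have hDD : ∀ (i i' : Fin a) (j j' : Fin b), i ≠ i' → j ≠ j' → El M (i, j) (i', j') :=
    fun i i' j j' hi hj c t ht => hdd i i' j j' c hi hj t ht
  -- same first coordinate
  have hA : ∀ (i : Fin a) (j j' : Fin b), j ≠ j' → El M (i, j) (i, j') := by
    intro i j j' hj
    obtain ⟨i'', hi''⟩ := exists_ne_fin ha i
    obtain ⟨j'', hj1, hj2⟩ := exists_third_fin hb j j'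
    refine El.comm (y := (i'', j'')) (hDD i i'' j j'' hi''.symm hj1.symm)
      (hDD i'' i j'' j' hi'' hj2) ?_ ?_ ?_
    · intro h; exact hi'' (congrArg Prod.fst h).symm
    · intro h; exact hi'' (congrArg Prod.fst h)
    · intro h; exact hj (congrArg Prod.snd h)
  -- same second coordinate
  have hB : ∀ (i i' : Fin a) (j : Fin b), i ≠ i' → El M (i, j) (i', j) := by
    intro i i' j hi
    obtain ⟨j'', hj''⟩ := exists_ne_fin (by omega : 2 ≤ b) j
    refine El.comm (y := (i, j'')) (hA i j j'' hj''.symm) (hDD i i' j'' j hi hj'') ?_ ?_ ?_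
    · intro h; exact hj'' (congrArg Prod.snd h).symm
    · intro h; exact hi (congrArg Prod.fst h)
    · intro h; exact hi (congrArg Prod.fst h)
  have : Nontrivial (Fin a × Fin b) := by
    have : Nontrivial (Fin a) := Fin.nontrivial_iff_two_le.2 ha
    have : Nonempty (Fin b) := ⟨⟨0, by omega⟩⟩
    infer_instance
  apply SL_le_of_forall_El
  rintro ⟨i, j⟩ ⟨i', j'⟩ hne
  by_cases hi : i = i'
  · subst hi
    have hj : j ≠ j' := fun h => hne (by rw [h])
    exact hA i j j' hj
  · by_cases hj : j = j'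
    · subst hj
      exact hB i i' j hi
    · exact hDD i i' j j' hi hj

end Cfsg.Agent.Lib.Helper29.S5637T4b
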