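import Mathlib
import Cfsg.Prelude.Def_GeometricClasses
import Cfsg.Agent.Lib.Helper16.TensDefs
import Cfsg.Agent.Lib.Helper29.S5637FOT4b

/-!
# S5637 piece FO-T4a (helper29): `all_dd_of_one`
-/

set_option autoImplicit false

namespace Cfsg.Agent.Lib.Helper29.S5637T4a

open Matrix
open scoped Kronecker
open Cfsg.Agent.Lib.Helper16.Tens Cfsg.Agent.Lib.Helper29.S5637T4b

/-! ## an abstract connectivity lemma on `Fin n`, `3 ≤ n` -/

section conn

variable {F : Type*} [Field F] {n : ℕ}

theorem conjR (u v r : Fin n) (hrv : r ≠ v) (s : F) :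
    Matrix.transvection r u s * Matrix.single u v (1 : F) * Matrix.transvection r u (-s) =
      Matrix.single u v 1 + Matrix.single r v s := by
  simp only [Matrix.transvection, add_mul, mul_add, one_mul, mul_one, Matrix.single_mul_single_same,
    Matrix.single_mul_single_of_ne _ _ _ _ hrv.symm, add_zero, mul_one]

theorem conjC (u v r : Fin n) (hru : r ≠ u) (s : F) :
    Matrix.transvection v r (-s) * Matrix.single u v (1 : F) * Matrix.transvection v r s =
      Matrix.single u v 1 + Matrix.single u r s := by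
  simp only [Matrix.transvection, add_mul, mul_add, one_mul, mul_one, Matrix.single_mul_single_same,
    Matrix.single_mul_single_of_ne _ _ _ _ hru, add_zero, one_mul]

theorem conn (hn : 3 ≤ n) (P : Matrix (Fin n) (Fin n) F → Prop)
    (hadd : ∀ Y Y', P Y → P Y' → P (Y + Y')) (hneg : ∀ Y, P Y → P (-Y))
    (hconj : ∀ (β β' : Matrix (Fin n) (Fin n) F), β * β' = 1 → β' * β = 1 → β.det = 1 →
      ∀ Y, P Y → P (β * Y * β'))
    (u v : Fin n) (huv : u ≠ v) (h0 : P (Matrix.single u v 1)) :
    ∀ (j j' : Fin n), j ≠ j' → ∀ s : F, P (Matrix.single j j' s) := by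
  have tinv : ∀ (x y : Fin n), x ≠ y → ∀ c : F,
      Matrix.transvection x y c * Matrix.transvection x y (-c) = 1 := by
    intro x y hxy c
    rw [Matrix.transvection_mul_transvection_same x y hxy, add_neg_cancel, Matrix.transvection_zero]
  have tinv' : ∀ (x y : Fin n), x ≠ y → ∀ c : F,
      Matrix.transvection x y (-c) * Matrix.transvection x y c = 1 := by
    intro x y hxy c
    rw [Matrix.transvection_mul_transvection_same x y hxy, neg_add_cancel, Matrix.transvection_zero]
  -- the two basic moves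
  have stepR : ∀ x y r : Fin n, r ≠ x → r ≠ y → P (Matrix.single x y 1) →
      ∀ s : F, P (Matrix.single r y s) := by
    intro x y r hrx hry hP s
    have h1 := hconj (Matrix.transvection r x s) (Matrix.transvection r x (-s)) (tinv r x hrx s)
      (tinv' r x hrx s) (Matrix.det_transvection_of_ne r x hrx s) _ hP
    rw [conjR x y r hry s] at h1
    have h2 := hadd _ _ h1 (hneg _ hP)
    have : Matrix.single x y (1 : F) + Matrix.single r y s + -Matrix.single x y 1 =
        Matrix.single r y s := by abel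
    rwa [this] at h2
  have stepC : ∀ x y r : Fin n, r ≠ x → r ≠ y → P (Matrix.single x y 1) →
      ∀ s : F, P (Matrix.single x r s) := by
    intro x y r hrx hry hP s
    have h1 := hconj (Matrix.transvection y r (-s)) (Matrix.transvection y r s) (tinv' y r hry.symm s)
      (tinv y r hry.symm s) (Matrix.det_transvection_of_ne y r hry.symm (-s)) _ hP
    rw [conjC x y r hrx s] at h1
    have h2 := hadd _ _ h1 (hneg _ hP)
    have : Matrix.single x y (1 : F) + Matrix.single x r s + -Matrix.single x y 1 =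
        Matrix.single x r s := by abel
    rwa [this] at h2
  -- all scalars at the starting position
  have hQ0 : ∀ s : F, P (Matrix.single u v s) := by
    obtain ⟨r, hru, hrv⟩ := exists_third_fin hn u v
    have h1 := stepR u v r hru hrv h0 1
    exact stepR r v u hru.symm huv h1
  have QR : ∀ x y r : Fin n, r ≠ x → r ≠ y → (∀ s : F, P (Matrix.single x y s)) →
      ∀ s : F, P (Matrix.single r y s) := fun x y r hrx hry hQ => stepR x y r hrx hry (hQ 1)
  have QC : ∀ x y r : Fin n, r ≠ x → r ≠ y → (∀ s : F, P (Matrix.single x y s)) →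
      ∀ s : F, P (Matrix.single x r s) := fun x y r hrx hry hQ => stepC x y r hrx hry (hQ 1)
  intro j j' hjj'
  by_cases h1 : j = u
  · subst h1
    by_cases h2 : j' = v
    · subst h2; exact hQ0
    · exact QC j v j' hjj'.symm h2 hQ0
  · by_cases h1' : j = v
    · subst h1'
      by_cases h2 : j' = u
      · subst h2
        obtain ⟨r, hru, hrv⟩ := exists_third_fin hn j' j
        have a1 := QR j' j r hru hrv hQ0
        have a2 := QC r j j' hru.symm huv a1
        exact QR r j' j hrv.symm huv.symm a2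
      · have a1 := QC u j j' h2 hjj'.symm hQ0
        exact QR u j' j huv.symm hjj' a1
    · have a1 := QR u v j h1 h1' hQ0
      by_cases h2 : j' = v
      · subst h2; exact a1
      · exact QC j v j' hjj'.symm h2 a1

/-- the case `n = 2`: the Weyl element swaps the two off-diagonal positions -/
theorem swap2 (P : Matrix (Fin 2) (Fin 2) F → Prop) (hneg : ∀ Y, P Y → P (-Y))
    (hconj : ∀ (β β' : Matrix (Fin 2) (Fin 2) F), β * β' = 1 → β' * β = 1 → β.det = 1 →
      ∀ Y, P Y → P (β * Y * β'))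
    (u v : Fin 2) (huv : u ≠ v) (h0 : P (Matrix.single u v 1)) : P (Matrix.single v u 1) := by
  have hb1 : (!![0, 1; -1, 0] : Matrix (Fin 2) (Fin 2) F) * !![0, -1; 1, 0] = 1 := by
    ext i j; fin_cases i <;> fin_cases j <;> simp [Matrix.mul_apply, Fin.sum_univ_two]
  have hb2 : (!![0, -1; 1, 0] : Matrix (Fin 2) (Fin 2) F) * !![0, 1; -1, 0] = 1 := by
    ext i j; fin_cases i <;> fin_cases j <;> simp [Matrix.mul_apply, Fin.sum_univ_two]
  have hd : (!![0, 1; -1, 0] : Matrix (Fin 2) (Fin 2) F).det = 1 := by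
    simp [Matrix.det_fin_two]
  have h1 := hconj _ _ hb1 hb2 hd _ h0
  have key : (!![0, 1; -1, 0] : Matrix (Fin 2) (Fin 2) F) * Matrix.single u v 1 * !![0, -1; 1, 0] =
      - Matrix.single v u 1 := by
    have e01 : Matrix.single (0 : Fin 2) (1 : Fin 2) (1 : F) = !![0, 1; 0, 0] := by
      ext i j; fin_cases i <;> fin_cases j <;> simp
    have e10 : Matrix.single (1 : Fin 2) (0 : Fin 2) (1 : F) = !![0, 0; 1, 0] := by
      ext i j; fin_cases i <;> fin_cases j <;> simp
    fin_cases u <;> fin_cases v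
    · exact absurd rfl huv
    · show (!![0, 1; -1, 0] : Matrix (Fin 2) (Fin 2) F) * Matrix.single (0 : Fin 2) (1 : Fin 2) 1 *
          !![0, -1; 1, 0] = - Matrix.single (1 : Fin 2) (0 : Fin 2) 1
      rw [e01, e10]
      ext i j; fin_cases i <;> fin_cases j <;> simp [Matrix.mul_apply, Fin.sum_univ_two]
    · show (!![0, 1; -1, 0] : Matrix (Fin 2) (Fin 2) F) * Matrix.single (1 : Fin 2) (0 : Fin 2) 1 *
          !![0, -1; 1, 0] = - Matrix.single (0 : Fin 2) (1 : Fin 2) 1
      rw [e01, e10]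
      ext i j; fin_cases i <;> fin_cases j <;> simp [Matrix.mul_apply, Fin.sum_univ_two]
    · exact absurd rfl huv
  rw [key] at h1
  have := hneg _ h1
  rwa [neg_neg] at this

end conn

/-! ## Kronecker conjugation -/

variable {F : Type*} [Field F] {a b : ℕ}

/-- the Kronecker product of two invertible matrices as an element of `GL` -/
def krGL (α α' : Matrix (Fin a) (Fin a) F) (β β' : Matrix (Fin b) (Fin b) F)
    (h1 : α * α' = 1) (h2 : α' * α = 1) (h3 : β * β' = 1) (h4 : β' * β = 1) :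
    GL (Fin a × Fin b) F where
  val := α ⊗ₖ β
  inv := α' ⊗ₖ β'
  val_inv := by rw [← Matrix.mul_kronecker_mul, h1, h3, Matrix.one_kronecker_one]
  inv_val := by rw [← Matrix.mul_kronecker_mul, h2, h4, Matrix.one_kronecker_one]

theorem krGL_mem {M : Subgroup (GL (Fin a × Fin b) F)} (hM : Over M)
    (α α' : Matrix (Fin a) (Fin a) F) (β β' : Matrix (Fin b) (Fin b) F)
    (h1 : α * α' = 1) (h2 : α' * α = 1) (h3 : β * β' = 1) (h4 : β' * β = 1)
    (hdα : α.det = 1) (hdβ : β.det = 1) : krGL α α' β β' h1 h2 h3 h4 ∈ M := by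
  apply hM.kron_mem
  · rw [mem_kron_iff]
    exact ⟨⟨α, α', h1, h2⟩, ⟨β, β', h3, h4⟩, rfl⟩
  · rw [mem_SL_iff]
    show (α ⊗ₖ β).det = 1
    rw [Matrix.det_kronecker, hdα, hdβ, one_pow, one_pow, one_mul]

/-- `1 + X ⊗ Y` is (the matrix of) an element of `M` -/
def InM (M : Subgroup (GL (Fin a × Fin b) F)) (X : Matrix (Fin a) (Fin a) F)
    (Y : Matrix (Fin b) (Fin b) F) : Prop :=
  ∃ t ∈ M, (t : Matrix (Fin a × Fin b) (Fin a × Fin b) F) = 1 + X ⊗ₖ Y

theorem InM.conj {M : Subgroup (GL (Fin a × Fin b) F)} (hM : Over M)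
    {X : Matrix (Fin a) (Fin a) F} {Y : Matrix (Fin b) (Fin b) F} (h : InM M X Y)
    (α α' : Matrix (Fin a) (Fin a) F) (β β' : Matrix (Fin b) (Fin b) F)
    (h1 : α * α' = 1) (h2 : α' * α = 1) (h3 : β * β' = 1) (h4 : β' * β = 1)
    (hdα : α.det = 1) (hdβ : β.det = 1) : InM M (α * X * α') (β * Y * β') := by
  obtain ⟨t, ht, htv⟩ := h
  have hk := krGL_mem hM α α' β β' h1 h2 h3 h4 hdα hdβ
  refine ⟨krGL α α' β β' h1 h2 h3 h4 * t * (krGL α α' β β' h1 h2 h3 h4)⁻¹,
    M.mul_mem (M.mul_mem hk ht) (M.inv_mem hk), ?_⟩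
  rw [Units.val_mul, Units.val_mul, htv]
  show α ⊗ₖ β * (1 + X ⊗ₖ Y) * (α' ⊗ₖ β') = _
  rw [mul_add, add_mul, mul_one, ← Matrix.mul_kronecker_mul, ← Matrix.mul_kronecker_mul,
    ← Matrix.mul_kronecker_mul, h1, h3, Matrix.one_kronecker_one]

theorem kron_neg_right (X : Matrix (Fin a) (Fin a) F) (Y : Matrix (Fin b) (Fin b) F) :
    X ⊗ₖ (-Y) = -(X ⊗ₖ Y) := by
  ext ⟨i, j⟩ ⟨k, l⟩
  simp [Matrix.kroneckerMap_apply]

theorem kron_neg_left (X : Matrix (Fin a) (Fin a) F) (Y : Matrix (Fin b) (Fin b) F) :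
    (-X) ⊗ₖ Y = -(X ⊗ₖ Y) := by
  ext ⟨i, j⟩ ⟨k, l⟩
  simp [Matrix.kroneckerMap_apply]

theorem InM.addR {M : Subgroup (GL (Fin a × Fin b) F)}
    {X : Matrix (Fin a) (Fin a) F} {Y Y' : Matrix (Fin b) (Fin b) F} (hX : X * X = 0)
    (h : InM M X Y) (h' : InM M X Y') : InM M X (Y + Y') := by
  obtain ⟨t, ht, htv⟩ := h
  obtain ⟨t', ht', htv'⟩ := h'
  refine ⟨t * t', M.mul_mem ht ht', ?_⟩
  rw [Units.val_mul, htv, htv', add_mul, mul_add, mul_add, one_mul, mul_one, one_mul,
    ← Matrix.mul_kronecker_mul, hX, Matrix.zero_kronecker, Matrix.kronecker_add]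
  abel

theorem InM.negR {M : Subgroup (GL (Fin a × Fin b) F)}
    {X : Matrix (Fin a) (Fin a) F} {Y : Matrix (Fin b) (Fin b) F} (hX : X * X = 0)
    (h : InM M X Y) : InM M X (-Y) := by
  obtain ⟨t, ht, htv⟩ := h
  refine ⟨t⁻¹, M.inv_mem ht, ?_⟩
  apply Units.inv_eq_of_mul_eq_one_right
  rw [htv, add_mul, mul_add, mul_add, one_mul, mul_one, one_mul,
    ← Matrix.mul_kronecker_mul, hX, Matrix.zero_kronecker, kron_neg_right]
  abel

theorem InM.addL {M : Subgroup (GL (Fin a × Fin b) F)}
    {X X' : Matrix (Fin a) (Fin a) F} {Y : Matrix (Fin b) (Fin b) F} (hY : Y * Y = 0)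
    (h : InM M X Y) (h' : InM M X' Y) : InM M (X + X') Y := by
  obtain ⟨t, ht, htv⟩ := h
  obtain ⟨t', ht', htv'⟩ := h'
  refine ⟨t * t', M.mul_mem ht ht', ?_⟩
  rw [Units.val_mul, htv, htv', add_mul, mul_add, mul_add, one_mul, mul_one, one_mul,
    ← Matrix.mul_kronecker_mul, hY, Matrix.kronecker_zero, Matrix.add_kronecker]
  abel

theorem InM.negL {M : Subgroup (GL (Fin a × Fin b) F)}
    {X : Matrix (Fin a) (Fin a) F} {Y : Matrix (Fin b) (Fin b) F} (hY : Y * Y = 0)
    (h : InM M X Y) : InM M (-X) Y := by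
  obtain ⟨t, ht, htv⟩ := h
  refine ⟨t⁻¹, M.inv_mem ht, ?_⟩
  apply Units.inv_eq_of_mul_eq_one_right
  rw [htv, add_mul, mul_add, mul_add, one_mul, mul_one, one_mul,
    ← Matrix.mul_kronecker_mul, hY, Matrix.kronecker_zero, kron_neg_left]
  abel

theorem single_sq {n : ℕ} (u v : Fin n) (huv : u ≠ v) (c : F) :
    Matrix.single u v c * Matrix.single u v c = 0 :=
  Matrix.single_mul_single_of_ne _ _ _ _ huv.symm _

/-- FO-T4a -/
theorem all_dd_of_one (ha : 2 ≤ a) (hb : 3 ≤ b) (M : Subgroup (GL (Fin a × Fin b) F)) (hM : Over M)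
    (g : GL (Fin a × Fin b) F) (hg : g ∈ M) (p q : Fin a) (hpq : p ≠ q) (j2 j0 : Fin b) (hj : j2 ≠ j0)
    (hgv : (g : Matrix (Fin a × Fin b) (Fin a × Fin b) F) =
      1 + Matrix.single p q (1 : F) ⊗ₖ Matrix.single j2 j0 (1 : F)) :
    ∀ (p' q' : Fin a) (j j' : Fin b) (c : F), p' ≠ q' → j ≠ j' → ∀ t : GL (Fin a × Fin b) F,
      (t : Matrix (Fin a × Fin b) (Fin a × Fin b) F) = 1 + Matrix.single (p', j) (q', j') c → t ∈ M := by
  have h0 : InM M (Matrix.single p q 1) (Matrix.single j2 j0 1) := ⟨g, hg, hgv⟩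
  have hY0 : Matrix.single j2 j0 (1 : F) * Matrix.single j2 j0 1 = 0 := single_sq j2 j0 hj 1
  -- Step A: the first factor
  have hA : ∀ p' q' : Fin a, p' ≠ q' → InM M (Matrix.single p' q' 1) (Matrix.single j2 j0 1) := by
    have hneg : ∀ X, InM M X (Matrix.single j2 j0 1) → InM M (-X) (Matrix.single j2 j0 1) :=
      fun X h => h.negL hY0
    have hadd : ∀ X X', InM M X (Matrix.single j2 j0 1) → InM M X' (Matrix.single j2 j0 1) →
        InM M (X + X') (Matrix.single j2 j0 1) := fun X X' h h' => h.addL hY0 h'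
    have hconj : ∀ (α α' : Matrix (Fin a) (Fin a) F), α * α' = 1 → α' * α = 1 → α.det = 1 →
        ∀ X, InM M X (Matrix.single j2 j0 1) → InM M (α * X * α') (Matrix.single j2 j0 1) := by
      intro α α' h1 h2 hd X hX
      have := hX.conj hM α α' 1 1 h1 h2 (one_mul 1) (one_mul 1) hd Matrix.det_one
      rwa [one_mul, mul_one] at this
    by_cases ha3 : 3 ≤ a
    · intro p' q' hpq'
      exact conn ha3 (fun X => InM M X (Matrix.single j2 j0 1)) hadd hneg hconj p q hpq h0 p' q' hpq' 1
    · have ha2 : a = 2 := by omega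
      subst ha2
      intro p' q' hpq'
      have hswap := swap2 (fun X => InM M X (Matrix.single j2 j0 1)) hneg hconj p q hpq h0
      by_cases h1 : p' = p
      · have h2 : q' = q := by
          apply Fin.ext
          have e1 := Fin.val_ne_of_ne hpq
          have e2 := Fin.val_ne_of_ne hpq'
          rw [h1] at e2
          have := p.isLt; have := q.isLt; have := q'.isLt
          omega
        rw [h1, h2]; exact h0
      · have h2 : p' = q := by
          apply Fin.ext
          have e1 := Fin.val_ne_of_ne hpq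
          have e2 := Fin.val_ne_of_ne h1
          have := p.isLt; have := q.isLt; have := p'.isLt
          omega
        have h3 : q' = p := by
          apply Fin.ext
          have e1 := Fin.val_ne_of_ne hpq
          have e2 := Fin.val_ne_of_ne hpq'
          rw [h2] at e2
          have := p.isLt; have := q.isLt; have := q'.isLt
          omega
        rw [h2, h3]; exact hswap
  -- Step B: the second factor
  intro p' q' j j' c hpq' hjj' t ht
  have hX0 : Matrix.single p' q' (1 : F) * Matrix.single p' q' 1 = 0 := single_sq p' q' hpq' 1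
  have hneg : ∀ Y, InM M (Matrix.single p' q' 1) Y → InM M (Matrix.single p' q' 1) (-Y) :=
    fun Y h => h.negR hX0
  have hadd : ∀ Y Y', InM M (Matrix.single p' q' 1) Y → InM M (Matrix.single p' q' 1) Y' →
      InM M (Matrix.single p' q' 1) (Y + Y') := fun Y Y' h h' => h.addR hX0 h'
  have hconj : ∀ (β β' : Matrix (Fin b) (Fin b) F), β * β' = 1 → β' * β = 1 → β.det = 1 →
      ∀ Y, InM M (Matrix.single p' q' 1) Y → InM M (Matrix.single p' q' 1) (β * Y * β') := by
    intro β β' h1 h2 hd Y hY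
    have := hY.conj hM 1 1 β β' (one_mul 1) (one_mul 1) h1 h2 Matrix.det_one hd
    rwa [one_mul, mul_one] at this
  obtain ⟨t0, ht0, hv0⟩ := conn hb (fun Y => InM M (Matrix.single p' q' 1) Y) hadd hneg hconj
    j2 j0 hj (hA p' q' hpq') j j' hjj' c
  have : t = t0 := by
    apply Units.ext
    rw [ht, hv0, Matrix.single_kronecker_single, one_mul]
  rw [this]; exact ht0

end Cfsg.Agent.Lib.Helper29.S5637T4a
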