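import Mathlib
import Cfsg.Prelude.Def_GeometricClasses
import Cfsg.Agent.Lib.Helper29.AschCorA
import Cfsg.Agent.Lib.Helper29.AschCorB
import Cfsg.Agent.Lib.Helper29.AschCorC
import Cfsg.Agent.Lib.Helper17.S5775PRSIM
import Cfsg.Agent.H5.HubCorP2
import Cfsg.Agent.Lib.Helper24.HubCorS123
import Cfsg.Agent.Lib.Helper24.HubCorA2
import Cfsg.Agent.Lib.Helper24.HubCorA3
import Cfsg.Agent.Lib.Helper9.HubCorA1

/-!
# S5775 : the maximal subgroups of `SL₃(q)` from the hub S5630 (Aschbacher's theorem for `SLₙ`)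

`main` derives the list of S5775 from the statement of S5630 at `n = 3` (hypothesis `hub`) and the
exceptional containment for `q = 4` (hypothesis `hq4`, proved in `S5775Q4`).  Everything else is cited from
the shared hub-corollary library (helper29 AschCor, helper17 S5775PRSIM, helper5 HubCorP2, helper24 HubCor,
helper9 HubCorA1).
-/

set_option autoImplicit false
set_option linter.unusedSectionVars false
set_option linter.unusedVariables false

namespace Cfsg.Agent.Lib.Helper29.S5775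

open Matrix Cfsg.Geo

variable {F : Type*} [Field F] [Fintype F] {n : ℕ}

/-! ## the cited pieces, under the names of the skeleton -/

theorem hproper_of_max (hn : 3 ≤ n) (H : Subgroup (GL (Fin n) F))
    (hH : IsMaximalIn (specialLinear (Fin n) F) H) :
    H ⊔ (scalars (Fin n) F ⊓ specialLinear (Fin n) F) ≠ specialLinear (Fin n) F :=
  Cfsg.Agent.Lib.Helper29.AschCor.hproper_of_max hn H hH

theorem eq_of_le_member (H M : Subgroup (GL (Fin n) F))
    (hH : IsMaximalIn (specialLinear (Fin n) F) H) (hle : H ≤ M)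
    (hM : ¬ specialLinear (Fin n) F ≤ M) : H = M ⊓ specialLinear (Fin n) F :=
  Cfsg.Agent.Lib.Helper29.AschCor.eq_of_le_member H M hH hle hM

theorem not_sl_le_stab (hn : 2 ≤ n) (W : Submodule F (Fin n → F)) (h0 : W ≠ ⊥) (h1 : W ≠ ⊤) :
    ¬ specialLinear (Fin n) F ≤ subspaceStabilizer W :=
  Cfsg.Agent.Lib.Helper29.AschCor.not_sl_le_subspaceStabilizer hn W h0 h1

theorem not_sl_le_decomp {t m : ℕ} (D : Fin t → Submodule F (Fin n → F)) (hD : IsMDecomposition m D) :
    ¬ specialLinear (Fin n) F ≤ decompositionStabilizer D :=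
  Cfsg.Agent.Lib.Helper29.AschCor.not_sl_le_decompositionStabilizer D hD

theorem not_sl_le_fieldNormalizer (hn : 3 ≤ n) (r : ℕ) (hr : r.Prime)
    (K : Subalgebra F (Matrix (Fin n) (Fin n) F)) (hK : IsFieldSubalgebra r K) :
    ¬ specialLinear (Fin n) F ≤ subalgebraNormalizer K :=
  Cfsg.H5.HubCor.not_sl_le_subalgebraNormalizer hn hr K hK

theorem not_sl_le_subfield (hn : 2 ≤ n) (F₀ : Subfield F) (r : ℕ) (hr : r.Prime)
    (hc : Fintype.card F = Nat.card F₀ ^ r) (P : GL (Fin n) F) :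
    ¬ specialLinear (Fin n) F ≤ subfieldSubgroup F₀ P :=
  Cfsg.Agent.Lib.Helper29.AschCor.not_sl_le_subfieldSubgroup' hn F₀ r hr hc P

theorem not_sl_le_sympNormalizer (hn : 3 ≤ n) (r : ℕ) (R : Subgroup (GL (Fin n) F))
    (hR : IsLinearSymplecticTypeData r R) :
    ¬ specialLinear (Fin n) F ≤ subgroupNormalizer R :=
  Cfsg.Agent.Lib.Helper29.AschCor.not_sl_le_sympNormalizer hn r R hR

theorem not_sl_le_similarity (hn : 3 ≤ n) (f : (Fin n → F) → (Fin n → F) → F)
    (hadd : ∀ v x y, f v (x + y) = f v x + f v y) (hnd : IsNondegenerateForm f) :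
    ¬ specialLinear (Fin n) F ≤ similarityGroup f :=
  Cfsg.Agent.Lib.Helper17.S5775PRSIM.not_sl_le_similarity hn f hadd hnd

theorem not_sl_le_quadSimilarity (hn : 3 ≤ n) (Q : (Fin n → F) → F)
    (hQ : IsNondegenerateQuadraticForm Q) :
    ¬ specialLinear (Fin n) F ≤ quadSimilarityGroup Q :=
  Cfsg.Agent.Lib.Helper17.S5775PRSIM.not_sl_le_quadSimilarityGroup hn Q hQ

theorem decomp_dims {t m : ℕ} (D : Fin t → Submodule F (Fin n → F)) (hD : IsMDecomposition m D) :
    t * m = n :=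
  Cfsg.Agent.Lib.Helper9.HubCor.mul_eq_of_isMDecomposition D hD

theorem decomp_le_stab_of_card_two (hn : 2 ≤ n) (hq : Fintype.card F = 2) (D : Fin n → Submodule F (Fin n → F))
    (hD : IsMDecomposition 1 D) :
    ∃ W : Submodule F (Fin n → F), W ≠ ⊥ ∧ W ≠ ⊤ ∧ decompositionStabilizer D ≤ subspaceStabilizer W :=
  Cfsg.Agent.Lib.Helper24.HubCor.S1 hn hq D hD

theorem decomp_le_quad_of_card_three (hq : Fintype.card F = 3) (D : Fin n → Submodule F (Fin n → F))
    (hD : IsMDecomposition 1 D) :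
    ∃ Q : (Fin n → F) → F, IsNondegenerateQuadraticForm Q ∧
      decompositionStabilizer D ≤ quadSimilarityGroup Q :=
  Cfsg.Agent.Lib.Helper24.HubCor.S2 hq D hD

theorem decomp_le_unitary_of_card_four (hq : Fintype.card F = 4) (D : Fin n → Submodule F (Fin n → F))
    (hD : IsMDecomposition 1 D) :
    ∃ (σ : F ≃+* F) (f : (Fin n → F) → (Fin n → F) → F), IsUnitaryForm σ f ∧
      decompositionStabilizer D ≤ similarityGroup f :=
  Cfsg.Agent.Lib.Helper24.HubCor.S3 hq D hD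

theorem field_degree_dvd (hn : 1 ≤ n) (r : ℕ) (K : Subalgebra F (Matrix (Fin n) (Fin n) F))
    (hK : IsFieldSubalgebra r K) : r ∣ n :=
  Cfsg.Agent.Lib.Helper24.HubCor.dvd_of_isFieldSubalgebra K hK hn

theorem symp_odd_prime_dvd (hn : 2 ≤ n) (r : ℕ) (R : Subgroup (GL (Fin n) F))
    (hR : IsLinearSymplecticTypeData r R) (hodd : Odd r) : r ∣ n :=
  Cfsg.Agent.Lib.Helper24.HubCor.dvd_of_symplecticTypeData hn R hR

/-! ## assembly (helper29) -/

/-- the similarity-group members -/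
theorem not_sl_le_unitary (hn : 3 ≤ n) (σ : F ≃+* F) (f : (Fin n → F) → (Fin n → F) → F)
    (hf : IsUnitaryForm σ f) : ¬ specialLinear (Fin n) F ≤ similarityGroup f := by
  apply not_sl_le_similarity hn f _ hf.nondegenerate
  intro v x y
  rw [hf.herm v (x + y), hf.add_left, map_add, ← hf.herm, ← hf.herm]

/-- C6-THREE: in dimension 3 the data force `r = 3`, `q = p ≡ 1 mod 3` -/
theorem symp_three (r : ℕ) (R : Subgroup (GL (Fin 3) F)) (hR : IsLinearSymplecticTypeData r R) :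
    r = 3 ∧ ∃ p : ℕ, p.Prime ∧ Fintype.card F = p ∧ p % 3 = 1 := by
  obtain ⟨p, e, hrp, hmin, halt⟩ := hR.field
  rcases halt with ⟨hodd, hodde, hZ, -⟩ | ⟨-, -, -, h4, -⟩ | ⟨-, -, h2, -⟩
  · have hdvd : r ∣ 3 := symp_odd_prime_dvd (by norm_num) r R hR hodd
    have hr3 : r = 3 := by
      have hrprime := hR.symplecticType.prime
      exact (Nat.prime_dvd_prime_iff_eq hrprime Nat.prime_three).mp hdvd
    refine ⟨hr3, ?_⟩
    subst hr3
    obtain ⟨hp, hchar, hcard, hdiv, hminimal⟩ := hmin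
    rw [hZ] at hdiv hminimal
    have hp3 : p ≠ 3 := fun h => hrp h.symm
    -- `e = 1`
    have he : e = 1 := by
      have he0 : e ≠ 0 := by
        rintro rfl
        rw [pow_zero] at hcard
        have : 1 < Fintype.card F := Fintype.one_lt_card
        omega
      by_contra he1
      have he2 : 2 ≤ e := by omega
      rcases hodde with ⟨k, hk⟩
      have he3 : 2 < e := by omega
      -- `3 ∣ p ^ 2 - 1`
      have hmod : p % 3 = 1 ∨ p % 3 = 2 := by
        have h0 : p % 3 ≠ 0 := by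
          intro h0
          have : 3 ∣ p := Nat.dvd_of_mod_eq_zero h0
          exact hp3 ((Nat.prime_dvd_prime_iff_eq Nat.prime_three hp).mp this).symm
        omega
      have h3 : 3 ∣ p ^ 2 - 1 := by
        have hsq : p ^ 2 % 3 = 1 := by
          rcases hmod with h | h <;> simp [Nat.pow_mod, h]
        have hge : 1 ≤ p ^ 2 := Nat.one_le_pow _ _ hp.pos
        omega
      exact hminimal 2 (by norm_num) he3 h3
    subst he
    rw [pow_one] at hcard hdiv
    refine ⟨p, hp, hcard, ?_⟩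
    have hge : 2 ≤ p := hp.two_le
    omega
  · simp at h4
  · simp at h2

local notation "SL3" => specialLinear (Fin 3) F

/-- S5775 from the hub S5630 (taken as a hypothesis at `n = 3`) -/
theorem main
    (hub : ∀ H : Subgroup (GL (Fin 3) F), H ≤ specialLinear (Fin 3) F →
      H ⊔ (scalars (Fin 3) F ⊓ specialLinear (Fin 3) F) ≠ specialLinear (Fin 3) F →
      (∃ M : Subgroup (GL (Fin 3) F), InLinearClass 3 F M ∧ H ≤ M) ∨ InLinearResidualClass H)
    (hq4 : Fintype.card F = 4 → ∀ K : Subalgebra F (Matrix (Fin 3) (Fin 3) F), IsFieldSubalgebra 3 K →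
      ∃ (F₀ : Subfield F) (P : GL (Fin 3) F), Fintype.card F = Nat.card F₀ ^ 2 ∧
        subalgebraNormalizer K ⊓ specialLinear (Fin 3) F ≤ subfieldSubgroup F₀ P)
    (H : Subgroup (GL (Fin 3) F)) (hH : IsMaximalIn (specialLinear (Fin 3) F) H) :
    (∃ W : Submodule F (Fin 3 → F), W ≠ ⊥ ∧ W ≠ ⊤ ∧ H = subspaceStabilizer W ⊓ specialLinear (Fin 3) F) ∨
    (5 ≤ Fintype.card F ∧ ∃ D : Fin 3 → Submodule F (Fin 3 → F), IsMDecomposition 1 D ∧
      H = decompositionStabilizer D ⊓ specialLinear (Fin 3) F) ∨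
    (Fintype.card F ≠ 4 ∧ ∃ K : Subalgebra F (Matrix (Fin 3) (Fin 3) F), IsFieldSubalgebra 3 K ∧
      H = subalgebraNormalizer K ⊓ specialLinear (Fin 3) F) ∨
    (∃ (F₀ : Subfield F) (r : ℕ) (P : GL (Fin 3) F), r.Prime ∧ Fintype.card F = Nat.card F₀ ^ r ∧
      H = subfieldSubgroup F₀ P ⊓ specialLinear (Fin 3) F) ∨
    (∃ (p : ℕ) (R : Subgroup (GL (Fin 3) F)), p.Prime ∧ Fintype.card F = p ∧ p % 3 = 1 ∧
      IsLinearSymplecticTypeData 3 R ∧ H = subgroupNormalizer R ⊓ specialLinear (Fin 3) F) ∨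
    (Odd (Fintype.card F) ∧ ∃ Q : (Fin 3 → F) → F, IsNondegenerateQuadraticForm Q ∧
      H = quadSimilarityGroup Q ⊓ specialLinear (Fin 3) F) ∨
    (∃ (σ : F ≃+* F) (f : (Fin 3 → F) → (Fin 3 → F) → F), IsUnitaryForm σ f ∧
      H = similarityGroup f ⊓ specialLinear (Fin 3) F) ∨
    InLinearResidualClass H := by
  have h3 : (3 : ℕ) ≤ 3 := le_rfl
  rcases hub H hH.1.le (hproper_of_max h3 H hH) with ⟨M, hM, hHM⟩ | hres
  swap
  · exact Or.inr (Or.inr (Or.inr (Or.inr (Or.inr (Or.inr (Or.inr hres))))))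
  -- the exits
  have exitStab : ∀ W : Submodule F (Fin 3 → F), W ≠ ⊥ → W ≠ ⊤ → H ≤ subspaceStabilizer W →
      ∃ W : Submodule F (Fin 3 → F), W ≠ ⊥ ∧ W ≠ ⊤ ∧ H = subspaceStabilizer W ⊓ specialLinear (Fin 3) F :=
    fun W h0 h1 hle => ⟨W, h0, h1, eq_of_le_member H _ hH hle (not_sl_le_stab (by norm_num) W h0 h1)⟩
  have exitQuad : Odd (Fintype.card F) → ∀ Q : (Fin 3 → F) → F, IsNondegenerateQuadraticForm Q →
      H ≤ quadSimilarityGroup Q →
      (Odd (Fintype.card F) ∧ ∃ Q : (Fin 3 → F) → F, IsNondegenerateQuadraticForm Q ∧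
        H = quadSimilarityGroup Q ⊓ specialLinear (Fin 3) F) :=
    fun hodd Q hQ hle => ⟨hodd, Q, hQ, eq_of_le_member H _ hH hle (not_sl_le_quadSimilarity h3 Q hQ)⟩
  have exitUni : ∀ (σ : F ≃+* F) (f : (Fin 3 → F) → (Fin 3 → F) → F), IsUnitaryForm σ f →
      H ≤ similarityGroup f →
      ∃ (σ : F ≃+* F) (f : (Fin 3 → F) → (Fin 3 → F) → F), IsUnitaryForm σ f ∧
        H = similarityGroup f ⊓ specialLinear (Fin 3) F :=
    fun σ f hf hle => ⟨σ, f, hf, eq_of_le_member H _ hH hle (not_sl_le_unitary h3 σ f hf)⟩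
  have exitSubf : ∀ (F₀ : Subfield F) (r : ℕ) (P : GL (Fin 3) F), r.Prime →
      Fintype.card F = Nat.card F₀ ^ r → H ≤ subfieldSubgroup F₀ P →
      ∃ (F₀ : Subfield F) (r : ℕ) (P : GL (Fin 3) F), r.Prime ∧ Fintype.card F = Nat.card F₀ ^ r ∧
        H = subfieldSubgroup F₀ P ⊓ specialLinear (Fin 3) F :=
    fun F₀ r P hr hc hle => ⟨F₀, r, P, hr, hc,
      eq_of_le_member H _ hH hle (not_sl_le_subfield (by norm_num) F₀ r hr hc P)⟩
  rcases hM with ⟨W, h0, h1, rfl⟩ | ⟨W, U, h0, hWU, -, rfl⟩ | ⟨W, U, h0, hinf, hsup, hlt, rfl⟩ |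
    ⟨t, m, D, hD, rfl⟩ | ⟨r, K, hr, hK, rfl⟩ | ⟨n₁, n₂, e, P, h1, h2, rfl⟩ | ⟨F₀, r, P, hr, hc, rfl⟩ |
    ⟨r, R, hR, rfl⟩ | ⟨m, t, e, P, hm, ht, rfl⟩ | ⟨f, hf, heven, -, rfl⟩ | ⟨σ, f, hf, -, rfl⟩ |
    ⟨Q, hQ, hodd, -, rfl⟩
  · -- C1
    exact Or.inl (exitStab W h0 h1 hHM)
  · -- C1, flags
    exact Or.inl (exitStab W h0 (fun h => by rw [h] at hWU; exact not_top_lt hWU)
      (hHM.trans inf_le_left))
  · -- C1, complements
    refine Or.inl (exitStab W h0 ?_ (hHM.trans inf_le_left))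
    rintro rfl
    have hU : U = ⊥ := by rwa [top_inf_eq] at hinf
    rw [hU, finrank_bot] at hlt
    exact Nat.not_lt_zero _ hlt
  · -- C2
    have hdim := decomp_dims D hD
    have htwo := hD.two_le
    have hpos := hD.pos
    have ht3 : t = 3 := by
      have : t ∣ 3 := Dvd.intro _ hdim
      rcases (Nat.dvd_prime Nat.prime_three).mp this with h | h
      · omega
      · exact h
    subst ht3
    have hm1 : m = 1 := by omega
    subst hm1
    by_cases hq5 : 5 ≤ Fintype.card F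
    · exact Or.inr (Or.inl ⟨hq5, D, hD,
        eq_of_le_member H _ hH hHM (not_sl_le_decomp D hD)⟩)
    · have hq1 : 1 < Fintype.card F := Fintype.one_lt_card
      have hcases : Fintype.card F = 2 ∨ Fintype.card F = 3 ∨ Fintype.card F = 4 := by omega
      rcases hcases with hq | hq | hq
      · obtain ⟨W, h0, h1, hle⟩ := decomp_le_stab_of_card_two (by norm_num) hq D hD
        exact Or.inl (exitStab W h0 h1 (hHM.trans hle))
      · obtain ⟨Q, hQ, hle⟩ := decomp_le_quad_of_card_three hq D hD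
        exact Or.inr (Or.inr (Or.inr (Or.inr (Or.inr (Or.inl
          (exitQuad (by rw [hq]; decide) Q hQ (hHM.trans hle)))))))
      · obtain ⟨σ, f, hf, hle⟩ := decomp_le_unitary_of_card_four hq D hD
        exact Or.inr (Or.inr (Or.inr (Or.inr (Or.inr (Or.inr (Or.inl
          (exitUni σ f hf (hHM.trans hle))))))))
  · -- C3
    have hdvd := field_degree_dvd (by norm_num) r K hK
    have hr3 : r = 3 := (Nat.prime_dvd_prime_iff_eq hr Nat.prime_three).mp hdvd
    subst hr3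
    by_cases hq4' : Fintype.card F = 4
    · obtain ⟨F₀, P, hc, hle⟩ := hq4 hq4' K hK
      have hle' : H ≤ subfieldSubgroup F₀ P := by
        intro x hx
        exact hle ⟨hHM hx, hH.1.le hx⟩
      exact Or.inr (Or.inr (Or.inr (Or.inl (exitSubf F₀ 2 P Nat.prime_two hc hle'))))
    · exact Or.inr (Or.inr (Or.inl ⟨hq4', K, hK,
        eq_of_le_member H _ hH hHM (not_sl_le_fieldNormalizer h3 3 hr K hK)⟩))
  · -- C4 : impossible
    exfalso
    have hcard := Fintype.card_congr e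
    rw [Fintype.card_fin, Fintype.card_prod, Fintype.card_fin, Fintype.card_fin] at hcard
    have : n₁ ∣ 3 := Dvd.intro _ hcard.symm
    rcases (Nat.dvd_prime Nat.prime_three).mp this with h | h
    · omega
    · subst h
      have : n₂ = 1 := by omega
      omega
  · -- C5
    exact Or.inr (Or.inr (Or.inr (Or.inl (exitSubf F₀ r P hr hc hHM))))
  · -- C6
    obtain ⟨hr3, p, hp, hcard, hmod⟩ := symp_three r R hR
    subst hr3
    exact Or.inr (Or.inr (Or.inr (Or.inr (Or.inl ⟨p, R, hp, hcard, hmod, hR,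
      eq_of_le_member H _ hH hHM (not_sl_le_sympNormalizer h3 3 R hR)⟩))))
  · -- C7 : impossible
    exfalso
    have hcard := Fintype.card_congr e
    rw [Fintype.card_fin, Fintype.card_fun, Fintype.card_fin, Fintype.card_fin] at hcard
    have h9 : 3 ^ 2 ≤ m ^ t := by
      calc 3 ^ 2 ≤ m ^ 2 := Nat.pow_le_pow_left hm 2
        _ ≤ m ^ t := Nat.pow_le_pow_right (by omega) ht
    omega
  · -- C8 symplectic : impossible
    exfalso
    revert heven
    decide
  · -- C8 unitary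
    exact Or.inr (Or.inr (Or.inr (Or.inr (Or.inr (Or.inr (Or.inl (exitUni σ f hf hHM)))))))
  · -- C8 quadratic
    exact Or.inr (Or.inr (Or.inr (Or.inr (Or.inr (Or.inl (exitQuad hodd Q hQ hHM))))))

end Cfsg.Agent.Lib.Helper29.S5775
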