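import Mathlib
import Cfsg.Agent.Lib.Helper6.FFour
import Cfsg.Agent.Lib.Helper29.S5796CDefs

/-!
# S5796 (SU_5), clause `q = 2`: the finite checks of the certificate `11:5 < L_2(11) < SU_5(2)`  (helper29)
-/

set_option autoImplicit false
set_option maxRecDepth 100000

namespace Cfsg.Agent.Lib.Helper29.S5796C

open Matrix Cfsg.Agent.Lib.Helper6.FFour

/-! ### `memT` only depends on the first eleven values -/

theorem sigl_congr (s s' : ℕ → K4) (h : ∀ d < 11, s d = s' d) : sigl s = sigl s' := by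
  unfold sigl
  apply List.map_congr_left
  intro d hd
  exact h d (List.mem_range.mp hd)

theorem memT_congr (s s' : ℕ → K4) (h : ∀ d < 11, s d = s' d) : memT s = memT s' := by
  unfold memT
  rw [sigl_congr s s' h]

theorem memT_iff (s : ℕ → K4) : memT s = true ↔ sigl s ∈ T0 := by
  unfold memT
  exact List.contains_iff_mem

theorem sigl_getD (s : ℕ → K4) (e : ℕ) (he : e < 11) : (sigl s).getD e K4.o = s e := by
  interval_cases e <;> rfl

/-! ### `T0` is closed under `d ↦ r d`, `r ∈ {1, 3, 4, 5, 9}`, and `g1` is invariant -/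

/-- the list `l` reindexed by `d ↦ r d` -/
def permL (r : ℕ) (l : List K4) : List K4 := (List.range 11).map fun d => l.getD ((r * d) % 11) K4.o

theorem T0_closed : ∀ l ∈ T0, ∀ r ∈ [1, 3, 4, 5, 9], permL r l ∈ T0 := by decide

theorem sigl_perm (s : ℕ → K4) (r : ℕ) : sigl (fun d => s ((r * d) % 11)) = permL r (sigl s) := by
  unfold permL
  rw [sigl]
  apply List.map_congr_left
  intro d _
  exact (sigl_getD s _ (Nat.mod_lt _ (by norm_num))).symm

theorem memT_perm (s : ℕ → K4) (hs : memT s = true) (r : ℕ) (hr : r ∈ ({1, 3, 4, 5, 9} : Finset ℕ)) :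
    memT (fun d => s ((r * d) % 11)) = true := by
  rw [memT_iff] at hs ⊢
  rw [sigl_perm]
  apply T0_closed _ hs
  simp only [Finset.mem_insert, Finset.mem_singleton] at hr
  simp only [List.mem_cons, List.not_mem_nil, or_false]
  exact hr

theorem g1_perm : ∀ r ∈ [1, 3, 4, 5, 9], ∀ d ∈ List.range 11, g1 ((r * d) % 11) = g1 d := by decide

theorem g1_perm' (r : ℕ) (hr : r ∈ ({1, 3, 4, 5, 9} : Finset ℕ)) (d : ℕ) (hd : d < 11) :
    g1 ((r * d) % 11) = g1 d := by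
  apply g1_perm r _ d (List.mem_range.mpr hd)
  simp only [Finset.mem_insert, Finset.mem_singleton] at hr
  simp only [List.mem_cons, List.not_mem_nil, or_false]
  exact hr

/-! ### the involution `t0` preserves the 55-set -/

/-- the Boolean form of the invariance of `O` under `t0` -/
def tinvB : Bool :=
  all5 fun a0 a1 a2 a3 a4 =>
    !(memT (sg g1 a0 a1 a2 a3 a4)) ||
      memT (sg g1 (t0r0 a0 a1 a2 a3 a4) (t0r1 a0 a1 a2 a3 a4) (t0r2 a0 a1 a2 a3 a4) (t0r3 a0 a1 a2 a3 a4)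
        (t0r4 a0 a1 a2 a3 a4))

theorem tinvB_eq : tinvB = true := by decide +kernel

theorem tinv (a0 a1 a2 a3 a4 : K4) (h : memT (sg g1 a0 a1 a2 a3 a4) = true) :
    memT (sg g1 (t0r0 a0 a1 a2 a3 a4) (t0r1 a0 a1 a2 a3 a4) (t0r2 a0 a1 a2 a3 a4) (t0r3 a0 a1 a2 a3 a4)
        (t0r4 a0 a1 a2 a3 a4)) = true := by
  have := all5_spec _ tinvB_eq a0 a1 a2 a3 a4
  simp only [Bool.or_eq_true, Bool.not_eq_true'] at this
  rcases this with h' | h'
  · rw [h] at h'; exact absurd h' (by decide)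
  · exact h'

/-! ### the matrices -/

theorem t0_unitary : t0ᵀ * G1 * t0.map cj = G1 := by decide
theorem t0_sq : t0 * t0 = 1 := by decide
theorem tau0_unitary : tau0ᵀ * G1 * tau0.map cj = G1 := by decide
theorem tau0_sq : tau0 * tau0 = 1 := by decide

theorem t0_mulVec (a : Fin 5 → K4) :
    t0 *ᵥ a = ![t0r0 (a 0) (a 1) (a 2) (a 3) (a 4), t0r1 (a 0) (a 1) (a 2) (a 3) (a 4),
      t0r2 (a 0) (a 1) (a 2) (a 3) (a 4), t0r3 (a 0) (a 1) (a 2) (a 3) (a 4),
      t0r4 (a 0) (a 1) (a 2) (a 3) (a 4)] := by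
  funext j
  fin_cases j <;>
    simp [t0, Matrix.mulVec, dotProduct, Fin.sum_univ_five, t0r0, t0r1, t0r2, t0r3, t0r4,
      show K4.o = 0 from rfl, show K4.i = 1 from rfl]

theorem tau0_mulVec (a : Fin 5 → K4) :
    tau0 *ᵥ a = ![tau0r0 (a 0) (a 1) (a 2) (a 3) (a 4), tau0r1 (a 0) (a 1) (a 2) (a 3) (a 4),
      tau0r2 (a 0) (a 1) (a 2) (a 3) (a 4), tau0r3 (a 0) (a 1) (a 2) (a 3) (a 4),
      tau0r4 (a 0) (a 1) (a 2) (a 3) (a 4)] := by
  funext j
  fin_cases j <;>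
    simp [tau0, Matrix.mulVec, dotProduct, Fin.sum_univ_five, tau0r0, tau0r1, tau0r2, tau0r3, tau0r4,
      show K4.o = 0 from rfl, show K4.i = 1 from rfl]

/-! ### the two witnesses -/

/-- `t0 e₀ = (0, ω, ω, ω, ω²)` does not have the signature `g1` -/
theorem t0_e0_sig : ∃ d < 11, sg g1 (t0r0 K4.i K4.o K4.o K4.o K4.o) (t0r1 K4.i K4.o K4.o K4.o K4.o)
    (t0r2 K4.i K4.o K4.o K4.o K4.o) (t0r3 K4.i K4.o K4.o K4.o K4.o) (t0r4 K4.i K4.o K4.o K4.o K4.o) d
      ≠ g1 d := by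
  decide

/-- the signature of `e₀` is `g1` -/
theorem sg_e0 : ∀ d ∈ List.range 11, sg g1 K4.i K4.o K4.o K4.o K4.o d = g1 d := by decide

/-- `a* = (0, 1, 0, ω², ω)` lies in `O` -/
theorem astar_mem : memT (sg g1 K4.o K4.i K4.o K4.v K4.w) = true := by decide

/-- `τ0 a*` does not lie in `O` -/
theorem tau0_astar : memT (sg g1 (tau0r0 K4.o K4.i K4.o K4.v K4.w) (tau0r1 K4.o K4.i K4.o K4.v K4.w)
    (tau0r2 K4.o K4.i K4.o K4.v K4.w) (tau0r3 K4.o K4.i K4.o K4.v K4.w)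
    (tau0r4 K4.o K4.i K4.o K4.v K4.w)) = false := by decide

end Cfsg.Agent.Lib.Helper29.S5796C
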