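import Mathlib
import Cfsg.Prelude.Def_GeometricClasses
import Cfsg.Prelude.Def_LieClassical
import Cfsg.Agent.Lib.Helper6.FFour
import Cfsg.Agent.Lib.Helper29.S5796CDefs

/-!
# S5796 (SU_5), clause `q = 2`, piece X5-T: a unitary involution given in coordinates  (helper29)
-/

set_option autoImplicit false

namespace Cfsg.Agent.Lib.Helper29.S5796XT

open Matrix Cfsg Cfsg.Geo Cfsg.Agent.Lib.Helper6.FFour Cfsg.Agent.Lib.Helper29.S5796C

variable {F : Type*} [Field F] [Fintype F]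

/-- the vector with coordinates `a` in the frame `ζ^i v` -/
def emb (ζ : Matrix (Fin 5) (Fin 5) F) (v a : Fin 5 → F) : Fin 5 → F :=
  ∑ i : Fin 5, a i • ((ζ ^ (i : ℕ)) *ᵥ v)

/-- the signature `d ↦ h(ζ^d u, u)` -/
def sigF (ζ : Matrix (Fin 5) (Fin 5) F) (u : Fin 5 → F) (d : ℕ) : F :=
  hermForm 5 F 2 ((ζ ^ d) *ᵥ u) u

omit [Fintype F] in
theorem emb_eq_mulVec (ζ : Matrix (Fin 5) (Fin 5) F) (v a : Fin 5 → F) :
    emb ζ v a = (Matrix.of fun i j : Fin 5 => ((ζ ^ (j : ℕ)) *ᵥ v) i) *ᵥ a := by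
  funext i
  simp only [emb, Finset.sum_apply, Pi.smul_apply, smul_eq_mul, Matrix.mulVec, dotProduct, Matrix.of_apply]
  apply Finset.sum_congr rfl
  intro j _
  ring

theorem two_eq_zero_of_card (hF : Fintype.card F = 2 ^ 2) : (2 : F) = 0 := by
  have h4 : ((Fintype.card F : ℕ) : F) = 0 := Nat.cast_card_eq_zero F
  rw [hF] at h4
  have h5 : (2 : F) * 2 = 0 := by
    have : ((2 ^ 2 : ℕ) : F) = 2 * 2 := by norm_num
    rw [← this]; exact h4
  rcases mul_self_eq_zero.mp h5 with h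
  exact h

omit [Fintype F] in
theorem sum_sq_char2 (h2 : (2 : F) = 0) {ι : Type*} (s : Finset ι) (f : ι → F) :
    (∑ i ∈ s, f i) ^ 2 = ∑ i ∈ s, (f i) ^ 2 := by
  classical
  induction s using Finset.induction_on with
  | empty => simp
  | insert a s ha ih =>
    rw [Finset.sum_insert ha, Finset.sum_insert ha, add_sq, ih]
    linear_combination (f a * ∑ i ∈ s, f i) * h2

omit [Fintype F] in
theorem mulVec_dot (A : Matrix (Fin 5) (Fin 5) F) (a w : Fin 5 → F) :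
    (A *ᵥ a) ⬝ᵥ w = a ⬝ᵥ (Aᵀ *ᵥ w) := by
  rw [dotProduct_comm, Matrix.dotProduct_mulVec, dotProduct_comm, Matrix.mulVec_transpose]

/-- **X5-T** a unitary involution given in coordinates. -/
theorem exists_elem (hF : Fintype.card F = 2 ^ 2) (φ : K4 →+* F) (ζ : Matrix (Fin 5) (Fin 5) F)
    (v : Fin 5 → F)
    (hform : ∀ a b : Fin 5 → F,
      hermForm 5 F 2 (emb ζ v a) (emb ζ v b) = a ⬝ᵥ ((G1.map φ) *ᵥ (fun j => b j ^ 2)))
    (hinj : ∀ a : Fin 5 → F, emb ζ v a = 0 → a = 0)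
    (M : Matrix (Fin 5) (Fin 5) K4) (hM1 : Mᵀ * G1 * M.map cj = G1) (hM2 : M * M = 1) :
    ∃ g : GL (Fin 5) F, g ∈ GU 5 F 2 ∧ g ∈ specialLinear (Fin 5) F ∧
      ∀ a : Fin 5 → F, (g : Matrix (Fin 5) (Fin 5) F) *ᵥ (emb ζ v a) = emb ζ v ((M.map φ) *ᵥ a) := by
  classical
  have h2 : (2 : F) = 0 := two_eq_zero_of_card hF
  set P : Matrix (Fin 5) (Fin 5) F := Matrix.of fun i j : Fin 5 => ((ζ ^ (j : ℕ)) *ᵥ v) i with hP
  have hemb : ∀ a, emb ζ v a = P *ᵥ a := emb_eq_mulVec ζ v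
  have hPinj : Function.Injective P.mulVec := by
    intro a b hab
    have : emb ζ v (a - b) = 0 := by
      rw [hemb, mulVec_sub, hab, sub_self]
    exact sub_eq_zero.mp (hinj _ this)
  have hPu : IsUnit P := Matrix.mulVec_injective_iff_isUnit.mp hPinj
  have hPdet : IsUnit P.det := (Matrix.isUnit_iff_isUnit_det P).mp hPu
  have hP1 : P⁻¹ * P = 1 := Matrix.nonsing_inv_mul P hPdet
  have hP2 : P * P⁻¹ = 1 := Matrix.mul_nonsing_inv P hPdet
  set N : Matrix (Fin 5) (Fin 5) F := M.map φ with hN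
  have hNN : N * N = 1 := by
    rw [hN, ← Matrix.map_mul, hM2, Matrix.map_one _ (map_zero φ) (map_one φ)]
  have hgg : (P * N * P⁻¹) * (P * N * P⁻¹) = 1 := by
    calc (P * N * P⁻¹) * (P * N * P⁻¹) = P * N * (P⁻¹ * P) * N * P⁻¹ := by simp only [mul_assoc]
      _ = 1 := by rw [hP1, mul_one, mul_assoc P N N, hNN, mul_one, hP2]
  let g : GL (Fin 5) F := ⟨P * N * P⁻¹, P * N * P⁻¹, hgg, hgg⟩
  have hgact : ∀ a : Fin 5 → F, (g : Matrix (Fin 5) (Fin 5) F) *ᵥ (emb ζ v a) = emb ζ v (N *ᵥ a) := by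
    intro a
    show (P * N * P⁻¹) *ᵥ (emb ζ v a) = emb ζ v (N *ᵥ a)
    rw [hemb, hemb, mulVec_mulVec, mul_assoc, mul_assoc, hP1, mul_one, mulVec_mulVec]
  have hsurj : ∀ u : Fin 5 → F, ∃ a : Fin 5 → F, u = emb ζ v a := by
    intro u
    refine ⟨P⁻¹ *ᵥ u, ?_⟩
    rw [hemb, mulVec_mulVec, hP2, one_mulVec]
  -- the Frobenius twist of `N`
  have hNsq : ∀ b : Fin 5 → F, (fun j => (N *ᵥ b) j ^ 2) = ((M.map cj).map φ) *ᵥ (fun j => b j ^ 2) := by
    intro b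
    funext j
    simp only [Matrix.mulVec, dotProduct]
    rw [sum_sq_char2 h2]
    apply Finset.sum_congr rfl
    intro k _
    simp only [hN, Matrix.map_apply, cj, map_mul]
    ring
  have hMG : Nᵀ * (G1.map φ) * ((M.map cj).map φ) = G1.map φ := by
    rw [hN, ← Matrix.transpose_map, ← Matrix.map_mul, ← Matrix.map_mul, hM1]
  refine ⟨g, ?_, ?_, hgact⟩
  · -- unitary
    intro x y
    obtain ⟨a, rfl⟩ := hsurj x
    obtain ⟨b, rfl⟩ := hsurj y
    show hermForm 5 F 2 ((g : Matrix (Fin 5) (Fin 5) F) *ᵥ emb ζ v a)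
      ((g : Matrix (Fin 5) (Fin 5) F) *ᵥ emb ζ v b) = _
    rw [hgact, hgact, hform, hform, hNsq, mulVec_dot, mulVec_mulVec, mulVec_mulVec, hMG]
  · -- determinant one
    have hgm : (g : Matrix (Fin 5) (Fin 5) F) = P * N * P⁻¹ := rfl
    have hd : (g : Matrix (Fin 5) (Fin 5) F).det * (g : Matrix (Fin 5) (Fin 5) F).det = 1 := by
      rw [← Matrix.det_mul, hgm, hgg, Matrix.det_one]
    have h0 : ((g : Matrix (Fin 5) (Fin 5) F).det - 1) * ((g : Matrix (Fin 5) (Fin 5) F).det - 1) = 0 := by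
      linear_combination hd - (g : Matrix (Fin 5) (Fin 5) F).det * h2 + h2
    have hdet : (g : Matrix (Fin 5) (Fin 5) F).det = 1 := sub_eq_zero.mp (mul_self_eq_zero.mp h0)
    unfold specialLinear
    rw [MonoidHom.mem_ker]
    apply Units.ext
    rw [Matrix.GeneralLinearGroup.val_det_apply]
    exact hdet

end Cfsg.Agent.Lib.Helper29.S5796XT
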