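import Mathlib
import Cfsg.Prelude.Def_GeometricClasses
import Cfsg.Prelude.Def_LieClassical
import Cfsg.Agent.Lib.Helper6.FFour
import Cfsg.Agent.Lib.Helper2.S5796X5A
import Cfsg.Agent.Lib.Helper2.S5796X5B
import Cfsg.Agent.Lib.Helper26.S5796XE
import Cfsg.Agent.Lib.Helper29.S5796CDefs
import Cfsg.Agent.Lib.Helper29.S5796CChk
import Cfsg.Agent.Lib.Helper29.S5796XT

/-!
# S5796 (SU_5), clause `q = 2`: `N(K) ∩ SU_5(2) = 11:5` is not maximal  (helper29)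

`11:5 < L_2(11) < SU_5(2)`: in the coordinates `ζ^i v` (with `h(ζ^d v, v) = Tr ζ^d`) the stabiliser `X`
of the 55-point set `O` of vectors whose signature `d ↦ h(ζ^d u, u)` lies in `T0` contains `N(K) ∩ SU`
and the extra involution `t0`, but not the unitary transvection `τ0`.

Pieces: X5-A `exists_zeta` and X5-N `exists_normalized` by helper2, X5-E `sig_emb` / `form_emb` by helper26,
X5-T `exists_elem` and the finite checks (`S5796CChk`) by helper29.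
-/

set_option autoImplicit false

namespace Cfsg.Agent.Lib.Helper29.S5796X

open Matrix Cfsg Cfsg.Geo Cfsg.Agent.Lib.Helper6.FFour Cfsg.Agent.Lib.Helper29.S5796C
open Cfsg.Agent.Lib.Helper29.S5796XT

variable {F : Type*} [Field F] [Fintype F]

/-! ### the farmed-out pieces -/

theorem exists_normalized (hF : Fintype.card F = 2 ^ 2) (ζ : Matrix (Fin 5) (Fin 5) F) (ω : F)
    (hω : ω ^ 2 = ω + 1) (h2 : (2 : F) = 0) (hz : ζ ^ 11 = 1)
    (hquint : ζ ^ 5 + ω • ζ ^ 4 + ζ ^ 3 + ζ ^ 2 + (ω + 1) • ζ + 1 = 0)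
    (hadj : ∀ u v : Fin 5 → F, hermForm 5 F 2 (ζ *ᵥ u) v = hermForm 5 F 2 u ((ζ ^ 10) *ᵥ v))
    (hind : ∀ v : Fin 5 → F, v ≠ 0 → ∀ c : Fin 5 → F,
      (∑ i : Fin 5, c i • ((ζ ^ (i : ℕ)) *ᵥ v)) = 0 → c = 0) :
    ∃ v : Fin 5 → F, ∀ d < 11, sigF ζ v d = toF ω hω h2 (g1 d) :=
  Cfsg.Agent.Lib.Helper2.S5796X5B.exists_normalized hF ζ ω hω h2 hz hquint hadj hind

theorem sig_emb (hF : Fintype.card F = 2 ^ 2) (φ : K4 →+* F) (ζ : Matrix (Fin 5) (Fin 5) F) (hz : ζ ^ 11 = 1)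
    (hadj : ∀ u v : Fin 5 → F, hermForm 5 F 2 (ζ *ᵥ u) v = hermForm 5 F 2 u ((ζ ^ 10) *ᵥ v))
    (v : Fin 5 → F) (γ : ℕ → K4) (hv : ∀ d < 11, sigF ζ v d = φ (γ d)) (a : Fin 5 → K4) (d : ℕ) :
    sigF ζ (emb ζ v (fun i => φ (a i))) d = φ (sg γ (a 0) (a 1) (a 2) (a 3) (a 4) (d % 11)) :=
  Cfsg.Agent.Lib.Helper26.S5796XE.sig_emb hF φ ζ hz hadj v γ hv a d

theorem form_emb (hF : Fintype.card F = 2 ^ 2) (φ : K4 →+* F) (ζ : Matrix (Fin 5) (Fin 5) F) (hz : ζ ^ 11 = 1)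
    (hadj : ∀ u v : Fin 5 → F, hermForm 5 F 2 (ζ *ᵥ u) v = hermForm 5 F 2 u ((ζ ^ 10) *ᵥ v))
    (v : Fin 5 → F) (hv : ∀ d < 11, sigF ζ v d = φ (g1 d)) (a b : Fin 5 → F) :
    hermForm 5 F 2 (emb ζ v a) (emb ζ v b) = a ⬝ᵥ ((G1.map φ) *ᵥ (fun j => b j ^ 2)) :=
  Cfsg.Agent.Lib.Helper26.S5796XE.form_emb hF φ ζ hz hadj v hv a b

/-! ### generalities on signatures -/

theorem sigF_mod (ζ : Matrix (Fin 5) (Fin 5) F) (hz : ζ ^ 11 = 1) (u : Fin 5 → F) (d : ℕ) :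
    sigF ζ u d = sigF ζ u (d % 11) := by
  unfold sigF
  conv_lhs => rw [← Nat.div_add_mod d 11, pow_add, pow_mul, hz, one_pow, one_mul]

theorem mem_GU_iff (g : GL (Fin 5) F) :
    g ∈ GU 5 F 2 ↔ ∀ u v : Fin 5 → F,
      hermForm 5 F 2 ((g : Matrix (Fin 5) (Fin 5) F) *ᵥ u) ((g : Matrix (Fin 5) (Fin 5) F) *ᵥ v) =
        hermForm 5 F 2 u v := Iff.rfl

theorem sigF_conj (ζ : Matrix (Fin 5) (Fin 5) F) (g : GL (Fin 5) F) (hg : g ∈ GU 5 F 2) (r : ℕ)
    (hr : ((g⁻¹ : GL (Fin 5) F) : Matrix (Fin 5) (Fin 5) F) * ζ * (g : Matrix (Fin 5) (Fin 5) F) = ζ ^ r)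
    (u : Fin 5 → F) (d : ℕ) :
    sigF ζ ((g : Matrix (Fin 5) (Fin 5) F) *ᵥ u) d = sigF ζ u (r * d) := by
  have h1 : ζ * (g : Matrix (Fin 5) (Fin 5) F) = (g : Matrix (Fin 5) (Fin 5) F) * ζ ^ r := by
    rw [← hr, ← mul_assoc, ← mul_assoc, ← Units.val_mul, mul_inv_cancel, Units.val_one, one_mul]
  have h2 : ∀ d : ℕ, ζ ^ d * (g : Matrix (Fin 5) (Fin 5) F) =
      (g : Matrix (Fin 5) (Fin 5) F) * (ζ ^ r) ^ d := by
    intro d
    induction d with
    | zero => simp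
    | succ n ih => rw [pow_succ, mul_assoc, h1, ← mul_assoc, ih, mul_assoc, ← pow_succ]
  unfold sigF
  rw [mulVec_mulVec, h2, ← mulVec_mulVec, (mem_GU_iff g).mp hg, pow_mul]

/-- the 55-point set `O`, intrinsically -/
def inO (φ : K4 →+* F) (ζ : Matrix (Fin 5) (Fin 5) F) (u : Fin 5 → F) : Prop :=
  ∃ s : ℕ → K4, memT s = true ∧ ∀ d < 11, sigF ζ u d = φ (s d)

/-- the stabiliser of `O` in `GL_5(F)` -/
def stabO (φ : K4 →+* F) (ζ : Matrix (Fin 5) (Fin 5) F) : Subgroup (GL (Fin 5) F) where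
  carrier := {g | ∀ u : Fin 5 → F, inO φ ζ ((g : Matrix (Fin 5) (Fin 5) F) *ᵥ u) ↔ inO φ ζ u}
  mul_mem' {a b} ha hb := by
    intro u
    rw [Units.val_mul, ← mulVec_mulVec, ha, hb]
  one_mem' := by
    intro u
    simp
  inv_mem' {a} ha := by
    intro u
    rw [← ha (((a⁻¹ : GL (Fin 5) F) : Matrix (Fin 5) (Fin 5) F) *ᵥ u), mulVec_mulVec, ← Units.val_mul,
      mul_inv_cancel, Units.val_one, one_mulVec]

theorem inO_of_normalizer (φ : K4 →+* F) (ζ : Matrix (Fin 5) (Fin 5) F) (hz : ζ ^ 11 = 1)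
    (g : GL (Fin 5) F) (hg : g ∈ GU 5 F 2) (r : ℕ) (hr : r ∈ ({1, 3, 4, 5, 9} : Finset ℕ))
    (hconj : ((g⁻¹ : GL (Fin 5) F) : Matrix (Fin 5) (Fin 5) F) * ζ * (g : Matrix (Fin 5) (Fin 5) F) = ζ ^ r)
    (u : Fin 5 → F) (hu : inO φ ζ u) : inO φ ζ ((g : Matrix (Fin 5) (Fin 5) F) *ᵥ u) := by
  obtain ⟨s, hs, hsu⟩ := hu
  refine ⟨fun d => s ((r * d) % 11), memT_perm s hs r hr, ?_⟩
  intro d _
  rw [sigF_conj ζ g hg r hconj, sigF_mod ζ hz, hsu _ (Nat.mod_lt _ (by norm_num))]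


/-! ### coordinates -/

theorem phi_bijective (hF : Fintype.card F = 2 ^ 2) (φ : K4 →+* F) : Function.Bijective φ := by
  rw [Fintype.bijective_iff_injective_and_card]
  refine ⟨φ.injective, ?_⟩
  rw [hF]; rfl

theorem emb_surjective (ζ : Matrix (Fin 5) (Fin 5) F) (v : Fin 5 → F)
    (hinj : ∀ a : Fin 5 → F, emb ζ v a = 0 → a = 0) (u : Fin 5 → F) : ∃ a : Fin 5 → F, u = emb ζ v a := by
  set P : Matrix (Fin 5) (Fin 5) F := Matrix.of fun i j : Fin 5 => ((ζ ^ (j : ℕ)) *ᵥ v) i with hP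
  have hi : Function.Injective P.mulVecLin := by
    rw [← LinearMap.ker_eq_bot, LinearMap.ker_eq_bot']
    intro a ha
    apply hinj
    rw [emb_eq_mulVec]
    exact ha
  have hs : Function.Surjective P.mulVecLin := LinearMap.injective_iff_surjective.mp hi
  obtain ⟨a, ha⟩ := hs u
  refine ⟨a, ?_⟩
  rw [emb_eq_mulVec]
  exact ha.symm

theorem emb_surjective' (hF : Fintype.card F = 2 ^ 2) (φ : K4 →+* F) (ζ : Matrix (Fin 5) (Fin 5) F)
    (v : Fin 5 → F) (hinj : ∀ a : Fin 5 → F, emb ζ v a = 0 → a = 0) (u : Fin 5 → F) :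
    ∃ a : Fin 5 → K4, u = emb ζ v (fun i => φ (a i)) := by
  obtain ⟨a, ha⟩ := emb_surjective ζ v hinj u
  have hsur := (phi_bijective hF φ).2
  choose b hb using hsur
  refine ⟨fun i => b (a i), ?_⟩
  rw [ha]
  congr 1
  funext i
  exact (hb (a i)).symm

theorem vec_eta (a : Fin 5 → K4) : a = ![a 0, a 1, a 2, a 3, a 4] := by
  funext i
  fin_cases i <;> rfl

/-! ### the main theorem -/

theorem singer_not_maximal (hF : Fintype.card F = 2 ^ 2) (K : Subalgebra F (Matrix (Fin 5) (Fin 5) F))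
    (hK : IsFieldSubalgebra 5 K) (hadjK : IsAdjointClosedFor (hermForm 5 F 2) K) :
    ∃ X : Subgroup (GL (Fin 5) F),
      subalgebraNormalizer K ⊓ (GU 5 F 2 ⊓ specialLinear (Fin 5) F) < X ∧
        X < GU 5 F 2 ⊓ specialLinear (Fin 5) F := by
  obtain ⟨ζ, ω, _, hω, hz, hquint, hadj, hnorm, hind⟩ :=
    Cfsg.Agent.Lib.Helper2.S5796X5A.exists_zeta hF K hK hadjK
  have h2 : (2 : F) = 0 := two_eq_zero_of_card hF
  set φ : K4 →+* F := toF ω hω h2 with hφ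
  have hφi : Function.Injective φ := φ.injective
  obtain ⟨v, hv⟩ := exists_normalized hF ζ ω hω h2 hz hquint hadj hind
  have hv0 : v ≠ 0 := by
    intro h0
    have := hv 0 (by norm_num)
    rw [h0] at this
    simp only [sigF, pow_zero, one_mulVec, hermForm, Pi.zero_apply, zero_mul, Finset.sum_const_zero] at this
    have h1 : φ (g1 0) = 1 := map_one φ
    rw [h1] at this
    exact zero_ne_one this
  have hinj : ∀ a : Fin 5 → F, emb ζ v a = 0 → a = 0 := hind v hv0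
  have hsig : ∀ (a : Fin 5 → K4) (d : ℕ), sigF ζ (emb ζ v (fun i => φ (a i))) d =
      φ (sg g1 (a 0) (a 1) (a 2) (a 3) (a 4) (d % 11)) := sig_emb hF φ ζ hz hadj v g1 hv
  have hform := form_emb hF φ ζ hz hadj v hv
  obtain ⟨t, htU, htS, htact⟩ := exists_elem hF φ ζ v hform hinj t0 t0_unitary t0_sq
  obtain ⟨τ, hτU, hτS, hτact⟩ := exists_elem hF φ ζ v hform hinj tau0 tau0_unitary tau0_sq
  have hsurj := emb_surjective' hF φ ζ v hinj
  -- membership in `O` in coordinates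
  have hO : ∀ a : Fin 5 → K4, inO φ ζ (emb ζ v (fun i => φ (a i))) ↔
      memT (sg g1 (a 0) (a 1) (a 2) (a 3) (a 4)) = true := by
    intro a
    constructor
    · rintro ⟨s, hs, hsu⟩
      rw [← hs]
      apply memT_congr
      intro d hd
      apply hφi
      rw [← hsu d hd, hsig a d, Nat.mod_eq_of_lt hd]
    · intro h
      refine ⟨_, h, ?_⟩
      intro d hd
      rw [hsig a d, Nat.mod_eq_of_lt hd]
  -- the action of `t` and `τ` in coordinates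
  have hmap : ∀ (M : Matrix (Fin 5) (Fin 5) K4) (a : Fin 5 → K4),
      (M.map φ) *ᵥ (fun i => φ (a i)) = fun i => φ ((M *ᵥ a) i) := by
    intro M a
    funext i
    exact (RingHom.map_mulVec φ M a i).symm
  have htact' : ∀ a : Fin 5 → K4, (t : Matrix (Fin 5) (Fin 5) F) *ᵥ emb ζ v (fun i => φ (a i)) =
      emb ζ v (fun i => φ ((t0 *ᵥ a) i)) := by
    intro a
    rw [htact, hmap]
  have hτact' : ∀ a : Fin 5 → K4, (τ : Matrix (Fin 5) (Fin 5) F) *ᵥ emb ζ v (fun i => φ (a i)) =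
      emb ζ v (fun i => φ ((tau0 *ᵥ a) i)) := by
    intro a
    rw [hτact, hmap]
  -- `t` is an involution preserving `O`
  have htt : ∀ u : Fin 5 → F, (t : Matrix (Fin 5) (Fin 5) F) *ᵥ ((t : Matrix (Fin 5) (Fin 5) F) *ᵥ u) = u := by
    intro u
    obtain ⟨a, rfl⟩ := hsurj u
    rw [htact', htact']
    congr 2
    funext i
    rw [mulVec_mulVec, t0_sq, one_mulVec]
  have htO : ∀ u : Fin 5 → F, inO φ ζ u → inO φ ζ ((t : Matrix (Fin 5) (Fin 5) F) *ᵥ u) := by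
    intro u hu
    obtain ⟨a, rfl⟩ := hsurj u
    rw [htact', hO]
    rw [hO] at hu
    have := tinv _ _ _ _ _ hu
    rw [t0_mulVec]
    exact this
  have htstab : t ∈ stabO φ ζ := by
    intro u
    constructor
    · intro h
      have := htO _ h
      rwa [htt] at this
    · exact htO u
  -- the subgroup
  refine ⟨stabO φ ζ ⊓ (GU 5 F 2 ⊓ specialLinear (Fin 5) F), ?_, ?_⟩
  · -- `N(K) ∩ SU < X`
    rw [lt_iff_le_and_ne]
    constructor
    · rintro g ⟨hgN, hgU, hgS⟩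
      refine ⟨?_, hgU, hgS⟩
      intro u
      constructor
      · intro h
        have hgN' : g⁻¹ ∈ subalgebraNormalizer K := inv_mem hgN
        obtain ⟨r, hr, hconj⟩ := hnorm g⁻¹ hgN'
        have := inO_of_normalizer φ ζ hz g⁻¹ (inv_mem hgU) r hr hconj _ h
        rwa [mulVec_mulVec, ← Units.val_mul, inv_mul_cancel, Units.val_one, one_mulVec] at this
      · intro h
        obtain ⟨r, hr, hconj⟩ := hnorm g hgN
        exact inO_of_normalizer φ ζ hz g hgU r hr hconj _ h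
    · intro heq
      have htH : t ∈ subalgebraNormalizer K ⊓ (GU 5 F 2 ⊓ specialLinear (Fin 5) F) := by
        rw [heq]
        exact ⟨htstab, htU, htS⟩
      obtain ⟨r, hr, hconj⟩ := hnorm t htH.1
      -- `v = emb e₀`
      have hve : v = emb ζ v (fun i => φ ((![K4.i, K4.o, K4.o, K4.o, K4.o] : Fin 5 → K4) i)) := by
        simp only [S5796XT.emb, Fin.sum_univ_five]
        simp [show φ K4.i = 1 from map_one φ, show φ K4.o = 0 from map_zero φ]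
      obtain ⟨d, hd, hne⟩ := t0_e0_sig
      apply hne
      apply hφi
      have h1 : sigF ζ ((t : Matrix (Fin 5) (Fin 5) F) *ᵥ v) d = φ (g1 d) := by
        rw [sigF_conj ζ t htU r hconj, sigF_mod ζ hz, hv _ (Nat.mod_lt _ (by norm_num)), g1_perm' r hr d hd]
      have h3 : sigF ζ ((t : Matrix (Fin 5) (Fin 5) F) *ᵥ v) d =
          φ (sg g1 (t0r0 K4.i K4.o K4.o K4.o K4.o) (t0r1 K4.i K4.o K4.o K4.o K4.o)
            (t0r2 K4.i K4.o K4.o K4.o K4.o) (t0r3 K4.i K4.o K4.o K4.o K4.o)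
            (t0r4 K4.i K4.o K4.o K4.o K4.o) d) := by
        conv_lhs => rw [hve]
        rw [htact', hsig, Nat.mod_eq_of_lt hd, t0_mulVec]
        rfl
      exact h3.symm.trans h1
  · -- `X < SU`
    rw [lt_iff_le_and_ne]
    refine ⟨inf_le_right, ?_⟩
    intro heq
    have hτX : τ ∈ stabO φ ζ ⊓ (GU 5 F 2 ⊓ specialLinear (Fin 5) F) := by
      rw [heq]
      exact ⟨hτU, hτS⟩
    have h1 := (hτX.1 (emb ζ v (fun i => φ ((![K4.o, K4.i, K4.o, K4.v, K4.w] : Fin 5 → K4) i)))).mpr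
      ((hO _).mpr astar_mem)
    rw [hτact', hO, tau0_mulVec] at h1
    have h1' : memT (sg g1 (tau0r0 K4.o K4.i K4.o K4.v K4.w) (tau0r1 K4.o K4.i K4.o K4.v K4.w)
        (tau0r2 K4.o K4.i K4.o K4.v K4.w) (tau0r3 K4.o K4.i K4.o K4.v K4.w)
        (tau0r4 K4.o K4.i K4.o K4.v K4.w)) = true := h1
    rw [tau0_astar] at h1'
    exact absurd h1' (by decide)

end Cfsg.Agent.Lib.Helper29.S5796X
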