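import Mathlib
import Cfsg.Prelude.Def_GeometricClasses
import Cfsg.Agent.Lib.Helper13.OrthMax

/-!
# S5814 / S5835 / S5859 : piece G-DET

In odd dimension (characteristic not two) `Ω` contains no scalar other than `1`.
-/

set_option autoImplicit false
set_option linter.unusedSectionVars false
set_option linter.unusedVariables false

namespace Cfsg.Agent.Lib.Helper29.S5814

open Matrix Cfsg.Geo Module QuadraticMap
open Cfsg.Agent.Lib.Helper6 Cfsg.Agent.Lib.Helper13

universe u
variable {F : Type u} [Field F] {ι : Type} [Fintype ι] [DecidableEq ι]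
variable (Q : QuadraticForm F (ι → F))

/-- every element of `Ω` has determinant one -/
theorem det_eq_one_of_mem_omegaGL (g : GL ι F) (hg : g ∈ omegaGL ⇑Q) :
    (g : Matrix ι ι F).det = 1 := by
  obtain ⟨x, hx, rfl⟩ := (mem_omegaGL_iff Q g).mp hg
  let φ : ↥(Cfsg.isometryGroup F ⇑Q) →* Fˣ :=
    (Matrix.GeneralLinearGroup.det : GL ι F →* Fˣ).comp (Cfsg.isometryGroup F ⇑Q).subtype
  have h1 : x ∈ φ.ker := Abelianization.commutator_subset_ker φ hx
  have h2 : Matrix.GeneralLinearGroup.det (x : GL ι F) = 1 := h1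
  have h3 := congrArg Units.val h2
  rwa [Matrix.GeneralLinearGroup.val_det_apply, Units.val_one] at h3

/-- a non-degenerate form takes a non-zero value -/
theorem exists_Q_ne_zero [Nonempty ι] (hQ : (polarBilin Q).Nondegenerate) : ∃ v, Q v ≠ 0 := by
  by_contra hcon
  push Not at hcon
  obtain ⟨i⟩ := ‹Nonempty ι›
  have hx0 : (Pi.single i 1 : ι → F) ≠ 0 := by
    intro h
    have := congrFun h i
    simp at this
  apply hx0
  apply hQ.1
  intro y
  rw [polarBilin_apply_apply]
  unfold polar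
  rw [hcon, hcon, hcon]
  simp

/-- G-DET -/
theorem scalars_inf_omega (hQ : (polarBilin Q).Nondegenerate) (h2 : (2 : F) ≠ 0)
    (hodd : Odd (Fintype.card ι)) : scalars ι F ⊓ omegaGL ⇑Q = ⊥ := by
  haveI : Nonempty ι := by
    rw [← Fintype.card_pos_iff]
    obtain ⟨k, hk⟩ := hodd
    omega
  rw [eq_bot_iff]
  rintro g ⟨hgs, hgΩ⟩
  rw [Subgroup.mem_bot]
  obtain ⟨c, hc⟩ := (mem_scalars_iff g).mp hgs
  have hdet := det_eq_one_of_mem_omegaGL Q g hgΩ
  obtain ⟨x, hx, hxg⟩ := (mem_omegaGL_iff Q g).mp hgΩ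
  obtain ⟨v, hv⟩ := exists_Q_ne_zero Q hQ
  have hQv : Q (((x : GL ι F) : Matrix ι ι F) *ᵥ v) = Q v := x.2 v v
  rw [hxg, hc, smul_mulVec, one_mulVec, QuadraticMap.map_smul, smul_eq_mul] at hQv
  have hcc : (c : F) * (c : F) = 1 := by
    have h1 : ((c : F) * (c : F) - 1) * Q v = 0 := by linear_combination hQv
    rcases mul_eq_zero.mp h1 with h | h
    · exact sub_eq_zero.mp h
    · exact absurd h hv
  have hc1 : (c : F) = 1 ∨ (c : F) = -1 := mul_self_eq_one_iff.mp hcc
  rcases hc1 with h | h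
  · apply Units.ext
    rw [hc, h, one_smul, Units.val_one]
  · exfalso
    rw [hc, h, det_smul, det_one, mul_one, hodd.neg_one_pow] at hdet
    apply h2
    linear_combination -hdet

end Cfsg.Agent.Lib.Helper29.S5814
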