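import Mathlib
import Cfsg.Prelude.Def_GeometricClasses
import Cfsg.Agent.Lib.Helper6.OrthForms
import Cfsg.Agent.Lib.Helper13.OrthNondeg
import Cfsg.Agent.Lib.Helper13.OrthMax

/-!
# S5814 / S5835 / S5859 (hub corollaries for `Ω₇, Ω₉, Ω₁₁`) : pieces P-TS, P-ND

`Ω` stabilises neither a non-zero totally singular subspace nor a proper non-zero non-degenerate subspace.
-/

set_option autoImplicit false
set_option linter.unusedSectionVars false
set_option linter.unusedVariables false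

namespace Cfsg.Agent.Lib.Helper29.S5814

open Matrix Cfsg.Geo Module QuadraticMap
open Cfsg.Agent.Lib.Helper6 Cfsg.Agent.Lib.Helper13 Cfsg.Agent.Lib.Helper13.OND

universe u
variable {F : Type u} [Field F] [Fintype F] {ι : Type} [Fintype ι] [DecidableEq ι]
variable (Q : QuadraticForm F (ι → F))

/-- P-TS -/
theorem not_omega_le_stab_ts (hQ : (polarBilin Q).Nondegenerate) (h5 : 5 ≤ Fintype.card ι)
    (hodd : Odd (Fintype.card ι)) (W : Submodule F (ι → F)) (hW0 : W ≠ ⊥)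
    (hW : IsTotallySingularQuad ⇑Q W) : ¬ omegaGL ⇑Q ≤ subspaceStabilizer W := by
  intro hle
  have hmax := orth_ts_stabilizer_maximal (Q := Q) hQ h5 W hW0 hW (by
    intro W' hW' hlt
    have h1 := ts_two_mul_finrank_le hQ W' hW'
    have h3 := Submodule.finrank_lt_finrank_of_lt hlt
    obtain ⟨k, hk⟩ := hodd
    omega)
  have heq : subspaceStabilizer W ⊓ omegaGL ⇑Q = omegaGL ⇑Q := inf_eq_right.mpr hle
  exact hmax.1.ne heq

/-- the Siegel argument: if `U ⟂ W'` is an orthogonal pair with `3 ≤ dim U` and `W' ≠ 0` then `Ω` does not stabilise `U` -/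
theorem not_omega_le_stab_of_pair (hQ : (polarBilin Q).Nondegenerate) (h5 : 5 ≤ Fintype.card ι)
    {U W : Submodule F (ι → F)} (hP : OrthPair Q U W) (h3 : 3 ≤ finrank F U) (hW0 : W ≠ ⊥) :
    ¬ omegaGL ⇑Q ≤ subspaceStabilizer U := by
  intro hle
  obtain ⟨w₀, hw₀W, hw₀0⟩ := (Submodule.ne_bot_iff W).mp hW0
  obtain ⟨x, hxU, hx0, hx⟩ := exists_singular_sub Q U h3
  have hxw : polar (⇑Q) x w₀ = 0 := hP.orth x hxU w₀ hw₀W
  have hmem : ((siegIso Q x w₀ hx hxw : ↥(Cfsg.isometryGroup F ⇑Q)) : GL ι F) ∈ omegaGL ⇑Q :=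
    (mem_omegaGL_iff Q _).mpr ⟨_, siegIso_mem_Omega Q hQ h5 x w₀ hx hxw, rfl⟩
  have hs := hle hmem
  obtain ⟨y, hyU, hy⟩ := hP.ndU x hxU hx0
  have h1 := (hs y).mp hyU
  change gact Q (siegIso Q x w₀ hx hxw) y ∈ U at h1
  rw [gact_siegIso] at h1
  have h2 : (-(polar (⇑Q) x y)) • w₀ ∈ U := by
    have := U.sub_mem h1 (U.add_mem hyU
      (U.smul_mem (polar (⇑Q) w₀ y - Q w₀ * polar (⇑Q) x y) hxU))
    rwa [add_sub_cancel_left] at this
  have h3 : w₀ ∈ U := by
    have := U.smul_mem (-(polar (⇑Q) x y))⁻¹ h2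
    rwa [smul_smul, inv_mul_cancel₀ (neg_ne_zero.mpr hy), one_smul] at this
  exact hw₀0 (hP.inter h3 hw₀W)

/-- P-ND -/
theorem not_omega_le_stab_nd (hQ : (polarBilin Q).Nondegenerate) (h5 : 5 ≤ Fintype.card ι)
    (W : Submodule F (ι → F)) (hW0 : W ≠ ⊥) (hW1 : W ≠ ⊤)
    (hW : IsNondegenerateOn (polar ⇑Q) W) : ¬ omegaGL ⇑Q ≤ subspaceStabilizer W := by
  have hP := orthPair_of_nondeg Q hQ W hW
  have hfr := hP.finrank_add
  have hperp0 : LinearMap.BilinForm.orthogonal (polarBilin Q) W ≠ ⊥ := by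
    intro h
    rw [h, finrank_bot, add_zero] at hfr
    apply hW1
    apply Submodule.eq_top_of_finrank_eq
    rw [hfr, Module.finrank_fintype_fun_eq_card]
  by_cases h3 : 3 ≤ finrank F W
  · exact not_omega_le_stab_of_pair Q hQ h5 hP h3 hperp0
  · intro hle
    have h3' : 3 ≤ finrank F (LinearMap.BilinForm.orthogonal (polarBilin Q) W) := by omega
    apply not_omega_le_stab_of_pair Q hQ h5 hP.symm h3' hW0
    intro g hg
    have h1 : g ∈ subspaceStabilizer W ⊓ omegaGL ⇑Q := ⟨hle hg, hg⟩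
    rw [← hP.stab_eq] at h1
    exact h1.1

end Cfsg.Agent.Lib.Helper29.S5814
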