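import Mathlib
import Cfsg.Prelude.Def_GeometricClasses
import Cfsg.Agent.Lib.Helper6.OrthForms
import Cfsg.Agent.Lib.Helper13.OrthNondeg
import Cfsg.Agent.Lib.Helper13.OrthMax
import Cfsg.Agent.Lib.Helper9.HubCorA1
import Cfsg.Agent.Lib.Helper29.AschCorB
import Cfsg.Agent.Lib.Helper29.S5814PA
import Cfsg.Agent.Lib.Helper29.S5814GDET
import Cfsg.Agent.Lib.Helper29.S5814AFLD
import Cfsg.Agent.Lib.Helper29.S5814PFLD
import Cfsg.Agent.Lib.Helper29.S5814PTW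
import Cfsg.Agent.Lib.Helper6.S5814PDEC
import Cfsg.Agent.Lib.Helper6.S5814CPLANE
import Cfsg.Agent.Lib.Helper6.S5814PSUBF
import Cfsg.Agent.Lib.Helper6.S5814CFRAME

/-!
# S5814 / S5835 / S5859 : the maximal subgroups of `Ω₇(q)`, `Ω₉(q)`, `Ω₁₁(q)` (`q` odd) from the hub S5673

`main7`, `main9`, `main11` are the VERBATIM conclusions of the frozen S5814, S5835, S5859, derived from the hub
S5673 taken as the hypothesis `Hub F m` (`m = 3, 4, 5`).  All pieces are cited from the landed files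
(helper29 `S5814PA/GDET/AFLD/PFLD/PTW`, helper6 `S5814PDEC/CPLANE/PSUBF/CFRAME`), on helper13's and helper6's
orthogonal library.
-/

set_option autoImplicit false
set_option linter.unusedSectionVars false
set_option linter.unusedVariables false

namespace Cfsg.Agent.Lib.Helper29.S5814M

open Matrix Cfsg.Geo Module QuadraticMap
open Cfsg.Agent.Lib.Helper6 Cfsg.Agent.Lib.Helper13 Cfsg.Agent.Lib.Helper13.OND

universe u
variable {F : Type u} [Field F] [Fintype F] {ι : Type} [Fintype ι] [DecidableEq ι]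
variable (Q : QuadraticForm F (ι → F))

/-! ## the cited pieces, under the names of the skeleton -/

theorem scalars_inf_omega (hQ : (polarBilin Q).Nondegenerate) (h2 : (2 : F) ≠ 0)
    (hodd : Odd (Fintype.card ι)) : scalars ι F ⊓ omegaGL ⇑Q = ⊥ :=
  Cfsg.Agent.Lib.Helper29.S5814.scalars_inf_omega Q hQ h2 hodd

theorem not_omega_le_stab_ts (hQ : (polarBilin Q).Nondegenerate) (h5 : 5 ≤ Fintype.card ι)
    (hodd : Odd (Fintype.card ι)) (W : Submodule F (ι → F)) (hW0 : W ≠ ⊥)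
    (hW : IsTotallySingularQuad ⇑Q W) : ¬ omegaGL ⇑Q ≤ subspaceStabilizer W :=
  Cfsg.Agent.Lib.Helper29.S5814.not_omega_le_stab_ts Q hQ h5 hodd W hW0 hW

theorem not_omega_le_stab_nd (hQ : (polarBilin Q).Nondegenerate) (h5 : 5 ≤ Fintype.card ι)
    (W : Submodule F (ι → F)) (hW0 : W ≠ ⊥) (hW1 : W ≠ ⊤)
    (hW : IsNondegenerateOn (polar ⇑Q) W) : ¬ omegaGL ⇑Q ≤ subspaceStabilizer W :=
  Cfsg.Agent.Lib.Helper29.S5814.not_omega_le_stab_nd Q hQ h5 W hW0 hW1 hW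

theorem not_omega_le_decomp (hQ : (polarBilin Q).Nondegenerate) (h7 : 7 ≤ Fintype.card ι)
    (h2 : (2 : F) ≠ 0) {t k : ℕ} (hk : k ≠ 2) (D : Fin t → Submodule F (ι → F))
    (hD : IsOrthogonalMDecomposition ⇑Q k D) : ¬ omegaGL ⇑Q ≤ decompositionStabilizer D :=
  Cfsg.Agent.Lib.Helper6.S5814PDEC.not_omega_le_decomp Q hQ h7 h2 hk D hD

theorem not_omega_le_fieldNormalizer (hQ : (polarBilin Q).Nondegenerate) (h5 : 5 ≤ Fintype.card ι)
    (r : ℕ) (hr : r.Prime) (hr2 : r ≠ 2) (K : Subalgebra F (Matrix ι ι F))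
    (hK : IsFieldSubalgebra r K) : ¬ omegaGL ⇑Q ≤ subalgebraNormalizer K :=
  Cfsg.Agent.Lib.Helper29.S5814.not_omega_le_fieldNormalizer Q hQ h5 r hr hr2 K hK

theorem not_omega_le_subfield (hQ : (polarBilin Q).Nondegenerate) (h5 : 5 ≤ Fintype.card ι)
    (F₀ : Subfield F) (hF₀ : F₀ ≠ ⊤) (P : GL ι F) : ¬ omegaGL ⇑Q ≤ subfieldSubgroup F₀ P :=
  Cfsg.Agent.Lib.Helper6.S5814PSUBF.not_omega_le_subfield Q hQ h5 F₀ hF₀ P

theorem not_omega_le_tensorWreath (hQ : (polarBilin Q).Nondegenerate) (h2 : (2 : F) ≠ 0)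
    (e : ι ≃ (Fin 2 → Fin 3)) (P : GL ι F) : ¬ omegaGL ⇑Q ≤ tensorWreathSubgroup 3 2 e P :=
  Cfsg.Agent.Lib.Helper29.S5814.not_omega_le_tensorWreath Q hQ h2 e P

theorem plane_le_stab (hQ : (polarBilin Q).Nondegenerate) (h5 : 5 ≤ Fintype.card ι)
    (hq : Fintype.card F = 3) (W : Submodule F (ι → F)) (hdim : finrank F W = 2)
    (hW : IsNondegenerateOn (polar ⇑Q) W) (hWp : IsPlusTypeOn ⇑Q W) :
    ∃ W' : Submodule F (ι → F), finrank F W' + 1 = Fintype.card ι ∧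
      IsNondegenerateOn (polar ⇑Q) W' ∧
      subspaceStabilizer W ⊓ omegaGL ⇑Q ≤ subspaceStabilizer W' :=
  Cfsg.Agent.Lib.Helper6.S5814CPLANE.plane_le_stab Q hQ h5 hq W hdim hW hWp

theorem frame_le_decomp (hQ : (polarBilin Q).Nondegenerate) (hq : Fintype.card F = 3)
    (D : Fin 3 → Submodule F (ι → F)) (hD : IsOrthogonalMDecomposition ⇑Q 3 D) :
    ∃ D' : Fin 9 → Submodule F (ι → F), IsOrthogonalMDecomposition ⇑Q 1 D' ∧
      decompositionStabilizer D ⊓ Cfsg.isometryGroup F ⇑Q ≤ decompositionStabilizer D' :=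
  Cfsg.Agent.Lib.Helper6.S5814CFRAME.frame_le_decomp Q hQ hq D hD

omit [Fintype F] in
theorem field_degree_dvd [Nonempty ι] (r : ℕ) (K : Subalgebra F (Matrix ι ι F))
    (hK : IsFieldSubalgebra r K) : r ∣ Fintype.card ι :=
  Cfsg.Agent.Lib.Helper29.S5814.field_degree_dvd r K hK

/-! ## assembly (helper29) : general `Q` -/

omit [Fintype F] [Fintype ι] [DecidableEq ι] in
/-- G-EQ -/
theorem eq_of_le_member {G : Type*} [Group G] (S H M : Subgroup G) (hH : IsMaximalIn S H)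
    (hle : H ≤ M) (hM : ¬ S ≤ M) : H = M ⊓ S := by
  have h1 : H ≤ M ⊓ S := le_inf hle hH.1.le
  rcases hH.2 _ h1 inf_le_right with h | h
  · exact h.symm
  · exact absurd (h ▸ inf_le_left) hM

omit [Fintype F] in
/-- `Ω ≤ O` -/
theorem omegaGL_le_iso (Q' : (ι → F) → F) : omegaGL Q' ≤ Cfsg.isometryGroup F Q' := by
  rintro g ⟨x, -, rfl⟩
  exact x.2

/-- hproper is free in odd dimension -/
theorem hproper_of_max (hQ : (polarBilin Q).Nondegenerate) (h2 : (2 : F) ≠ 0)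
    (hodd : Odd (Fintype.card ι)) (H : Subgroup (GL ι F)) (hH : IsMaximalIn (omegaGL ⇑Q) H) :
    H ⊔ (scalars ι F ⊓ omegaGL ⇑Q) ≠ omegaGL ⇑Q := by
  rw [scalars_inf_omega Q hQ h2 hodd, sup_bot_eq]
  exact hH.1.ne

omit [Fintype F] in
theorem isNondegenerateOn_of_ndOn (X : Submodule F (ι → F)) (hX : NdOn Q X) :
    IsNondegenerateOn (polar ⇑Q) X := by
  intro w hw hw0
  obtain ⟨y, hy, hwy⟩ := hX w hw hw0
  exact ⟨⟨y, hy, by rw [polar_comm]; exact hwy⟩, ⟨y, hy, hwy⟩⟩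

/-- the exit for a non-degenerate subspace : parity and the `GF(3)` plane -/
theorem exit_nd (hQ : (polarBilin Q).Nondegenerate) (h7 : 7 ≤ Fintype.card ι)
    (hodd : Odd (Fintype.card ι)) (H : Subgroup (GL ι F)) (hH : IsMaximalIn (omegaGL ⇑Q) H)
    (W : Submodule F (ι → F)) (hW0 : W ≠ ⊥) (hW1 : W ≠ ⊤) (hW : IsNondegenerateOn (polar ⇑Q) W)
    (hle : H ≤ subspaceStabilizer W) :
    ∃ W' : Submodule F (ι → F), W' ≠ ⊥ ∧ Even (finrank F W') ∧ IsNondegenerateOn (polar ⇑Q) W' ∧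
      ¬ (Fintype.card F = 3 ∧ finrank F W' = 2 ∧ IsPlusTypeOn ⇑Q W') ∧
      H = subspaceStabilizer W' ⊓ omegaGL ⇑Q := by
  have h5 : 5 ≤ Fintype.card ι := by omega
  have hP := orthPair_of_nondeg Q hQ W hW
  have hfr := hP.finrank_add
  have htop : ∀ X : Submodule F (ι → F), finrank F X = Fintype.card ι → X = ⊤ := by
    intro X hX
    apply Submodule.eq_top_of_finrank_eq
    rw [hX, Module.finrank_fintype_fun_eq_card]
  have hbot : ∀ X : Submodule F (ι → F), finrank F X = 0 → X = ⊥ := fun X hX =>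
    Submodule.finrank_eq_zero.mp hX
  obtain ⟨E, hE0, hE1, hEnd, hEev, hleE⟩ : ∃ E : Submodule F (ι → F), E ≠ ⊥ ∧ E ≠ ⊤ ∧
      IsNondegenerateOn (polar ⇑Q) E ∧ Even (finrank F E) ∧ H ≤ subspaceStabilizer E := by
    rcases Nat.even_or_odd (finrank F W) with he | ho
    · exact ⟨W, hW0, hW1, hW, he, hle⟩
    · refine ⟨LinearMap.BilinForm.orthogonal (polarBilin Q) W, ?_, ?_,
        isNondegenerateOn_of_ndOn Q _ hP.ndW, ?_, ?_⟩
      · intro h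
        rw [h, finrank_bot, add_zero] at hfr
        exact hW1 (htop W hfr)
      · intro h
        have h1 : finrank F (LinearMap.BilinForm.orthogonal (polarBilin Q) W) = Fintype.card ι := by
          rw [h, finrank_top, Module.finrank_fintype_fun_eq_card]
        rw [h1] at hfr
        exact hW0 (hbot W (by omega))
      · rcases Nat.even_or_odd (finrank F (LinearMap.BilinForm.orthogonal (polarBilin Q) W))
          with he | ho'
        · exact he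
        · exfalso
          have := Odd.add_odd ho ho'
          rw [hfr] at this
          exact (Nat.not_even_iff_odd.mpr hodd) this
      · intro x hx
        have h1 : x ∈ subspaceStabilizer W ⊓ omegaGL ⇑Q := ⟨hle hx, hH.1.le hx⟩
        rw [← hP.stab_eq] at h1
        exact h1.1
  by_cases hex : Fintype.card F = 3 ∧ finrank F E = 2 ∧ IsPlusTypeOn ⇑Q E
  · obtain ⟨W', hW'dim, hW'nd, hW'le⟩ := plane_le_stab Q hQ h5 hex.1 E hex.2.1 hEnd hex.2.2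
    have hleW' : H ≤ subspaceStabilizer W' := fun x hx => hW'le ⟨hleE hx, hH.1.le hx⟩
    have hW'0 : W' ≠ ⊥ := by
      intro h
      rw [h, finrank_bot] at hW'dim
      omega
    have hW'1 : W' ≠ ⊤ := by
      intro h
      rw [h, finrank_top, Module.finrank_fintype_fun_eq_card] at hW'dim
      omega
    refine ⟨W', hW'0, ?_, hW'nd, ?_,
      eq_of_le_member _ H _ hH hleW' (not_omega_le_stab_nd Q hQ h5 W' hW'0 hW'1 hW'nd)⟩
    · obtain ⟨k, hk⟩ := hodd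
      exact ⟨k, by omega⟩
    · rintro ⟨-, h, -⟩
      omega
  · exact ⟨E, hE0, hEev, hEnd, hex,
      eq_of_le_member _ H _ hH hleE (not_omega_le_stab_nd Q hQ h5 E hE0 hE1 hEnd)⟩


/-! ## assembly (helper29) : the standard odd form -/

section odd

omit [Fintype F] in
theorem coe_QOdd (m : ℕ) : ⇑(QOdd F m) = Cfsg.quadFormOdd m F := funext (QOdd_apply F m)

theorem card_idx (m : ℕ) : Fintype.card (Unit ⊕ (Fin m ⊕ Fin m)) = 2 * m + 1 := by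
  simp only [Fintype.card_sum, Fintype.card_fin, Fintype.card_unit]
  omega

theorem odd_card_idx (m : ℕ) : Odd (Fintype.card (Unit ⊕ (Fin m ⊕ Fin m))) := by
  rw [card_idx]
  exact ⟨m, rfl⟩

local notation "ΩO" m => omegaGL (Cfsg.quadFormOdd m F)

/-- the hypothesis form of the hub S5673 at `m` -/
def Hub (F : Type u) [Field F] [Fintype F] (m : ℕ) : Prop :=
  ∀ H : Subgroup (GL (Unit ⊕ (Fin m ⊕ Fin m)) F), H ≤ omegaGL (Cfsg.quadFormOdd m F) →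
    H ⊔ (scalars (Unit ⊕ (Fin m ⊕ Fin m)) F ⊓ omegaGL (Cfsg.quadFormOdd m F)) ≠
      omegaGL (Cfsg.quadFormOdd m F) →
    (∃ M : Subgroup (GL (Unit ⊕ (Fin m ⊕ Fin m)) F), InOrthogonalOddClass m F M ∧ H ≤ M) ∨
      InOrthogonalResidualClass H

/-- the members found by the hub, with `H = M ⊓ Ω` for the classes that occur for every `m` -/
theorem reduce (hodd : Odd (Fintype.card F)) (m : ℕ) (hm : 3 ≤ m) (hub : Hub F m)
    (H : Subgroup (GL (Unit ⊕ (Fin m ⊕ Fin m)) F))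
    (hH : IsMaximalIn (omegaGL (Cfsg.quadFormOdd m F)) H) :
    (∃ W : Submodule F (Unit ⊕ (Fin m ⊕ Fin m) → F), W ≠ ⊥ ∧
      IsTotallySingularQuad (Cfsg.quadFormOdd m F) W ∧
      H = subspaceStabilizer W ⊓ omegaGL (Cfsg.quadFormOdd m F)) ∨
    (∃ W : Submodule F (Unit ⊕ (Fin m ⊕ Fin m) → F), W ≠ ⊥ ∧ Even (finrank F W) ∧
      IsNondegenerateOn (polar (Cfsg.quadFormOdd m F)) W ∧
      ¬ (Fintype.card F = 3 ∧ finrank F W = 2 ∧ IsPlusTypeOn (Cfsg.quadFormOdd m F) W) ∧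
      H = subspaceStabilizer W ⊓ omegaGL (Cfsg.quadFormOdd m F)) ∨
    (∃ (t k : ℕ) (D : Fin t → Submodule F (Unit ⊕ (Fin m ⊕ Fin m) → F)), 1 < k ∧ 2 ≤ t ∧
      t * k = 2 * m + 1 ∧ IsOrthogonalMDecomposition (Cfsg.quadFormOdd m F) k D ∧
      H ≤ decompositionStabilizer D) ∨
    ((Fintype.card F).Prime ∧ ∃ D : Fin (2 * m + 1) → Submodule F (Unit ⊕ (Fin m ⊕ Fin m) → F),
      IsOrthogonalMDecomposition (Cfsg.quadFormOdd m F) 1 D ∧
      H = decompositionStabilizer D ⊓ omegaGL (Cfsg.quadFormOdd m F)) ∨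
    (∃ (r : ℕ) (K : Subalgebra F (Matrix (Unit ⊕ (Fin m ⊕ Fin m)) (Unit ⊕ (Fin m ⊕ Fin m)) F)),
      r.Prime ∧ 2 * m + 1 ≠ r ∧ r ∣ 2 * m + 1 ∧ IsFieldSubalgebra r K ∧
      IsSelfAdjointFor (polar (Cfsg.quadFormOdd m F)) K ∧
      H = subalgebraNormalizer K ⊓ omegaGL (Cfsg.quadFormOdd m F)) ∨
    (∃ n₁ n₂ : ℕ, 3 ≤ n₁ ∧ n₁ < n₂ ∧ n₁ * n₂ = 2 * m + 1) ∨
    (∃ (F₀ : Subfield F) (r : ℕ) (P : GL (Unit ⊕ (Fin m ⊕ Fin m)) F), r.Prime ∧
      Fintype.card F = Nat.card F₀ ^ r ∧ IsQuadFormRationalStructure (Cfsg.quadFormOdd m F) F₀ P ∧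
      H = subfieldSubgroup F₀ P ⊓ omegaGL (Cfsg.quadFormOdd m F)) ∨
    (∃ (k t : ℕ) (e : (Unit ⊕ (Fin m ⊕ Fin m)) ≃ (Fin t → Fin k))
      (P : GL (Unit ⊕ (Fin m ⊕ Fin m)) F) (f₁ : (Fin k → F) → (Fin k → F) → F), 3 ≤ k ∧ 2 ≤ t ∧
      k ^ t = 2 * m + 1 ∧ ¬ (Fintype.card F = 3 ∧ k = 3) ∧ IsSymmetricForm f₁ ∧
      IsTensorPowerFormStructure id (polar (Cfsg.quadFormOdd m F)) f₁ e P ∧
      H ≤ tensorWreathSubgroup k t e P) ∨
    InOrthogonalResidualClass H := by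
  have h2 : (2 : F) ≠ 0 := two_ne_zero_of_odd_card hodd
  have hQ := nondegenerate_QOdd F h2 m
  have hcoe := coe_QOdd (F := F) m
  have hcard := card_idx m
  have hoddι := odd_card_idx m
  have h5 : 5 ≤ Fintype.card (Unit ⊕ (Fin m ⊕ Fin m)) := by rw [hcard]; omega
  have h7 : 7 ≤ Fintype.card (Unit ⊕ (Fin m ⊕ Fin m)) := by rw [hcard]; omega
  have hΩI := omegaGL_le_iso (F := F) (Cfsg.quadFormOdd m F)
  have hprop : H ⊔ (scalars (Unit ⊕ (Fin m ⊕ Fin m)) F ⊓ omegaGL (Cfsg.quadFormOdd m F)) ≠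
      omegaGL (Cfsg.quadFormOdd m F) := by
    have := hproper_of_max (QOdd F m) hQ h2 hoddι H (by rw [hcoe]; exact hH)
    rwa [hcoe] at this
  rcases hub H hH.1.le hprop with ⟨M, hM, hHM⟩ | hres
  swap
  · exact Or.inr (Or.inr (Or.inr (Or.inr (Or.inr (Or.inr (Or.inr (Or.inr hres)))))))
  rcases hM with ⟨W, hW0, hW, rfl⟩ | ⟨W, hW0, hW1, hW, rfl⟩ | ⟨t, k, D, hk, hD, rfl⟩ |
    ⟨t, D, hp, hD, rfl⟩ | ⟨r, K, hr, hrn, hK, hsa, rfl⟩ |
    ⟨n₁, n₂, e, P, f₁, f₂, h1, h12, hf₁, hf₂, hT, rfl⟩ | ⟨F₀, r, P, hr, hc, hP, rfl⟩ |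
    ⟨k, t, e, P, f₁, hk, ht, hex, hf₁, hT, rfl⟩
  · -- C1, totally singular
    refine Or.inl ⟨W, hW0, hW, eq_of_le_member _ H _ hH (hHM.trans inf_le_left) ?_⟩
    have := not_omega_le_stab_ts (QOdd F m) hQ h5 hoddι W hW0 (by rw [hcoe]; exact hW)
    rwa [hcoe] at this
  · -- C1, non-degenerate
    have := exit_nd (QOdd F m) hQ h7 hoddι H (by rw [hcoe]; exact hH) W hW0 hW1
      (by rw [hcoe]; exact hW) (hHM.trans inf_le_left)
    rw [hcoe] at this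
    exact Or.inr (Or.inl this)
  · -- C2, k > 1
    have hdim := Cfsg.Agent.Lib.Helper9.HubCor.mul_eq_card_of_isMDecomposition D hD.decomp.decomp
    rw [hcard] at hdim
    exact Or.inr (Or.inr (Or.inl ⟨t, k, D, hk, hD.decomp.decomp.two_le, hdim, hD,
      hHM.trans inf_le_left⟩))
  · -- C2, k = 1
    have hdim := Cfsg.Agent.Lib.Helper9.HubCor.mul_eq_card_of_isMDecomposition D hD.decomp.decomp
    rw [hcard, mul_one] at hdim
    subst hdim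
    refine Or.inr (Or.inr (Or.inr (Or.inl ⟨hp, D, hD,
      eq_of_le_member _ H _ hH (hHM.trans inf_le_left) ?_⟩)))
    have := not_omega_le_decomp (QOdd F m) hQ h7 h2 (k := 1) (by norm_num) D (by rw [hcoe]; exact hD)
    rwa [hcoe] at this
  · -- C3
    have hdvd := field_degree_dvd r K hK
    rw [hcard] at hdvd
    refine Or.inr (Or.inr (Or.inr (Or.inr (Or.inl ⟨r, K, hr, hrn, hdvd, hK, hsa,
      eq_of_le_member _ H _ hH (hHM.trans inf_le_left) ?_⟩))))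
    have hr2 : r ≠ 2 := by
      rintro rfl
      omega
    have := not_omega_le_fieldNormalizer (QOdd F m) hQ h5 r hr hr2 K hK
    rwa [hcoe] at this
  · -- C4
    have hc := Fintype.card_congr e
    rw [hcard, Fintype.card_prod, Fintype.card_fin, Fintype.card_fin] at hc
    exact Or.inr (Or.inr (Or.inr (Or.inr (Or.inr (Or.inl ⟨n₁, n₂, h1, h12, hc.symm⟩)))))
  · -- C5
    refine Or.inr (Or.inr (Or.inr (Or.inr (Or.inr (Or.inr (Or.inl ⟨F₀, r, P, hr, hc, hP,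
      eq_of_le_member _ H _ hH (hHM.trans inf_le_left) ?_⟩))))))
    have := not_omega_le_subfield (QOdd F m) hQ h5 F₀
      (Cfsg.Agent.Lib.Helper29.AschCor.proper_of_card F₀ r hr hc) P
    rwa [hcoe] at this
  · -- C7
    have hc := Fintype.card_congr e
    rw [hcard, Fintype.card_fun, Fintype.card_fin, Fintype.card_fin] at hc
    exact Or.inr (Or.inr (Or.inr (Or.inr (Or.inr (Or.inr (Or.inr (Or.inl ⟨k, t, e, P, f₁, hk, ht,
      hc.symm, hex, hf₁, hT, hHM.trans inf_le_left⟩)))))))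


/-- prime dimension `2m + 1` (S5814 : `m = 3`, S5859 : `m = 5`) -/
theorem main_prime (hodd : Odd (Fintype.card F)) (m : ℕ) (hm : 3 ≤ m) (hn : (2 * m + 1).Prime)
    (hub : Hub F m) (H : Subgroup (GL (Unit ⊕ (Fin m ⊕ Fin m)) F))
    (hH : IsMaximalIn (omegaGL (Cfsg.quadFormOdd m F)) H) :
    (∃ W : Submodule F (Unit ⊕ (Fin m ⊕ Fin m) → F), W ≠ ⊥ ∧
      IsTotallySingularQuad (Cfsg.quadFormOdd m F) W ∧
      H = subspaceStabilizer W ⊓ omegaGL (Cfsg.quadFormOdd m F)) ∨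
    (∃ W : Submodule F (Unit ⊕ (Fin m ⊕ Fin m) → F), W ≠ ⊥ ∧ Even (finrank F W) ∧
      IsNondegenerateOn (polar (Cfsg.quadFormOdd m F)) W ∧
      ¬ (Fintype.card F = 3 ∧ finrank F W = 2 ∧ IsPlusTypeOn (Cfsg.quadFormOdd m F) W) ∧
      H = subspaceStabilizer W ⊓ omegaGL (Cfsg.quadFormOdd m F)) ∨
    ((Fintype.card F).Prime ∧ ∃ D : Fin (2 * m + 1) → Submodule F (Unit ⊕ (Fin m ⊕ Fin m) → F),
      IsOrthogonalMDecomposition (Cfsg.quadFormOdd m F) 1 D ∧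
      H = decompositionStabilizer D ⊓ omegaGL (Cfsg.quadFormOdd m F)) ∨
    (∃ (F₀ : Subfield F) (r : ℕ) (P : GL (Unit ⊕ (Fin m ⊕ Fin m)) F), r.Prime ∧
      Fintype.card F = Nat.card F₀ ^ r ∧ IsQuadFormRationalStructure (Cfsg.quadFormOdd m F) F₀ P ∧
      H = subfieldSubgroup F₀ P ⊓ omegaGL (Cfsg.quadFormOdd m F)) ∨
    InOrthogonalResidualClass H := by
  rcases reduce hodd m hm hub H hH with h | h | ⟨t, k, D, hk, ht, hdim, -, -⟩ | h |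
    ⟨r, K, hr, hrn, hdvd, -⟩ | ⟨n₁, n₂, h1, h12, hn12⟩ | h | ⟨k, t, e, P, f₁, hk, ht, hkt, -⟩ | h
  · exact Or.inl h
  · exact Or.inr (Or.inl h)
  · exfalso
    have hdvd : t ∣ 2 * m + 1 := Dvd.intro _ hdim
    rcases (Nat.dvd_prime hn).mp hdvd with h | h
    · omega
    · rw [h] at hdim
      have : k = 1 := by
        have h0 : 0 < 2 * m + 1 := by omega
        exact Nat.eq_of_mul_eq_mul_left h0 (by rw [hdim, mul_one])
      omega
  · exact Or.inr (Or.inr (Or.inl h))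
  · exfalso
    exact hrn ((Nat.prime_dvd_prime_iff_eq hr hn).mp hdvd).symm
  · exfalso
    have hdvd : n₁ ∣ 2 * m + 1 := Dvd.intro _ hn12
    rcases (Nat.dvd_prime hn).mp hdvd with h | h
    · omega
    · rw [h] at hn12
      have : n₂ = 1 := by
        have h0 : 0 < 2 * m + 1 := by omega
        exact Nat.eq_of_mul_eq_mul_left h0 (by rw [hn12, mul_one])
      omega
  · exact Or.inr (Or.inr (Or.inr (Or.inl h)))
  · exfalso
    have ht0 : t ≠ 0 := by omega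
    have hdvd : k ∣ 2 * m + 1 := by
      rw [← hkt]
      exact dvd_pow_self k ht0
    rcases (Nat.dvd_prime hn).mp hdvd with h | h
    · omega
    · have h1 : k ^ 2 ≤ k ^ t := Nat.pow_le_pow_right (by omega) ht
      rw [hkt, ← h] at h1
      nlinarith
  · exact Or.inr (Or.inr (Or.inr (Or.inr h)))

/-- S5814 from the hub S5673 at `m = 3` -/
theorem main7 (hodd : Odd (Fintype.card F)) (hub : Hub F 3)
    (H : Subgroup (Matrix.GeneralLinearGroup (Unit ⊕ (Fin 3 ⊕ Fin 3)) F)) (hH : Cfsg.Geo.IsMaximalIn (Cfsg.Geo.omegaGL (Cfsg.quadFormOdd 3 F)) H) :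
    (∃ W : Submodule F (Unit ⊕ (Fin 3 ⊕ Fin 3) → F), W ≠ ⊥ ∧ Cfsg.Geo.IsTotallySingularQuad (Cfsg.quadFormOdd 3 F) W ∧ H = Cfsg.Geo.subspaceStabilizer W ⊓ Cfsg.Geo.omegaGL (Cfsg.quadFormOdd 3 F)) ∨
    (∃ W : Submodule F (Unit ⊕ (Fin 3 ⊕ Fin 3) → F), W ≠ ⊥ ∧ Even (Module.finrank F W) ∧ Cfsg.Geo.IsNondegenerateOn (QuadraticMap.polar (Cfsg.quadFormOdd 3 F)) W ∧ ¬ (Fintype.card F = 3 ∧ Module.finrank F W = 2 ∧ Cfsg.Geo.IsPlusTypeOn (Cfsg.quadFormOdd 3 F) W) ∧ H = Cfsg.Geo.subspaceStabilizer W ⊓ Cfsg.Geo.omegaGL (Cfsg.quadFormOdd 3 F)) ∨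
    ((Fintype.card F).Prime ∧ ∃ D : Fin 7 → Submodule F (Unit ⊕ (Fin 3 ⊕ Fin 3) → F), Cfsg.Geo.IsOrthogonalMDecomposition (Cfsg.quadFormOdd 3 F) 1 D ∧ H = Cfsg.Geo.decompositionStabilizer D ⊓ Cfsg.Geo.omegaGL (Cfsg.quadFormOdd 3 F)) ∨
    (∃ (F₀ : Subfield F) (r : ℕ) (P : Matrix.GeneralLinearGroup (Unit ⊕ (Fin 3 ⊕ Fin 3)) F), r.Prime ∧ Fintype.card F = Nat.card F₀ ^ r ∧ Cfsg.Geo.IsQuadFormRationalStructure (Cfsg.quadFormOdd 3 F) F₀ P ∧ H = Cfsg.Geo.subfieldSubgroup F₀ P ⊓ Cfsg.Geo.omegaGL (Cfsg.quadFormOdd 3 F)) ∨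
    Cfsg.Geo.InOrthogonalResidualClass H :=
  main_prime hodd 3 le_rfl (by norm_num) hub H hH

/-- S5859 from the hub S5673 at `m = 5` -/
theorem main11 (hodd : Odd (Fintype.card F)) (hub : Hub F 5)
    (H : Subgroup (Matrix.GeneralLinearGroup (Unit ⊕ (Fin 5 ⊕ Fin 5)) F)) (hH : Cfsg.Geo.IsMaximalIn (Cfsg.Geo.omegaGL (Cfsg.quadFormOdd 5 F)) H) :
    (∃ W : Submodule F (Unit ⊕ (Fin 5 ⊕ Fin 5) → F), W ≠ ⊥ ∧ Cfsg.Geo.IsTotallySingularQuad (Cfsg.quadFormOdd 5 F) W ∧ H = Cfsg.Geo.subspaceStabilizer W ⊓ Cfsg.Geo.omegaGL (Cfsg.quadFormOdd 5 F)) ∨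
    (∃ W : Submodule F (Unit ⊕ (Fin 5 ⊕ Fin 5) → F), W ≠ ⊥ ∧ Even (Module.finrank F W) ∧ Cfsg.Geo.IsNondegenerateOn (QuadraticMap.polar (Cfsg.quadFormOdd 5 F)) W ∧ ¬ (Fintype.card F = 3 ∧ Module.finrank F W = 2 ∧ Cfsg.Geo.IsPlusTypeOn (Cfsg.quadFormOdd 5 F) W) ∧ H = Cfsg.Geo.subspaceStabilizer W ⊓ Cfsg.Geo.omegaGL (Cfsg.quadFormOdd 5 F)) ∨
    ((Fintype.card F).Prime ∧ ∃ D : Fin 11 → Submodule F (Unit ⊕ (Fin 5 ⊕ Fin 5) → F), Cfsg.Geo.IsOrthogonalMDecomposition (Cfsg.quadFormOdd 5 F) 1 D ∧ H = Cfsg.Geo.decompositionStabilizer D ⊓ Cfsg.Geo.omegaGL (Cfsg.quadFormOdd 5 F)) ∨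
    (∃ (F₀ : Subfield F) (r : ℕ) (P : Matrix.GeneralLinearGroup (Unit ⊕ (Fin 5 ⊕ Fin 5)) F), r.Prime ∧ Fintype.card F = Nat.card F₀ ^ r ∧ Cfsg.Geo.IsQuadFormRationalStructure (Cfsg.quadFormOdd 5 F) F₀ P ∧ H = Cfsg.Geo.subfieldSubgroup F₀ P ⊓ Cfsg.Geo.omegaGL (Cfsg.quadFormOdd 5 F)) ∨
    Cfsg.Geo.InOrthogonalResidualClass H :=
  main_prime hodd 5 (by norm_num) (by norm_num) hub H hH


/-- S5835 from the hub S5673 at `m = 4` -/
theorem main9 (hodd : Odd (Fintype.card F)) (hub : Hub F 4)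
    (H : Subgroup (Matrix.GeneralLinearGroup (Unit ⊕ (Fin 4 ⊕ Fin 4)) F)) (hH : Cfsg.Geo.IsMaximalIn (Cfsg.Geo.omegaGL (Cfsg.quadFormOdd 4 F)) H) :
    (∃ W : Submodule F (Unit ⊕ (Fin 4 ⊕ Fin 4) → F), W ≠ ⊥ ∧ Cfsg.Geo.IsTotallySingularQuad (Cfsg.quadFormOdd 4 F) W ∧ H = Cfsg.Geo.subspaceStabilizer W ⊓ Cfsg.Geo.omegaGL (Cfsg.quadFormOdd 4 F)) ∨
    (∃ W : Submodule F (Unit ⊕ (Fin 4 ⊕ Fin 4) → F), W ≠ ⊥ ∧ Even (Module.finrank F W) ∧ Cfsg.Geo.IsNondegenerateOn (QuadraticMap.polar (Cfsg.quadFormOdd 4 F)) W ∧ ¬ (Fintype.card F = 3 ∧ Module.finrank F W = 2 ∧ Cfsg.Geo.IsPlusTypeOn (Cfsg.quadFormOdd 4 F) W) ∧ H = Cfsg.Geo.subspaceStabilizer W ⊓ Cfsg.Geo.omegaGL (Cfsg.quadFormOdd 4 F)) ∨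
    ((Fintype.card F).Prime ∧ ∃ D : Fin 9 → Submodule F (Unit ⊕ (Fin 4 ⊕ Fin 4) → F), Cfsg.Geo.IsOrthogonalMDecomposition (Cfsg.quadFormOdd 4 F) 1 D ∧ H = Cfsg.Geo.decompositionStabilizer D ⊓ Cfsg.Geo.omegaGL (Cfsg.quadFormOdd 4 F)) ∨
    (5 ≤ Fintype.card F ∧ ∃ D : Fin 3 → Submodule F (Unit ⊕ (Fin 4 ⊕ Fin 4) → F), Cfsg.Geo.IsOrthogonalMDecomposition (Cfsg.quadFormOdd 4 F) 3 D ∧ H = Cfsg.Geo.decompositionStabilizer D ⊓ Cfsg.Geo.omegaGL (Cfsg.quadFormOdd 4 F)) ∨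
    (∃ K : Subalgebra F (Matrix (Unit ⊕ (Fin 4 ⊕ Fin 4)) (Unit ⊕ (Fin 4 ⊕ Fin 4)) F), Cfsg.Geo.IsFieldSubalgebra 3 K ∧ Cfsg.Geo.IsSelfAdjointFor (QuadraticMap.polar (Cfsg.quadFormOdd 4 F)) K ∧ H = Cfsg.Geo.subalgebraNormalizer K ⊓ Cfsg.Geo.omegaGL (Cfsg.quadFormOdd 4 F)) ∨
    (∃ (F₀ : Subfield F) (r : ℕ) (P : Matrix.GeneralLinearGroup (Unit ⊕ (Fin 4 ⊕ Fin 4)) F), r.Prime ∧ Fintype.card F = Nat.card F₀ ^ r ∧ Cfsg.Geo.IsQuadFormRationalStructure (Cfsg.quadFormOdd 4 F) F₀ P ∧ H = Cfsg.Geo.subfieldSubgroup F₀ P ⊓ Cfsg.Geo.omegaGL (Cfsg.quadFormOdd 4 F)) ∨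
    (5 ≤ Fintype.card F ∧ ∃ (e : (Unit ⊕ (Fin 4 ⊕ Fin 4)) ≃ (Fin 2 → Fin 3)) (P : Matrix.GeneralLinearGroup (Unit ⊕ (Fin 4 ⊕ Fin 4)) F) (f₁ : (Fin 3 → F) → (Fin 3 → F) → F), Cfsg.Geo.IsSymmetricForm f₁ ∧ Cfsg.Geo.IsTensorPowerFormStructure id (QuadraticMap.polar (Cfsg.quadFormOdd 4 F)) f₁ e P ∧ H = Cfsg.Geo.tensorWreathSubgroup 3 2 e P ⊓ Cfsg.Geo.omegaGL (Cfsg.quadFormOdd 4 F)) ∨
    Cfsg.Geo.InOrthogonalResidualClass H := by
  have h2 : (2 : F) ≠ 0 := two_ne_zero_of_odd_card hodd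
  have hQ := nondegenerate_QOdd F h2 4
  have hcoe := coe_QOdd (F := F) 4
  have hcard := card_idx 4
  have h5 : 5 ≤ Fintype.card (Unit ⊕ (Fin 4 ⊕ Fin 4)) := by rw [hcard]; omega
  have h7 : 7 ≤ Fintype.card (Unit ⊕ (Fin 4 ⊕ Fin 4)) := by rw [hcard]; omega
  have hΩI := omegaGL_le_iso (F := F) (Cfsg.quadFormOdd 4 F)
  have hq1 : 1 < Fintype.card F := Fintype.one_lt_card
  have hq35 : Fintype.card F = 3 ∨ 5 ≤ Fintype.card F := by
    obtain ⟨k, hk⟩ := hodd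
    omega
  rcases reduce hodd 4 (by norm_num) hub H hH with h | h | ⟨t, k, D, hk, ht, hdim, hD, hle⟩ | h |
    ⟨r, K, hr, hrn, hdvd, hK, hsa, hHK⟩ | ⟨n₁, n₂, h1, h12, hn12⟩ | h |
    ⟨k, t, e, P, f₁, hk, ht, hkt, hex, hf₁, hT, hle⟩ | h
  · exact Or.inl h
  · exact Or.inr (Or.inl h)
  · -- three 3-spaces
    have hk3 : k = 3 ∧ t = 3 := by
      have ht9 : t ∣ 9 := Dvd.intro _ hdim
      have ht' : t ≤ 9 := Nat.le_of_dvd (by norm_num) ht9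
      interval_cases t <;> omega
    obtain ⟨rfl, rfl⟩ := hk3
    rcases hq35 with hq | hq
    · -- `q = 3` : contained in the stabiliser of nine lines
      obtain ⟨D', hD', hDD'⟩ := frame_le_decomp (QOdd F 4) hQ hq D (by rw [hcoe]; exact hD)
      rw [hcoe] at hD' hDD'
      have hle' : H ≤ decompositionStabilizer D' := fun x hx =>
        hDD' ⟨hle hx, hΩI (hH.1.le hx)⟩
      refine Or.inr (Or.inr (Or.inl ⟨by rw [hq]; exact Nat.prime_three, D', hD',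
        eq_of_le_member _ H _ hH hle' ?_⟩))
      have := not_omega_le_decomp (QOdd F 4) hQ h7 h2 (k := 1) (by norm_num) D'
        (by rw [hcoe]; exact hD')
      rwa [hcoe] at this
    · refine Or.inr (Or.inr (Or.inr (Or.inl ⟨hq, D, hD, eq_of_le_member _ H _ hH hle ?_⟩)))
      have := not_omega_le_decomp (QOdd F 4) hQ h7 h2 (k := 3) (by norm_num) D
        (by rw [hcoe]; exact hD)
      rwa [hcoe] at this
  · exact Or.inr (Or.inr (Or.inl h))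
  · -- the field of degree 3
    have hr3 : r = 3 := by
      have hr9 : r ∣ 3 ^ 2 := by norm_num at hdvd ⊢; exact hdvd
      exact (Nat.prime_dvd_prime_iff_eq hr Nat.prime_three).mp (hr.dvd_of_dvd_pow hr9)
    subst hr3
    exact Or.inr (Or.inr (Or.inr (Or.inr (Or.inl ⟨K, hK, hsa, hHK⟩))))
  · -- C4 impossible
    exfalso
    have : 3 * 4 ≤ n₁ * n₂ := Nat.mul_le_mul h1 (by omega)
    omega
  · exact Or.inr (Or.inr (Or.inr (Or.inr (Or.inr (Or.inl h)))))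
  · -- the tensor square
    have hk3 : k = 3 ∧ t = 2 := by
      have h9 : k ^ t = 9 := by rw [hkt]
      have hk9 : k ≤ 9 := by
        have h1 : k ^ 1 ≤ k ^ t := Nat.pow_le_pow_right (by omega) (by omega)
        rw [pow_one, h9] at h1
        exact h1
      have ht4 : t < 4 := by
        by_contra hcon
        have h1 : 3 ^ 4 ≤ k ^ t :=
          (Nat.pow_le_pow_left hk 4).trans (Nat.pow_le_pow_right (by omega) (by omega))
        rw [h9] at h1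
        norm_num at h1
      interval_cases t <;> interval_cases k <;> simp_all
    obtain ⟨rfl, rfl⟩ := hk3
    have hq5 : 5 ≤ Fintype.card F := by
      rcases hq35 with hq | hq
      · exact absurd ⟨hq, rfl⟩ hex
      · exact hq
    refine Or.inr (Or.inr (Or.inr (Or.inr (Or.inr (Or.inr (Or.inl ⟨hq5, e, P, f₁, hf₁, hT,
      eq_of_le_member _ H _ hH hle ?_⟩))))))
    have := not_omega_le_tensorWreath (QOdd F 4) hQ h2 e P
    rwa [hcoe] at this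
  · exact Or.inr (Or.inr (Or.inr (Or.inr (Or.inr (Or.inr (Or.inr h))))))

end odd

end Cfsg.Agent.Lib.Helper29.S5814M
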