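import Mathlib
import Cfsg.Prelude.Def_GeometricClasses
import Cfsg.Agent.H5.HubCorP4
import Cfsg.Agent.Lib.Helper13.OrthNondeg
import Cfsg.Agent.Lib.Helper13.OrthMax
import Cfsg.Agent.Lib.Helper29.S5814PFLD

/-!
# S5814 / S5835 / S5859 : piece P-TW

`Ω₉` is not contained in a tensor wreath subgroup `GL₃ ≀ S₂`: a root element `ρ = 1 + N` (`N` of rank two) is the
square of a root element, hence would be conjugate to a Kronecker product `A ⊗ B`; but `A ⊗ B - 1` of rank at most
two forces `A ⊗ B = 1`.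
-/

set_option autoImplicit false
set_option linter.unusedSectionVars false
set_option linter.unusedVariables false

namespace Cfsg.Agent.Lib.Helper29.S5814

open Matrix Cfsg.Geo Module
open Cfsg.H5.HubCor (wm wm_apply wm_mul exists_wm_of_mem)

section tensor
variable {F : Type*} [Field F]

/-- the pure tensor `a ⊗ b` as a vector indexed by `Fin 2 → Fin 3` -/
def ptv (a b : Fin 3 → F) : (Fin 2 → Fin 3) → F := fun x => a (x 0) * b (x 1)

theorem sum_fin_two_arrow {M : Type*} [AddCommMonoid M] (f : (Fin 2 → Fin 3) → M) :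
    ∑ y, f y = ∑ i, ∑ j, f ![i, j] := by
  rw [← Fintype.sum_prod_type']
  exact Fintype.sum_equiv (finTwoArrowEquiv (Fin 3)) _ _ (fun y => by
    congr 1
    funext k
    fin_cases k <;> rfl)

theorem wm_mulVec_ptv (hs : Fin 2 → Matrix (Fin 3) (Fin 3) F) (a b : Fin 3 → F) :
    wm 3 2 1 hs *ᵥ ptv a b = ptv (hs 0 *ᵥ a) (hs 1 *ᵥ b) := by
  funext x
  rw [Matrix.mulVec, dotProduct, sum_fin_two_arrow]
  simp only [wm_apply, Fin.prod_univ_two, Equiv.Perm.one_apply, ptv, Matrix.cons_val_zero,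
    Matrix.cons_val_one, Matrix.mulVec, dotProduct]
  rw [Finset.sum_mul_sum]
  refine Finset.sum_congr rfl fun i _ => Finset.sum_congr rfl fun j _ => ?_
  ring

theorem ptv_add_left (a a' b : Fin 3 → F) : ptv (a + a') b = ptv a b + ptv a' b := by
  funext x
  simp only [ptv, Pi.add_apply]
  ring

theorem ptv_smul_left (c : F) (a b : Fin 3 → F) : ptv (c • a) b = c • ptv a b := by
  funext x
  simp only [ptv, Pi.smul_apply, smul_eq_mul]
  ring

theorem ptv_add_right (a b b' : Fin 3 → F) : ptv a (b + b') = ptv a b + ptv a b' := by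
  funext x
  simp only [ptv, Pi.add_apply]
  ring

theorem ptv_smul_right (c : F) (a b : Fin 3 → F) : ptv a (c • b) = c • ptv a b := by
  funext x
  simp only [ptv, Pi.smul_apply, smul_eq_mul]
  ring

/-- if `a' ⊗ b' = a ⊗ b` with `a, b ≠ 0` then `b'` is a multiple of `b` -/
theorem ptv_eq_right {a b a' b' : Fin 3 → F} (ha : a ≠ 0) (hb : b ≠ 0) (h : ptv a' b' = ptv a b) :
    ∃ μ : F, b' = μ • b := by
  obtain ⟨i₀, hi₀⟩ : ∃ i, a i ≠ 0 := by
    by_contra hcon
    push Not at hcon
    exact ha (funext hcon)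
  have hk : ∀ j, a' i₀ * b' j = a i₀ * b j := fun j => by
    have := congrFun h ![i₀, j]
    simpa [ptv] using this
  have ha' : a' i₀ ≠ 0 := by
    intro h0
    obtain ⟨j₀, hj₀⟩ : ∃ j, b j ≠ 0 := by
      by_contra hcon
      push Not at hcon
      exact hb (funext hcon)
    have := hk j₀
    rw [h0, zero_mul] at this
    exact mul_ne_zero hi₀ hj₀ this.symm
  refine ⟨a i₀ / a' i₀, funext fun j => ?_⟩
  rw [Pi.smul_apply, smul_eq_mul]
  field_simp
  rw [mul_comm]
  exact hk j

/-- if `a' ⊗ b' = a ⊗ b` with `a, b ≠ 0` then `a'` is a multiple of `a` -/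
theorem ptv_eq_left {a b a' b' : Fin 3 → F} (ha : a ≠ 0) (hb : b ≠ 0) (h : ptv a' b' = ptv a b) :
    ∃ μ : F, a' = μ • a := by
  obtain ⟨j₀, hj₀⟩ : ∃ j, b j ≠ 0 := by
    by_contra hcon
    push Not at hcon
    exact hb (funext hcon)
  have hk : ∀ i, a' i * b' j₀ = a i * b j₀ := fun i => by
    have := congrFun h ![i, j₀]
    simpa [ptv] using this
  have hb' : b' j₀ ≠ 0 := by
    intro h0
    obtain ⟨i₀, hi₀⟩ : ∃ i, a i ≠ 0 := by
      by_contra hcon
      push Not at hcon
      exact ha (funext hcon)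
    have := hk i₀
    rw [h0, mul_zero] at this
    exact mul_ne_zero hi₀ hj₀ this.symm
  refine ⟨b j₀ / b' j₀, funext fun i => ?_⟩
  rw [Pi.smul_apply, smul_eq_mul]
  field_simp
  rw [mul_comm (b j₀)]
  exact hk i

/-- a matrix for which every non-zero vector is an eigenvector is scalar -/
theorem scalar_of_forall_eigen (B : Matrix (Fin 3) (Fin 3) F)
    (h : ∀ b : Fin 3 → F, b ≠ 0 → ∃ μ : F, B *ᵥ b = μ • b) : ∃ β : F, B = β • 1 := by
  have hsingle : ∀ i : Fin 3, (Pi.single i 1 : Fin 3 → F) ≠ 0 := fun i hi => by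
    have := congrFun hi i
    simp at this
  choose μ hμ using fun i => h (Pi.single i 1) (hsingle i)
  have heq : ∀ i j : Fin 3, μ i = μ j := by
    intro i j
    by_cases hij : i = j
    · rw [hij]
    have hne : (Pi.single i 1 + Pi.single j 1 : Fin 3 → F) ≠ 0 := by
      intro h0
      have := congrFun h0 i
      simp [Pi.single_eq_of_ne hij] at this
    obtain ⟨ν, hν⟩ := h _ hne
    rw [mulVec_add, hμ i, hμ j, smul_add] at hν
    have h1 := congrFun hν i
    have h2 := congrFun hν j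
    simp [Pi.single_eq_of_ne hij, Pi.single_eq_of_ne (Ne.symm hij)] at h1 h2
    rw [h1, h2]
  refine ⟨μ 0, ?_⟩
  apply Matrix.ext_of_mulVec_single
  intro i
  rw [hμ i, heq i 0, smul_mulVec, one_mulVec]

/-- for `b ≠ 0` some `a ≠ 0` has `(T - 1) (a ⊗ b) = 0`, when the range of `T - 1` has dimension `≤ 2` -/
theorem exists_left_of_range (T : Matrix (Fin 2 → Fin 3) (Fin 2 → Fin 3) F)
    (S : Submodule F ((Fin 2 → Fin 3) → F)) (hS : finrank F S ≤ 2)
    (hrange : ∀ v, T *ᵥ v - v ∈ S) (b : Fin 3 → F) :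
    ∃ a : Fin 3 → F, a ≠ 0 ∧ T *ᵥ ptv a b = ptv a b := by
  let φ : (Fin 3 → F) →ₗ[F] ((Fin 2 → Fin 3) → F) :=
    { toFun := fun a => T *ᵥ ptv a b - ptv a b
      map_add' := fun a a' => by
        simp only [ptv_add_left, mulVec_add]
        abel
      map_smul' := fun c a => by
        simp only [ptv_smul_left, mulVec_smul, RingHom.id_apply, smul_sub] }
  let ψ : (Fin 3 → F) →ₗ[F] S := LinearMap.codRestrict S φ (fun a => hrange (ptv a b))
  have hninj : ¬ Function.Injective ψ := by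
    intro hinj
    have h1 := LinearMap.finrank_le_finrank_of_injective hinj
    rw [Module.finrank_fin_fun] at h1
    omega
  rw [← LinearMap.ker_eq_bot, Submodule.eq_bot_iff] at hninj
  push Not at hninj
  obtain ⟨a, hak, ha0⟩ := hninj
  refine ⟨a, ha0, ?_⟩
  have h1 : ψ a = 0 := hak
  have h2 : φ a = 0 := by
    have := congrArg Subtype.val h1
    simpa [ψ] using this
  exact sub_eq_zero.mp h2

/-- for `a ≠ 0` some `b ≠ 0` has `(T - 1) (a ⊗ b) = 0`, when the range of `T - 1` has dimension `≤ 2` -/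
theorem exists_right_of_range (T : Matrix (Fin 2 → Fin 3) (Fin 2 → Fin 3) F)
    (S : Submodule F ((Fin 2 → Fin 3) → F)) (hS : finrank F S ≤ 2)
    (hrange : ∀ v, T *ᵥ v - v ∈ S) (a : Fin 3 → F) :
    ∃ b : Fin 3 → F, b ≠ 0 ∧ T *ᵥ ptv a b = ptv a b := by
  let φ : (Fin 3 → F) →ₗ[F] ((Fin 2 → Fin 3) → F) :=
    { toFun := fun b => T *ᵥ ptv a b - ptv a b
      map_add' := fun b b' => by
        simp only [ptv_add_right, mulVec_add]
        abel
      map_smul' := fun c b => by
        simp only [ptv_smul_right, mulVec_smul, RingHom.id_apply, smul_sub] }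
  let ψ : (Fin 3 → F) →ₗ[F] S := LinearMap.codRestrict S φ (fun b => hrange (ptv a b))
  have hninj : ¬ Function.Injective ψ := by
    intro hinj
    have h1 := LinearMap.finrank_le_finrank_of_injective hinj
    rw [Module.finrank_fin_fun] at h1
    omega
  rw [← LinearMap.ker_eq_bot, Submodule.eq_bot_iff] at hninj
  push Not at hninj
  obtain ⟨b, hbk, hb0⟩ := hninj
  refine ⟨b, hb0, ?_⟩
  have h1 : ψ b = 0 := hbk
  have h2 : φ b = 0 := by
    have := congrArg Subtype.val h1
    simpa [ψ] using this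
  exact sub_eq_zero.mp h2

/-- LEMMA : if `A ⊗ B - 1` has its range in a space of dimension `≤ 2` then `A ⊗ B = 1` -/
theorem wm_eq_one_of_range (hs : Fin 2 → Matrix (Fin 3) (Fin 3) F)
    (S : Submodule F ((Fin 2 → Fin 3) → F)) (hS : finrank F S ≤ 2)
    (hrange : ∀ v, wm 3 2 1 hs *ᵥ v - v ∈ S) : wm 3 2 1 hs = 1 := by
  obtain ⟨β, hβ⟩ : ∃ β : F, hs 1 = β • 1 := by
    apply scalar_of_forall_eigen
    intro b hb
    obtain ⟨a, ha0, ha⟩ := exists_left_of_range _ S hS hrange b
    rw [wm_mulVec_ptv] at ha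
    exact ptv_eq_right ha0 hb ha
  obtain ⟨α, hα⟩ : ∃ α : F, hs 0 = α • 1 := by
    apply scalar_of_forall_eigen
    intro a ha
    obtain ⟨b, hb0, hb⟩ := exists_right_of_range _ S hS hrange a
    rw [wm_mulVec_ptv] at hb
    exact ptv_eq_left ha hb0 hb
  have hT : wm 3 2 1 hs = (α * β) • 1 := by
    funext x y
    rw [wm_apply, Fin.prod_univ_two, hα, hβ]
    simp only [Equiv.Perm.one_apply, Matrix.smul_apply, Matrix.one_apply, smul_eq_mul]
    by_cases hxy : x = y
    · subst hxy
      simp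
    · have : ¬ (x 0 = y 0 ∧ x 1 = y 1) := by
        rintro ⟨h0, h1⟩
        apply hxy
        funext k
        fin_cases k
        · exact h0
        · exact h1
      rw [if_neg hxy]
      by_cases h0 : x 0 = y 0
      · have h1 : ¬ x 1 = y 1 := fun h1 => this ⟨h0, h1⟩
        simp [h1]
      · simp [h0]
  by_cases hαβ : α * β = 1
  · rw [hT, hαβ, one_smul]
  · exfalso
    have htop : S = ⊤ := by
      rw [eq_top_iff]
      intro v _
      have h1 := hrange ((α * β - 1)⁻¹ • v)
      rw [hT, smul_mulVec, one_mulVec] at h1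
      have e : (α * β) • (α * β - 1)⁻¹ • v - (α * β - 1)⁻¹ • v = v := by
        rw [smul_smul, ← sub_smul]
        have : α * β * (α * β - 1)⁻¹ - (α * β - 1)⁻¹ = 1 := by
          have h0 : α * β - 1 ≠ 0 := sub_ne_zero.mpr hαβ
          field_simp
        rw [this, one_smul]
      rwa [e] at h1
    rw [htop, finrank_top, Module.finrank_fintype_fun_eq_card] at hS
    simp at hS

end tensor


section main

open QuadraticMap
open Cfsg.Agent.Lib.Helper6 Cfsg.Agent.Lib.Helper13 Cfsg.Agent.Lib.Helper13.OND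

universe u
variable {F : Type u} [Field F] [Fintype F] {ι : Type} [Fintype ι] [DecidableEq ι]
variable (Q : QuadraticForm F (ι → F))

/-- P-TW -/
theorem not_omega_le_tensorWreath (hQ : (polarBilin Q).Nondegenerate) (h2 : (2 : F) ≠ 0)
    (e : ι ≃ (Fin 2 → Fin 3)) (P : GL ι F) : ¬ omegaGL ⇑Q ≤ tensorWreathSubgroup 3 2 e P := by
  intro hle
  have hcard : Fintype.card ι = 9 := by
    rw [Fintype.card_congr e]
    simp
  have h5 : 5 ≤ Fintype.card ι := by omega
  obtain ⟨u, u', w, hu, hu', huu', hw0, hw, huw, hu'w⟩ := exists_sing_pair Q hQ h5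
  have hw' : Q ((2 : F)⁻¹ • w) = 0 := by
    rw [QuadraticMap.map_smul, hw, smul_zero]
  have huw' : polar (⇑Q) u ((2 : F)⁻¹ • w) = 0 := by
    rw [polar_smul_right, huw, smul_zero]
  obtain ⟨g, hgΩ, hg⟩ := exists_root Q hQ h5 u ((2 : F)⁻¹ • w) hu hw' huw'
  have hwu : polar (⇑Q) w u = 0 := by rw [polar_comm]; exact huw
  have hww : polar (⇑Q) w w = 0 := by rw [polar_self, hw, smul_zero]
  have huu : polar (⇑Q) u u = 0 := by rw [polar_self, hu, smul_zero]
  -- the square of `g` is the root element of `u, w`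
  have hgg : ∀ x, ((g * g : GL ι F) : Matrix ι ι F) *ᵥ x =
      x + polar (⇑Q) w x • u - polar (⇑Q) u x • w := by
    intro x
    rw [Units.val_mul, ← mulVec_mulVec, hg x, hg]
    simp only [polar_add_right, polar_sub_right, polar_smul_right, polar_smul_left, smul_eq_mul,
      hwu, hww, huu, huw, mul_zero, add_zero, sub_zero]
    ext i
    simp only [Pi.add_apply, Pi.sub_apply, Pi.smul_apply, smul_eq_mul]
    field_simp
    ring
  -- `g` in the tensor wreath subgroup
  have hmem := hle hgΩ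
  unfold tensorWreathSubgroup at hmem
  obtain ⟨y, ⟨h, hh, rfl⟩, hy⟩ := hmem
  obtain ⟨σ, gs, hwm⟩ := exists_wm_of_mem h hh
  have hσ : σ * σ = 1 := by
    have hall : ∀ τ : Equiv.Perm (Fin 2), τ * τ = 1 := by decide
    exact hall σ
  set hs : Fin 2 → Matrix (Fin 3) (Fin 3) F := fun i => gs i * gs (σ i) with hhs
  set T : Matrix (Fin 2 → Fin 3) (Fin 2 → Fin 3) F := wm 3 2 1 hs with hT
  have hhh : ((h * h : GL (Fin 2 → Fin 3) F) : Matrix (Fin 2 → Fin 3) (Fin 2 → Fin 3) F) = T := by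
    rw [Units.val_mul, hwm, wm_mul, hσ]
  have hggval : ((g * g : GL ι F) : Matrix ι ι F) =
      (P : Matrix ι ι F) * T.submatrix e e * ((P⁻¹ : GL ι F) : Matrix ι ι F) := by
    rw [← hy, ← map_mul, ← map_mul, ← hhh]
    rfl
  have hPinv : ((P⁻¹ : GL ι F) : Matrix ι ι F) * (P : Matrix ι ι F) = 1 := by
    rw [← Units.val_mul, inv_mul_cancel, Units.val_one]
  -- the coordinate change
  let L : (ι → F) →ₗ[F] ((Fin 2 → Fin 3) → F) :=
    (LinearMap.funLeft F F e.symm).comp (Matrix.toLin' ((P⁻¹ : GL ι F) : Matrix ι ι F))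
  have hL : ∀ v, L v = (((P⁻¹ : GL ι F) : Matrix ι ι F) *ᵥ v) ∘ e.symm := by
    intro v
    funext x
    simp [L, LinearMap.funLeft_apply]
  have hkey : ∀ v, T *ᵥ L v = L (((g * g : GL ι F) : Matrix ι ι F) *ᵥ v) := by
    intro v
    rw [hL, hL, hggval, ← mulVec_mulVec, ← mulVec_mulVec, mulVec_mulVec _ _ (P : Matrix ι ι F),
      hPinv, one_mulVec, submatrix_mulVec_equiv]
    funext x
    simp
  have hLsurj : ∀ z : (Fin 2 → Fin 3) → F, ∃ v, L v = z := by
    intro z
    refine ⟨(P : Matrix ι ι F) *ᵥ (z ∘ e), ?_⟩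
    rw [hL, mulVec_mulVec, hPinv, one_mulVec]
    funext x
    simp
  let S : Submodule F ((Fin 2 → Fin 3) → F) := Submodule.span F (Set.range ![L u, L w])
  have hS : finrank F S ≤ 2 := by
    have := finrank_range_le_card (R := F) ![L u, L w]
    rw [Fintype.card_fin] at this
    exact this
  have hrange : ∀ z, T *ᵥ z - z ∈ S := by
    intro z
    obtain ⟨v, rfl⟩ := hLsurj z
    rw [hkey, hgg, ← map_sub, add_sub_assoc, add_sub_cancel_left, map_sub, map_smul, map_smul]
    have hb0 : L u ∈ S := Submodule.subset_span ⟨0, rfl⟩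
    have hb1 : L w ∈ S := Submodule.subset_span ⟨1, rfl⟩
    exact S.sub_mem (S.smul_mem _ hb0) (S.smul_mem _ hb1)
  have hT1 : T = 1 := wm_eq_one_of_range hs S hS hrange
  have hgg1 : ((g * g : GL ι F) : Matrix ι ι F) = 1 := by
    rw [hggval, hT1, submatrix_one_equiv, mul_one, ← Units.val_mul, mul_inv_cancel, Units.val_one]
  have h1 := hgg u'
  rw [hgg1, one_mulVec, polar_comm (⇑Q) w u', hu'w, zero_smul, add_zero, huu', one_smul] at h1
  exact hw0 (by
    have h3 : u' - w = u' := h1.symm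
    simpa using h3)

end main

end Cfsg.Agent.Lib.Helper29.S5814
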