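import Mathlib
import Cfsg.Prelude.Def_GeometricClasses

/-!
# Conjugacy in SL₂ of a finite field, and quaternion subgroups of GL₂ (helper29)

* `ch2` : Cayley–Hamilton for 2 × 2 matrices.
* `tr_det_of_quadratic` : a non-scalar 2 × 2 matrix satisfying a monic quadratic has that trace and determinant.
* `comm_of_comm_nonscalar` : the commutant of a non-scalar 2 × 2 matrix is commutative.
* `exists_form_eq_one` : a nondegenerate binary quadratic form over a finite field of odd order represents 1.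
* `exists_sl_conj` : two elements of determinant 1 of GL₂(F) with the same trace τ, τ² ≠ 4, are conjugate under SL₂(F).
* `quat_facts`, `quat_normalizer`, `exists_order_six`, `centralizes_of_pow`.
-/

set_option autoImplicit false

namespace Cfsg.Agent.Helper29.SLTwo

open Matrix Polynomial

variable {F : Type*} [Field F]

omit [Field F] in
theorem ext2 {A B : Matrix (Fin 2) (Fin 2) F} (h00 : A 0 0 = B 0 0) (h01 : A 0 1 = B 0 1)
    (h10 : A 1 0 = B 1 0) (h11 : A 1 1 = B 1 1) : A = B := by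
  ext i j
  fin_cases i <;> fin_cases j
  · exact h00
  · exact h01
  · exact h10
  · exact h11

/-- Cayley–Hamilton for 2 × 2 matrices. -/
theorem ch2 (M : Matrix (Fin 2) (Fin 2) F) :
    M * M = M.trace • M - M.det • (1 : Matrix (Fin 2) (Fin 2) F) := by
  apply ext2 <;>
    simp [Matrix.mul_apply, Fin.sum_univ_two, Matrix.trace_fin_two, Matrix.det_fin_two] <;> ring

theorem tr_det_of_quadratic (M : Matrix (Fin 2) (Fin 2) F) (s t : F)
    (h : M * M = s • M - t • (1 : Matrix (Fin 2) (Fin 2) F))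
    (hns : ∀ z : F, M ≠ z • (1 : Matrix (Fin 2) (Fin 2) F)) : M.trace = s ∧ M.det = t := by
  have h2 := ch2 M
  rw [h] at h2
  have h3 : (s - M.trace) • M = (t - M.det) • (1 : Matrix (Fin 2) (Fin 2) F) := by
    linear_combination (norm := module) h2
  by_cases hs : s - M.trace = 0
  · rw [hs, zero_smul] at h3
    have h4 : t - M.det = 0 := by
      have := congrFun (congrFun h3 0) 0
      rw [Matrix.zero_apply, Matrix.smul_apply, Matrix.one_apply_eq, smul_eq_mul, mul_one] at this
      exact this.symm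
    exact ⟨(sub_eq_zero.mp hs).symm, (sub_eq_zero.mp h4).symm⟩
  · exfalso
    apply hns ((s - M.trace)⁻¹ * (t - M.det))
    rw [mul_smul, ← h3, inv_smul_smul₀ hs]

/-- The commutant of a non-scalar 2 × 2 matrix is commutative. -/
theorem comm_of_comm_nonscalar (Y M N : Matrix (Fin 2) (Fin 2) F)
    (hns : ∀ z : F, Y ≠ z • (1 : Matrix (Fin 2) (Fin 2) F))
    (hM : M * Y = Y * M) (hN : N * Y = Y * N) : M * N = N * M := by
  have e11 := congrFun (congrFun hM 0) 0
  have e12 := congrFun (congrFun hM 0) 1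
  have e21 := congrFun (congrFun hM 1) 0
  have f11 := congrFun (congrFun hN 0) 0
  have f12 := congrFun (congrFun hN 0) 1
  have f21 := congrFun (congrFun hN 1) 0
  simp only [Matrix.mul_apply, Fin.sum_univ_two] at e11 e12 e21 f11 f12 f21
  have hne : Y 0 1 ≠ 0 ∨ Y 1 0 ≠ 0 ∨ Y 0 0 ≠ Y 1 1 := by
    by_contra hcon
    push Not at hcon
    obtain ⟨h1, h2, h3⟩ := hcon
    apply hns (Y 0 0)
    apply ext2
    · simp
    · simp [h1]
    · simp [h2]
    · simp [← h3]
  rcases hne with hb | hc | hd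
  · have m10 : M 1 0 = M 0 1 * Y 1 0 / Y 0 1 := by
      rw [eq_div_iff hb]; linear_combination (-1 : F) * e11
    have n10 : N 1 0 = N 0 1 * Y 1 0 / Y 0 1 := by
      rw [eq_div_iff hb]; linear_combination (-1 : F) * f11
    have m11 : M 1 1 = M 0 0 + M 0 1 * (Y 1 1 - Y 0 0) / Y 0 1 := by
      rw [← sub_eq_iff_eq_add', eq_div_iff hb]; linear_combination (-1 : F) * e12
    have n11 : N 1 1 = N 0 0 + N 0 1 * (Y 1 1 - Y 0 0) / Y 0 1 := by
      rw [← sub_eq_iff_eq_add', eq_div_iff hb]; linear_combination (-1 : F) * f12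
    apply ext2 <;> simp only [Matrix.mul_apply, Fin.sum_univ_two, m10, n10, m11, n11] <;> ring
  · have m01 : M 0 1 = M 1 0 * Y 0 1 / Y 1 0 := by
      rw [eq_div_iff hc]; linear_combination e11
    have n01 : N 0 1 = N 1 0 * Y 0 1 / Y 1 0 := by
      rw [eq_div_iff hc]; linear_combination f11
    have m11 : M 1 1 = M 0 0 + M 1 0 * (Y 1 1 - Y 0 0) / Y 1 0 := by
      rw [← sub_eq_iff_eq_add', eq_div_iff hc]; linear_combination e21
    have n11 : N 1 1 = N 0 0 + N 1 0 * (Y 1 1 - Y 0 0) / Y 1 0 := by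
      rw [← sub_eq_iff_eq_add', eq_div_iff hc]; linear_combination f21
    apply ext2 <;> simp only [Matrix.mul_apply, Fin.sum_univ_two, m01, n01, m11, n11] <;> ring
  · have hd' : Y 0 0 - Y 1 1 ≠ 0 := sub_ne_zero.mpr hd
    have m01 : M 0 1 = (M 0 0 - M 1 1) * Y 0 1 / (Y 0 0 - Y 1 1) := by
      rw [eq_div_iff hd']; linear_combination (-1 : F) * e12
    have n01 : N 0 1 = (N 0 0 - N 1 1) * Y 0 1 / (Y 0 0 - Y 1 1) := by
      rw [eq_div_iff hd']; linear_combination (-1 : F) * f12
    have m10 : M 1 0 = (M 0 0 - M 1 1) * Y 1 0 / (Y 0 0 - Y 1 1) := by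
      rw [eq_div_iff hd']; linear_combination e21
    have n10 : N 1 0 = (N 0 0 - N 1 1) * Y 1 0 / (Y 0 0 - Y 1 1) := by
      rw [eq_div_iff hd']; linear_combination f21
    apply ext2 <;> simp only [Matrix.mul_apply, Fin.sum_univ_two, m01, n01, m10, n10] <;> ring

theorem exists_form_aux [Fintype F] (hodd : Fintype.card F % 2 = 1) (h2 : (2 : F) ≠ 0)
    (α β γ : F) (hα : α ≠ 0) (hD : β ^ 2 - 4 * α * γ ≠ 0) :
    ∃ s t : F, α * s ^ 2 + β * s * t + γ * t ^ 2 = 1 := by
  have hf : degree (X ^ 2 - C (4 * α) : F[X]) = 2 := by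
    rw [degree_X_pow_sub_C (by norm_num : 0 < 2)]; rfl
  have hg : degree (C (-(β ^ 2 - 4 * α * γ)) * X ^ 2 : F[X]) = 2 := by
    rw [degree_C_mul_X_pow 2 (neg_ne_zero.mpr hD)]; rfl
  obtain ⟨u, w, huw⟩ := FiniteField.exists_root_sum_quadratic hf hg hodd
  simp only [eval_sub, eval_pow, eval_X, eval_C, eval_mul] at huw
  have h2α : 2 * α ≠ 0 := mul_ne_zero h2 hα
  refine ⟨(u - β * w) / (2 * α), w, ?_⟩
  have hs : 2 * α * ((u - β * w) / (2 * α)) = u - β * w := by field_simp
  generalize (u - β * w) / (2 * α) = s at hs ⊢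
  apply mul_left_cancel₀ (mul_ne_zero (mul_ne_zero h2 h2) hα)
  linear_combination (2 * α * s + u + β * w) * hs + huw

/-- A nondegenerate binary quadratic form over a finite field of odd order represents 1. -/
theorem exists_form_eq_one [Fintype F] (hodd : Fintype.card F % 2 = 1) (h2 : (2 : F) ≠ 0)
    (α β γ : F) (hD : β ^ 2 - 4 * α * γ ≠ 0) :
    ∃ s t : F, α * s ^ 2 + β * s * t + γ * t ^ 2 = 1 := by
  by_cases hα : α = 0
  · by_cases hγ : γ = 0
    · have hβ : β ≠ 0 := by
        intro hβ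
        apply hD
        rw [hβ, hα]; ring
      refine ⟨1, β⁻¹, ?_⟩
      rw [hα, hγ]
      field_simp
      ring
    · obtain ⟨s, t, hst⟩ := exists_form_aux hodd h2 γ β α hγ (by
        intro h; apply hD; linear_combination h)
      exact ⟨t, s, by linear_combination hst⟩
  · exact exists_form_aux hodd h2 α β γ hα hD

/-- The companion matrix of `X² - τ X + 1`. -/
def comp (τ : F) : Matrix (Fin 2) (Fin 2) F := !![0, -1; 1, τ]

theorem exists_conj_companion [Fintype F] (hodd : Fintype.card F % 2 = 1) (h2 : (2 : F) ≠ 0)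
    (X : Matrix (Fin 2) (Fin 2) F) (hdet : X.det = 1) (τ : F) (htr : X.trace = τ) (hτ : τ ^ 2 ≠ 4) :
    ∃ A : Matrix (Fin 2) (Fin 2) F, A.det = 1 ∧ X * A = A * comp τ := by
  rw [Matrix.det_fin_two] at hdet
  rw [Matrix.trace_fin_two] at htr
  obtain ⟨s, t, hst⟩ := exists_form_eq_one hodd h2 (X 1 0) (X 1 1 - X 0 0) (-(X 0 1)) (by
    intro h
    apply hτ
    rw [← htr]
    linear_combination h + 4 * hdet)
  refine ⟨!![s, X 0 0 * s + X 0 1 * t; t, X 1 0 * s + X 1 1 * t], ?_, ?_⟩
  · rw [Matrix.det_fin_two_of]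
    linear_combination hst
  · apply ext2
    · simp [comp, Matrix.mul_apply, Fin.sum_univ_two]
    · simp [comp, Matrix.mul_apply, Fin.sum_univ_two]
      linear_combination (-s) * hdet + (X 0 0 * s + X 0 1 * t) * htr
    · simp [comp, Matrix.mul_apply, Fin.sum_univ_two]
    · simp [comp, Matrix.mul_apply, Fin.sum_univ_two]
      linear_combination (-t) * hdet + (X 1 0 * s + X 1 1 * t) * htr

theorem mem_sl_iff (g : GL (Fin 2) F) :
    g ∈ Cfsg.Geo.specialLinear (Fin 2) F ↔ (g : Matrix (Fin 2) (Fin 2) F).det = 1 := by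
  unfold Cfsg.Geo.specialLinear
  rw [MonoidHom.mem_ker]
  constructor
  · intro h
    have := congrArg Units.val h
    simpa using this
  · intro h
    exact Units.ext (by simpa using h)

/-- Make an element of GL₂ from a matrix of determinant one. -/
noncomputable def glOfDetOne (A : Matrix (Fin 2) (Fin 2) F) (hA : A.det = 1) : GL (Fin 2) F :=
  ⟨A, A⁻¹, Matrix.mul_nonsing_inv A (by rw [hA]; exact isUnit_one),
    Matrix.nonsing_inv_mul A (by rw [hA]; exact isUnit_one)⟩

theorem glOfDetOne_val (A : Matrix (Fin 2) (Fin 2) F) (hA : A.det = 1) :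
    ((glOfDetOne A hA : GL (Fin 2) F) : Matrix (Fin 2) (Fin 2) F) = A := rfl

/-- Two elements of determinant 1 of GL₂(F), F a finite field of odd order, with the same trace `τ`,
`τ² ≠ 4`, are conjugate under SL₂(F). -/
theorem exists_sl_conj [Fintype F] (hodd : Fintype.card F % 2 = 1) (h2 : (2 : F) ≠ 0)
    (x y : GL (Fin 2) F)
    (hx : (x : Matrix (Fin 2) (Fin 2) F).det = 1) (hy : (y : Matrix (Fin 2) (Fin 2) F).det = 1)
    (τ : F) (hxt : (x : Matrix (Fin 2) (Fin 2) F).trace = τ)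
    (hyt : (y : Matrix (Fin 2) (Fin 2) F).trace = τ) (hτ : τ ^ 2 ≠ 4) :
    ∃ g ∈ Cfsg.Geo.specialLinear (Fin 2) F, g⁻¹ * x * g = y := by
  obtain ⟨A, hA, hXA⟩ := exists_conj_companion hodd h2 _ hx τ hxt hτ
  obtain ⟨B, hB, hYB⟩ := exists_conj_companion hodd h2 _ hy τ hyt hτ
  have hC : (comp τ).det = 1 := by
    rw [comp, Matrix.det_fin_two_of]; ring
  have hx1 : x * glOfDetOne A hA = glOfDetOne A hA * glOfDetOne (comp τ) hC := Units.ext hXA
  have hy1 : y * glOfDetOne B hB = glOfDetOne B hB * glOfDetOne (comp τ) hC := Units.ext hYB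
  refine ⟨glOfDetOne A hA * (glOfDetOne B hB)⁻¹, ?_, ?_⟩
  · rw [mem_sl_iff]
    have h1 : Matrix.GeneralLinearGroup.det (glOfDetOne A hA) = 1 := Units.ext hA
    have h3 : Matrix.GeneralLinearGroup.det (glOfDetOne B hB) = 1 := Units.ext hB
    have h4 : Matrix.GeneralLinearGroup.det (glOfDetOne A hA * (glOfDetOne B hB)⁻¹) = 1 := by
      rw [map_mul, map_inv, h1, h3, inv_one, mul_one]
    have := congrArg Units.val h4
    simpa using this
  · have e1 : x = glOfDetOne A hA * glOfDetOne (comp τ) hC * (glOfDetOne A hA)⁻¹ := by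
      rw [← hx1]; group
    have e2 : y = glOfDetOne B hB * glOfDetOne (comp τ) hC * (glOfDetOne B hB)⁻¹ := by
      rw [← hy1]; group
    rw [e1, e2]; group

/-! ### Quaternion subgroups of GL₂ -/

theorem quat_gen (g : QuaternionGroup 2) :
    ∃ ε k : ℕ, g = QuaternionGroup.xa 0 ^ ε * QuaternionGroup.a 1 ^ k := by
  rcases g with k | k
  · refine ⟨0, k.val, ?_⟩
    rw [pow_zero, one_mul, QuaternionGroup.a_one_pow, ZMod.natCast_zmod_val]
  · refine ⟨1, k.val, ?_⟩
    rw [pow_one, QuaternionGroup.a_one_pow, ZMod.natCast_zmod_val, QuaternionGroup.xa_mul_a, zero_add]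

theorem quat_facts (R : Subgroup (GL (Fin 2) F)) (e : ↥R ≃* QuaternionGroup 2) :
    ∃ i j : GL (Fin 2) F, i ∈ R ∧ j ∈ R ∧
      (i : Matrix (Fin 2) (Fin 2) F) * (i : Matrix (Fin 2) (Fin 2) F) = -1 ∧
      (j : Matrix (Fin 2) (Fin 2) F) * (j : Matrix (Fin 2) (Fin 2) F) = -1 ∧
      (j : Matrix (Fin 2) (Fin 2) F) * (i : Matrix (Fin 2) (Fin 2) F)
        = -((i : Matrix (Fin 2) (Fin 2) F) * (j : Matrix (Fin 2) (Fin 2) F)) ∧
      (i : Matrix (Fin 2) (Fin 2) F) * (j : Matrix (Fin 2) (Fin 2) F)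
        ≠ (j : Matrix (Fin 2) (Fin 2) F) * (i : Matrix (Fin 2) (Fin 2) F) ∧
      (∀ h ∈ R, ∃ ε k : ℕ, h = j ^ ε * i ^ k) := by
  have hii : e.symm (QuaternionGroup.a 1) * e.symm (QuaternionGroup.a 1) = e.symm (QuaternionGroup.a 2) :=
    (map_mul e.symm _ _).symm.trans (congrArg e.symm (by decide))
  have hjj : e.symm (QuaternionGroup.xa 0) * e.symm (QuaternionGroup.xa 0) = e.symm (QuaternionGroup.a 2) :=
    (map_mul e.symm _ _).symm.trans (congrArg e.symm (by decide))
  have hji : e.symm (QuaternionGroup.xa 0) * e.symm (QuaternionGroup.a 1)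
      = e.symm (QuaternionGroup.a 2) * (e.symm (QuaternionGroup.a 1) * e.symm (QuaternionGroup.xa 0)) := by
    rw [← map_mul, ← map_mul, ← map_mul]
    exact congrArg e.symm (by decide)
  have hzz : e.symm (QuaternionGroup.a 2) * e.symm (QuaternionGroup.a 2) = 1 := by
    rw [← map_mul, ← map_one e.symm]
    exact congrArg e.symm (by decide)
  have hzi : e.symm (QuaternionGroup.a 1) * e.symm (QuaternionGroup.a 2)
      = e.symm (QuaternionGroup.a 2) * e.symm (QuaternionGroup.a 1) := by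
    rw [← map_mul, ← map_mul]
    exact congrArg e.symm (by decide)
  have hzj : e.symm (QuaternionGroup.xa 0) * e.symm (QuaternionGroup.a 2)
      = e.symm (QuaternionGroup.a 2) * e.symm (QuaternionGroup.xa 0) := by
    rw [← map_mul, ← map_mul]
    exact congrArg e.symm (by decide)
  have hz1 : e.symm (QuaternionGroup.a 2) ≠ 1 := by
    intro h
    have h' := congrArg e h
    rw [MulEquiv.apply_symm_apply, map_one] at h'
    revert h'
    decide
  have hij : e.symm (QuaternionGroup.a 1) * e.symm (QuaternionGroup.xa 0)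
      ≠ e.symm (QuaternionGroup.xa 0) * e.symm (QuaternionGroup.a 1) := by
    intro h
    rw [← map_mul, ← map_mul] at h
    have h' := e.symm.injective h
    revert h'
    decide
  -- pass to matrices
  have toM : ∀ a b c : ↥R, a * b = c →
      ((a : GL (Fin 2) F) : Matrix (Fin 2) (Fin 2) F) * ((b : GL (Fin 2) F) : Matrix (Fin 2) (Fin 2) F)
        = ((c : GL (Fin 2) F) : Matrix (Fin 2) (Fin 2) F) := by
    intro a b c h
    rw [← h, Subgroup.coe_mul, Units.val_mul]
  have fromM : ∀ a b : ↥R,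
      ((a : GL (Fin 2) F) : Matrix (Fin 2) (Fin 2) F) = ((b : GL (Fin 2) F) : Matrix (Fin 2) (Fin 2) F) → a = b := by
    intro a b h
    exact Subtype.ext (Units.ext h)
  have HII := toM _ _ _ hii
  have HJJ := toM _ _ _ hjj
  have HZZ := toM _ _ _ hzz
  have HZI := toM _ _ _ (hzi.trans (mul_one _).symm)
  have HZJ := toM _ _ _ (hzj.trans (mul_one _).symm)
  have HJI := toM _ _ _ (hji.trans (mul_one _).symm)
  simp only [Subgroup.coe_mul, Units.val_mul, mul_one, Subgroup.coe_one, Units.val_one] at HZZ HZI HZJ HJI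
  have HIJne : ((e.symm (QuaternionGroup.a 1) : GL (Fin 2) F) : Matrix (Fin 2) (Fin 2) F)
        * ((e.symm (QuaternionGroup.xa 0) : GL (Fin 2) F) : Matrix (Fin 2) (Fin 2) F)
      ≠ ((e.symm (QuaternionGroup.xa 0) : GL (Fin 2) F) : Matrix (Fin 2) (Fin 2) F)
        * ((e.symm (QuaternionGroup.a 1) : GL (Fin 2) F) : Matrix (Fin 2) (Fin 2) F) := by
    intro h
    apply hij
    apply fromM
    rw [Subgroup.coe_mul, Units.val_mul, Subgroup.coe_mul, Units.val_mul]
    exact h
  -- the central involution is the scalar matrix -1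
  have hZscal : ∃ c : F, ((e.symm (QuaternionGroup.a 2) : GL (Fin 2) F) : Matrix (Fin 2) (Fin 2) F)
      = c • (1 : Matrix (Fin 2) (Fin 2) F) := by
    by_contra hcon
    push Not at hcon
    exact HIJne (comm_of_comm_nonscalar _ _ _ hcon HZI HZJ)
  obtain ⟨c, hc⟩ := hZscal
  have hZ : ((e.symm (QuaternionGroup.a 2) : GL (Fin 2) F) : Matrix (Fin 2) (Fin 2) F) = -1 := by
    have hcc : c * c = 1 := by
      have := HZZ
      rw [hc, Matrix.smul_mul, one_mul, smul_smul] at this
      have h00 := congrFun (congrFun this 0) 0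
      rw [Matrix.smul_apply, Matrix.one_apply_eq, smul_eq_mul, mul_one] at h00
      exact h00
    rcases mul_self_eq_one_iff.mp hcc with h1 | h1
    · exfalso
      apply hz1
      apply fromM
      rw [hc, h1, one_smul, Subgroup.coe_one, Units.val_one]
    · rw [hc, h1, neg_smul, one_smul]
  refine ⟨e.symm (QuaternionGroup.a 1), e.symm (QuaternionGroup.xa 0), SetLike.coe_mem _, SetLike.coe_mem _,
    ?_, ?_, ?_, HIJne, ?_⟩
  · rw [HII, hZ]
  · rw [HJJ, hZ]
  · rw [HJI, hZ, neg_one_mul]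
  · intro h hh
    obtain ⟨ε, k, hεk⟩ := quat_gen (e ⟨h, hh⟩)
    refine ⟨ε, k, ?_⟩
    have h1 : (⟨h, hh⟩ : ↥R) = e.symm (QuaternionGroup.xa 0) ^ ε * e.symm (QuaternionGroup.a 1) ^ k := by
      rw [← map_pow, ← map_pow, ← map_mul, ← hεk, MulEquiv.symm_apply_apply]
    have h2 := congrArg (fun t : ↥R => (t : GL (Fin 2) F)) h1
    simpa using h2

theorem quat_normalizer {G : Type*} [Group G] (R : Subgroup G) [Finite R] (i j : G)
    (hgen : ∀ h ∈ R, ∃ ε k : ℕ, h = j ^ ε * i ^ k) (u : G)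
    (hui : u * i * u⁻¹ ∈ R) (huj : u * j * u⁻¹ ∈ R) :
    u ∈ Subgroup.normalizer (R : Set G) := by
  apply Subgroup.mem_normalizer_fintype
  intro n hn
  obtain ⟨ε, k, rfl⟩ := hgen n hn
  have : u * (j ^ ε * i ^ k) * u⁻¹ = (u * j * u⁻¹) ^ ε * (u * i * u⁻¹) ^ k := by
    rw [conj_pow, conj_pow]; group
  rw [this]
  exact R.mul_mem (R.pow_mem huj ε) (R.pow_mem hui k)

/-- An element of order dividing 6 normalising a quaternion group `⟨I, J⟩` of 2 × 2 matrices. -/
theorem exists_order_six (h2 : (2 : F) ≠ 0) (I J : Matrix (Fin 2) (Fin 2) F)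
    (hII : I * I = -1) (hJJ : J * J = -1) (hJI : J * I = -(I * J))
    (hItr : I.trace = 0) (hJtr : J.trace = 0) :
    ∃ u : GL (Fin 2) F, (u : Matrix (Fin 2) (Fin 2) F).trace = 1 ∧ (u : Matrix (Fin 2) (Fin 2) F).det = 1 ∧
      (u : Matrix (Fin 2) (Fin 2) F) * I = J * (u : Matrix (Fin 2) (Fin 2) F) ∧
      (u : Matrix (Fin 2) (Fin 2) F) * J = (I * J) * (u : Matrix (Fin 2) (Fin 2) F) := by
  have hII' : ∀ X : Matrix (Fin 2) (Fin 2) F, I * (I * X) = -X := by
    intro X; rw [← mul_assoc, hII, neg_mul, one_mul]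
  have hJJ' : ∀ X : Matrix (Fin 2) (Fin 2) F, J * (J * X) = -X := by
    intro X; rw [← mul_assoc, hJJ, neg_mul, one_mul]
  have hJI' : ∀ X : Matrix (Fin 2) (Fin 2) F, J * (I * X) = -(I * (J * X)) := by
    intro X; rw [← mul_assoc, hJI, neg_mul, mul_assoc]
  have hPQ : (1 + I + J + I * J) * (1 - I - J - I * J) = (1 + 1 + 1 + 1 : Matrix (Fin 2) (Fin 2) F) := by
    simp only [mul_add, add_mul, mul_sub, sub_mul, mul_one, one_mul, mul_assoc, hII, hJJ, hJI, hII', hJJ', hJI',
      mul_neg, neg_mul, neg_neg]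
    abel
  have hPI : (1 + I + J + I * J) * I = J * (1 + I + J + I * J) := by
    simp only [mul_add, add_mul, mul_one, one_mul, mul_assoc, hII, hJJ, hJI, hII', hJJ', hJI',
      mul_neg, neg_mul, neg_neg]
    abel
  have hPJ : (1 + I + J + I * J) * J = (I * J) * (1 + I + J + I * J) := by
    simp only [mul_add, add_mul, mul_one, one_mul, mul_assoc, hII, hJJ, hJI, hII', hJJ', hJI',
      mul_neg, neg_mul, neg_neg]
    abel
  have hIJtr : (I * J).trace = 0 := by
    have h := Matrix.trace_mul_comm I J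
    rw [hJI, Matrix.trace_neg] at h
    have h' : (2 : F) * (I * J).trace = 0 := by linear_combination h
    exact (mul_eq_zero.mp h').resolve_left h2
  have h4 : (1 + 1 + 1 + 1 : Matrix (Fin 2) (Fin 2) F) = (4 : F) • (1 : Matrix (Fin 2) (Fin 2) F) := by
    rw [show (4 : F) = 1 + 1 + 1 + 1 by norm_num, add_smul, add_smul, add_smul, one_smul]
  have hUV : ((2⁻¹ : F) • (1 + I + J + I * J)) * ((2⁻¹ : F) • (1 - I - J - I * J))
      = (1 : Matrix (Fin 2) (Fin 2) F) := by
    rw [Matrix.smul_mul, Matrix.mul_smul, hPQ, h4, smul_smul, smul_smul]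
    have : (2⁻¹ : F) * 2⁻¹ * 4 = 1 := by field_simp; norm_num
    rw [this, one_smul]
  have hVU := mul_eq_one_comm.mp hUV
  have hV : (2⁻¹ : F) • (1 - I - J - I * J)
      = (1 : Matrix (Fin 2) (Fin 2) F) - (2⁻¹ : F) • (1 + I + J + I * J) := by
    rw [eq_sub_iff_add_eq, ← smul_add]
    have : (1 - I - J - I * J) + (1 + I + J + I * J) = (2 : F) • (1 : Matrix (Fin 2) (Fin 2) F) := by
      rw [two_smul]; abel
    rw [this, smul_smul, inv_mul_cancel₀ h2, one_smul]
  have htr : ((2⁻¹ : F) • (1 + I + J + I * J)).trace = 1 := by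
    rw [Matrix.trace_smul, Matrix.trace_add, Matrix.trace_add, Matrix.trace_add, hItr, hJtr, hIJtr,
      Matrix.trace_one, Fintype.card_fin, smul_eq_mul]
    simp only [add_zero]
    rw [Nat.cast_ofNat, inv_mul_cancel₀ h2]
  have hdet : ((2⁻¹ : F) • (1 + I + J + I * J)).det = 1 := by
    have hch := ch2 ((2⁻¹ : F) • (1 + I + J + I * J))
    rw [htr, one_smul] at hch
    have hUU : ((2⁻¹ : F) • (1 + I + J + I * J)) * ((2⁻¹ : F) • (1 + I + J + I * J))
        = (2⁻¹ : F) • (1 + I + J + I * J) - 1 := by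
      have := hUV
      rw [hV, mul_sub, mul_one, sub_eq_iff_eq_add] at this
      rw [eq_sub_iff_add_eq, add_comm]
      exact this.symm
    rw [hUU] at hch
    have h1 : ((2⁻¹ : F) • (1 + I + J + I * J)).det • (1 : Matrix (Fin 2) (Fin 2) F) = 1 := by
      have := sub_right_injective hch
      exact this.symm
    have h00 := congrFun (congrFun h1 0) 0
    rw [Matrix.smul_apply, Matrix.one_apply_eq, smul_eq_mul, mul_one] at h00
    exact h00
  refine ⟨⟨(2⁻¹ : F) • (1 + I + J + I * J), (2⁻¹ : F) • (1 - I - J - I * J), hUV, hVU⟩, htr, hdet, ?_, ?_⟩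
  · show ((2⁻¹ : F) • (1 + I + J + I * J)) * I = J * ((2⁻¹ : F) • (1 + I + J + I * J))
    rw [Matrix.smul_mul, Matrix.mul_smul, hPI]
  · show ((2⁻¹ : F) • (1 + I + J + I * J)) * J = (I * J) * ((2⁻¹ : F) • (1 + I + J + I * J))
    rw [Matrix.smul_mul, Matrix.mul_smul, hPJ]

/-- An element of prime order `r ≥ 5` normalising a group of order 8 (with a fixed nontrivial element) centralises it. -/
theorem centralizes_of_pow {G : Type*} [Group G] (R : Subgroup G) (hcard : Nat.card R = 8)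
    (w : G) (hw : w ∈ R) (hw1 : w ≠ 1)
    (y : G) (hwy : y * w = w * y) (hy : y ∈ Subgroup.normalizer (R : Set G))
    (r : ℕ) [Fact r.Prime] (hr : 5 ≤ r) (hyr : y ^ r = 1) :
    ∀ h ∈ R, y * h = h * y := by
  classical
  have : Finite R := Nat.finite_of_card_ne_zero (by rw [hcard]; norm_num)
  haveI : Fintype R := Fintype.ofFinite R
  let f : Function.End ↥R := fun h => ⟨y * h * y⁻¹, (Subgroup.mem_normalizer_iff.mp hy h).mp h.2⟩
  have hfpow : ∀ n : ℕ, ∀ h : ↥R, (((f ^ n) h : ↥R) : G) = y ^ n * h * y⁻¹ ^ n := by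
    intro n
    induction n with
    | zero =>
      intro h
      rw [pow_zero, pow_zero, pow_zero, one_mul, mul_one]
      rfl
    | succ n ih =>
      intro h
      rw [pow_succ' f n]
      show ((f ((f ^ n) h) : ↥R) : G) = _
      show y * ((f ^ n) h : G) * y⁻¹ = _
      rw [ih h, pow_succ' y, pow_succ y⁻¹]
      simp only [mul_assoc]
  have hfr : f ^ r ^ 1 = 1 := by
    rw [pow_one]
    funext h
    apply Subtype.ext
    rw [hfpow r h, inv_pow, hyr, inv_one, one_mul, mul_one]
    rfl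
  have hmod := Equiv.Perm.card_fixedPoints_modEq (p := r) (n := 1) hfr
  let C : Subgroup ↥R := (Subgroup.centralizer {y}).subgroupOf R
  have hmemC : ∀ h : ↥R, h ∈ C ↔ y * (h : G) = (h : G) * y := by
    intro h
    rw [Subgroup.mem_subgroupOf, Subgroup.mem_centralizer_iff]
    constructor
    · intro hh; exact hh y rfl
    · intro hh g hg
      rw [Set.mem_singleton_iff] at hg
      rw [hg]; exact hh
  have hfix : Fintype.card ↥(Function.fixedPoints f) = Nat.card C := by
    rw [← Nat.card_eq_fintype_card]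
    apply Nat.card_congr
    apply Equiv.setCongr
    ext h
    rw [Function.mem_fixedPoints, Function.IsFixedPt, SetLike.mem_coe, hmemC]
    constructor
    · intro hh
      have : y * (h : G) * y⁻¹ = h := congrArg (fun t : ↥R => (t : G)) hh
      exact mul_inv_eq_iff_eq_mul.mp this
    · intro hh
      apply Subtype.ext
      show y * (h : G) * y⁻¹ = h
      exact mul_inv_eq_iff_eq_mul.mpr hh
  have hCdvd : Nat.card C ∣ 8 := hcard ▸ Subgroup.card_subgroup_dvd_card C
  have hC2 : 1 < Nat.card C := by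
    rw [Subgroup.one_lt_card_iff_ne_bot]
    intro hbot
    have : (⟨w, hw⟩ : ↥R) ∈ C := (hmemC _).mpr hwy
    rw [hbot, Subgroup.mem_bot] at this
    exact hw1 (congrArg Subtype.val this)
  have hC8 : Nat.card C ≤ 8 := Nat.le_of_dvd (by norm_num) hCdvd
  rw [hfix, ← Nat.card_eq_fintype_card, hcard] at hmod
  have hdvd : r ∣ 8 - Nat.card C := (Nat.modEq_iff_dvd' hC8).mp hmod.symm
  have hrP := (Fact.out : r.Prime)
  have hCtop : Nat.card C = 8 := by
    by_contra hne
    have hpos : 0 < 8 - Nat.card C := by omega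
    have hle := Nat.le_of_dvd hpos hdvd
    generalize Nat.card C = c at *
    interval_cases c
    · have : r = 5 ∨ r = 6 := by omega
      rcases this with rfl | rfl
      · omega
      · exact absurd hrP (by norm_num)
    · omega
    · omega
    · omega
    · omega
    · omega
    · omega
  have htop : C = ⊤ := by
    rw [← Subgroup.card_eq_iff_eq_top, hCtop, hcard]
  intro h hh
  have : (⟨h, hh⟩ : ↥R) ∈ C := by rw [htop]; exact Subgroup.mem_top _
  exact (hmemC _).mp this

end Cfsg.Agent.Helper29.SLTwo
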