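import Mathlib

set_option autoImplicit false

namespace Cfsg.Agent.Helper29.SharpFour

open MulAction

/-- sharply `k`-transitive action -/
def Sharp (G Ω : Type*) [Group G] [MulAction G Ω] (k : ℕ) : Prop :=
  IsMultiplyPretransitive G Ω k ∧ ∀ x : Fin k ↪ Ω, stabilizer G x = ⊥

section basic

variable {G Ω : Type*} [Group G] [MulAction G Ω] {k : ℕ}

theorem Sharp.exists_map (h : Sharp G Ω k) (x y : Fin k ↪ Ω) : ∃ g : G, g • x = y :=
  h.1.exists_smul_eq x y

theorem Sharp.eq_of_smul_eq (h : Sharp G Ω k) (x : Fin k ↪ Ω) {g g' : G}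
    (e : g • x = g' • x) : g = g' := by
  have h1 : g'⁻¹ * g ∈ stabilizer G x := by
    rw [mem_stabilizer_iff, mul_smul, e, inv_smul_smul]
  rw [h.2 x, Subgroup.mem_bot] at h1
  exact (inv_mul_eq_one.mp h1).symm

theorem Sharp.eq_of_forall (h : Sharp G Ω k) (x : Fin k ↪ Ω) {g g' : G}
    (e : ∀ i, g • x i = g' • x i) : g = g' :=
  h.eq_of_smul_eq x (by ext i; exact e i)

theorem Sharp.eq_one_of_fix (h : Sharp G Ω k) (x : Fin k ↪ Ω) {t : G}
    (e : ∀ i, t • x i = x i) : t = 1 :=
  h.eq_of_forall x (fun i => by rw [e i, one_smul])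

/-- twist an embedding by a permutation of the indices -/
def tw (σ : Equiv.Perm (Fin k)) (x : Fin k ↪ Ω) : Fin k ↪ Ω := σ.toEmbedding.trans x

theorem tw_apply (σ : Equiv.Perm (Fin k)) (x : Fin k ↪ Ω) (i : Fin k) : tw σ x i = x (σ i) := rfl

theorem smul_tw (g : G) (σ : Equiv.Perm (Fin k)) (x : Fin k ↪ Ω) :
    g • tw σ x = tw σ (g • x) := by
  ext i; rfl

theorem tw_tw (σ τ : Equiv.Perm (Fin k)) (x : Fin k ↪ Ω) : tw σ (tw τ x) = tw (τ * σ) x := by
  ext i; rfl

theorem tw_one (x : Fin k ↪ Ω) : tw 1 x = x := by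
  ext i; rfl

/-- the unique element inducing a given permutation on the entries of `x` -/
noncomputable def el (h : Sharp G Ω k) (σ : Equiv.Perm (Fin k)) (x : Fin k ↪ Ω) : G :=
  Classical.choose (h.exists_map x (tw σ x))

theorem el_spec (h : Sharp G Ω k) (σ : Equiv.Perm (Fin k)) (x : Fin k ↪ Ω) :
    el h σ x • x = tw σ x :=
  Classical.choose_spec (h.exists_map x (tw σ x))

theorem el_apply (h : Sharp G Ω k) (σ : Equiv.Perm (Fin k)) (x : Fin k ↪ Ω) (i : Fin k) :
    el h σ x • x i = x (σ i) :=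
  DFunLike.congr_fun (el_spec h σ x) i

theorem el_eq_iff (h : Sharp G Ω k) (σ : Equiv.Perm (Fin k)) (x : Fin k ↪ Ω) (t : G) :
    el h σ x = t ↔ t • x = tw σ x := by
  constructor
  · rintro rfl; exact el_spec h σ x
  · intro e; exact h.eq_of_smul_eq x ((el_spec h σ x).trans e.symm)

theorem el_mul (h : Sharp G Ω k) (σ τ : Equiv.Perm (Fin k)) (x : Fin k ↪ Ω) :
    el h σ x * el h τ x = el h (σ * τ) x := by
  symm
  rw [el_eq_iff, mul_smul, el_spec, smul_tw, el_spec, tw_tw]

theorem el_one (h : Sharp G Ω k) (x : Fin k ↪ Ω) : el h 1 x = 1 := by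
  rw [el_eq_iff, one_smul, tw_one]

theorem el_ne_one (h : Sharp G Ω k) {σ : Equiv.Perm (Fin k)} (hσ : σ ≠ 1) (x : Fin k ↪ Ω) :
    el h σ x ≠ 1 := by
  intro e
  apply hσ
  ext i
  have h1 := el_apply h σ x i
  rw [e, one_smul] at h1
  have h2 : i = σ i := x.injective h1
  rw [← h2]; rfl

theorem el_smul (h : Sharp G Ω k) (σ : Equiv.Perm (Fin k)) (x : Fin k ↪ Ω) (g : G) :
    el h σ (g • x) = g * el h σ x * g⁻¹ := by
  rw [el_eq_iff, mul_smul, mul_smul, inv_smul_smul, el_spec, smul_tw]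

theorem nodup4 {p0 p1 p2 p3 : Ω} (h01 : p0 ≠ p1) (h02 : p0 ≠ p2) (h03 : p0 ≠ p3)
    (h12 : p1 ≠ p2) (h13 : p1 ≠ p3) (h23 : p2 ≠ p3) : [p0, p1, p2, p3].Nodup := by
  simp [*]

/-- the embedding given by four distinct points -/
def emb4 (p0 p1 p2 p3 : Ω) (hn : [p0, p1, p2, p3].Nodup) : Fin 4 ↪ Ω :=
  ⟨![p0, p1, p2, p3], by
    rw [← List.nodup_ofFn]
    simpa using hn⟩

@[simp] theorem emb4_zero (p0 p1 p2 p3 : Ω) (hn : [p0, p1, p2, p3].Nodup) :
    emb4 p0 p1 p2 p3 hn 0 = p0 := rfl
@[simp] theorem emb4_one (p0 p1 p2 p3 : Ω) (hn : [p0, p1, p2, p3].Nodup) :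
    emb4 p0 p1 p2 p3 hn 1 = p1 := rfl
@[simp] theorem emb4_two (p0 p1 p2 p3 : Ω) (hn : [p0, p1, p2, p3].Nodup) :
    emb4 p0 p1 p2 p3 hn 2 = p2 := rfl
@[simp] theorem emb4_three (p0 p1 p2 p3 : Ω) (hn : [p0, p1, p2, p3].Nodup) :
    emb4 p0 p1 p2 p3 hn 3 = p3 := rfl

/-- the transposition `(0 1)` of `Fin 4` -/
def σ1 : Equiv.Perm (Fin 4) := Equiv.swap 0 1
/-- the double transposition `(0 1)(2 3)` of `Fin 4` -/
def σ2 : Equiv.Perm (Fin 4) := Equiv.swap 0 1 * Equiv.swap 2 3
/-- the transposition `(2 3)` of `Fin 4` -/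
def σ3 : Equiv.Perm (Fin 4) := Equiv.swap 2 3

theorem σ1_sq : σ1 * σ1 = 1 := by decide
theorem σ2_sq : σ2 * σ2 = 1 := by decide
theorem σ3_sq : σ3 * σ3 = 1 := by decide
theorem σ1_ne : σ1 ≠ 1 := by decide
theorem σ2_ne : σ2 ≠ 1 := by decide
theorem σ3_ne : σ3 ≠ 1 := by decide
theorem σ13_ne : σ1 * σ3 ≠ 1 := by decide
theorem σ13_comm : σ1 * σ3 = σ3 * σ1 := by decide
theorem σ1_0 : σ1 0 = 1 := by decide
theorem σ1_1 : σ1 1 = 0 := by decide
theorem σ1_2 : σ1 2 = 2 := by decide
theorem σ1_3 : σ1 3 = 3 := by decide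
theorem σ2_0 : σ2 0 = 1 := by decide
theorem σ2_1 : σ2 1 = 0 := by decide
theorem σ2_2 : σ2 2 = 3 := by decide
theorem σ2_3 : σ2 3 = 2 := by decide
theorem σ3_0 : σ3 0 = 0 := by decide
theorem σ3_1 : σ3 1 = 1 := by decide
theorem σ3_2 : σ3 2 = 3 := by decide
theorem σ3_3 : σ3 3 = 2 := by decide

end basic


section finite

variable {G Ω : Type*} [Group G] [MulAction G Ω] [Fintype Ω] [DecidableEq Ω]

variable (Ω) in
/-- fixed points of `t` -/
def fixs (t : G) : Finset Ω := Finset.univ.filter (fun p => t • p = p)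
variable (Ω) in
/-- moved points of `t` -/
def movs (t : G) : Finset Ω := Finset.univ.filter (fun p => ¬ t • p = p)

theorem mem_fixs {t : G} {p : Ω} : p ∈ fixs Ω t ↔ t • p = p := by simp [fixs]
theorem mem_movs {t : G} {p : Ω} : p ∈ movs Ω t ↔ t • p ≠ p := by simp [movs]

theorem card_fixs_add_card_movs (t : G) : (fixs Ω t).card + (movs Ω t).card = Fintype.card Ω := by
  unfold fixs movs
  rw [Finset.card_filter_add_card_filter_not, Finset.card_univ]

theorem card_fixs_conj (g t : G) : (fixs Ω (g * t * g⁻¹)).card = (fixs Ω t).card := by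
  symm
  apply Finset.card_bij (fun p _ => g • p)
  · intro p hp
    rw [mem_fixs] at hp ⊢
    rw [mul_smul, mul_smul, inv_smul_smul, hp]
  · intro p _ q _ hpq
    exact MulAction.injective g hpq
  · intro q hq
    rw [mem_fixs] at hq
    refine ⟨g⁻¹ • q, ?_, smul_inv_smul g q⟩
    rw [mem_fixs]
    have h1 : g⁻¹ • ((g * t * g⁻¹) • q) = g⁻¹ • q := by rw [hq]
    rw [mul_smul, mul_smul, inv_smul_smul] at h1
    exact h1

theorem card_fixs_le (h : Sharp G Ω 4) {t : G} (ht : t ≠ 1) : (fixs Ω t).card ≤ 3 := by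
  by_contra hlt
  have hc : Fintype.card (Fin 4) ≤ Fintype.card {p // p ∈ fixs Ω t} := by
    rw [Fintype.card_fin, Fintype.card_coe]; omega
  obtain ⟨e⟩ := Function.Embedding.nonempty_of_card_le hc
  apply ht
  apply h.eq_one_of_fix (e.trans (Function.Embedding.subtype _))
  intro i
  exact mem_fixs.mp (e i).2

theorem card_fiberA [DecidableEq G] (h : Sharp G Ω 4) {t : G} (ht : t * t = 1) :
    (Finset.univ.filter (fun x : Fin 4 ↪ Ω => el h σ1 x = t)).card
      = (movs Ω t).card * ((fixs Ω t).card * (fixs Ω t).card - (fixs Ω t).card) := by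
  rw [← Finset.offDiag_card, ← Finset.card_product]
  have htt : ∀ p : Ω, t • t • p = p := fun p => by rw [← mul_smul, ht, one_smul]
  apply Finset.card_bij (fun x _ => (x 0, (x 2, x 3)))
  · intro x hx
    rw [Finset.mem_filter, el_eq_iff] at hx
    have e0 : t • x 0 = x 1 := by
      have := DFunLike.congr_fun hx.2 0
      rwa [tw_apply, σ1_0] at this
    have e2 : t • x 2 = x 2 := by
      have := DFunLike.congr_fun hx.2 2
      rwa [tw_apply, σ1_2] at this
    have e3 : t • x 3 = x 3 := by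
      have := DFunLike.congr_fun hx.2 3
      rwa [tw_apply, σ1_3] at this
    rw [Finset.mem_product, Finset.mem_offDiag, mem_movs, mem_fixs, mem_fixs]
    refine ⟨?_, e2, e3, ?_⟩
    · rw [e0]; exact x.injective.ne (by decide)
    · exact x.injective.ne (by decide)
  · intro x hx y hy hxy
    rw [Finset.mem_filter, el_eq_iff] at hx hy
    rw [Prod.mk.injEq, Prod.mk.injEq] at hxy
    obtain ⟨h0, h2, h3⟩ := hxy
    have ex : t • x 0 = x 1 := by
      have := DFunLike.congr_fun hx.2 0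
      rwa [tw_apply, σ1_0] at this
    have ey : t • y 0 = y 1 := by
      have := DFunLike.congr_fun hy.2 0
      rwa [tw_apply, σ1_0] at this
    ext i
    fin_cases i
    · exact h0
    · show x 1 = y 1
      rw [← ex, ← ey, h0]
    · exact h2
    · exact h3
  · rintro ⟨p, q, r⟩ hpqr
    rw [Finset.mem_product, Finset.mem_offDiag, mem_movs, mem_fixs, mem_fixs] at hpqr
    obtain ⟨hp, hq, hr, hqr⟩ := hpqr
    have hpq : p ≠ q := by rintro rfl; exact hp hq
    have hpr : p ≠ r := by rintro rfl; exact hp hr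
    have htpq : t • p ≠ q := by
      intro e
      apply hpq
      rw [← htt p, e, hq]
    have htpr : t • p ≠ r := by
      intro e
      apply hpr
      rw [← htt p, e, hr]
    have hn : [p, t • p, q, r].Nodup := nodup4 (Ne.symm hp) hpq hpr htpq htpr hqr
    refine ⟨emb4 p (t • p) q r hn, ?_, rfl⟩
    rw [Finset.mem_filter, el_eq_iff]
    refine ⟨Finset.mem_univ _, ?_⟩
    ext i
    fin_cases i
    · show t • p = tw σ1 (emb4 p (t • p) q r hn) 0
      rw [tw_apply, σ1_0]; rfl
    · show t • t • p = tw σ1 (emb4 p (t • p) q r hn) 1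
      rw [tw_apply, σ1_1, htt]; rfl
    · show t • q = tw σ1 (emb4 p (t • p) q r hn) 2
      rw [tw_apply, σ1_2, hq]; rfl
    · show t • r = tw σ1 (emb4 p (t • p) q r hn) 3
      rw [tw_apply, σ1_3, hr]; rfl

theorem card_fiberB [DecidableEq G] (h : Sharp G Ω 4) {t : G} (ht : t * t = 1) :
    (Finset.univ.filter (fun x : Fin 4 ↪ Ω => el h σ2 x = t)).card
      = (movs Ω t).card * ((movs Ω t).card - 2) := by
  have htt : ∀ p : Ω, t • t • p = p := fun p => by rw [← mul_smul, ht, one_smul]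
  have hmov : ∀ p ∈ movs Ω t, t • p ∈ movs Ω t := by
    intro p hp
    rw [mem_movs] at hp ⊢
    rw [htt]
    exact hp.symm
  have hcard : ((movs Ω t).sigma (fun p => movs Ω t \ {p, t • p})).card
      = (movs Ω t).card * ((movs Ω t).card - 2) := by
    rw [Finset.card_sigma]
    apply Finset.sum_const_nat
    intro p hp
    rw [Finset.card_sdiff_of_subset, Finset.card_pair]
    · exact (mem_movs.mp hp).symm
    · intro q hq
      rw [Finset.mem_insert, Finset.mem_singleton] at hq
      rcases hq with rfl | rfl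
      · exact hp
      · exact hmov _ hp
  rw [← hcard]
  have hfib : ∀ x : Fin 4 ↪ Ω, el h σ2 x = t →
      t • x 0 = x 1 ∧ t • x 1 = x 0 ∧ t • x 2 = x 3 ∧ t • x 3 = x 2 := by
    intro x hx
    rw [el_eq_iff] at hx
    refine ⟨?_, ?_, ?_, ?_⟩
    · have := DFunLike.congr_fun hx 0
      rwa [tw_apply, σ2_0] at this
    · have := DFunLike.congr_fun hx 1
      rwa [tw_apply, σ2_1] at this
    · have := DFunLike.congr_fun hx 2
      rwa [tw_apply, σ2_2] at this
    · have := DFunLike.congr_fun hx 3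
      rwa [tw_apply, σ2_3] at this
  apply Finset.card_bij (fun x _ => (⟨x 0, x 2⟩ : Σ _ : Ω, Ω))
  · intro x hx
    rw [Finset.mem_filter] at hx
    obtain ⟨e0, e1, e2, e3⟩ := hfib x hx.2
    rw [Finset.mem_sigma, Finset.mem_sdiff, mem_movs, mem_movs, Finset.mem_insert,
      Finset.mem_singleton, not_or]
    refine ⟨?_, ?_, ?_, ?_⟩
    · show t • x 0 ≠ x 0
      rw [e0]; exact x.injective.ne (by decide)
    · show t • x 2 ≠ x 2
      rw [e2]; exact x.injective.ne (by decide)
    · show x 2 ≠ x 0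
      exact x.injective.ne (by decide)
    · show x 2 ≠ t • x 0
      rw [e0]; exact x.injective.ne (by decide)
  · intro x hx y hy hxy
    rw [Finset.mem_filter] at hx hy
    obtain ⟨e0, e1, e2, e3⟩ := hfib x hx.2
    obtain ⟨f0, f1, f2, f3⟩ := hfib y hy.2
    rw [Sigma.mk.injEq] at hxy
    obtain ⟨h0, h2⟩ := hxy
    have h2' : x 2 = y 2 := eq_of_heq h2
    ext i
    fin_cases i
    · exact h0
    · show x 1 = y 1
      rw [← e0, ← f0, h0]
    · exact h2'
    · show x 3 = y 3
      rw [← e2, ← f2, h2']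
  · rintro ⟨p, r⟩ hpr
    rw [Finset.mem_sigma, Finset.mem_sdiff, mem_movs, mem_movs, Finset.mem_insert,
      Finset.mem_singleton, not_or] at hpr
    obtain ⟨hp, hr, hrp, hrtp⟩ := hpr
    have hp' : t • p ≠ p := hp
    have hr' : t • r ≠ r := hr
    have hrp' : r ≠ p := hrp
    have hrtp' : r ≠ t • p := hrtp
    have h1 : p ≠ t • r := by
      intro e
      apply hrtp'
      rw [e, htt]
    have h2 : t • p ≠ t • r := by
      intro e
      exact hrp' (MulAction.injective t e).symm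
    have hn : [p, t • p, r, t • r].Nodup :=
      nodup4 (Ne.symm hp') (Ne.symm hrp') h1 (Ne.symm hrtp') h2 (Ne.symm hr')
    refine ⟨emb4 p (t • p) r (t • r) hn, ?_, rfl⟩
    rw [Finset.mem_filter, el_eq_iff]
    refine ⟨Finset.mem_univ _, ?_⟩
    ext i
    fin_cases i
    · show t • p = tw σ2 (emb4 p (t • p) r (t • r) hn) 0
      rw [tw_apply, σ2_0]; rfl
    · show t • t • p = tw σ2 (emb4 p (t • p) r (t • r) hn) 1
      rw [tw_apply, σ2_1, htt]; rfl
    · show t • r = tw σ2 (emb4 p (t • p) r (t • r) hn) 2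
      rw [tw_apply, σ2_2]; rfl
    · show t • t • r = tw σ2 (emb4 p (t • p) r (t • r) hn) 3
      rw [tw_apply, σ2_3, htt]; rfl

variable (G) in
/-- the involutions of `G` -/
def invs [Fintype G] [DecidableEq G] : Finset G :=
  Finset.univ.filter (fun t : G => t ≠ 1 ∧ t * t = 1)

theorem mem_invs [Fintype G] [DecidableEq G] {t : G} : t ∈ invs G ↔ t ≠ 1 ∧ t * t = 1 := by
  simp [invs]

theorem six_or_eleven [Fintype G] [DecidableEq G] (h : Sharp G Ω 4) (h6 : 6 ≤ Fintype.card Ω) :
    Fintype.card Ω = 6 ∨ Fintype.card Ω = 11 := by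
  have hx0 : Nonempty (Fin 4 ↪ Ω) :=
    Function.Embedding.nonempty_of_card_le (by rw [Fintype.card_fin]; omega)
  obtain ⟨x0⟩ := hx0
  obtain ⟨φ, hφ⟩ : ∃ φ : ℕ, φ = (fixs Ω (el h σ2 x0)).card := ⟨_, rfl⟩
  have hb1 : el h σ2 x0 ≠ 1 := el_ne_one h σ2_ne x0
  have hφ3 : φ ≤ 3 := by rw [hφ]; exact card_fixs_le h hb1
  -- every involution has `φ` fixed points
  have hconst : ∀ t ∈ invs G, (fixs Ω t).card = φ := by
    intro t ht
    rw [mem_invs] at ht
    obtain ⟨ht1, htt⟩ := ht
    have htt' : ∀ p : Ω, t • t • p = p := fun p => by rw [← mul_smul, htt, one_smul]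
    have hle := card_fixs_le h ht1
    have hsum := card_fixs_add_card_movs (Ω := Ω) t
    have hm3 : 3 ≤ (movs Ω t).card := by omega
    obtain ⟨p, hp⟩ : (movs Ω t).Nonempty := Finset.card_pos.mp (by omega)
    have hp' : t • p ≠ p := mem_movs.mp hp
    obtain ⟨r, hr, hrn⟩ : ∃ r ∈ movs Ω t, r ∉ ({p, t • p} : Finset Ω) := by
      apply Finset.exists_mem_notMem_of_card_lt_card
      calc ({p, t • p} : Finset Ω).card ≤ 2 := Finset.card_le_two
        _ < (movs Ω t).card := by omega
    rw [Finset.mem_insert, Finset.mem_singleton, not_or] at hrn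
    have hr' : t • r ≠ r := mem_movs.mp hr
    have h1 : p ≠ t • r := by
      intro e
      apply hrn.2
      rw [e, htt']
    have h2 : t • p ≠ t • r := by
      intro e
      exact hrn.1 (MulAction.injective t e).symm
    have hn : [p, t • p, r, t • r].Nodup :=
      nodup4 (Ne.symm hp') (Ne.symm hrn.1) h1 (Ne.symm hrn.2) h2 (Ne.symm hr')
    have hy : el h σ2 (emb4 p (t • p) r (t • r) hn) = t := by
      rw [el_eq_iff]
      ext i
      fin_cases i
      · show t • p = tw σ2 (emb4 p (t • p) r (t • r) hn) 0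
        rw [tw_apply, σ2_0]; rfl
      · show t • t • p = tw σ2 (emb4 p (t • p) r (t • r) hn) 1
        rw [tw_apply, σ2_1, htt']; rfl
      · show t • r = tw σ2 (emb4 p (t • p) r (t • r) hn) 2
        rw [tw_apply, σ2_2]; rfl
      · show t • t • r = tw σ2 (emb4 p (t • p) r (t • r) hn) 3
        rw [tw_apply, σ2_3, htt']; rfl
    obtain ⟨g, hg⟩ := h.exists_map x0 (emb4 p (t • p) r (t • r) hn)
    rw [← hy, ← hg, el_smul, card_fixs_conj, hφ]
  have hmovs : ∀ t ∈ invs G, (movs Ω t).card = Fintype.card Ω - φ := by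
    intro t ht
    have := card_fixs_add_card_movs (Ω := Ω) t
    rw [hconst t ht] at this
    omega
  have hA : ∀ x : Fin 4 ↪ Ω, el h σ1 x ∈ invs G := fun x => by
    rw [mem_invs]
    exact ⟨el_ne_one h σ1_ne x, by rw [el_mul, σ1_sq, el_one]⟩
  have hB : ∀ x : Fin 4 ↪ Ω, el h σ2 x ∈ invs G := fun x => by
    rw [mem_invs]
    exact ⟨el_ne_one h σ2_ne x, by rw [el_mul, σ2_sq, el_one]⟩
  have cA : Fintype.card (Fin 4 ↪ Ω)
      = (invs G).card * ((Fintype.card Ω - φ) * (φ * φ - φ)) := by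
    rw [← Finset.card_univ, Finset.card_eq_sum_card_fiberwise (f := el h σ1)
      (s := Finset.univ) (t := invs G) (fun x _ => hA x)]
    apply Finset.sum_const_nat
    intro t ht
    rw [card_fiberA h (mem_invs.mp ht).2, hconst t ht, hmovs t ht]
  have cB : Fintype.card (Fin 4 ↪ Ω)
      = (invs G).card * ((Fintype.card Ω - φ) * ((Fintype.card Ω - φ) - 2)) := by
    rw [← Finset.card_univ, Finset.card_eq_sum_card_fiberwise (f := el h σ2)
      (s := Finset.univ) (t := invs G) (fun x _ => hB x)]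
    apply Finset.sum_const_nat
    intro t ht
    rw [card_fiberB h (mem_invs.mp ht).2, hmovs t ht]
  have hQpos : 0 < Fintype.card (Fin 4 ↪ Ω) := Fintype.card_pos_iff.mpr ⟨x0⟩
  have hI : 0 < (invs G).card := by
    rcases Nat.eq_zero_or_pos (invs G).card with h0 | h0
    · rw [h0, zero_mul] at cA; omega
    · exact h0
  have hm : 0 < Fintype.card Ω - φ := by omega
  have key : φ * φ - φ = (Fintype.card Ω - φ) - 2 := by
    have e1 := cA.symm.trans cB
    exact Nat.eq_of_mul_eq_mul_left hm (Nat.eq_of_mul_eq_mul_left hI e1)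
  have hpos : 0 < φ * φ - φ := by
    rcases Nat.eq_zero_or_pos (φ * φ - φ) with h0 | h0
    · rw [h0, mul_zero, mul_zero] at cA; omega
    · exact h0
  have hcases : φ = 0 ∨ φ = 1 ∨ φ = 2 ∨ φ = 3 := by omega
  rcases hcases with e | e | e | e <;> subst e <;> omega

end finite

/-- the degrees of finite sharply 4-transitive groups -/
theorem sharp4_card {G Ω : Type*} [Group G] [MulAction G Ω] [Finite Ω] (h : Sharp G Ω 4)
    (h4 : 4 ≤ Nat.card Ω) :
    Nat.card Ω = 4 ∨ Nat.card Ω = 5 ∨ Nat.card Ω = 6 ∨ Nat.card Ω = 11 := by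
  classical
  have := Fintype.ofFinite Ω
  rw [Nat.card_eq_fintype_card] at h4 ⊢
  have hx0 : Nonempty (Fin 4 ↪ Ω) :=
    Function.Embedding.nonempty_of_card_le (by rw [Fintype.card_fin]; exact h4)
  obtain ⟨x0⟩ := hx0
  have : Finite G := Finite.of_injective (fun g : G => g • x0)
    (fun g g' e => h.eq_of_smul_eq x0 e)
  have := Fintype.ofFinite G
  by_cases h6 : 6 ≤ Fintype.card Ω
  · rcases six_or_eleven h h6 with e | e <;> omega
  · omega


section tits

variable {G Ω : Type*} [Group G] [MulAction G Ω]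

theorem finite_fixed (h : Sharp G Ω 4) {t : G} (ht : t ≠ 1) : {p : Ω | t • p = p}.Finite := by
  by_contra hinf
  have hinf' : {p : Ω | t • p = p}.Infinite := hinf
  apply ht
  apply h.eq_one_of_fix ((Fin.valEmbedding (n := 4)).trans
    ((Set.Infinite.natEmbedding _ hinf').trans (Function.Embedding.subtype _)))
  intro i
  exact (Set.Infinite.natEmbedding _ hinf' (i : ℕ)).2

/-- Tits: a sharply 4-transitive group has finite degree -/
theorem finite_of_sharp4 (h : Sharp G Ω 4) (x0 : Fin 4 ↪ Ω) : Finite Ω := by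
  classical
  obtain ⟨a, ha⟩ : ∃ a : G, a = el h σ1 x0 := ⟨_, rfl⟩
  obtain ⟨b, hb⟩ : ∃ b : G, b = el h σ3 x0 := ⟨_, rfl⟩
  have haa : a * a = 1 := by rw [ha, el_mul, σ1_sq, el_one]
  have hbb : b * b = 1 := by rw [hb, el_mul, σ3_sq, el_one]
  have hab : a * b = b * a := by rw [ha, hb, el_mul, el_mul, σ13_comm]
  have ha1 : a ≠ 1 := by rw [ha]; exact el_ne_one h σ1_ne x0
  have hb1 : b ≠ 1 := by rw [hb]; exact el_ne_one h σ3_ne x0
  have hab1 : a * b ≠ 1 := by rw [ha, hb, el_mul]; exact el_ne_one h σ13_ne x0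
  have a2 : a • x0 2 = x0 2 := by
    have := el_apply h σ1 x0 2
    rwa [σ1_2, ← ha] at this
  have a3 : a • x0 3 = x0 3 := by
    have := el_apply h σ1 x0 3
    rwa [σ1_3, ← ha] at this
  have b0 : b • x0 0 = x0 0 := by
    have := el_apply h σ3 x0 0
    rwa [σ3_0, ← hb] at this
  have b1 : b • x0 1 = x0 1 := by
    have := el_apply h σ3 x0 1
    rwa [σ3_1, ← hb] at this
  have aa : ∀ p : Ω, a • a • p = p := fun p => by rw [← mul_smul, haa, one_smul]
  have bb : ∀ p : Ω, b • b • p = p := fun p => by rw [← mul_smul, hbb, one_smul]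
  have ba : ∀ p : Ω, b • a • p = a • b • p := fun p => by
    rw [← mul_smul, ← mul_smul, hab]
  have hFa := finite_fixed h ha1
  have hFb := finite_fixed h hb1
  have hFab := finite_fixed h hab1
  -- the points with trivial stabiliser in `⟨a, b⟩`
  obtain ⟨Δ, hΔdef⟩ : ∃ Δ : Set Ω, Δ = {y | a • y ≠ y ∧ b • y ≠ y ∧ a • b • y ≠ y} := ⟨_, rfl⟩
  have hnod : ∀ y ∈ Δ, [y, a • y, b • y, a • b • y].Nodup := by
    intro y hy
    rw [hΔdef] at hy
    obtain ⟨h1, h2, h3⟩ := hy
    refine nodup4 (Ne.symm h1) (Ne.symm h2) (Ne.symm h3) ?_ ?_ ?_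
    · intro e
      apply h3
      have := congrArg (fun p => a • p) e
      simp only [aa] at this
      exact this.symm
    · intro e
      apply h2
      exact (MulAction.injective a e).symm
    · intro e
      apply h1
      rw [← ba] at e
      exact (MulAction.injective b e).symm
  have hΔ : Δ.Finite := by
    rcases Set.eq_empty_or_nonempty Δ with he | ⟨z, hz⟩
    · rw [he]; exact Set.finite_empty
    have hex : ∀ y : Δ, ∃ g : G, g • z = y.1 ∧ g • a • z = a • y.1 ∧ g • b • z = b • y.1 ∧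
        g • a • b • z = a • b • y.1 := by
      intro y
      obtain ⟨g, hg⟩ := h.exists_map (emb4 _ _ _ _ (hnod z hz)) (emb4 _ _ _ _ (hnod y.1 y.2))
      exact ⟨g, DFunLike.congr_fun hg 0, DFunLike.congr_fun hg 1, DFunLike.congr_fun hg 2,
        DFunLike.congr_fun hg 3⟩
    choose gy hgy using hex
    have hcomm_a : ∀ y, gy y * a = a * gy y := by
      intro y
      obtain ⟨g0, g1, g2, g3⟩ := hgy y
      apply h.eq_of_forall (emb4 _ _ _ _ (hnod z hz))
      intro i
      fin_cases i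
      · show (gy y * a) • z = (a * gy y) • z
        rw [mul_smul, mul_smul, g1, g0]
      · show (gy y * a) • a • z = (a * gy y) • a • z
        rw [mul_smul, mul_smul, aa, g0, g1, aa]
      · show (gy y * a) • b • z = (a * gy y) • b • z
        rw [mul_smul, mul_smul, g2, g3]
      · show (gy y * a) • a • b • z = (a * gy y) • a • b • z
        rw [mul_smul, mul_smul, aa, g2, g3, aa]
    have hcomm_b : ∀ y, gy y * b = b * gy y := by
      intro y
      obtain ⟨g0, g1, g2, g3⟩ := hgy y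
      apply h.eq_of_forall (emb4 _ _ _ _ (hnod z hz))
      intro i
      fin_cases i
      · show (gy y * b) • z = (b * gy y) • z
        rw [mul_smul, mul_smul, g2, g0]
      · show (gy y * b) • a • z = (b * gy y) • a • z
        rw [mul_smul, mul_smul, ba, g3, g1, ba]
      · show (gy y * b) • b • z = (b * gy y) • b • z
        rw [mul_smul, mul_smul, bb, g0, g2, bb]
      · show (gy y * b) • a • b • z = (b * gy y) • a • b • z
        rw [mul_smul, mul_smul, ba, bb, g1, g3, ba, bb]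
    have hF : ({p : Ω | a • p = p} ∪ {p : Ω | b • p = p}).Finite := hFa.union hFb
    have hmemb : ∀ (y : Δ) (p : Ω), b • p = p →
        gy y • p ∈ ({p : Ω | a • p = p} ∪ {p : Ω | b • p = p}) := by
      intro y p hp
      right
      show b • gy y • p = gy y • p
      rw [← mul_smul, ← hcomm_b, mul_smul, hp]
    have hmema : ∀ (y : Δ) (p : Ω), a • p = p →
        gy y • p ∈ ({p : Ω | a • p = p} ∪ {p : Ω | b • p = p}) := by
      intro y p hp
      left
      show a • gy y • p = gy y • p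
      rw [← mul_smul, ← hcomm_a, mul_smul, hp]
    have hFfin : Finite ↥({p : Ω | a • p = p} ∪ {p : Ω | b • p = p}) := hF.to_subtype
    have hinj : Function.Injective (fun y : Δ =>
        ((⟨gy y • x0 0, hmemb y _ b0⟩, ⟨gy y • x0 1, hmemb y _ b1⟩, ⟨gy y • x0 2, hmema y _ a2⟩,
          ⟨gy y • x0 3, hmema y _ a3⟩) :
          ↥({p : Ω | a • p = p} ∪ {p : Ω | b • p = p}) ×
          ↥({p : Ω | a • p = p} ∪ {p : Ω | b • p = p}) ×
          ↥({p : Ω | a • p = p} ∪ {p : Ω | b • p = p}) ×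
          ↥({p : Ω | a • p = p} ∪ {p : Ω | b • p = p}))) := by
      intro y y' e
      simp only [Prod.mk.injEq, Subtype.mk.injEq] at e
      obtain ⟨e0, e1, e2, e3⟩ := e
      have hg : gy y = gy y' := by
        apply h.eq_of_forall x0
        intro i
        fin_cases i
        · exact e0
        · exact e1
        · exact e2
        · exact e3
      apply Subtype.ext
      rw [← (hgy y).1, ← (hgy y').1, hg]
    have : Finite Δ := Finite.of_injective _ hinj
    exact Set.toFinite Δ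
  rw [← Set.finite_univ_iff]
  apply Set.Finite.subset (hFa.union (hFb.union (hFab.union hΔ)))
  intro y _
  by_cases h1 : a • y = y
  · left; exact h1
  by_cases h2 : b • y = y
  · right; left; exact h2
  by_cases h3 : a • b • y = y
  · right; right; left
    show (a * b) • y = y
    rw [mul_smul]; exact h3
  · right; right; right
    rw [hΔdef]
    exact ⟨h1, h2, h3⟩

/-- Tits: a sharply 4-transitive group has degree 4, 5, 6 or 11 -/
theorem sharp4_all (h : Sharp G Ω 4) (hne : Nonempty (Fin 4 ↪ Ω)) :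
    Finite Ω ∧ (Nat.card Ω = 4 ∨ Nat.card Ω = 5 ∨ Nat.card Ω = 6 ∨ Nat.card Ω = 11) := by
  obtain ⟨x0⟩ := hne
  have hfin := finite_of_sharp4 h x0
  refine ⟨hfin, sharp4_card h ?_⟩
  have := Nat.card_le_card_of_injective x0 x0.injective
  simpa using this

end tits

section descent

variable {G Ω : Type*} [Group G] [MulAction G Ω]

theorem Sharp.isPretransitive [Finite Ω] {k : ℕ} (h : Sharp G Ω (k + 1))
    (hk : k + 1 ≤ Nat.card Ω) : IsPretransitive G Ω := by
  have h1 := h.1
  have h2 : IsMultiplyPretransitive G Ω 1 :=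
    isMultiplyPretransitive_of_le (n := k + 1) (by omega) hk
  exact is_one_pretransitive_iff.mp h2

theorem Sharp.stab [Finite Ω] {k : ℕ} (h : Sharp G Ω (k + 1)) (hk : k + 1 ≤ Nat.card Ω) (a : Ω) :
    Sharp (stabilizer G a) (SubMulAction.ofStabilizer G a) k := by
  have hpre : IsPretransitive G Ω := h.isPretransitive hk
  refine ⟨SubMulAction.ofStabilizer.isMultiplyPretransitive.mp h.1, ?_⟩
  intro x
  rw [eq_bot_iff]
  intro g hg
  rw [mem_stabilizer_iff] at hg
  have h2 : (g : G) ∈ stabilizer G (SubMulAction.ofStabilizer.snoc x) := by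
    rw [mem_stabilizer_iff]
    ext i
    rcases Fin.eq_castSucc_or_eq_last i with ⟨j, rfl⟩ | rfl
    · rw [Function.Embedding.smul_apply, SubMulAction.ofStabilizer.snoc_castSucc]
      have e := congrArg (fun y => ((y j : SubMulAction.ofStabilizer G a) : Ω)) hg
      exact e
    · rw [Function.Embedding.smul_apply, SubMulAction.ofStabilizer.snoc_last]
      exact g.2
  rw [h.2, Subgroup.mem_bot] at h2
  exact Subgroup.mem_bot.mpr (Subtype.ext h2)

/-- the degrees of finite sharply 5-transitive groups -/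
theorem sharp5_card [Finite Ω] (h : Sharp G Ω 5) (h5 : 5 ≤ Nat.card Ω) :
    Nat.card Ω = 5 ∨ Nat.card Ω = 6 ∨ Nat.card Ω = 7 ∨ Nat.card Ω = 12 := by
  have hne : Nonempty Ω := (Nat.card_pos_iff.mp (by omega)).1
  obtain ⟨a⟩ := hne
  have hs := h.stab h5 a
  have hc := SubMulAction.nat_card_ofStabilizer_add_one_eq G a
  have := sharp4_card hs (by omega)
  omega

/-- the degrees of finite sharply 6-transitive groups, up to the exclusion of 13 -/
theorem sharp6_card [Finite Ω] (h : Sharp G Ω 6) (h6 : 6 ≤ Nat.card Ω) :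
    Nat.card Ω = 6 ∨ Nat.card Ω = 7 ∨ Nat.card Ω = 8 ∨ Nat.card Ω = 13 := by
  have hne : Nonempty Ω := (Nat.card_pos_iff.mp (by omega)).1
  obtain ⟨a⟩ := hne
  have hs := h.stab h6 a
  have hc := SubMulAction.nat_card_ofStabilizer_add_one_eq G a
  have := sharp5_card hs (by omega)
  omega

end descent

end Cfsg.Agent.Helper29.SharpFour
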