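import Cfsg.Agent.Lib.Helper29.SpecJ1Defs
import Cfsg.Agent.Lib.Helper29.SpecJ1Data

/-!
# Kernel-checked certificates for the spectrum of `J₁`
-/

set_option autoImplicit false

namespace Cfsg.Agent.Lib.Helper29.SpecJ1

open Cfsg.Agent.Lib.Helper28.BSGSMat Cfsg.Agent.Lib.Helper28.J1Data

theorem ss_ok : ssOK [(b1, T1), (b2, T2)] b1 ss = true := by decide +kernel

theorem hints_ok : hintsOK reps ss T1.toList hints = true := by decide +kernel

theorem main_ok0 : mainOK b1 b2 reps0 T1.toList T2.toList = true := by decide +kernel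

theorem main_ok1 : mainOK b1 b2 reps1 T1.toList T2.toList = true := by decide +kernel

theorem main_ok2 : mainOK b1 b2 reps2 T1.toList T2.toList = true := by decide +kernel

theorem main_ok3 : mainOK b1 b2 reps3 T1.toList T2.toList = true := by decide +kernel

theorem w6_ok : exactOrdOK [(b1, T1), (b2, T2)] 6 [2, 3] w6 = true := by decide +kernel

theorem w10_ok : exactOrdOK [(b1, T1), (b2, T2)] 10 [2, 5] w10 = true := by decide +kernel

theorem w15_ok : exactOrdOK [(b1, T1), (b2, T2)] 15 [3, 5] w15 = true := by decide +kernel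

end Cfsg.Agent.Lib.Helper29.SpecJ1
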