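import Mathlib

/-!
# Spectra of direct products and generalized dihedral groups

The set of element orders of a direct product is the set of least common multiples, and the
generalized dihedral group of an elementary abelian `p`-group (`p` odd) has element orders
`1, 2, p`.
-/

set_option autoImplicit false

namespace Cfsg.Agent.Lib.Helper29.SpecProd

/-- the spectrum of a direct product -/
theorem range_orderOf_prod (G H : Type*) [Monoid G] [Monoid H] :
    Set.range (orderOf : G × H → ℕ) =
      Set.image2 Nat.lcm (Set.range (orderOf : G → ℕ)) (Set.range (orderOf : H → ℕ)) := by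
  ext n
  constructor
  · rintro ⟨⟨a, b⟩, rfl⟩
    exact ⟨_, ⟨a, rfl⟩, _, ⟨b, rfl⟩, (Prod.orderOf (a, b)).symm⟩
  · rintro ⟨_, ⟨a, rfl⟩, _, ⟨b, rfl⟩, rfl⟩
    exact ⟨(a, b), Prod.orderOf (a, b)⟩

theorem range_orderOf_prod_finset {G H : Type*} [Monoid G] [Monoid H] {s t : Finset ℕ}
    (hs : Set.range (orderOf : G → ℕ) = ↑s) (ht : Set.range (orderOf : H → ℕ) = ↑t) :
    Set.range (orderOf : G × H → ℕ) = ↑(Finset.image₂ Nat.lcm s t) := by
  rw [range_orderOf_prod, hs, ht, Finset.coe_image₂]

/-- the action of `ℤˣ` on a commutative group by inversion -/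
def invHom (N : Type*) [CommGroup N] : ℤˣ →* MulAut N where
  toFun u := if u = 1 then 1 else MulEquiv.inv N
  map_one' := if_pos rfl
  map_mul' := by
    intro a b
    rcases Int.units_eq_one_or a with rfl | rfl <;> rcases Int.units_eq_one_or b with rfl | rfl
    · simp
    · simp
    · simp
    · have h1 : ((-1 : ℤˣ) * -1) = 1 := by decide
      have h2 : ¬ ((-1 : ℤˣ) = 1) := by decide
      rw [h1, if_pos rfl, if_neg h2]
      ext x
      simp

theorem invHom_neg_one (N : Type*) [CommGroup N] (x : N) : invHom N (-1) x = x⁻¹ := by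
  have h2 : ¬ ((-1 : ℤˣ) = 1) := by decide
  show (if (-1 : ℤˣ) = 1 then (1 : MulAut N) else MulEquiv.inv N) x = x⁻¹
  rw [if_neg h2]
  rfl

/-- the elementary abelian group -/
abbrev El (p k : ℕ) : Type := Multiplicative (Fin k → ZMod p)

/-- the generalized dihedral group of the elementary abelian group of order `p ^ k` -/
abbrev GD (p k : ℕ) : Type := El p k ⋊[invHom (El p k)] ℤˣ

theorem El_pow (p k : ℕ) [NeZero p] (x : El p k) : x ^ p = 1 := by
  apply Multiplicative.toAdd.injective
  rw [toAdd_pow, toAdd_one]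
  funext i
  show p • (Multiplicative.toAdd x i) = 0
  rw [nsmul_eq_mul]
  simp

theorem GD_pow (p k : ℕ) [NeZero p] (g : GD p k) : g ^ p = 1 ∨ g ^ 2 = 1 := by
  rcases Int.units_eq_one_or g.right with h | h
  · left
    have hg : g = SemidirectProduct.inl g.left := by
      ext
      · simp
      · simp [h]
    rw [hg, ← map_pow, El_pow, map_one]
  · right
    rw [pow_two]
    ext
    · rw [SemidirectProduct.mul_left, h, invHom_neg_one, mul_inv_cancel]
      rfl
    · rw [SemidirectProduct.mul_right, h]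
      rfl

instance (p k : ℕ) [NeZero p] : Finite (GD p k) :=
  Finite.of_equiv _ SemidirectProduct.equivProd.symm

theorem card_GD (p k : ℕ) [NeZero p] : Nat.card (GD p k) = p ^ k * 2 := by
  rw [SemidirectProduct.card, Nat.card_eq_fintype_card, Nat.card_eq_fintype_card,
    Fintype.card_units_int, Fintype.card_multiplicative, Fintype.card_fun, ZMod.card,
    Fintype.card_fin]

/-- the spectrum of the generalized dihedral group -/
theorem range_orderOf_GD (p k : ℕ) [hp : Fact p.Prime] (hk : 0 < k) :
    Set.range (orderOf : GD p k → ℕ) = ↑({1, 2, p} : Finset ℕ) := by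
  have : NeZero p := ⟨hp.out.ne_zero⟩
  have : Fact (Nat.Prime 2) := ⟨Nat.prime_two⟩
  ext n
  simp only [Set.mem_range, Finset.coe_insert, Finset.coe_singleton, Set.mem_insert_iff,
    Set.mem_singleton_iff]
  constructor
  · rintro ⟨g, rfl⟩
    rcases GD_pow p k g with h | h
    · rcases (Nat.dvd_prime hp.out).mp (orderOf_dvd_of_pow_eq_one h) with h1 | h1
      · exact Or.inl h1
      · exact Or.inr (Or.inr h1)
    · rcases (Nat.dvd_prime Nat.prime_two).mp (orderOf_dvd_of_pow_eq_one h) with h1 | h1
      · exact Or.inl h1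
      · exact Or.inr (Or.inl h1)
  · rintro (rfl | rfl | rfl)
    · exact ⟨1, orderOf_one⟩
    · exact exists_prime_orderOf_dvd_card' 2 (by rw [card_GD]; exact Dvd.intro_left _ rfl)
    · exact exists_prime_orderOf_dvd_card' n (by
        rw [card_GD]; exact Dvd.dvd.mul_right (dvd_pow_self _ hk.ne') _)

/-- the spectrum of `J₁` -/
def specJ : Finset ℕ := {1, 2, 3, 5, 6, 7, 10, 11, 15, 19}

theorem spec_finset_eq :
    Finset.image₂ Nat.lcm specJ (Finset.image₂ Nat.lcm specJ (Finset.image₂ Nat.lcm specJ
      (Finset.image₂ Nat.lcm ({1, 2, 3} : Finset ℕ) ({1, 2, 5} : Finset ℕ)))) =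
    Finset.image₂ Nat.lcm specJ (Finset.image₂ Nat.lcm specJ (Finset.image₂ Nat.lcm specJ
      specJ)) := by decide +kernel

theorem main_of_spec {J : Type} [Group J] [Finite J]
    (hJ : Set.range (orderOf : J → ℕ) = ↑specJ) (N : ℕ) :
    ∃ (H : Type) (_ : Group H) (_ : Fintype H), N < Fintype.card H ∧
      Set.range (orderOf : H → ℕ) = Set.range (orderOf : J × J × J × J → ℕ) := by
  have : Fact (Nat.Prime 3) := ⟨Nat.prime_three⟩
  have : Fact (Nat.Prime 5) := ⟨Nat.prime_five⟩
  refine ⟨J × J × J × GD 3 (N + 1) × GD 5 1, inferInstance, Fintype.ofFinite _, ?_, ?_⟩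
  · rw [Fintype.card_eq_nat_card, Nat.card_prod, Nat.card_prod, Nat.card_prod, Nat.card_prod,
      card_GD, card_GD]
    have hc : 0 < Nat.card J := Nat.card_pos
    have h3 : N + 1 < 3 ^ (N + 1) := Nat.lt_pow_self (by norm_num)
    calc N < 3 ^ (N + 1) := by omega
      _ ≤ Nat.card J * (Nat.card J * (Nat.card J * (3 ^ (N + 1) * 2 * (5 ^ 1 * 2)))) := by
        have := Nat.mul_pos (Nat.mul_pos hc hc) hc
        nlinarith [Nat.mul_pos (Nat.mul_pos hc hc) hc]
  · have hK := range_orderOf_prod_finset (range_orderOf_GD 3 (N + 1) (Nat.succ_pos N))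
      (range_orderOf_GD 5 1 Nat.one_pos)
    have h1 := range_orderOf_prod_finset hJ (range_orderOf_prod_finset hJ
      (range_orderOf_prod_finset hJ hK))
    have h2 := range_orderOf_prod_finset hJ (range_orderOf_prod_finset hJ
      (range_orderOf_prod_finset hJ hJ))
    rw [h1, h2, spec_finset_eq]

end Cfsg.Agent.Lib.Helper29.SpecProd
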