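import Cfsg.Agent.Lib.Helper28.J1
import Cfsg.Agent.Lib.Helper29.SpecJ1Cert
import Cfsg.Agent.Lib.Helper29.SpecProd

/-!
# The spectrum of the Janko group `J₁`

The element orders of `J₁ = ⟨x, y⟩ ≤ GL₇(11)` are `1, 2, 3, 5, 6, 7, 10, 11, 15, 19`.  Consequently
there are arbitrarily large finite groups with the same element orders as `J₁ × J₁ × J₁ × J₁`.
-/

set_option autoImplicit false

namespace Cfsg.Agent.Lib.Helper29.SpecJ1

open Cfsg.Agent.Lib.Helper28.BSGSMat Cfsg.Agent.Lib.Helper28.J1Data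
  Cfsg.Agent.Lib.Helper28.J1Cert Cfsg.Agent.Lib.Helper28

attribute [local irreducible] checkChain siftB codeSize wordEqB mainOK hintsOK ssOK exactOrdOK

theorem janko_eq : Cfsg.Spor.J1 = genGroup gens := by
  have hx : J1.x = Cfsg.Spor.jankoX := Units.ext (J1.x_val.trans rfl)
  have hy : J1.y = Cfsg.Spor.jankoY := Units.ext (J1.y_val.trans rfl)
  unfold Cfsg.Spor.J1
  rw [← hx, ← hy]
  exact J1.closure_eq

theorem card_janko : Nat.card ↥Cfsg.Spor.J1 = 175560 := by
  rw [janko_eq]; exact J1.card_gen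

theorem chain_ok2 : checkChain gens [(b1, T1), (b2, T2)] = true := by
  rw [← J1.levels_eq]; exact chain_ok

theorem main_ok : mainOK b1 b2 reps T1.toList T2.toList = true :=
  mainOK_append main_ok0 (mainOK_append main_ok1 (mainOK_append main_ok2 main_ok3))

/-- every element of `J₁` has a power with exponent `6, 7, 10, 11, 15` or `19` equal to `1` -/
theorem exists_pow_eq_one (z : GL (Fin 7) (ZMod 11)) (hz : z ∈ Cfsg.Spor.J1) :
    ∃ k ∈ expos, z ^ k = 1 := by
  rw [janko_eq] at hz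
  exact pow_eq_one_of_certs gens b1 T1 b2 T2 gens_ok chain_ok2 reps ss hints ss_ok hints_ok
    main_ok z hz

theorem orderOf_mem (g : ↥Cfsg.Spor.J1) :
    orderOf g ∈ ({1, 2, 3, 5, 6, 7, 10, 11, 15, 19} : Finset ℕ) := by
  obtain ⟨k, hk, hpow⟩ := exists_pow_eq_one (g : GL (Fin 7) (ZMod 11)) g.2
  have hdvd : orderOf g ∣ k := by
    rw [← Subgroup.orderOf_coe]
    exact orderOf_dvd_of_pow_eq_one hpow
  generalize orderOf g = m at hdvd
  simp only [expos, List.mem_cons, List.not_mem_nil, or_false] at hk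
  rcases hk with rfl | rfl | rfl | rfl | rfl | rfl
  all_goals
    have hle := Nat.le_of_dvd (by norm_num) hdvd
    interval_cases m <;> first | decide | (exfalso; revert hdvd; decide)

theorem exists_orderOf_of_cert (n : ℕ) (ps : List ℕ) (w : ℕ × ℕ) (hn : 0 < n)
    (hps : ∀ p : ℕ, p.Prime → p ∣ n → p ∈ ps)
    (h : exactOrdOK [(b1, T1), (b2, T2)] n ps w = true) :
    ∃ g : ↥Cfsg.Spor.J1, orderOf g = n := by
  obtain ⟨hmem, hord⟩ := exactOrd_spec gens _ gens_ok chain_ok2 n ps w hn hps h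
  rw [← janko_eq] at hmem
  exact ⟨⟨_, hmem⟩, by rw [Subgroup.orderOf_mk]; exact hord⟩

theorem exists_orderOf_prime (p : ℕ) (hp : p.Prime) (hdvd : p ∣ 175560) :
    ∃ g : ↥Cfsg.Spor.J1, orderOf g = p := by
  have : Fact p.Prime := ⟨hp⟩
  exact exists_prime_orderOf_dvd_card' p (by rw [card_janko]; exact hdvd)

theorem prime_dvd_mem {n : ℕ} {ps : List ℕ} (hn : 0 < n)
    (h : ∀ p ∈ List.range (n + 1), p.Prime → p ∣ n → p ∈ ps) :
    ∀ p : ℕ, p.Prime → p ∣ n → p ∈ ps := by
  intro p hp hpn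
  exact h p (List.mem_range.mpr (Nat.lt_succ_of_le (Nat.le_of_dvd hn hpn))) hp hpn

/-- the spectrum of `J₁` -/
theorem range_orderOf_J1 :
    Set.range (orderOf : ↥Cfsg.Spor.J1 → ℕ) = ↑SpecProd.specJ := by
  ext n
  constructor
  · rintro ⟨g, rfl⟩
    exact orderOf_mem g
  · intro hn
    have hn' : n ∈ ({1, 2, 3, 5, 6, 7, 10, 11, 15, 19} : Finset ℕ) := hn
    simp only [Finset.mem_insert, Finset.mem_singleton] at hn'
    rcases hn' with rfl | rfl | rfl | rfl | rfl | rfl | rfl | rfl | rfl | rfl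
    · exact ⟨1, orderOf_one⟩
    · exact exists_orderOf_prime 2 (by norm_num) (by norm_num)
    · exact exists_orderOf_prime 3 (by norm_num) (by norm_num)
    · exact exists_orderOf_prime 5 (by norm_num) (by norm_num)
    · exact exists_orderOf_of_cert 6 [2, 3] w6 (by norm_num)
        (prime_dvd_mem (by norm_num) (by decide)) w6_ok
    · exact exists_orderOf_prime 7 (by norm_num) (by norm_num)
    · exact exists_orderOf_of_cert 10 [2, 5] w10 (by norm_num)
        (prime_dvd_mem (by norm_num) (by decide)) w10_ok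
    · exact exists_orderOf_prime 11 (by norm_num) (by norm_num)
    · exact exists_orderOf_of_cert 15 [3, 5] w15 (by norm_num)
        (prime_dvd_mem (by norm_num) (by decide)) w15_ok
    · exact exists_orderOf_prime 19 (by norm_num) (by norm_num)

end Cfsg.Agent.Lib.Helper29.SpecJ1
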