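import Cfsg.Agent.Lib.Helper28.BSGSMat4

/-!
# Element orders in a subgroup of `GL₇(11)` from a stabilizer chain with two levels

Every element of the group is conjugate, under the stabilizer of the first base point, to a product
of the transversal element of an orbit representative and an element of the stabilizer; for these
products some power with exponent in a given list is checked to fix both base points, hence to be
the identity.
-/

set_option autoImplicit false

namespace Cfsg.Agent.Lib.Helper29.SpecJ1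

open Cfsg.Agent.Lib.Helper28.BSGSMat Cfsg.Agent.Lib.Helper28.BSGS

/-- an element of the group fixing both base points is the identity -/
theorem eq_one_of_fix (gens : List ℕ) (b1 : ℕ) (T1 : Tree) (b2 : ℕ) (T2 : Tree)
    (hg : gensOK gens = true) (hc : checkChain gens [(b1, T1), (b2, T2)] = true)
    (z : GL (Fin 7) (ZMod 11)) (hz : z ∈ genGroup gens)
    (h1 : z • ptK b1 = ptK b1) (h2 : z • ptK b2 = ptK b2) : z = 1 := by
  have hgood := checkChain_sound _ gens (gensOK_spec hg) hc
  have hs := mat_complete gens _ hg hc z hz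
  obtain ⟨_, _, _, hu1, _, _, _, hrest⟩ := hgood
  obtain ⟨_, _, _, hu2, _⟩ := hrest
  have hu1' : semU T1 (ptK b1) = 1 := hu1
  have hu2' : semU T2 (ptK b2) = 1 := hu2
  obtain ⟨_, hs2, hs3⟩ : z • ptK b1 ∈ (T1.toList.map fun e => ptK e.1) ∧
      ((semU T1 (z • ptK b1))⁻¹ * z) • ptK b2 ∈ (T2.toList.map fun e => ptK e.1) ∧
      (semU T2 (((semU T1 (z • ptK b1))⁻¹ * z) • ptK b2))⁻¹ *
        ((semU T1 (z • ptK b1))⁻¹ * z) = 1 := hs
  rw [h1, hu1', inv_one, one_mul, h2, hu2', inv_one, one_mul] at hs3
  exact hs3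

/-- the exponents that are tried -/
def expos : List ℕ := [6, 7, 10, 11, 15, 19]

/-- the `k`-th power of the product of the two codes fixes the point with key `b` -/
def fixB (k u1 u2 b : ℕ) : Bool :=
  Nat.beq (key (evalW (List.replicate k [decM u1, decM u2]).flatten (unkey b))) b

/-- some power of the product of the two codes, with exponent in the list, fixes both points -/
def ordOK (b1 b2 u1 u2 : ℕ) : Bool :=
  expos.any fun k => fixB k u1 u2 b1 && fixB k u1 u2 b2

/-- the products of the transversal elements of the representatives and the elements of the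
second transversal have good orders -/
def mainOK (b1 b2 : ℕ) (reps : List ℕ) (es1 es2 : List Entry) : Bool :=
  es1.all fun e1 => !(reps.any fun r => Nat.beq r e1.1) ||
    es2.all fun e2 => ordOK b1 b2 e1.2.1 e2.2.1

/-- the listed codes are valid, belong to the group and fix the base point -/
def ssOK (levels : List CLevel) (b : ℕ) (ss : List ℕ) : Bool :=
  ss.all fun s => invOK s && siftB levels [decM s] &&
    Nat.beq (key (mv (decM s) (unkey b))) b

/-- every point is the image of a representative under a listed element -/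
def hintsOK (reps ss : List ℕ) : List Entry → List (ℕ × ℕ) → Bool
  | [], _ => true
  | _ :: _, [] => false
  | e1 :: es, h :: hs =>
      (reps.any fun r => Nat.beq r h.1) && Nat.blt h.1 19487171 &&
      (match ss[h.2]? with
        | none => false
        | some s => Nat.beq (key (mv (decM s) (unkey h.1))) e1.1) && hintsOK reps ss es hs

theorem hintsOK_spec (reps ss : List ℕ) : ∀ (es : List Entry) (hs : List (ℕ × ℕ)),
    hintsOK reps ss es hs = true →
    ∀ e1 ∈ es, ∃ r ∈ reps, r < 19487171 ∧ ∃ s ∈ ss, key (mv (decM s) (unkey r)) = e1.1 := by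
  intro es
  induction es with
  | nil => intro hs _ e1 he1; simp at he1
  | cons e es ih =>
    intro hs h e1 he1
    cases hs with
    | nil => simp [hintsOK] at h
    | cons h0 hs =>
      rw [hintsOK] at h
      simp only [Bool.and_eq_true] at h
      obtain ⟨⟨⟨k1, k2⟩, k3⟩, k4⟩ := h
      rcases List.mem_cons.mp he1 with rfl | hmem
      · rw [List.any_eq_true] at k1
        obtain ⟨r, hr, hrr⟩ := k1
        have hr' : r = h0.1 := Nat.eq_of_beq_eq_true hrr
        refine ⟨h0.1, hr' ▸ hr, ?_, ?_⟩
        · rw [Nat.blt_eq] at k2; exact k2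
        · cases hsj : ss[h0.2]? with
          | none => rw [hsj] at k3; simp at k3
          | some s =>
            rw [hsj] at k3
            exact ⟨s, List.mem_of_getElem? hsj, Nat.eq_of_beq_eq_true k3⟩
      · exact ih hs k4 e1 hmem

theorem ssOK_spec {levels : List CLevel} {b : ℕ} {ss : List ℕ} (h : ssOK levels b ss = true) :
    ∀ s ∈ ss, invOK s = true ∧ siftB levels [decM s] = true ∧
      key (mv (decM s) (unkey b)) = b := by
  intro s hs
  unfold ssOK at h
  rw [List.all_eq_true] at h
  have h1 := h s hs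
  simp only [Bool.and_eq_true] at h1
  exact ⟨h1.1.1, h1.1.2, Nat.eq_of_beq_eq_true h1.2⟩

theorem smul_ptK_of_actsBy {g : GL (Fin 7) (ZMod 11)} {ws : List M7} (hg : ActsBy g ws) (b : ℕ) :
    g • ptK b = ptK (key (evalW ws (unkey b))) := by
  rw [ptK_key]
  exact hg (unkey b)

/-- every element of the group has a power, with exponent in the list, equal to the identity -/
theorem pow_eq_one_of_certs (gens : List ℕ) (b1 : ℕ) (T1 : Tree) (b2 : ℕ) (T2 : Tree)
    (hg : gensOK gens = true) (hc : checkChain gens [(b1, T1), (b2, T2)] = true)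
    (reps ss : List ℕ) (hints : List (ℕ × ℕ))
    (hss : ssOK [(b1, T1), (b2, T2)] b1 ss = true)
    (hh : hintsOK reps ss T1.toList hints = true)
    (hm : mainOK b1 b2 reps T1.toList T2.toList = true)
    (z : GL (Fin 7) (ZMod 11)) (hz : z ∈ genGroup gens) : ∃ k ∈ expos, z ^ k = 1 := by
  obtain ⟨e1, he1, e2, _, hpt, _⟩ := two_level_decomp gens b1 T1 b2 T2 hg hc z hz
  obtain ⟨r, hr, hrlt, s, hs, hsr⟩ := hintsOK_spec reps ss _ _ hh e1 he1
  obtain ⟨hsinv, hssift, hsfix⟩ := ssOK_spec hss s hs
  have hsmem : glOf s ∈ genGroup gens :=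
    (mat_main gens _ hg hc).2 _ _ (actsBy_single (glOf_acts hsinv)) hssift
  have hsb : glOf s • ptK b1 = ptK b1 := by rw [glOf_ptK hsinv, hsfix]
  have hsr' : glOf s • ptK r = ptK e1.1 := by rw [glOf_ptK hsinv, hsr]
  -- the conjugate
  have hz' : (glOf s)⁻¹ * z * glOf s ∈ genGroup gens :=
    Subgroup.mul_mem _ (Subgroup.mul_mem _ (Subgroup.inv_mem _ hsmem) hz) hsmem
  have hpt' : ((glOf s)⁻¹ * z * glOf s) • ptK b1 = ptK r := by
    rw [mul_smul, mul_smul, hsb, hpt, inv_smul_eq_iff, hsr']
  obtain ⟨e1', he1', e2', he2', hpt2, hzz⟩ :=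
    two_level_decomp gens b1 T1 b2 T2 hg hc _ hz'
  have hwf := checkChain_wf _ _ hc
  obtain ⟨_, w1⟩ := hwf (b1, T1) List.mem_cons_self
  obtain ⟨_, w2⟩ := hwf (b2, T2) (List.mem_cons_of_mem _ List.mem_cons_self)
  obtain ⟨q1, q2⟩ := w1 e1' he1'
  obtain ⟨_, q2'⟩ := w2 e2' he2'
  have hkey : e1'.1 = r := by
    apply ptK_inj q1 hrlt
    rw [← hpt2, hpt']
  -- the main check
  unfold mainOK at hm
  rw [List.all_eq_true] at hm
  have h1 := hm e1' he1'
  have hany : (reps.any fun r => Nat.beq r e1'.1) = true := by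
    rw [List.any_eq_true]
    exact ⟨r, hr, by rw [hkey]; exact Nat.beq_refl r⟩
  rw [hany, Bool.not_true, Bool.false_or, List.all_eq_true] at h1
  have h2 := h1 e2' he2'
  unfold ordOK at h2
  rw [List.any_eq_true] at h2
  obtain ⟨k, hk, hid⟩ := h2
  rw [Bool.and_eq_true] at hid
  obtain ⟨hid1, hid2⟩ := hid
  refine ⟨k, hk, ?_⟩
  have hact : ActsBy ((glOf s)⁻¹ * z * glOf s) [decM e1'.2.1, decM e2'.2.1] := by
    rw [hzz]
    exact actsBy_cons (glOf_acts q2) (actsBy_single (glOf_acts q2'))
  have hactk := actsBy_pow_word hact k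
  have hone : ((glOf s)⁻¹ * z * glOf s) ^ k = 1 := by
    apply eq_one_of_fix gens b1 T1 b2 T2 hg hc _ (Subgroup.pow_mem _ hz' k)
    · rw [smul_ptK_of_actsBy hactk]
      exact congrArg ptK (Nat.eq_of_beq_eq_true hid1)
    · rw [smul_ptK_of_actsBy hactk]
      exact congrArg ptK (Nat.eq_of_beq_eq_true hid2)
  have hconj : ((glOf s)⁻¹ * z * glOf s) ^ k = (glOf s)⁻¹ * z ^ k * glOf s := by
    have := conj_pow (a := (glOf s)⁻¹) (b := z) (i := k)
    rwa [inv_inv] at this
  rw [hconj] at hone
  have : z ^ k = glOf s * ((glOf s)⁻¹ * z ^ k * glOf s) * (glOf s)⁻¹ := by group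
  rw [this, hone]
  group

theorem mainOK_append {b1 b2 : ℕ} {R1 R2 : List ℕ} {es1 es2 : List Entry}
    (h1 : mainOK b1 b2 R1 es1 es2 = true) (h2 : mainOK b1 b2 R2 es1 es2 = true) :
    mainOK b1 b2 (R1 ++ R2) es1 es2 = true := by
  unfold mainOK at h1 h2 ⊢
  rw [List.all_eq_true] at h1 h2 ⊢
  intro e1 he1
  have k1 := h1 e1 he1
  have k2 := h2 e1 he1
  rw [List.any_append]
  cases ha : (R1.any fun r => Nat.beq r e1.1) with
  | true => rw [ha] at k1; simpa using k1
  | false =>
    cases hb : (R2.any fun r => Nat.beq r e1.1) with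
    | true => rw [hb] at k2; simpa using k2
    | false => simp

/-- the product of the two codes belongs to the group and has order exactly `n`, where `ps` lists
the prime divisors of `n` -/
def exactOrdOK (levels : List CLevel) (n : ℕ) (ps : List ℕ) (w : ℕ × ℕ) : Bool :=
  invOK w.1 && invOK w.2 && siftB levels [decM w.1, decM w.2] &&
  idB (List.replicate n [decM w.1, decM w.2]).flatten &&
  ps.all fun p => !(idB (List.replicate (n / p) [decM w.1, decM w.2]).flatten)

theorem exactOrd_spec (gens : List ℕ) (levels : List CLevel) (hg : gensOK gens = true)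
    (hc : checkChain gens levels = true) (n : ℕ) (ps : List ℕ) (w : ℕ × ℕ) (hn : 0 < n)
    (hps : ∀ p : ℕ, p.Prime → p ∣ n → p ∈ ps) (h : exactOrdOK levels n ps w = true) :
    glOf w.1 * glOf w.2 ∈ genGroup gens ∧ orderOf (glOf w.1 * glOf w.2) = n := by
  unfold exactOrdOK at h
  simp only [Bool.and_eq_true, List.all_eq_true, Bool.not_eq_true'] at h
  obtain ⟨⟨⟨⟨k1, k2⟩, k3⟩, k4⟩, k5⟩ := h
  have hact : ActsBy (glOf w.1 * glOf w.2) [decM w.1, decM w.2] :=
    actsBy_cons (glOf_acts k1) (actsBy_single (glOf_acts k2))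
  refine ⟨(mat_main gens levels hg hc).2 _ _ hact k3, ?_⟩
  apply orderOf_eq_of_pow_and_pow_div_prime hn
  · exact eq_one_of_idB (actsBy_pow_word hact n) k4
  · intro p hp hpn
    exact ne_of_wordEqB_false (actsBy_pow_word hact (n / p)) actsBy_one (k5 p (hps p hp hpn))

end Cfsg.Agent.Lib.Helper29.SpecJ1
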