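import Cfsg.Agent.Lib.Helper20.A10Core

/-!
# Norms of elements of prime order with cyclic Sylow subgroups of prime order

If the Sylow `p`-subgroups of `H` have order `p`, all elements of order `p` are conjugate to powers
of each other; so if one of them has norm zero on a module of exponent two, all of them have.
-/

set_option autoImplicit false

namespace Cfsg.Agent.Lib.Helper29.SylowNorm

open Cfsg.Agent.Lib.Helper20.A10Core

open scoped Pointwise

variable {H : Type*} [Group H] {V : Type*} [AddCommGroup V] [DistribMulAction H V]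

theorem smul_Sj_of_pow (h : H) (v : V) (k : ℕ) (hk : h ^ k = 1) : h • Sj h v k = Sj h v k := by
  have h1 : Sj h v (k + 1) = Sj h v k + v := by rw [Sj_succ, hk, one_smul]
  have h2 : Sj h v (1 + k) = v + h • Sj h v k := by
    rw [Sj_add, Sj_succ, Sj_zero, zero_add, pow_zero, one_smul, pow_one]
  rw [add_comm 1 k, h1, add_comm] at h2
  exact (add_left_cancel h2).symm

theorem pow_smul_of_fixed (h : H) (u : V) (hu : h • u = u) (i : ℕ) : h ^ i • u = u := by
  induction i with
  | zero => rw [pow_zero, one_smul]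
  | succ i ih => rw [pow_succ, mul_smul, hu, ih]

theorem Sj_of_fixed (h : H) (u : V) (hu : h • u = u) (k : ℕ) : Sj h u k = k • u := by
  induction k with
  | zero => rw [Sj_zero, zero_smul]
  | succ k ih => rw [Sj_succ, ih, pow_smul_of_fixed h u hu, succ_nsmul]

theorem Sj_zero_right (h : H) (k : ℕ) : Sj h (0 : V) k = 0 := by
  unfold Sj
  simp

/-- elements of order `p` are conjugate to powers of each other when the Sylow `p`-subgroups
have order `p` -/
theorem exists_conj_pow [Finite H] {p : ℕ} [Fact p.Prime]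
    (hcard : (Nat.card H).factorization p = 1) {x y : H} (hx : orderOf x = p)
    (hy : orderOf y = p) : ∃ (g : H) (j : ℕ), g * x * g⁻¹ = y ^ j := by
  have hcx : Nat.card (Subgroup.zpowers x) = p ^ (Nat.card H).factorization p := by
    rw [Nat.card_zpowers, hx, hcard, pow_one]
  have hcy : Nat.card (Subgroup.zpowers y) = p ^ (Nat.card H).factorization p := by
    rw [Nat.card_zpowers, hy, hcard, pow_one]
  obtain ⟨g, hg⟩ := MulAction.exists_smul_eq H (Sylow.ofCard _ hcx) (Sylow.ofCard _ hcy)
  have hxP : x ∈ ((Sylow.ofCard _ hcx : Sylow p H) : Subgroup H) := by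
    rw [Sylow.coe_ofCard]; exact Subgroup.mem_zpowers x
  have h1 : MulAut.conj g • x ∈ MulAut.conj g • ((Sylow.ofCard _ hcx : Sylow p H) : Subgroup H) :=
    Subgroup.smul_mem_pointwise_smul _ _ _ hxP
  rw [← Sylow.pointwise_smul_def, ← Sylow.smul_def, hg, Sylow.coe_ofCard] at h1
  have h2 : g * x * g⁻¹ ∈ Subgroup.zpowers y := h1
  rw [← mem_powers_iff_mem_zpowers] at h2
  obtain ⟨j, hj⟩ := (Submonoid.mem_powers_iff _ _).mp h2
  exact ⟨g, j, hj.symm⟩

/-- if one element of order `p` has norm zero, all of them have -/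
theorem Sj_eq_zero_of_sylow [Finite H] {p : ℕ} [Fact p.Prime]
    (hcard : (Nat.card H).factorization p = 1) (hodd : Odd p) (h2 : ∀ v : V, 2 • v = 0)
    {h0 : H} (h0p : orderOf h0 = p) (hz : ∀ v : V, Sj h0 v p = 0)
    (h : H) (hp : orderOf h = p) (v : V) : Sj h v p = 0 := by
  have hpp : p.Prime := Fact.out
  have hfix : h • Sj h v p = Sj h v p :=
    smul_Sj_of_pow h v p (by rw [← hp]; exact pow_orderOf_eq_one h)
  obtain ⟨g, j, hgj⟩ := exists_conj_pow hcard hp h0p
  set u : V := g • Sj h v p with hu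
  have hju : h0 ^ j • u = u := by
    rw [← hgj, hu, ← mul_smul, inv_mul_cancel_right, mul_smul, hfix]
  -- `j` is prime to `p`
  have hjp : ¬ p ∣ j := by
    intro hdvd
    have h1 : h0 ^ j = 1 := by
      rw [← h0p] at hdvd
      exact orderOf_dvd_iff_pow_eq_one.mp hdvd
    rw [h1] at hgj
    have h3 : h = 1 := by
      have : h = g⁻¹ * (g * h * g⁻¹) * g := by group
      rw [this, hgj]; group
    rw [h3, orderOf_one] at hp
    exact hpp.one_lt.ne hp
  have hcop : Nat.Coprime j p := (Nat.Coprime.symm ((Nat.Prime.coprime_iff_not_dvd hpp).mpr hjp))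
  obtain ⟨m, -, hm⟩ := Nat.exists_mul_mod_eq_one_of_coprime hcop hpp.one_lt
  have h0u : h0 • u = u := by
    have h1 : (h0 ^ j) ^ m = h0 := by
      rw [← pow_mul, ← pow_mod_orderOf, h0p, hm, pow_one]
    rw [← h1]
    exact pow_smul_of_fixed (h0 ^ j) u hju m
  have h3 : p • u = 0 := by rw [← Sj_of_fixed h0 u h0u p]; exact hz u
  obtain ⟨k, hk⟩ := hodd
  have h4 : u = 0 := by
    rw [hk, add_smul, mul_comm, mul_smul, h2, smul_zero, zero_add, one_smul] at h3
    exact h3
  rw [hu] at h4
  exact (smul_eq_zero_iff_eq g).mp h4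

end Cfsg.Agent.Lib.Helper29.SylowNorm
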