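-- Helper library (helper29): automorphisms of symmetric groups, subgroups of index 6 in S_6.
import Cfsg.Agent.S5911
set_option autoImplicit false

namespace Cfsg.Agent.Helper29.SymSix

open MulAction



section general
variable {Ω : Type*} [Fintype Ω] [DecidableEq Ω]

/-- The stabilizer of a point is generated by the swaps it contains. -/
lemma stab_le_closure_swaps (q₀ : Ω) :
    MulAction.stabilizer (Equiv.Perm Ω) q₀ ≤
      Subgroup.closure {τ : Equiv.Perm Ω | τ.IsSwap ∧ τ q₀ = q₀} := by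
  intro g hg
  have hg0 : g q₀ = q₀ := hg
  have hT : ∀ τ ∈ {τ : Equiv.Perm Ω | τ.IsSwap ∧ τ q₀ = q₀}, τ.IsSwap := fun τ h => h.1
  rw [mem_closure_isSwap hT]
  refine ⟨Set.toFinite _, fun y => ?_⟩
  by_cases hy : g y = y
  · rw [hy]; exact MulAction.mem_orbit_self y
  · have h1 : y ≠ q₀ := by rintro rfl; exact hy hg0
    have h2 : g y ≠ q₀ := by
      intro h; apply h1; apply g.injective; rw [h, hg0]
    have : Equiv.swap y (g y) ∈ {τ : Equiv.Perm Ω | τ.IsSwap ∧ τ q₀ = q₀} :=
      ⟨⟨y, g y, Ne.symm hy, rfl⟩, Equiv.swap_apply_of_ne_of_ne h1.symm h2.symm⟩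
    exact ⟨⟨Equiv.swap y (g y), Subgroup.subset_closure this⟩, Equiv.swap_apply_left _ _⟩

lemma stab_eq_closure_swaps (q₀ : Ω) :
    MulAction.stabilizer (Equiv.Perm Ω) q₀ =
      Subgroup.closure {τ : Equiv.Perm Ω | τ.IsSwap ∧ τ q₀ = q₀} :=
  le_antisymm (stab_le_closure_swaps q₀)
    ((Subgroup.closure_le _).mpr (fun τ hτ => MulAction.mem_stabilizer_iff.mpr hτ.2))

lemma stab_inj (h3 : 3 ≤ Fintype.card Ω) (a b : Ω)
    (h : MulAction.stabilizer (Equiv.Perm Ω) a = MulAction.stabilizer (Equiv.Perm Ω) b) : a = b := by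
  by_contra hab
  have : ∃ c : Ω, c ≠ a ∧ c ≠ b := by
    by_contra hcon
    push Not at hcon
    have : (Finset.univ : Finset Ω) ⊆ {a, b} := by
      intro c _
      by_cases hc : c = a
      · simp [hc]
      · simp [hcon c hc]
    have := Finset.card_le_card this
    have h2 : ({a, b} : Finset Ω).card ≤ 2 := Finset.card_le_two
    rw [Finset.card_univ] at this
    omega
  obtain ⟨c, hca, hcb⟩ := this
  have h1 : Equiv.swap b c ∈ MulAction.stabilizer (Equiv.Perm Ω) a := by
    rw [MulAction.mem_stabilizer_iff]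
    exact Equiv.swap_apply_of_ne_of_ne hab hca.symm
  rw [h, MulAction.mem_stabilizer_iff] at h1
  have : Equiv.swap b c b = c := Equiv.swap_apply_left b c
  have h1' : Equiv.swap b c b = b := h1
  rw [this] at h1'
  exact hcb h1'

/-- A subgroup of index `n` generated by swaps is a point stabilizer (`n ≥ 2`). -/
lemma point_stab_of_closure_swaps (h2 : 2 ≤ Fintype.card Ω) (H : Subgroup (Equiv.Perm Ω))
    (hH : H.index = Fintype.card Ω) (S : Set (Equiv.Perm Ω)) (hS : ∀ σ ∈ S, σ.IsSwap)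
    (hHS : H = Subgroup.closure S) : ∃ z : Ω, H = MulAction.stabilizer (Equiv.Perm Ω) z := by
  classical
  have hn0 : 0 < Fintype.card Ω := by omega
  obtain ⟨x⟩ : Nonempty Ω := Fintype.card_pos_iff.mp hn0
  have hntr : ¬ MulAction.IsPretransitive H Ω := by
    intro htr
    have htop : Subgroup.closure S = ⊤ := by
      haveI : MulAction.IsPretransitive (Subgroup.closure S) Ω := by rw [← hHS]; exact htr
      exact closure_of_isSwap_of_isPretransitive hS
    rw [← hHS] at htop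
    rw [htop, Subgroup.index_top] at hH
    omega
  apply Cfsg.Agent.S5911.intrans H hH x
  by_contra hcon
  push Not at hcon
  apply hntr
  refine ⟨fun a b => ?_⟩
  have ha := hcon a
  have hb := hcon b
  rw [← MulAction.orbit_eq_iff] at ha hb
  have : b ∈ MulAction.orbit H a := by rw [ha, ← hb]; exact MulAction.mem_orbit_self b
  exact this

/-- An automorphism of `Perm Ω` that maps swaps to swaps is inner. -/
lemma inner_of_swap_preserving (h3 : 3 ≤ Fintype.card Ω) (σ : Equiv.Perm Ω ≃* Equiv.Perm Ω)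
    (hσ : ∀ τ : Equiv.Perm Ω, τ.IsSwap → (σ τ).IsSwap) :
    ∃ g : Equiv.Perm Ω, ∀ x, σ x = g * x * g⁻¹ := by
  classical
  have key : ∀ a : Ω, ∃ z : Ω, (MulAction.stabilizer (Equiv.Perm Ω) a).map σ.toMonoidHom =
      MulAction.stabilizer (Equiv.Perm Ω) z := by
    intro a
    apply point_stab_of_closure_swaps (by omega) _ _
      (σ.toMonoidHom '' {τ : Equiv.Perm Ω | τ.IsSwap ∧ τ a = a})
    · rintro _ ⟨τ, hτ, rfl⟩
      exact hσ τ hτ.1
    · rw [← MonoidHom.map_closure, ← stab_eq_closure_swaps]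
    · have := Subgroup.index_map_equiv (MulAction.stabilizer (Equiv.Perm Ω) a) σ
      rw [MulAction.index_stabilizer_of_transitive, Nat.card_eq_fintype_card] at this
      exact this
  choose g hg using key
  have ginj : Function.Injective g := by
    intro a b hab
    apply stab_inj h3
    have h1 := hg a
    rw [hab, ← hg b] at h1
    exact Subgroup.map_injective σ.injective h1
  let gp : Equiv.Perm Ω := Equiv.ofBijective g (Finite.injective_iff_bijective.mp ginj)
  refine ⟨gp, fun x => ?_⟩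
  have hcomm : ∀ a, σ x (g a) = g (x a) := by
    intro a
    apply stab_inj h3
    have h1 : MulAction.stabilizer (Equiv.Perm Ω) (x a) =
        (MulAction.stabilizer (Equiv.Perm Ω) a).map (MulAut.conj x).toMonoidHom :=
      MulAction.stabilizer_smul_eq_stabilizer_map_conj x a
    have h2 : MulAction.stabilizer (Equiv.Perm Ω) (σ x (g a)) =
        (MulAction.stabilizer (Equiv.Perm Ω) (g a)).map (MulAut.conj (σ x)).toMonoidHom :=
      MulAction.stabilizer_smul_eq_stabilizer_map_conj (σ x) (g a)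
    rw [h2, ← hg (x a), h1, ← hg a, Subgroup.map_map, Subgroup.map_map]
    congr 1
    ext y : 1
    simp [MulAut.conj_apply]
  have : σ x * gp = gp * x := by
    ext a
    simp only [Equiv.Perm.mul_apply]
    exact hcomm a
  rw [← this]
  group

end general




section general
variable {Ω : Type*} [Fintype Ω] [DecidableEq Ω]

/-- Every subgroup of index `n = |Ω| ≥ 5` of `Perm Ω` is the preimage of a point stabilizer under
an automorphism of `Perm Ω`. -/
lemma exists_aut (h5 : 5 ≤ Fintype.card Ω) (H : Subgroup (Equiv.Perm Ω))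
    (hH : H.index = Fintype.card Ω) (x₀ : Ω) :
    ∃ α : Equiv.Perm Ω ≃* Equiv.Perm Ω, ∀ g, g ∈ H ↔ α g x₀ = x₀ := by
  classical
  let Q := Equiv.Perm Ω ⧸ H
  letI : Fintype Q := Fintype.ofFinite Q
  have hQ : Fintype.card Q = Fintype.card Ω := by
    rw [← Nat.card_eq_fintype_card]; exact hH
  let φ : Equiv.Perm Ω →* Equiv.Perm Q := MulAction.toPermHom (Equiv.Perm Ω) Q
  have hker : φ.ker = ⊥ := by
    rw [← Subgroup.normalCore_eq_ker]
    by_contra hne
    have hnt : Nontrivial H.normalCore := (Subgroup.nontrivial_iff_ne_bot _).mpr hne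
    have hA := Equiv.Perm.alternatingGroup_le_of_normal
      (by rw [Nat.card_eq_fintype_card]; exact h5) hnt
    have hAH : alternatingGroup Ω ≤ H := hA.trans (Subgroup.normalCore_le H)
    have hdvd := Subgroup.index_dvd_of_le hAH
    haveI : Nontrivial Ω := Fintype.one_lt_card_iff_nontrivial.mp (by omega)
    rw [alternatingGroup.index_eq_two, hH] at hdvd
    have := Nat.le_of_dvd (by norm_num) hdvd
    omega
  have hinj : Function.Injective φ := (MonoidHom.ker_eq_bot_iff φ).mp hker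
  have hbij : Function.Bijective φ := by
    rw [Fintype.bijective_iff_injective_and_card]
    exact ⟨hinj, by rw [Fintype.card_perm, Fintype.card_perm, hQ]⟩
  let e : Equiv.Perm Ω ≃* Equiv.Perm Q := MulEquiv.ofBijective φ hbij
  let q₀ : Q := ((1 : Equiv.Perm Ω) : Q)
  have hmem : ∀ g, g ∈ H ↔ e g q₀ = q₀ := by
    intro g
    have : e g q₀ = g • q₀ := rfl
    rw [this, ← MulAction.mem_stabilizer_iff, MulAction.stabilizer_quotient]
  let b₀ : Q ≃ Ω := Fintype.equivOfCardEq hQ
  let b : Q ≃ Ω := b₀.trans (Equiv.swap (b₀ q₀) x₀)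
  have hb : b q₀ = x₀ := by simp [b]
  refine ⟨e.trans b.permCongrHom, fun g => ?_⟩
  rw [hmem g]
  have : (e.trans b.permCongrHom) g x₀ = b (e g (b.symm x₀)) := by
    simp [Equiv.permCongrHom, Equiv.permCongr_apply]
  rw [this, ← hb, Equiv.symm_apply_apply, b.injective.eq_iff]

end general




section six
variable {Ω : Type*} [Fintype Ω] [DecidableEq Ω]

/-- Under an automorphism of `Perm Ω`, a swap maps to a swap or (only when `|Ω| = 6`) to a product of
three disjoint transpositions. -/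
lemma cycleType_aut_swap (e : Equiv.Perm Ω ≃* Equiv.Perm Ω) (τ : Equiv.Perm Ω) (hτ : τ.IsSwap) :
    (e τ).IsSwap ∨ ((e τ).cycleType = Multiset.replicate 3 2 ∧ Fintype.card Ω = 6) := by
  have hord : orderOf (e τ) = 2 := by
    rw [MulEquiv.orderOf_eq]; exact hτ.orderOf
  have : Fact (Nat.Prime 2) := ⟨Nat.prime_two⟩
  obtain ⟨k, hk⟩ := Equiv.Perm.cycleType_prime_order (σ := e τ) (by rw [hord]; exact Nat.prime_two)
  rw [hord] at hk
  have hc1 := Equiv.Perm.nat_card_centralizer τ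
  have hc2 := Equiv.Perm.nat_card_centralizer (e τ)
  have hτc := Equiv.Perm.isSwap_iff_cycleType.mp hτ
  rw [← Cfsg.Agent.S5911.card_centralizer_eq e τ, hc1, hk, hτc] at hc2
  have htf : (Multiset.replicate (k + 1) 2).toFinset = {2} := by
    rw [Multiset.toFinset_replicate, if_neg (Nat.succ_ne_zero k)]
  rw [htf] at hc2
  simp only [Multiset.sum_replicate, Multiset.prod_replicate, Multiset.sum_singleton,
    Multiset.prod_singleton, Multiset.toFinset_singleton, Finset.prod_singleton,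
    Multiset.count_replicate_self, Multiset.count_singleton_self, smul_eq_mul,
    Nat.factorial_one, mul_one] at hc2
  have hsum : (e τ).cycleType.sum ≤ Fintype.card Ω := by
    rw [Equiv.Perm.sum_cycleType]; exact Finset.card_le_univ _
  rw [hk] at hsum
  simp only [Multiset.sum_replicate, smul_eq_mul] at hsum
  rcases Nat.eq_zero_or_pos k with rfl | hkpos
  · left
    rw [Equiv.Perm.isSwap_iff_cycleType, hk]
    simp
  · right
    obtain ⟨m, hm⟩ : ∃ m, Fintype.card Ω = m + (k + 1) * 2 :=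
      ⟨Fintype.card Ω - (k + 1) * 2, by omega⟩
    rw [hm] at hc2
    have e1 : m + (k + 1) * 2 - 2 = m + 2 * k := by omega
    have e2 : m + (k + 1) * 2 - (k + 1) * 2 = m := by omega
    rw [e1, e2] at hc2
    obtain ⟨rfl, rfl⟩ := Cfsg.Agent.S5911.arith_key m k hkpos hc2
    exact ⟨hk, by rw [hm]⟩

/-- An automorphism preserving the class of swaps. -/
def SwapPres (e : Equiv.Perm Ω ≃* Equiv.Perm Ω) : Prop :=
  ∀ τ : Equiv.Perm Ω, τ.IsSwap → (e τ).IsSwap

lemma exists_bad_swap (e : Equiv.Perm Ω ≃* Equiv.Perm Ω) (h : ¬ SwapPres e) :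
    ∃ τ₀ : Equiv.Perm Ω, τ₀.IsSwap ∧ (e τ₀).cycleType = Multiset.replicate 3 2 := by
  unfold SwapPres at h
  push Not at h
  obtain ⟨τ₀, h1, h2⟩ := h
  rcases cycleType_aut_swap e τ₀ h1 with h3 | h3
  · exact absurd h3 h2
  · exact ⟨τ₀, h1, h3.1⟩

lemma cycleType_of_not_swapPres (e : Equiv.Perm Ω ≃* Equiv.Perm Ω) (h : ¬ SwapPres e)
    (τ : Equiv.Perm Ω) (hτ : τ.IsSwap) : (e τ).cycleType = Multiset.replicate 3 2 := by
  obtain ⟨τ₀, h1, h2⟩ := exists_bad_swap e h
  have hc : IsConj τ τ₀ := by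
    rw [Equiv.Perm.isConj_iff_cycleType_eq, Equiv.Perm.isSwap_iff_cycleType.mp hτ,
      Equiv.Perm.isSwap_iff_cycleType.mp h1]
  have hc' : IsConj (e τ) (e τ₀) := e.toMonoidHom.map_isConj hc
  rw [Equiv.Perm.isConj_iff_cycleType_eq] at hc'
  rw [hc', h2]

lemma isSwap_symm_of_not_swapPres (e : Equiv.Perm Ω ≃* Equiv.Perm Ω) (h : ¬ SwapPres e)
    (ρ : Equiv.Perm Ω) (hρ : ρ.cycleType = Multiset.replicate 3 2) : (e.symm ρ).IsSwap := by
  obtain ⟨τ₀, h1, h2⟩ := exists_bad_swap e h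
  have hc : IsConj ρ (e τ₀) := by
    rw [Equiv.Perm.isConj_iff_cycleType_eq, hρ, h2]
  have hc' : IsConj (e.symm ρ) (e.symm (e τ₀)) := e.symm.toMonoidHom.map_isConj hc
  rw [e.symm_apply_apply, Equiv.Perm.isConj_iff_cycleType_eq] at hc'
  rw [Equiv.Perm.isSwap_iff_cycleType, hc', Equiv.Perm.isSwap_iff_cycleType.mp h1]

lemma not_swapPres_symm (h2 : 2 ≤ Fintype.card Ω) (e : Equiv.Perm Ω ≃* Equiv.Perm Ω)
    (h : ¬ SwapPres e) : ¬ SwapPres e.symm := by
  intro hs
  obtain ⟨a, b, hab⟩ := Fintype.exists_pair_of_one_lt_card (show 1 < Fintype.card Ω by omega)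
  have hsw : (Equiv.swap a b).IsSwap := ⟨a, b, hab, rfl⟩
  have h1 := hs _ hsw
  have h3 := cycleType_of_not_swapPres e h _ h1
  rw [e.apply_symm_apply, Equiv.Perm.isSwap_iff_cycleType.mp hsw] at h3
  revert h3
  decide

lemma swapPres_trans_symm (e₁ e₂ : Equiv.Perm Ω ≃* Equiv.Perm Ω)
    (h₁ : ¬ SwapPres e₁) (h₂ : ¬ SwapPres e₂) : SwapPres (e₂.trans e₁.symm) := by
  intro τ hτ
  have := cycleType_of_not_swapPres e₂ h₂ τ hτ
  exact isSwap_symm_of_not_swapPres e₁ h₁ _ this

lemma swapPres_symm_trans (h2 : 2 ≤ Fintype.card Ω) (e₁ e₂ : Equiv.Perm Ω ≃* Equiv.Perm Ω)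
    (h₁ : ¬ SwapPres e₁) (h₂ : ¬ SwapPres e₂) : SwapPres (e₂.symm.trans e₁) := by
  intro τ hτ
  have := cycleType_of_not_swapPres e₂.symm (not_swapPres_symm h2 e₂ h₂) τ hτ
  have h := isSwap_symm_of_not_swapPres e₁.symm (not_swapPres_symm h2 e₁ h₁) _ this
  simpa using h

end six




section construct

lemma arith_16 (c : ℕ) (h6 : c ∣ 24) (hmod : c % 5 = 1) : c = 1 ∨ c = 6 := by
  have hle : c ≤ 24 := Nat.le_of_dvd (by norm_num) h6
  interval_cases c <;> omega

/-- The number of Sylow 5-subgroups of `S₅` is 6. -/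
lemma card_sylow5 : Nat.card (Sylow 5 (Equiv.Perm (Fin 5))) = 6 := by
  haveI : Fact (Nat.Prime 5) := ⟨by norm_num⟩
  obtain ⟨P⟩ : Nonempty (Sylow 5 (Equiv.Perm (Fin 5))) := inferInstance
  have hG : Nat.card (Equiv.Perm (Fin 5)) = 120 := by
    rw [Nat.card_perm]; simp [Nat.factorial]
  have h1 : Nat.card (Sylow 5 (Equiv.Perm (Fin 5))) ≡ 1 [MOD 5] :=
    card_sylow_modEq_one 5 (Equiv.Perm (Fin 5))
  have h2 : Nat.card (Sylow 5 (Equiv.Perm (Fin 5))) ∣ (P : Subgroup (Equiv.Perm (Fin 5))).index := P.card_dvd_index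
  have h3 : ¬ 5 ∣ (P : Subgroup (Equiv.Perm (Fin 5))).index := P.not_dvd_index
  have h4 : (P : Subgroup (Equiv.Perm (Fin 5))).index ∣ 120 := by
    rw [← hG]; exact Subgroup.index_dvd_card _
  have hmul := (P : Subgroup (Equiv.Perm (Fin 5))).card_mul_index
  rw [hG] at hmul
  obtain ⟨c, hc⟩ : ∃ c, c = Nat.card (Sylow 5 (Equiv.Perm (Fin 5))) := ⟨_, rfl⟩
  rw [← hc] at h1 h2
  have h5 : ¬ 5 ∣ c := fun h => h3 (h.trans h2)
  have h6 : c ∣ 24 := by
    have hcop : Nat.Coprime c 5 := by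
      rw [Nat.coprime_comm]
      exact (Nat.Prime.coprime_iff_not_dvd (by norm_num)).mpr h5
    have : c ∣ 5 * 24 := h2.trans h4
    exact hcop.dvd_of_dvd_mul_left this
  have hmod : c % 5 = 1 := h1
  have hc16 : c = 1 ∨ c = 6 := arith_16 c h6 hmod
  rw [← hc]
  rcases hc16 with hc1 | hc6
  · exfalso
    haveI : Subsingleton (Sylow 5 (Equiv.Perm (Fin 5))) :=
      (Nat.card_eq_one_iff_unique.mp (hc ▸ hc1)).1
    haveI hPn : (P : Subgroup (Equiv.Perm (Fin 5))).Normal := P.normal_of_subsingleton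
    have hPnt : Nontrivial (P : Subgroup (Equiv.Perm (Fin 5))) := by
      rw [Subgroup.nontrivial_iff_ne_bot]
      intro hbot
      rw [hbot, Subgroup.index_bot, hG] at h3
      exact h3 (by norm_num)
    have hA := Equiv.Perm.alternatingGroup_le_of_normal (α := Fin 5)
      (by simp) (N := (P : Subgroup (Equiv.Perm (Fin 5)))) hPnt
    have hdvd := Subgroup.index_dvd_of_le hA
    rw [alternatingGroup.index_eq_two] at hdvd
    have hidx : (P : Subgroup (Equiv.Perm (Fin 5))).index ≤ 2 := Nat.le_of_dvd (by norm_num) hdvd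
    obtain ⟨k, hk⟩ := (IsPGroup.iff_card.mp P.isPGroup')
    rw [hk] at hmul
    have hk1 : k ≤ 1 := by
      by_contra hcon
      have : 5 ^ 2 ∣ 5 ^ k := pow_dvd_pow 5 (by omega)
      have : 25 ∣ 120 := by
        have h := this.trans (Dvd.intro _ hmul)
        simpa using h
      omega
    have : 5 ^ k ≤ 5 := by
      calc 5 ^ k ≤ 5 ^ 1 := Nat.pow_le_pow_right (by norm_num) hk1
        _ = 5 := by norm_num
    nlinarith
  · exact hc6

end construct




section construct


/-- A transitive subgroup of index 6 in `Perm Ω`, `|Ω| = 6`. -/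
lemma exists_trans_index6 {Ω : Type*} [Fintype Ω] [DecidableEq Ω] (h6 : Fintype.card Ω = 6) :
    ∃ H₂ : Subgroup (Equiv.Perm Ω), H₂.index = 6 ∧ MulAction.IsPretransitive H₂ Ω := by
  classical
  haveI : Fact (Nat.Prime 5) := ⟨by norm_num⟩
  let G := Equiv.Perm (Fin 5)
  let X := Sylow 5 G
  letI : Fintype X := Fintype.ofFinite X
  have hX : Fintype.card X = 6 := by
    rw [← Nat.card_eq_fintype_card]; exact card_sylow5
  have hG : Nat.card G = 120 := by
    rw [Nat.card_perm]; simp [Nat.factorial]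
  let ψ : G →* Equiv.Perm X := MulAction.toPermHom G X
  have hker : ψ.ker = ⊥ := by
    by_contra hne
    have hnt : Nontrivial ψ.ker := (Subgroup.nontrivial_iff_ne_bot _).mpr hne
    have hA := Equiv.Perm.alternatingGroup_le_of_normal (α := Fin 5) (by simp) hnt
    obtain ⟨P⟩ : Nonempty X := inferInstance
    have hst : ψ.ker ≤ MulAction.stabilizer G P := by
      intro g hg
      rw [MonoidHom.mem_ker] at hg
      rw [MulAction.mem_stabilizer_iff]
      have : ψ g P = g • P := rfl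
      rw [← this, hg]; rfl
    have hdvd := Subgroup.index_dvd_of_le (hA.trans hst)
    rw [alternatingGroup.index_eq_two, MulAction.index_stabilizer_of_transitive,
      Nat.card_eq_fintype_card, hX] at hdvd
    omega
  have hinj : Function.Injective ψ := (MonoidHom.ker_eq_bot_iff ψ).mp hker
  have hR : Nat.card ψ.range = 120 := by
    rw [← hG]
    exact (Nat.card_congr (MonoidHom.ofInjective hinj).toEquiv).symm
  have hidx : ψ.range.index = 6 := by
    have h1 := ψ.range.card_mul_index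
    rw [hR, Nat.card_perm, Nat.card_eq_fintype_card, hX] at h1
    have : Nat.factorial 6 = 720 := by simp [Nat.factorial]
    omega
  have htr : ∀ P Q : X, ∃ g : G, ψ g P = Q := by
    intro P Q
    obtain ⟨g, hg⟩ := MulAction.exists_smul_eq G P Q
    exact ⟨g, hg⟩
  let eqv : Ω ≃ X := Fintype.equivOfCardEq (by rw [h6, hX])
  let c : Equiv.Perm Ω ≃* Equiv.Perm X := eqv.permCongrHom
  refine ⟨ψ.range.comap c.toMonoidHom, ?_, ⟨fun a b => ?_⟩⟩
  · rw [Subgroup.index_comap_of_surjective _ c.surjective, hidx]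
  · obtain ⟨g, hg⟩ := htr (eqv a) (eqv b)
    refine ⟨⟨c.symm (ψ g), ?_⟩, ?_⟩
    · rw [Subgroup.mem_comap]
      simp
    · change c.symm (ψ g) a = b
      have : c.symm (ψ g) a = eqv.symm (ψ g (eqv a)) := by
        simp [c, Equiv.permCongrHom, Equiv.permCongr_apply]
      rw [this, hg, Equiv.symm_apply_apply]

end construct


section classify
variable {Ω : Type*} [Fintype Ω] [DecidableEq Ω]

/-- If `H` is the preimage of `Stab x₀` under a swap-preserving automorphism, it is a point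
stabilizer. -/
lemma point_stab_of_swapPres (h3 : 3 ≤ Fintype.card Ω) (H : Subgroup (Equiv.Perm Ω)) (x₀ : Ω)
    (α : Equiv.Perm Ω ≃* Equiv.Perm Ω) (hα : ∀ g, g ∈ H ↔ α g x₀ = x₀) (hs : SwapPres α) :
    ∃ z : Ω, H = MulAction.stabilizer (Equiv.Perm Ω) z := by
  obtain ⟨g, hg⟩ := inner_of_swap_preserving h3 α hs
  refine ⟨g⁻¹ x₀, ?_⟩
  ext x
  rw [hα x, hg x, MulAction.mem_stabilizer_iff]
  constructor
  · intro h
    have : g⁻¹ ((g * x * g⁻¹) x₀) = g⁻¹ x₀ := by rw [h]
    simpa using this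
  · intro h
    have h' : x (g⁻¹ x₀) = g⁻¹ x₀ := h
    simp only [Equiv.Perm.mul_apply, h']
    simp

/-- A transitive subgroup is not the preimage of a point stabilizer under a swap-preserving
automorphism. -/
lemma not_swapPres_of_trans (h3 : 3 ≤ Fintype.card Ω) (H : Subgroup (Equiv.Perm Ω)) (x₀ : Ω)
    (htr : MulAction.IsPretransitive H Ω)
    (α : Equiv.Perm Ω ≃* Equiv.Perm Ω) (hα : ∀ g, g ∈ H ↔ α g x₀ = x₀) : ¬ SwapPres α := by
  intro hs
  obtain ⟨z, hz⟩ := point_stab_of_swapPres h3 H x₀ α hα hs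
  obtain ⟨y, hy⟩ : ∃ y : Ω, y ≠ z := by
    obtain ⟨a, b, hab⟩ := Fintype.exists_pair_of_one_lt_card (show 1 < Fintype.card Ω by omega)
    by_cases h : a = z
    · exact ⟨b, fun hb => hab (h.trans hb.symm)⟩
    · exact ⟨a, h⟩
  obtain ⟨⟨h, hh⟩, hhy⟩ := htr.exists_smul_eq z y
  rw [hz, MulAction.mem_stabilizer_iff] at hh
  have : h z = y := hhy
  exact hy (this.symm.trans hh)

/-- Two subgroups that are preimages of `Stab x₀` under non-swap-preserving automorphisms are
conjugate. -/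
lemma conj_of_not_swapPres (h3 : 3 ≤ Fintype.card Ω) (H H₂ : Subgroup (Equiv.Perm Ω)) (x₀ : Ω)
    (α α₂ : Equiv.Perm Ω ≃* Equiv.Perm Ω) (hα : ∀ g, g ∈ H ↔ α g x₀ = x₀)
    (hα₂ : ∀ g, g ∈ H₂ ↔ α₂ g x₀ = x₀) (hs : ¬ SwapPres α) (hs₂ : ¬ SwapPres α₂) :
    ∃ g : Equiv.Perm Ω, Subgroup.map (MulAut.conj g).toMonoidHom H₂ = H := by
  obtain ⟨g, hg⟩ := inner_of_swap_preserving h3 (α₂.trans α.symm) (swapPres_trans_symm α α₂ hs hs₂)
  refine ⟨g, ?_⟩
  have hσ : ∀ x, α (g * x * g⁻¹) = α₂ x := by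
    intro x
    rw [← hg x]
    simp
  ext y
  rw [Subgroup.mem_map]
  constructor
  · rintro ⟨x, hx, rfl⟩
    rw [hα]
    have : (MulAut.conj g).toMonoidHom x = g * x * g⁻¹ := by simp [MulAut.conj_apply]
    rw [this, hσ x]
    exact (hα₂ x).mp hx
  · intro hy
    refine ⟨g⁻¹ * y * g, ?_, by simp [MulAut.conj_apply, mul_assoc]⟩
    rw [hα₂, ← hσ]
    have : g * (g⁻¹ * y * g) * g⁻¹ = y := by group
    rw [this]
    exact (hα y).mp hy

end classify

end Cfsg.Agent.Helper29.SymSix
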