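import Cfsg.Agent.Lib.Helper29.SzData
import Cfsg.Agent.Lib.Helper29.SpecPerm
import Cfsg.Agent.Lib.Helper29.PermMod

/-!
# Kernel-checked certificates for `Sz(8):3` on 455 points: the first level, without sifting
-/

set_option autoImplicit false
set_option maxRecDepth 100000

namespace Cfsg.Agent.Lib.Helper29.SzCert

open Cfsg.Agent.Lib.Helper28.BSGS Cfsg.Agent.Lib.Helper29.SzData Cfsg.Agent.Lib.Helper29.SpecPerm
  Cfsg.Agent.Lib.Helper29.PermMod

theorem gens_ok : gensOK 455 9 gens = true := by decide +kernel

theorem nodup_ok : nodupB (T1.map fun e => e.1) = true := by decide +kernel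

theorem orbit_ok : orbitOK 9 gens [b1] ((T1.map fun e => e.1).tail) = true := by decide +kernel

theorem head_ok : headOK 455 9 b1 T1 = true := by decide +kernel

theorem entry_ok_0 : T1_0.all (entryOK 455 9 b1) = true := by decide +kernel

theorem entry_ok_1 : T1_1.all (entryOK 455 9 b1) = true := by decide +kernel

theorem entry_ok_2 : T1_2.all (entryOK 455 9 b1) = true := by decide +kernel

theorem entry_ok_3 : T1_3.all (entryOK 455 9 b1) = true := by decide +kernel

theorem entry_ok_4 : T1_4.all (entryOK 455 9 b1) = true := by decide +kernel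

theorem entry_ok_5 : T1_5.all (entryOK 455 9 b1) = true := by decide +kernel

theorem entry_ok_6 : T1_6.all (entryOK 455 9 b1) = true := by decide +kernel

theorem entry_ok_7 : T1_7.all (entryOK 455 9 b1) = true := by decide +kernel

theorem entry_ok_8 : T1_8.all (entryOK 455 9 b1) = true := by decide +kernel

theorem entry_ok_9 : T1_9.all (entryOK 455 9 b1) = true := by decide +kernel

theorem entry_ok_10 : T1_10.all (entryOK 455 9 b1) = true := by decide +kernel

theorem entry_ok_11 : T1_11.all (entryOK 455 9 b1) = true := by decide +kernel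

theorem entry_ok_12 : T1_12.all (entryOK 455 9 b1) = true := by decide +kernel

theorem all_T1 {p : Entry → Bool} (h0 : T1_0.all p = true) (h1 : T1_1.all p = true) (h2 : T1_2.all p = true) (h3 : T1_3.all p = true) (h4 : T1_4.all p = true) (h5 : T1_5.all p = true) (h6 : T1_6.all p = true) (h7 : T1_7.all p = true) (h8 : T1_8.all p = true) (h9 : T1_9.all p = true) (h10 : T1_10.all p = true) (h11 : T1_11.all p = true) (h12 : T1_12.all p = true) :
    T1.all p = true := by
  unfold T1
  simp only [List.all_append, h0, h1, h2, h3, h4, h5, h6, h7, h8, h9, h10, h11, h12, Bool.and_self]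

theorem entry_ok : T1.all (entryOK 455 9 b1) = true :=
  all_T1 entry_ok_0 entry_ok_1 entry_ok_2 entry_ok_3 entry_ok_4 entry_ok_5 entry_ok_6 entry_ok_7 entry_ok_8 entry_ok_9 entry_ok_10 entry_ok_11 entry_ok_12

end Cfsg.Agent.Lib.Helper29.SzCert
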