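import Cfsg.Agent.Lib.Helper29.SzData
import Cfsg.Agent.Lib.Helper29.SpecPerm
import Cfsg.Agent.Lib.Helper29.PermMod
import Cfsg.Agent.Lib.Helper29.SzCertA

/-!
# Kernel-checked certificates for `Sz(8):3` on 455 points: sifting at the first level, generator 1
-/

set_option autoImplicit false
set_option maxRecDepth 100000

namespace Cfsg.Agent.Lib.Helper29.SzCert

open Cfsg.Agent.Lib.Helper28.BSGS Cfsg.Agent.Lib.Helper29.SzData Cfsg.Agent.Lib.Helper29.SpecPerm
  Cfsg.Agent.Lib.Helper29.PermMod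

theorem sift_1_0 : T1_0.all (fun e => siftB 455 9 [(b1, T1), (b2, T2)] [g1.1, e.2.1]) = true := by
  decide +kernel

theorem sift_1_1 : T1_1.all (fun e => siftB 455 9 [(b1, T1), (b2, T2)] [g1.1, e.2.1]) = true := by
  decide +kernel

theorem sift_1_2 : T1_2.all (fun e => siftB 455 9 [(b1, T1), (b2, T2)] [g1.1, e.2.1]) = true := by
  decide +kernel

theorem sift_1_3 : T1_3.all (fun e => siftB 455 9 [(b1, T1), (b2, T2)] [g1.1, e.2.1]) = true := by
  decide +kernel

theorem sift_1_4 : T1_4.all (fun e => siftB 455 9 [(b1, T1), (b2, T2)] [g1.1, e.2.1]) = true := by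
  decide +kernel

theorem sift_1_5 : T1_5.all (fun e => siftB 455 9 [(b1, T1), (b2, T2)] [g1.1, e.2.1]) = true := by
  decide +kernel

theorem sift_1_6 : T1_6.all (fun e => siftB 455 9 [(b1, T1), (b2, T2)] [g1.1, e.2.1]) = true := by
  decide +kernel

theorem sift_1_7 : T1_7.all (fun e => siftB 455 9 [(b1, T1), (b2, T2)] [g1.1, e.2.1]) = true := by
  decide +kernel

theorem sift_1_8 : T1_8.all (fun e => siftB 455 9 [(b1, T1), (b2, T2)] [g1.1, e.2.1]) = true := by
  decide +kernel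

theorem sift_1_9 : T1_9.all (fun e => siftB 455 9 [(b1, T1), (b2, T2)] [g1.1, e.2.1]) = true := by
  decide +kernel

theorem sift_1_10 : T1_10.all (fun e => siftB 455 9 [(b1, T1), (b2, T2)] [g1.1, e.2.1]) = true := by
  decide +kernel

theorem sift_1_11 : T1_11.all (fun e => siftB 455 9 [(b1, T1), (b2, T2)] [g1.1, e.2.1]) = true := by
  decide +kernel

theorem sift_1_12 : T1_12.all (fun e => siftB 455 9 [(b1, T1), (b2, T2)] [g1.1, e.2.1]) = true := by
  decide +kernel

theorem sift_1 : T1.all (fun e => siftB 455 9 [(b1, T1), (b2, T2)] [g1.1, e.2.1]) = true :=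
  all_T1 sift_1_0 sift_1_1 sift_1_2 sift_1_3 sift_1_4 sift_1_5 sift_1_6 sift_1_7 sift_1_8 sift_1_9 sift_1_10 sift_1_11 sift_1_12

end Cfsg.Agent.Lib.Helper29.SzCert
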