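import Cfsg.Agent.Lib.Helper29.SzData
import Cfsg.Agent.Lib.Helper29.SpecPerm
import Cfsg.Agent.Lib.Helper29.PermMod

/-!
# Kernel-checked certificates for `Sz(8):3` on 455 points: the second level, the module and some elements
-/

set_option autoImplicit false
set_option maxRecDepth 100000

namespace Cfsg.Agent.Lib.Helper29.SzCert

open Cfsg.Agent.Lib.Helper28.BSGS Cfsg.Agent.Lib.Helper29.SzData Cfsg.Agent.Lib.Helper29.SpecPerm
  Cfsg.Agent.Lib.Helper29.PermMod

theorem chain2_ok : checkChain 455 9 (nextGens 9 gens b1) [(b2, T2)] = true := by decide +kernel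

theorem size_ok : codeSize [(b1, T1), (b2, T2)] = 87360 := by decide +kernel

theorem cert_ok_0 : genCertOK 455 9 masks g0.2 masks cert0 = true := by decide +kernel

theorem cert_ok_1 : genCertOK 455 9 masks g1.2 masks cert1 = true := by decide +kernel

theorem cert_ok_2 : genCertOK 455 9 masks g2.2 masks cert2 = true := by decide +kernel

theorem cert_ok_3 : genCertOK 455 9 masks g3.2 masks cert3 = true := by decide +kernel

theorem h13_norm : zeroNormOK 455 9 h13.2 13 masks = true := by decide +kernel

theorem h5_norm : oneNormOK 455 9 h5.2 5 (masks.getD nz5.1 0) nz5.2 = true := by decide +kernel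

theorem h7_norm : oneNormOK 455 9 h7.2 7 (masks.getD nz7.1 0) nz7.2 = true := by decide +kernel

theorem h13_ok : exactOrdOK 455 9 [(b1, T1), (b2, T2)] 13 [13] h13 = true := by decide +kernel

theorem h5_ok : exactOrdOK 455 9 [(b1, T1), (b2, T2)] 5 [5] h5 = true := by decide +kernel

theorem h7_ok : exactOrdOK 455 9 [(b1, T1), (b2, T2)] 7 [7] h7 = true := by decide +kernel

theorem w6_ok : exactOrdOK 455 9 [(b1, T1), (b2, T2)] 6 [2, 3] w6 = true := by decide +kernel

theorem w15_ok : exactOrdOK 455 9 [(b1, T1), (b2, T2)] 15 [3, 5] w15 = true := by decide +kernel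


end Cfsg.Agent.Lib.Helper29.SzCert
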