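import Cfsg.Agent.Lib.Helper29.SzData
import Cfsg.Agent.Lib.Helper29.SpecPerm
import Cfsg.Agent.Lib.Helper29.PermMod

/-!
# Kernel-checked certificates for `Sz(8):3` on 455 points: the orders of the elements, first part
-/

set_option autoImplicit false
set_option maxRecDepth 100000

namespace Cfsg.Agent.Lib.Helper29.SzCert

open Cfsg.Agent.Lib.Helper28.BSGS Cfsg.Agent.Lib.Helper29.SzData Cfsg.Agent.Lib.Helper29.SpecPerm
  Cfsg.Agent.Lib.Helper29.PermMod

/-- the exponents that are tried -/
def expos : List ℕ := [12, 15, 7, 13]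

theorem main_ok_0 : mainOK 9 expos b1 b2 T1_0 T2 = true := by decide +kernel

theorem main_ok_1 : mainOK 9 expos b1 b2 T1_1 T2 = true := by decide +kernel

theorem main_ok_2 : mainOK 9 expos b1 b2 T1_2 T2 = true := by decide +kernel

theorem main_ok_3 : mainOK 9 expos b1 b2 T1_3 T2 = true := by decide +kernel

theorem main_ok_4 : mainOK 9 expos b1 b2 T1_4 T2 = true := by decide +kernel

theorem main_ok_5 : mainOK 9 expos b1 b2 T1_5 T2 = true := by decide +kernel

theorem main_ok_6 : mainOK 9 expos b1 b2 T1_6 T2 = true := by decide +kernel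


end Cfsg.Agent.Lib.Helper29.SzCert
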