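import Cfsg.Agent.Lib.Helper29.SzData
import Cfsg.Agent.Lib.Helper29.SpecPerm
import Cfsg.Agent.Lib.Helper29.PermMod
import Cfsg.Agent.Lib.Helper29.SzCertD0

/-!
# Kernel-checked certificates for `Sz(8):3` on 455 points: the orders of the elements, second part
-/

set_option autoImplicit false
set_option maxRecDepth 100000

namespace Cfsg.Agent.Lib.Helper29.SzCert

open Cfsg.Agent.Lib.Helper28.BSGS Cfsg.Agent.Lib.Helper29.SzData Cfsg.Agent.Lib.Helper29.SpecPerm
  Cfsg.Agent.Lib.Helper29.PermMod

theorem main_ok_7 : mainOK 9 expos b1 b2 T1_7 T2 = true := by decide +kernel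

theorem main_ok_8 : mainOK 9 expos b1 b2 T1_8 T2 = true := by decide +kernel

theorem main_ok_9 : mainOK 9 expos b1 b2 T1_9 T2 = true := by decide +kernel

theorem main_ok_10 : mainOK 9 expos b1 b2 T1_10 T2 = true := by decide +kernel

theorem main_ok_11 : mainOK 9 expos b1 b2 T1_11 T2 = true := by decide +kernel

theorem main_ok_12 : mainOK 9 expos b1 b2 T1_12 T2 = true := by decide +kernel

theorem main_ok : mainOK 9 expos b1 b2 T1 T2 = true := by
  unfold T1
  exact mainOK_append 9 (mainOK_append 9 (mainOK_append 9 (mainOK_append 9 (mainOK_append 9 (mainOK_append 9 (mainOK_append 9 (mainOK_append 9 (mainOK_append 9 (mainOK_append 9 (mainOK_append 9 (mainOK_append 9 (main_ok_0) main_ok_1) main_ok_2) main_ok_3) main_ok_4) main_ok_5) main_ok_6) main_ok_7) main_ok_8) main_ok_9) main_ok_10) main_ok_11) main_ok_12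

end Cfsg.Agent.Lib.Helper29.SzCert
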