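import Cfsg.Agent.Lib.Helper29.SzCertA
import Cfsg.Agent.Lib.Helper29.SzCertB0
import Cfsg.Agent.Lib.Helper29.SzCertB1
import Cfsg.Agent.Lib.Helper29.SzCertB2
import Cfsg.Agent.Lib.Helper29.SzCertB3
import Cfsg.Agent.Lib.Helper29.SzCertC
import Cfsg.Agent.Lib.Helper29.SzCertD1
import Cfsg.Agent.Lib.Helper29.SylowNorm
import Cfsg.Agent.Lib.Helper29.PGraphSD

/-!
# Groups of unbounded order with the prime graph of `PSp₆(3)`

`Γ = Sz(8):3` acts on 455 points and on a 48-dimensional submodule `W` of the permutation module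
over `F₂`; the elements of order 13 of `Γ` have no non-zero fixed vector on `W`, those of order 5
and 7 have.  The groups `Wᵏ ⋊ Γ` have the prime divisors `2, 3, 5, 7, 13` and elements of order
`p q`, for distinct primes, exactly for `p q = 6, 10, 14, 15`.
-/

set_option autoImplicit false

namespace Cfsg.Agent.Lib.Helper29.SzGraph

open Cfsg.Agent.Lib.Helper28.BSGS Cfsg.Agent.Lib.Helper29.SzData Cfsg.Agent.Lib.Helper29.SpecPerm
  Cfsg.Agent.Lib.Helper29.PermMod Cfsg.Agent.Lib.Helper29.SzCert Cfsg.Agent.Lib.Helper20.A10Core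

attribute [local irreducible] checkChain siftB codeSize mainOK exactOrdOK genCertOK zeroNormOK
  oneNormOK levelOK headOK entryOK nodupB orbitOK

theorem level1_ok : levelOK 455 9 gens (b1, T1) [(b2, T2)] = true := by
  have hs : gens.all (fun g => T1.all fun e => siftB 455 9 [(b1, T1), (b2, T2)] [g.1, e.2.1]) =
      true := by
    unfold gens
    simp only [List.all_cons, List.all_nil, Bool.and_true, Bool.and_eq_true]
    exact ⟨sift_0, sift_1, sift_2, sift_3⟩
  have hb : decide (b1 < 455) = true := by decide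
  unfold levelOK
  show (decide (b1 < 455) && headOK 455 9 b1 T1 && T1.all (entryOK 455 9 b1) &&
    nodupB (T1.map fun e => e.1) && orbitOK 9 gens [b1] ((T1.map fun e => e.1).tail) &&
    gens.all (fun g => T1.all fun e => siftB 455 9 [(b1, T1), (b2, T2)] [g.1, e.2.1])) = true
  rw [hb, head_ok, entry_ok, nodup_ok, orbit_ok, hs]
  rfl

theorem chain_ok : checkChain 455 9 gens [(b1, T1), (b2, T2)] = true := by
  have h2 : checkChain 455 9 (nextGens 9 gens (b1, T1).1) [(b2, T2)] = true := chain2_ok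
  unfold checkChain
  rw [level1_ok, h2]
  rfl

/-- the group `Sz(8):3` on 455 points -/
abbrev Gam : Subgroup (Equiv.Perm (Fin 455)) := genGroup 455 9 gens

theorem card_Gam : Nat.card ↥Gam = 87360 := by
  rw [← size_ok]
  exact (perm_main 455 9 gens _ gens_ok chain_ok).1

theorem exists_dvd (h : ↥Gam) : ∃ k ∈ expos, orderOf h ∣ k := by
  obtain ⟨k, hk, hpow⟩ := pow_eq_one_of_certs 455 9 gens b1 T1 b2 T2 gens_ok chain_ok expos
    main_ok h.1 h.2
  refine ⟨k, hk, ?_⟩
  rw [← Subgroup.orderOf_coe]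
  exact orderOf_dvd_of_pow_eq_one hpow

theorem prime_dvd_mem {n : ℕ} {ps : List ℕ} (hn : 0 < n)
    (h : ∀ p ∈ List.range (n + 1), p.Prime → p ∣ n → p ∈ ps) :
    ∀ p : ℕ, p.Prime → p ∣ n → p ∈ ps := by
  intro p hp hpn
  exact h p (List.mem_range.mpr (Nat.lt_succ_of_le (Nat.le_of_dvd hn hpn))) hp hpn

/-- an element of the group from a certificate -/
theorem exists_of_cert (m : ℕ) (ps : List ℕ) (t : ℕ × ℕ) (hm : 0 < m)
    (hps : ∀ p : ℕ, p.Prime → p ∣ m → p ∈ ps)
    (h : exactOrdOK 455 9 [(b1, T1), (b2, T2)] m ps t = true) :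
    pairOK 455 9 t.1 t.2 = true ∧
      ∃ g : ↥Gam, g.1 = permOf 455 9 t.1 t.2 ∧ orderOf g = m := by
  obtain ⟨h1, h2, h3⟩ := exactOrd_spec 455 9 gens _ gens_ok chain_ok m ps t hm hps h
  exact ⟨h1, ⟨_, h2⟩, rfl, by rw [Subgroup.orderOf_mk]; exact h3⟩

theorem Gam_le : Gam ≤ stabW 455 masks := by
  apply genGroup_le_stabW 455 9 masks gens gens_ok
  intro g hg
  unfold gens at hg
  simp only [List.mem_cons, List.not_mem_nil, or_false] at hg
  rcases hg with rfl | rfl | rfl | rfl
  · exact ⟨cert0, cert_ok_0⟩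
  · exact ⟨cert1, cert_ok_1⟩
  · exact ⟨cert2, cert_ok_2⟩
  · exact ⟨cert3, cert_ok_3⟩

/-- the module -/
abbrev Wc : AddSubgroup (Fin 455 → ZMod 2) := W 455 masks

/-- the inclusion into the stabilizer of the module -/
def incl : ↥Gam →* ↥(stabW 455 masks) := Subgroup.inclusion Gam_le

theorem incl_val (h : ↥Gam) : (incl h).1 = h.1 := rfl

instance instAct : DistribMulAction ↥Gam ↥Wc := DistribMulAction.compHom _ incl

theorem Sj_incl (h : ↥Gam) (v : ↥Wc) (k : ℕ) : Sj h v k = Sj (incl h) v k := by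
  unfold Sj
  apply Finset.sum_congr rfl
  intro i _
  show incl (h ^ i) • v = incl h ^ i • v
  rw [map_pow]

theorem Sj_coe (h : ↥Gam) (v : ↥Wc) (k : ℕ) : (Sj h v k).1 = nrm h.1 v.1 k := by
  rw [Sj_incl, Sj_val, incl_val]

theorem card_factorization : (Nat.card ↥Gam).factorization 13 = 1 := by
  rw [card_Gam]
  have h1 : (87360 : ℕ) = 13 * 6720 := by norm_num
  rw [h1, Nat.factorization_mul (by norm_num) (by norm_num), Finsupp.add_apply,
    Nat.Prime.factorization_self (by norm_num),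
    Nat.factorization_eq_zero_of_not_dvd (by norm_num)]

instance : Fact (Nat.Prime 13) := ⟨by norm_num⟩

/-- the elements of order 13 have norm zero -/
theorem norm13 (h : ↥Gam) (hh : orderOf h = 13) (v : ↥Wc) : Sj h v 13 = 0 := by
  obtain ⟨hp, g, hg, hord⟩ := exists_of_cert 13 [13] h13 (by norm_num)
    (prime_dvd_mem (by norm_num) (by decide)) h13_ok
  apply Cfsg.Agent.Lib.Helper29.SylowNorm.Sj_eq_zero_of_sylow card_factorization (by decide)
    (two_nsmul_eq_zero 455 masks) hord _ h hh v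
  intro u
  apply Subtype.ext
  rw [Sj_coe, hg]
  exact nrm_eq_zero hp h13_norm u.1 u.2

theorem rowF_getD_mem (j : ℕ) : rowF 455 (masks.getD j 0) ∈ Wc := by
  rcases getD_mem_or masks j with h | h
  · exact rowF_mem h
  · rw [h, rowF_zero]; exact Wc.zero_mem

theorem norm5 : ∃ (h : ↥Gam) (v : ↥Wc), orderOf h = 5 ∧ Sj h v 5 ≠ 0 := by
  obtain ⟨hp, g, hg, hord⟩ := exists_of_cert 5 [5] h5 (by norm_num)
    (prime_dvd_mem (by norm_num) (by decide)) h5_ok
  refine ⟨g, ⟨_, rowF_getD_mem nz5.1⟩, hord, ?_⟩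
  intro h0
  have h1 := congrArg Subtype.val h0
  rw [Sj_coe, hg] at h1
  exact nrm_ne_zero hp h5_norm h1

theorem norm7 : ∃ (h : ↥Gam) (v : ↥Wc), orderOf h = 7 ∧ Sj h v 7 ≠ 0 := by
  obtain ⟨hp, g, hg, hord⟩ := exists_of_cert 7 [7] h7 (by norm_num)
    (prime_dvd_mem (by norm_num) (by decide)) h7_ok
  refine ⟨g, ⟨_, rowF_getD_mem nz7.1⟩, hord, ?_⟩
  intro h0
  have h1 := congrArg Subtype.val h0
  rw [Sj_coe, hg] at h1
  exact nrm_ne_zero hp h7_norm h1

theorem exists_six : ∃ h : ↥Gam, orderOf h = 6 := by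
  obtain ⟨_, g, _, hord⟩ := exists_of_cert 6 [2, 3] w6 (by norm_num)
    (prime_dvd_mem (by norm_num) (by decide)) w6_ok
  exact ⟨g, hord⟩

theorem exists_fifteen : ∃ h : ↥Gam, orderOf h = 15 := by
  obtain ⟨_, g, _, hord⟩ := exists_of_cert 15 [3, 5] w15 (by norm_num)
    (prime_dvd_mem (by norm_num) (by decide)) w15_ok
  exact ⟨g, hord⟩

theorem arith1 : ∀ k ∈ expos, ∀ p ∈ List.range 16, ∀ q ∈ List.range 16, p.Prime → q.Prime →
    p ≠ q → p * q ∣ k → p * q ∈ ({6, 10, 14, 15} : Finset ℕ) := by decide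

theorem arith2 : ∀ k ∈ expos, ∀ q ∈ List.range 16, q.Prime → q ≠ 2 → q ≠ 13 → q ∣ k →
    2 * q ∈ ({6, 10, 14, 15} : Finset ℕ) := by decide

theorem expos_le : ∀ k ∈ expos, 0 < k ∧ k ≤ 15 := by decide

theorem mul_mem_of_orderOf {p q : ℕ} (hp : p.Prime) (hq : q.Prime) (hpq : p ≠ q)
    (h : ∃ h : ↥Gam, orderOf h = p * q) : p * q ∈ ({6, 10, 14, 15} : Finset ℕ) := by
  obtain ⟨h, hh⟩ := h
  obtain ⟨k, hk, hdvd⟩ := exists_dvd h
  rw [hh] at hdvd
  obtain ⟨hk0, hk15⟩ := expos_le k hk
  have hp' : p ≤ 15 := le_trans (Nat.le_of_dvd hk0 (dvd_trans (dvd_mul_right p q) hdvd)) hk15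
  have hq' : q ≤ 15 := le_trans (Nat.le_of_dvd hk0 (dvd_trans (dvd_mul_left q p) hdvd)) hk15
  exact arith1 k hk p (List.mem_range.mpr (by omega)) q (List.mem_range.mpr (by omega)) hp hq
    hpq hdvd

theorem prime_dvd_card_iff (r : ℕ) (hr : r.Prime) :
    (r = 2 ∨ r ∣ Nat.card ↥Gam) ↔ r ∈ ({2, 3, 5, 7, 13} : Finset ℕ) := by
  rw [card_Gam]
  simp only [Finset.mem_insert, Finset.mem_singleton]
  constructor
  · rintro (h | h)
    · left; exact h
    · have h1 : (87360 : ℕ) = 2 ^ 6 * 3 * 5 * 7 * 13 := by norm_num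
      rw [h1] at h
      rcases (Nat.Prime.dvd_mul hr).mp h with h | h
      · rcases (Nat.Prime.dvd_mul hr).mp h with h | h
        · rcases (Nat.Prime.dvd_mul hr).mp h with h | h
          · rcases (Nat.Prime.dvd_mul hr).mp h with h | h
            · left
              exact (Nat.prime_dvd_prime_iff_eq hr (by norm_num)).mp (hr.dvd_of_dvd_pow h)
            · right; left; exact (Nat.prime_dvd_prime_iff_eq hr (by norm_num)).mp h
          · right; right; left; exact (Nat.prime_dvd_prime_iff_eq hr (by norm_num)).mp h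
        · right; right; right; left; exact (Nat.prime_dvd_prime_iff_eq hr (by norm_num)).mp h
      · right; right; right; right; exact (Nat.prime_dvd_prime_iff_eq hr (by norm_num)).mp h
  · rintro (rfl | rfl | rfl | rfl | rfl)
    · left; rfl
    all_goals right; norm_num

/-- the adjacency of `2` and an odd prime -/
theorem two_mul_iff {K : Type} [Group K] {q : ℕ} (hq : q.Prime) (hq2 : q ≠ 2)
    (hK : (∃ g : K, orderOf g = 2 * q) ↔
      ((∃ h : ↥Gam, orderOf h = 2 * q) ∨ ∃ (h : ↥Gam) (v : ↥Wc), orderOf h = q ∧ Sj h v q ≠ 0)) :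
    (∃ g : K, orderOf g = 2 * q) ↔ 2 * q ∈ ({6, 10, 14, 15} : Finset ℕ) := by
  rw [hK]
  constructor
  · rintro (h | ⟨h, v, hh, hv⟩)
    · exact mul_mem_of_orderOf Nat.prime_two hq (Ne.symm hq2) h
    · obtain ⟨k, hk, hdvd⟩ := exists_dvd h
      rw [hh] at hdvd
      obtain ⟨hk0, hk15⟩ := expos_le k hk
      have hq' : q ≤ 15 := le_trans (Nat.le_of_dvd hk0 hdvd) hk15
      have hq13 : q ≠ 13 := by
        rintro rfl
        exact hv (norm13 h hh v)
      exact arith2 k hk q (List.mem_range.mpr (by omega)) hq hq2 hq13 hdvd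
  · intro h
    simp only [Finset.mem_insert, Finset.mem_singleton] at h
    have h3 : q = 3 ∨ q = 5 ∨ q = 7 := by omega
    rcases h3 with rfl | rfl | rfl
    · left; exact exists_six
    · right; exact norm5
    · right; exact norm7

/-- finite groups of unbounded order with the prime graph of `PSp₆(3)` -/
theorem exists_large (N : ℕ) :
    ∃ (H : Type) (_ : Group H) (_ : Finite H), N < Nat.card H ∧
      (∀ p : ℕ, p.Prime → (p ∣ Nat.card H ↔ p ∈ ({2, 3, 5, 7, 13} : Finset ℕ))) ∧
      (∀ p q : ℕ, p.Prime → q.Prime → p ≠ q →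
        ((∃ g : H, orderOf g = p * q) ↔ p * q ∈ ({6, 10, 14, 15} : Finset ℕ))) := by
  have hV : ∃ v : ↥Wc, v ≠ 0 := by
    obtain ⟨h, v, _, hv⟩ := norm5
    refine ⟨v, ?_⟩
    rintro rfl
    exact hv (Cfsg.Agent.Lib.Helper29.SylowNorm.Sj_zero_right h 5)
  obtain ⟨K, iG, iF, hN, hprime, hodd, htwo⟩ :=
    Cfsg.Agent.Lib.Helper29.PGraphSD.exists_large (H := ↥Gam) (V := ↥Wc) Nat.prime_two
      (two_nsmul_eq_zero 455 masks) hV N
  refine ⟨K, iG, iF, hN, ?_, ?_⟩
  · intro p hp
    rw [hprime p hp]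
    exact prime_dvd_card_iff p hp
  · intro p q hp hq hpq
    by_cases hp2 : p = 2
    · subst hp2
      exact two_mul_iff hq (Ne.symm hpq) (htwo q hq (Ne.symm hpq))
    · by_cases hq2 : q = 2
      · subst hq2
        rw [mul_comm]
        exact two_mul_iff hp hpq (htwo p hp hpq)
      · rw [hodd p q hp hq hp2 hq2]
        constructor
        · exact mul_mem_of_orderOf hp hq hpq
        · intro h
          simp only [Finset.mem_insert, Finset.mem_singleton] at h
          have h15 : p * q = 15 := by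
            rcases h with h | h | h | h
            · exfalso
              have : 2 ∣ p * q := ⟨3, h⟩
              rcases (Nat.Prime.dvd_mul Nat.prime_two).mp this with h' | h'
              · exact hp2 ((Nat.prime_dvd_prime_iff_eq Nat.prime_two hp).mp h').symm
              · exact hq2 ((Nat.prime_dvd_prime_iff_eq Nat.prime_two hq).mp h').symm
            · exfalso
              have : 2 ∣ p * q := ⟨5, h⟩
              rcases (Nat.Prime.dvd_mul Nat.prime_two).mp this with h' | h'
              · exact hp2 ((Nat.prime_dvd_prime_iff_eq Nat.prime_two hp).mp h').symm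
              · exact hq2 ((Nat.prime_dvd_prime_iff_eq Nat.prime_two hq).mp h').symm
            · exfalso
              have : 2 ∣ p * q := ⟨7, h⟩
              rcases (Nat.Prime.dvd_mul Nat.prime_two).mp this with h' | h'
              · exact hp2 ((Nat.prime_dvd_prime_iff_eq Nat.prime_two hp).mp h').symm
              · exact hq2 ((Nat.prime_dvd_prime_iff_eq Nat.prime_two hq).mp h').symm
            · exact h
          rw [h15]
          exact exists_fifteen

end Cfsg.Agent.Lib.Helper29.SzGraph
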