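import Cfsg.Agent.Lib.Helper9.U35MinDefs

/-!
# S2149, piece B1: the normal Sylow 5-subgroup of a group of order 1000
-/

set_option autoImplicit false

namespace Cfsg.Agent.Lib.Helper9.U35Min

open scoped commutatorElement

namespace H29

theorem factorization_1000 : (1000 : ℕ).factorization 5 = 3 := by
  have h1 : (1000 : ℕ) = 5 ^ 3 * 8 := by norm_num
  rw [h1, Nat.factorization_mul (by norm_num) (by norm_num), Finsupp.add_apply,
    Nat.Prime.factorization_pow (by norm_num), Finsupp.single_eq_same,
    Nat.factorization_eq_zero_of_not_dvd (by norm_num)]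

end H29

variable {S : Type*} [Group S] {u1 u2 t : S}

/-- B1: the normal Sylow 5-subgroup -/
theorem Borel.exists_U (hB : Borel S u1 u2 t) :
    ∃ U : Subgroup S, U.Normal ∧ Nat.card U = 125 ∧ U.index = 8 ∧ u1 ∈ U ∧ u2 ∈ U := by
  have hfin : Finite S := Nat.finite_of_card_ne_zero (by rw [hB.card]; norm_num)
  have : Fact (Nat.Prime 5) := ⟨by norm_num⟩
  obtain ⟨P⟩ : Nonempty (Sylow 5 S) := inferInstance
  have hPcard : Nat.card (P : Subgroup S) = 125 := by
    rw [Sylow.card_eq_multiplicity, hB.card, H29.factorization_1000]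
    norm_num
  have hidx : (P : Subgroup S).index = 8 := by
    have h := (P : Subgroup S).card_mul_index
    rw [hPcard, hB.card] at h
    omega
  have hn1 : Nat.card (Sylow 5 S) ≡ 1 [MOD 5] := card_sylow_modEq_one 5 S
  have hn2 : Nat.card (Sylow 5 S) ∣ 8 := by
    rw [← hidx]; exact Sylow.card_dvd_index P
  have hn : Nat.card (Sylow 5 S) = 1 := by
    have hle : Nat.card (Sylow 5 S) ≤ 8 := Nat.le_of_dvd (by norm_num) hn2
    have hmod : Nat.card (Sylow 5 S) % 5 = 1 := hn1
    generalize Nat.card (Sylow 5 S) = n at *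
    interval_cases n <;> omega
  have hsub : Subsingleton (Sylow 5 S) := (Nat.card_eq_one_iff_unique.mp hn).1
  have hnormal : (P : Subgroup S).Normal := Sylow.normal_of_subsingleton P
  have hmem : ∀ u : S, u ^ 5 = 1 → u ∈ (P : Subgroup S) := by
    intro u hu
    have hp : IsPGroup 5 (Subgroup.zpowers u) := by
      by_cases h1 : u = 1
      · apply IsPGroup.of_card (n := 0)
        rw [Nat.card_zpowers, h1, orderOf_one, pow_zero]
      · apply IsPGroup.of_card (n := 1)
        rw [Nat.card_zpowers, pow_one]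
        exact orderOf_eq_prime hu h1
    obtain ⟨Q, hQ⟩ := hp.exists_le_sylow
    have hQP : Q = P := Subsingleton.elim Q P
    rw [← hQP]
    exact hQ (Subgroup.mem_zpowers u)
  exact ⟨P, hnormal, hPcard, hidx, hmem u1 hB.h1, hmem u2 hB.h2⟩

end Cfsg.Agent.Lib.Helper9.U35Min
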