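import Mathlib

/-!
# S2149, pieces G1, G3, G4, G5: generic lemmas on group actions and indices
-/

set_option autoImplicit false

namespace Cfsg.Agent.Lib.Helper9.U35Min

/-- G1: a transitive subgroup containing a non-trivial subgroup that is normal in a point stabiliser
is everything -/
theorem eq_top_of_normal_le {G : Type*} [Group G] [IsSimpleGroup G] {Ω : Type*} [MulAction G Ω]
    (v : Ω) (H : Subgroup G) (htr : MulAction.IsPretransitive H Ω) (Z : Subgroup G)
    (hZn : ∀ s ∈ MulAction.stabilizer G v, ∀ z ∈ Z, s * z * s⁻¹ ∈ Z) (hZ1 : Z ≠ ⊥) (hZH : Z ≤ H) :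
    H = ⊤ := by
  have hN : Subgroup.normalClosure (Z : Set G) = ⊤ := by
    rcases (Subgroup.normalClosure_normal (s := (Z : Set G))).eq_bot_or_eq_top with h | h
    · exfalso
      apply hZ1
      rw [eq_bot_iff, ← h]
      exact Subgroup.le_normalClosure
    · exact h
  have hle : Subgroup.normalClosure (Z : Set G) ≤ H := by
    unfold Subgroup.normalClosure
    rw [Subgroup.closure_le]
    intro x hx
    rw [Group.mem_conjugatesOfSet_iff] at hx
    obtain ⟨z, hz, hconj⟩ := hx
    obtain ⟨g, hg⟩ := isConj_iff.mp hconj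
    -- `x = g z g⁻¹`
    obtain ⟨h, hh⟩ := htr.exists_smul_eq v (g • v)
    have hh' : (h : G) • v = g • v := hh
    have hs : (h : G)⁻¹ * g ∈ MulAction.stabilizer G v := by
      rw [MulAction.mem_stabilizer_iff, mul_smul, ← hh', inv_smul_smul]
    have h1 := hZn _ hs z hz
    have h2 : x = (h : G) * (((h : G)⁻¹ * g) * z * ((h : G)⁻¹ * g)⁻¹) * (h : G)⁻¹ := by
      rw [← hg]; group
    rw [h2]
    exact H.mul_mem (H.mul_mem h.2 (hZH h1)) (H.inv_mem h.2)
  rw [eq_top_iff, ← hN]
  exact hle

/-- G3: existence from a transitive action on 50 points -/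
theorem exists_index_fifty {G : Type*} [Group G] (σ : G →* Equiv.Perm (Fin 50))
    (htr : ∀ x : Fin 50, ∃ g : G, σ g 0 = x) : ∃ H : Subgroup G, H.index = 50 := by
  let _ : MulAction G (Fin 50) := MulAction.compHom (Fin 50) σ
  have hsm : ∀ (g : G) (x : Fin 50), g • x = σ g x := fun _ _ => rfl
  have : MulAction.IsPretransitive G (Fin 50) := by
    constructor
    intro x y
    obtain ⟨g, hg⟩ := htr x
    obtain ⟨g', hg'⟩ := htr y
    refine ⟨g' * g⁻¹, ?_⟩
    have h0 : (σ g)⁻¹ (σ g 0) = 0 := (σ g).symm_apply_apply 0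
    rw [hsm, map_mul, map_inv, Equiv.Perm.mul_apply, ← hg, h0, hg']
  refine ⟨MulAction.stabilizer G (0 : Fin 50), ?_⟩
  rw [MulAction.index_stabilizer_of_transitive, Nat.card_fin]

/-- G4: transport of both halves along an isomorphism -/
theorem transport {G G' : Type*} [Group G] [Group G'] (e : G ≃* G')
    (h1 : ∀ H : Subgroup G, H ≠ ⊤ → 50 ≤ H.index) (h2 : ∃ H : Subgroup G, H.index = 50) :
    (∀ H : Subgroup G', H ≠ ⊤ → 50 ≤ H.index) ∧ (∃ H : Subgroup G', H.index = 50) := by
  constructor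
  · intro H hH
    have hidx : (H.comap e.toMonoidHom).index = H.index :=
      Subgroup.index_comap_of_surjective H e.surjective
    rw [← hidx]
    apply h1
    intro htop
    apply hH
    rw [eq_top_iff]
    intro x _
    have : e.symm x ∈ H.comap e.toMonoidHom := by rw [htop]; exact Subgroup.mem_top _
    rw [Subgroup.mem_comap] at this
    simpa using this
  · obtain ⟨H, hH⟩ := h2
    refine ⟨H.comap e.symm.toMonoidHom, ?_⟩
    rw [Subgroup.index_comap_of_surjective H e.symm.surjective, hH]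

/-- G5: 2-transitivity from a transitive action whose point stabiliser is transitive on the other
points -/
theorem two_pretransitive_of {G : Type*} [Group G] {Ω : Type*} [MulAction G Ω] (b : Ω)
    (htr : ∀ x : Ω, ∃ g : G, g • b = x)
    (hst : ∀ y y' : Ω, y ≠ b → y' ≠ b → ∃ g : G, g • b = b ∧ g • y = y') :
    MulAction.IsMultiplyPretransitive G Ω 2 := by
  rw [MulAction.is_two_pretransitive_iff]
  intro a a' c d haa' hcd
  obtain ⟨g1, hg1⟩ := htr a
  obtain ⟨g2, hg2⟩ := htr c
  have h1 : g1⁻¹ • a' ≠ b := by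
    intro h
    apply haa'
    rw [← hg1, ← h, smul_inv_smul]
  have h2 : g2⁻¹ • d ≠ b := by
    intro h
    apply hcd
    rw [← hg2, ← h, smul_inv_smul]
  obtain ⟨h, hb, hy⟩ := hst _ _ h1 h2
  refine ⟨g2 * h * g1⁻¹, ?_, ?_⟩
  · rw [mul_smul, mul_smul, ← hg1, inv_smul_smul, hb, hg2]
  · rw [mul_smul, mul_smul, hy, smul_inv_smul]

end Cfsg.Agent.Lib.Helper9.U35Min
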